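import Mathlib
import Cfsg.Agent.Lib.Zsigmondy
import Cfsg.Agent.S0713
import Mathlib.GroupTheory.SpecificGroups.Alternating
import Mathlib.GroupTheory.Perm.Cycle.PossibleTypes
import Mathlib.GroupTheory.IndexNormal
import Mathlib.GroupTheory.Sylow
import Cfsg.Agent.H161.OctSL
import Cfsg.Agent.CoOneType.CoEval
import Cfsg.Agent.CoOneType.CoQ
import Cfsg.Agent.H955.QSpace
import Cfsg.Agent.LieClassical.OrthFinite
import Cfsg.Agent.AutOrth.SemiSim
import Cfsg.Agent.H955.QCount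
import Cfsg.Agent.H955.QOdd
import Cfsg.Agent.H925.OrthBasic
import Cfsg.Agent.H930.UnitaryTwo
import Cfsg.Agent.LieClassical.HermCount
import Cfsg.Agent.ClassicalGeometry.HermOrthonormal
import Cfsg.Agent.H198.TriBase
import Cfsg.Agent.H198.Classes
import Cfsg.Agent.AutOrth.Main
import Cfsg.Agent.ClassicalGeometry.OrthSemi
import Cfsg.Agent.LieClassical.OrthTrans
import Cfsg.Agent.LieClassical.OrthCore
import Cfsg.Agent.H198.TriInn
import Cfsg.Agent.H528.EP.UB3_m3
import Cfsg.Agent.MonsterU.Lam2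
import Cfsg.Agent.Lib.ListFast
import Cfsg.Agent.H419.LeechIrr
import Cfsg.Agent.TAB.Eng.Map
import Mathlib.LinearAlgebra.SymplecticGroup
import Mathlib.GroupTheory.PGroup
import Mathlib.GroupTheory.Commutator.Basic
import Mathlib.GroupTheory.Subgroup.Centralizer
import Mathlib.GroupTheory.Index
import Cfsg.Agent.H95.DG.F4
import Cfsg.Agent.FastGrp
import Cfsg.Agent.Prune
set_option linter.all false

section
prune_inst 0x7f00000000000000000000000000000000000000000000000000000000000000000000000000000000000000000000000000000000000000000000000000000000000000000000000000000000000000003fffffffffffffffffffffffffffaeffbdffffffff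

section
prune_inst 0xfcedf9abb8cddfdfff7e7fa698cffc38931fffa6dff94b7fe061ef0bdf030009c5abad09e010fe0ec2621410b87813f97ecf7fe26bd87ffffd1ff41ffbee0fe5f7b500519488340fbc0fff03f0778e7f000000000000000000000000000000000200000000

-- part: SM/O8/M1B
section
prune_inst 0x31204540732202000018059463001c76ce0005920048080028a00f4207c9ee42a0400861aeb00512109290440834006813080090424000000e000000011e0180000092063044a1002a0008000000000000000000000000000000000000010004000000000
set_option linter.all false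
open scoped Cfsg.Agent.FastGrp

/-!
# SM (S3570), socle `PΩ⁺₈(q)`, box M1: the subspaces which are stable under a semilinear involution (helper43)
-/

set_option autoImplicit false
set_option linter.unusedSectionVars false
set_option maxHeartbeats 400000

namespace Cfsg.Agent.SM.O8.M1

open Module

variable {F V : Type} [Field F] [AddCommGroup V] [Module F V] {τ : F ≃+* F} {M : V → V}

/-- a semilinear involution -/
structure SI (τ : F ≃+* F) (M : V → V) : Prop where
  add : ∀ u v, M (u + v) = M u + M v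
  smul : ∀ (a : F) v, M (a • v) = τ a • M v
  inv : ∀ v, M (M v) = v
  tt : ∀ a, τ (τ a) = a
  ne : ∃ θ, τ θ ≠ θ

/-- the fixed field -/
def F1 (τ : F ≃+* F) : Subfield F := τ.toRingHom.eqLocusField (RingHom.id F)

theorem F1_fix (a : F1 τ) : τ a = a := a.2

theorem SI.sub (h : SI τ M) (u v : V) : M (u - v) = M u - M v := by
  rw [sub_eq_add_neg, h.add, ← neg_one_smul F v, h.smul, map_neg, map_one, neg_one_smul, sub_eq_add_neg]

/-- the fixed vectors -/
def SI.fix (h : SI τ M) (D : Submodule F V) : Submodule (F1 τ) V where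
  carrier := {v | v ∈ D ∧ M v = v}
  add_mem' := fun {a b} ha hb => ⟨D.add_mem ha.1 hb.1, by rw [h.add, ha.2, hb.2]⟩
  zero_mem' := ⟨D.zero_mem, by simpa using h.sub 0 0⟩
  smul_mem' := fun c a ha => ⟨D.smul_mem (c : F) ha.1, by
    change M ((c : F) • a) = (c : F) • a
    rw [h.smul, F1_fix, ha.2]⟩

theorem SI.decomp (h : SI τ M) {D : Submodule F V} (hD : ∀ d ∈ D, M d ∈ D) {θ : F} (hθ : τ θ ≠ θ) {v : V} (hv : v ∈ D) :
    ∃ a ∈ h.fix D, ∃ b ∈ h.fix D, v = a + θ • b := by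
  have h0 : θ - τ θ ≠ 0 := sub_ne_zero.2 hθ.symm
  have hb : M ((θ - τ θ)⁻¹ • (v - M v)) = (θ - τ θ)⁻¹ • (v - M v) := by
    rw [h.smul, h.sub, h.inv, map_inv₀, map_sub, h.tt, ← neg_sub θ, ← neg_sub v, inv_neg, neg_smul_neg]
  have hm : (θ - τ θ)⁻¹ • (v - M v) ∈ D := D.smul_mem _ (D.sub_mem hv (hD v hv))
  refine ⟨v - θ • (θ - τ θ)⁻¹ • (v - M v), ⟨D.sub_mem hv (D.smul_mem _ hm), ?_⟩, _, ⟨hm, hb⟩, (sub_add_cancel _ _).symm⟩
  rw [h.sub, h.smul, hb, sub_eq_sub_iff_sub_eq_sub, ← sub_smul, smul_smul, ← neg_sub θ, neg_mul, mul_inv_cancel₀ h0,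
    neg_one_smul, neg_sub]

theorem SI.card_fix (h : SI τ M) {D : Submodule F V} (hD : ∀ d ∈ D, M d ∈ D) : Nat.card D = Nat.card (h.fix D) ^ 2 := by
  obtain ⟨θ, hθ⟩ := h.ne
  rw [pow_two, ← Nat.card_prod]
  refine (Nat.card_eq_of_bijective (fun p : h.fix D × h.fix D => (⟨p.1.1 + θ • p.2.1, D.add_mem p.1.2.1
    (D.smul_mem _ p.2.2.1)⟩ : D)) ⟨fun p p' e => ?_, fun v => ?_⟩).symm
  · have h1 : p.1.1 + θ • p.2.1 = p'.1.1 + θ • p'.2.1 := congrArg Subtype.val e
    have h2 := congrArg M h1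
    rw [h.add, h.add, h.smul, h.smul, p.1.2.2, p.2.2.2, p'.1.2.2, p'.2.2.2] at h2
    have h3 : (θ - τ θ) • (p.2.1 - p'.2.1) = 0 := by linear_combination (norm := module) h1 - h2
    have h4 := sub_eq_zero.1 ((smul_eq_zero.1 h3).resolve_left (sub_ne_zero.2 hθ.symm))
    rw [h4] at h1
    exact Prod.ext (Subtype.ext (add_right_cancel h1)) (Subtype.ext h4)
  · obtain ⟨a, ha, b, hb, e⟩ := h.decomp hD hθ v.2
    exact ⟨(⟨a, ha⟩, ⟨b, hb⟩), Subtype.ext e.symm⟩

theorem SI.card_field (h : SI τ M) : Nat.card F = Nat.card (F1 τ) ^ 2 := by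
  have k : SI τ (τ : F → F) := ⟨map_add τ, fun a v => map_mul τ a v, h.tt, h.tt, h.ne⟩
  rw [← Nat.card_congr (Submodule.topEquiv (R := F) (M := F)).toEquiv, k.card_fix (D := ⊤) fun _ _ => trivial]
  exact congrArg (· ^ 2) (Nat.card_congr (Equiv.subtypeEquivRight fun a => ⟨fun e => e.2, fun e => ⟨trivial, e⟩⟩))

variable [Finite F] [Finite V]

theorem SI.finrank_fix (h : SI τ M) {D : Submodule F V} (hD : ∀ d ∈ D, M d ∈ D) :
    finrank (F1 τ) (h.fix D) = finrank F D := by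
  have h1 := h.card_fix hD
  rw [Module.natCard_eq_pow_finrank (K := F), Module.natCard_eq_pow_finrank (K := F1 τ) (V := h.fix D), h.card_field,
    ← pow_mul, ← pow_mul] at h1
  have h2 := Nat.pow_right_injective (Finite.one_lt_card (α := F1 τ)) h1
  omega

theorem prod_ge {s k : ℕ} (hs : 2 ≤ s) : s ^ (k * (k - 1)) ≤ ∏ i : Fin k, (s ^ k - s ^ i.val) := by
  rw [mul_comm, pow_mul]
  calc (s ^ (k - 1)) ^ k = ∏ _i : Fin k, s ^ (k - 1) := by simp
    _ ≤ _ := Finset.prod_le_prod' fun i _ => by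
      obtain ⟨l, rfl⟩ : ∃ l, k = l + 1 := ⟨k - 1, by have := i.2; omega⟩
      have h1 : s ^ i.val ≤ s ^ l := Nat.pow_le_pow_right (by omega) (by have := i.2; omega)
      have h2 : s ^ l * 2 ≤ s ^ (l + 1) := by rw [pow_succ]; exact Nat.mul_le_mul_left _ hs
      rw [Nat.add_sub_cancel]
      omega

/-- **the number of stable subspaces** -/
theorem SI.count (h : SI τ M) (k : ℕ) :
    Nat.card {D : Submodule F V // (∀ d ∈ D, M d ∈ D) ∧ finrank F D = k} * Nat.card (F1 τ) ^ (k * (k - 1)) ≤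
      Nat.card (F1 τ) ^ (finrank F V * k) := by
  classical
  have := Fintype.ofFinite (F1 τ)
  have : Finite (Submodule F V) := Finite.of_injective _ SetLike.coe_injective
  have := Fintype.ofFinite {D : Submodule F V // (∀ d ∈ D, M d ∈ D) ∧ finrank F D = k}
  obtain ⟨θ, hθ⟩ := h.ne
  let f : (Σ D : {D : Submodule F V // (∀ d ∈ D, M d ∈ D) ∧ finrank F D = k},
      {b : Fin k → h.fix D.1 // LinearIndependent (F1 τ) b}) → Fin k → h.fix ⊤ :=
    fun p i => ⟨p.2.1 i, trivial, (p.2.1 i).2.2⟩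
  have h1 : ∀ p, Submodule.span F (Set.range fun i => (f p i : V)) = p.1.1 := by
    rintro ⟨⟨D, hD, hk⟩, b, hb⟩
    refine le_antisymm (Submodule.span_le.2 (by rintro _ ⟨i, rfl⟩; exact (b i).2.1)) fun v hv => ?_
    have h2 : ∀ a : h.fix D, (a : V) ∈ Submodule.span F (Set.range fun i => (b i : V)) := fun a => by
      have h3 : a ∈ Submodule.span (F1 τ) (Set.range b) := by
        rw [hb.span_eq_top_of_card_eq_finrank' (by rw [Fintype.card_fin, h.finrank_fix hD, hk])]
        trivial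
      induction h3 using Submodule.span_induction with
      | mem x hx => obtain ⟨i, rfl⟩ := hx; exact Submodule.subset_span ⟨i, rfl⟩
      | zero => exact Submodule.zero_mem _
      | add x y _ _ hx hy => exact Submodule.add_mem _ hx hy
      | smul c x _ hx => exact Submodule.smul_mem _ (c : F) hx
    obtain ⟨a, ha, c, hc, rfl⟩ := h.decomp hD hθ hv
    exact Submodule.add_mem _ (h2 ⟨a, ha⟩) (Submodule.smul_mem _ _ (h2 ⟨c, hc⟩))
  have h4 : Function.Injective f := by
    intro p p' e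
    have h5 : p.1 = p'.1 := Subtype.ext (by rw [← h1 p, ← h1 p', e])
    obtain ⟨D, b⟩ := p
    obtain ⟨D', b'⟩ := p'
    obtain rfl : D = D' := h5
    exact congrArg _ (Subtype.ext (funext fun i => Subtype.ext (congrArg (fun z : h.fix ⊤ => (z : V)) (congrFun e i))))
  have h6 := Nat.card_le_card_of_injective f h4
  rw [Nat.card_sigma, Nat.card_fun, Nat.card_eq_fintype_card (α := Fin k), Fintype.card_fin,
    Module.natCard_eq_pow_finrank (K := F1 τ) (V := h.fix ⊤), h.finrank_fix (D := ⊤) fun _ _ => trivial, finrank_top, ← pow_mul] at h6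
  refine le_trans ?_ h6
  rw [Nat.card_eq_fintype_card, ← Finset.card_univ, ← smul_eq_mul]
  refine Finset.card_nsmul_le_sum _ _ _ fun D _ => ?_
  have := Fintype.ofFinite (h.fix D.1)
  have h7 : finrank (F1 τ) (h.fix D.1) = k := (h.finrank_fix D.2.1).trans D.2.2
  rw [card_linearIndependent h7.ge, h7, Nat.card_eq_fintype_card]
  exact prod_ge Fintype.one_lt_card

end Cfsg.Agent.SM.O8.M1
end

-- part: SM/Ot/Lin
section
prune_inst 0x10000000000000
set_option linter.all false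
open scoped Cfsg.Agent.FastGrp

/-!
# SM (S3570), box Oth: complements in affine groups (helper15)

`no_four` : a group `H` of affine maps whose linear part contains all commutators of `GL(V)` and which meets the
translations trivially has no transitive `p`-subgroup if `dim V ≥ 4`.
-/

set_option autoImplicit false
set_option linter.unusedSectionVars false

namespace Cfsg.Agent.SM.Ot

open Subgroup

/-- fixed points of a `p`-group of automorphisms -/
theorem card_mod {P U : Type*} [Group P] [Group U] [Finite U] {p : ℕ} [Fact p.Prime] (hP : IsPGroup p P)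
    (φ : P →* MulAut U) : ∃ C : Subgroup U, (∀ x, x ∈ C ↔ ∀ g, φ g x = x) ∧ Nat.card U ≡ Nat.card C [MOD p] := by
  let := MulAction.compHom U φ
  exact ⟨⟨⟨⟨{x | ∀ g, φ g x = x}, fun {a b} ha hb g => by rw [map_mul, ha g, hb g]⟩, fun g => map_one _⟩,
    fun {a} ha g => by rw [map_inv, ha g]⟩, fun _ => Iff.rfl, hP.card_modEq_card_fixedPoints U⟩

theorem exists_fix {P U : Type*} [Group P] [Group U] [Finite U] {p : ℕ} [Fact p.Prime] (hP : IsPGroup p P)
    (φ : P →* MulAut U) (hU : p ∣ Nat.card U) : ∃ x, x ≠ 1 ∧ ∀ g, φ g x = x := by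
  obtain ⟨C, h1, h2⟩ := card_mod hP φ
  obtain ⟨x, hx, h3⟩ := (bot_or_exists_ne_one C).resolve_left fun e => by
    rw [e, card_bot] at h2
    exact (Fact.out : p.Prime).one_lt.ne' (Nat.dvd_one.1 ((h2.dvd_iff dvd_rfl).1 hU))
  exact ⟨x, h3, (h1 x).1 hx⟩

theorem exists_cent {G : Type*} [Group G] [Finite G] {p : ℕ} [Fact p.Prime] {P U : Subgroup G} (hP : IsPGroup p P)
    (hn : ∀ g ∈ P, ∀ x ∈ U, g * x * g⁻¹ ∈ U) (hU : p ∣ Nat.card U) : ∃ x ∈ U, x ≠ 1 ∧ ∀ g ∈ P, g * x = x * g := by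
  obtain ⟨x, h1, h2⟩ := exists_fix hP (U.normalizerMonoidHom.comp
    (inclusion fun g hg => mem_normalizer_fintype (hn g hg))) hU
  exact ⟨x, x.2, fun e => h1 (Subtype.ext e), fun g hg => mul_inv_eq_iff_eq_mul.1 (congrArg Subtype.val (h2 ⟨g, hg⟩))⟩

variable {V : Type*} [CommGroup V] {p : ℕ} [Fact p.Prime]

theorem exists_add {W : Type*} [AddCommGroup W] [Module (ZMod p) W] {B : AddSubgroup W} {c : W} (hc : c ∉ B) (w : W) :
    ∃ f : W →+ W, (∀ b ∈ B, f b = 0) ∧ f c = w ∧ ∀ v, f v ∈ AddSubgroup.zmultiples w := by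
  obtain ⟨φ, h1, h2⟩ := (AddSubgroup.toZModSubmodule p B).exists_le_ker_of_notMem (v := c) hc
  refine ⟨(((φ c)⁻¹ • φ).smulRight w).toAddMonoidHom, fun b hb => ?_, ?_, fun v => ?_⟩
  · change ((φ c)⁻¹ * φ b) • w = 0
    rw [LinearMap.mem_ker.1 (h2 (x := b) hb), mul_zero, zero_smul]
  · change ((φ c)⁻¹ * φ c) • w = w
    rw [inv_mul_cancel₀ h1, one_smul]
  · exact ZMod.smul_mem (AddSubgroup.mem_zmultiples w) _

theorem exists_hom (hp : ∀ v : V, v ^ p = 1) {B : Subgroup V} {c : V} (hc : c ∉ B) (w : V) :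
    ∃ f : V →* V, (∀ b ∈ B, f b = 1) ∧ f c = w ∧ ∀ v, f v ∈ zpowers w := by
  obtain ⟨f, h1, h2, h3⟩ := @exists_add p _ (Additive V) _
    (AddCommGroup.zmodModule fun x => congrArg Additive.ofMul (hp x.toMul)) B.toAddSubgroup (.ofMul c) hc (.ofMul w)
  exact ⟨MonoidHom.toAdditive.symm f, h1, h2, h3⟩

/-- the transvection -/
def tv (f : V →* V) (hf : ∀ v, f (f v) = 1) : MulAut V where
  toFun v := v * f v
  invFun v := v * (f v)⁻¹
  left_inv v := by simp [hf]
  right_inv v := by simp [hf]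
  map_mul' a b := by rw [map_mul, mul_mul_mul_comm]

theorem tv_apply (f : V →* V) (hf : ∀ v, f (f v) = 1) (v : V) : tv f hf v = v * f v := rfl

theorem kill {f : V →* V} {w v : V} (h : f w = 1) (hv : v ∈ zpowers w) : f v = 1 :=
  (zpowers_le.2 (MonoidHom.mem_ker.2 h) : zpowers w ≤ f.ker) hv

theorem exists_tv {R : Subgroup (MulAut V)} (full : ∀ β γ : MulAut V, β * γ * β⁻¹ * γ⁻¹ ∈ R) {f g : V →* V}
    (h1 : ∀ v, f (f v) = 1) (h2 : ∀ v, g (g v) = 1) (h3 : ∀ v, f (g v) = 1) : ∃ β ∈ R, ∀ v, β v = v * g (f v) := by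
  refine ⟨_, full (tv g h2) (tv f h1), fun v => ?_⟩
  rw [show tv g h2 * tv f h1 = tv (g.comp f) (fun v => by simp [h3]) * tv f h1 * tv g h2 from MulEquiv.ext fun x => by
    simp only [MulAut.mul_apply, tv_apply, map_mul, MonoidHom.comp_apply, h1, h3, mul_one, map_one]
    simp only [mul_left_comm, mul_comm], mul_inv_cancel_right, mul_inv_cancel_right]
  rfl

variable [Finite V]

theorem card_zp (hp : ∀ v : V, v ^ p = 1) (v : V) : Nat.card (zpowers v) ≤ p := by
  rw [Nat.card_zpowers]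
  exact orderOf_le_of_pow_eq_one (Fact.out : p.Prime).pos (hp v)

theorem index_ker_le (hp : ∀ v : V, v ^ p = 1) {f : V →* V} {w : V} (h : ∀ v, f v ∈ zpowers w) : f.ker.index ≤ p := by
  rw [index_ker]
  exact (card_le_of_le (by rintro _ ⟨v, rfl⟩; exact h v)).trans (card_zp hp w)

theorem zp_eq (hp : ∀ v : V, v ^ p = 1) {u w : V} (h : u ∈ zpowers w) (hu : u ≠ 1) : zpowers w ≤ zpowers u :=
  (eq_of_le_of_card_ge (zpowers_le.2 h) (by
    rw [Nat.card_zpowers u, orderOf_eq_prime (hp u) hu]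
    exact card_zp hp w)).ge

theorem exists_notMem {A B : Subgroup V} {k : ℕ} (hA : A.index ≤ p ^ k) (hB : Nat.card B ≤ p)
    (h : p ^ (k + 2) ≤ Nat.card V) : ∃ v ∈ A, v ∉ B := by
  refine SetLike.not_le_iff_exists.1 fun e => ?_
  have h1 := Nat.mul_le_mul ((card_le_of_le e).trans hB) hA
  rw [card_mul_index, ← pow_succ'] at h1
  exact absurd (h.trans h1) (not_le.2 (Nat.pow_lt_pow_right (Fact.out : p.Prime).one_lt (by omega)))

theorem no_four {H : Type*} [Group H] [Finite H] (hp : ∀ v : V, v ^ p = 1) (ρ : H →* MulAut V)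
    (hρ : Function.Injective ρ) (c : H → V) (hc : ∀ g h, c (g * h) = c g * ρ g (c h))
    (full : ∀ β γ : MulAut V, β * γ * β⁻¹ * γ⁻¹ ∈ ρ.range) {P : Subgroup H} (hP : IsPGroup p P)
    (tr : ∀ v y, ∃ g ∈ P, c g * ρ g v = y) (h4 : p ^ 4 ≤ Nat.card V) : False := by
  have hp1 : 1 < p := (Fact.out : p.Prime).one_lt
  have h3 : p ^ 3 ≤ Nat.card V := (Nat.pow_le_pow_right hp1.le (by norm_num)).trans h4
  have h2 : p ^ 2 ≤ Nat.card V := (Nat.pow_le_pow_right hp1.le (by norm_num)).trans h4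
  obtain ⟨v₀, -, h0⟩ := exists_notMem (A := ⊤) (B := ⊥) (k := 0) (by simp) (by simpa using hp1.le) h2
  obtain ⟨u, u1, u2⟩ := exists_fix hP (ρ.comp P.subtype) (orderOf_eq_prime (hp v₀) h0 ▸ orderOf_dvd_natCard v₀)
  let U : Subgroup H :=
    { carrier := {h | ρ h u = u ∧ ∀ v, ρ h v * v⁻¹ ∈ zpowers u}
      one_mem' := ⟨by simp, fun v => by simp⟩
      mul_mem' := fun {a b} ha hb => ⟨by rw [map_mul, MulAut.mul_apply, hb.1, ha.1], fun v => by
        have := mul_mem (ha.2 (ρ b v)) (hb.2 v)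
        rwa [mul_assoc, inv_mul_cancel_left, ← MulAut.mul_apply, ← map_mul] at this⟩
      inv_mem' := fun {a} ha => ⟨by rw [map_inv, MulAut.inv_def, MulEquiv.symm_apply_eq, ha.1], fun v => by
        have := inv_mem (ha.2 (ρ a⁻¹ v))
        rwa [← MulAut.mul_apply, ← map_mul, mul_inv_cancel, map_one, MulAut.one_apply, mul_inv_rev, inv_inv] at this⟩ }
  have hU : p ∣ Nat.card U := by
    obtain ⟨x, -, hx⟩ := exists_notMem (A := ⊤) (k := 0) (by simp) (card_zp hp u) h2
    obtain ⟨g, g1, g2, g3⟩ := exists_hom hp hx u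
    obtain ⟨f, f1, f2, f3⟩ := exists_hom hp hx x
    obtain ⟨y, y1, y2⟩ := exists_notMem (A := f.ker) (k := 1) (by simpa using index_ker_le hp f3) (card_zp hp u) h3
    obtain ⟨f', k1, k2, k3⟩ := exists_hom hp (B := zpowers u ⊔ zpowers x) (c := y) (fun e => by
      obtain ⟨a, ha, _, ⟨n, rfl⟩, rfl⟩ := mem_sup.1 e
      rw [MonoidHom.mem_ker, map_mul, f1 a ha, one_mul, map_zpow, f2] at y1
      exact y2 (by simpa only [y1, mul_one] using ha)) x
    obtain ⟨_, ⟨h, rfl⟩, hh⟩ := exists_tv full (f := f') (g := g) (fun v => k1 _ (mem_sup_right (k3 v)))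
      (fun v => g1 _ (g3 v)) fun v => k1 _ (mem_sup_left (g3 v))
    have k4 : ∀ v ∈ zpowers u, ρ h v = v := fun v hv => by rw [hh, k1 v (mem_sup_left hv), map_one, mul_one]
    have k5 : ∀ (n : ℕ) v, ρ (h ^ n) v = v * g (f' v) ^ n := fun n v => by
      induction n with
      | zero => simp
      | succ n ih => rw [pow_succ', map_mul, MulAut.mul_apply, ih, map_mul, hh, k4 _ (pow_mem (g3 _) n), pow_succ', mul_assoc]
    exact orderOf_eq_prime (x := (⟨h, k4 u (mem_zpowers u), fun v => by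
      rw [hh, mul_inv_cancel_comm]
      exact g3 _⟩ : U)) (Subtype.ext (hρ (MulEquiv.ext fun v => (k5 p v).trans (by simp [hp])))) (fun e => u1 (by
        have k6 := hh y
        rwa [show h = 1 from congrArg Subtype.val e, map_one, MulAut.one_apply, k2, g2, left_eq_mul] at k6)) ▸
      orderOf_dvd_natCard _
  obtain ⟨t, ⟨t1, t2⟩, t3, t4⟩ := exists_cent hP (U := U) (fun g hg h hh => by
    have k1 : ρ g u = u := u2 ⟨g, hg⟩
    have k2 : ρ g⁻¹ u = u := u2 ⟨g⁻¹, inv_mem hg⟩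
    refine ⟨by rw [map_mul, map_mul, MulAut.mul_apply, MulAut.mul_apply, k2, hh.1, k1], fun v => ?_⟩
    obtain ⟨n, hn⟩ := hh.2 (ρ g⁻¹ v)
    refine ⟨n, ?_⟩
    have k3 := congrArg (ρ g) hn
    simpa [k1] using k3) hU
  let φ : V →* V := (ρ t).toMonoidHom * (MonoidHom.id V)⁻¹
  have φ1 : ∀ v, ρ t v = v * φ v := fun v => (mul_inv_cancel_comm_assoc v _).symm
  have hcu : c t ∉ zpowers u := fun e => by
    obtain ⟨v, hv⟩ : ∃ v, φ v = (c t)⁻¹ := by
      obtain ⟨x, hx⟩ : ∃ x, φ x ≠ 1 := by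
        by_contra k
        push Not at k
        exact t3 (hρ (MulEquiv.ext fun v => by rw [φ1, k, map_one, mul_one, MulAut.one_apply]))
      obtain ⟨n, hn⟩ := zp_eq hp (t2 x : φ x ∈ _) hx (inv_mem e)
      exact ⟨x ^ n, (map_zpow φ x n).trans hn⟩
    have k1 : ∀ y, c t * ρ t y = y := fun y => by
      obtain ⟨g, hg, rfl⟩ := tr v y
      rw [map_mul, ← mul_assoc, ← hc, ← t4 g hg, hc, ← MulAut.mul_apply, ← map_mul, ← t4 g hg, map_mul ρ, MulAut.mul_apply,
        mul_assoc, ← map_mul, φ1 v, hv, mul_comm v, mul_inv_cancel_left]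
    have k2 := k1 1
    rw [map_one, mul_one] at k2
    exact t3 (hρ (MulEquiv.ext fun y => by simpa [k2] using k1 y))
  obtain ⟨f, f1, f2, f3⟩ := exists_hom hp hcu u
  obtain ⟨w, ⟨w1, w2⟩, w3⟩ := exists_notMem (A := f.ker ⊓ φ.ker) (k := 2) (index_inf_le.trans (by
    rw [pow_two]
    exact Nat.mul_le_mul (index_ker_le hp f3) (index_ker_le hp t2))) (card_zp hp u) h4
  obtain ⟨g, g1, g2, g3⟩ := exists_hom hp (B := zpowers w) (c := u) (fun e => w3 (zp_eq hp e u1 (mem_zpowers w))) w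
  obtain ⟨_, ⟨h, rfl⟩, hh⟩ := exists_tv full (f := f) (g := g) (fun v => f1 _ (f3 v)) (fun v => g1 _ (g3 v))
    fun v => kill w1 (g3 v)
  have k1 : h * t = t * h := hρ (MulEquiv.ext fun v => by
    rw [map_mul, map_mul, MulAut.mul_apply, MulAut.mul_apply, hh, hh, φ1, φ1, map_mul, map_mul φ, f1 (φ v) (t2 v),
      kill (f := φ) w2 (g3 _), mul_one, mul_one, mul_right_comm])
  have k2 := hc h t
  rw [k1, hc, hh, φ1, f2, g2, mul_left_comm, mul_right_inj, mul_right_inj] at k2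
  exact w3 (k2 ▸ t2 (c h))

end Cfsg.Agent.SM.Ot

private theorem dce_c7ad8122956b : _root_.True := by
  try have : _root_.True := by simp only [_root_.Cfsg.Agent.SM.Ot.tv.congr_simp]
  exact _root_.True.intro
end

-- part: SM/Ar/Num
section
prune_inst 0x10000000000000
set_option linter.all false
open scoped Cfsg.Agent.FastGrp

/-!
# SM (S3570): numeric facts for the sum of the tables (helper59)
-/

set_option autoImplicit false

namespace Cfsg.Agent.SM.Ar

open Finset

/-- the order of `Sp₂₂(2)` -/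
def t0 : ℕ := 9965900784703658358028471582104169283870185004809555811165570548629504000000

/-- the index of `Co₃` in `Sp₂₂(2)` -/
def n0 : ℕ := 20101998922460122767975084597267003942818988223382162698665984000

theorem t0_eq : t0 = 2 ^ 121 * 3748755223447856814435325652920396921875 := by unfold t0; norm_num

theorem val2 {a b u v : ℕ} (hu : Odd u) (hv : Odd v) (h : 2 ^ a * u = 2 ^ b * v) : a = b := by
  have k : ∀ {a b u v : ℕ}, Odd v → 2 ^ a * u = 2 ^ b * v → a ≤ b := fun {a b u v} hv h => by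
    have h1 : 2 ^ a ∣ 2 ^ b * v := h ▸ Dvd.intro _ rfl
    have h2 : Nat.Coprime (2 ^ a) v := Nat.Coprime.pow_left _ (Nat.coprime_two_left.2 hv)
    exact (Nat.pow_dvd_pow_iff_le_right (by norm_num)).1 (h2.dvd_of_dvd_mul_right h1)
  exact le_antisymm (k hv h) (k hu h.symm)

theorem val_t0 {a u : ℕ} (hu : Odd u) (h : t0 = 2 ^ a * u) : a = 121 :=
  val2 hu (by decide) (h.symm.trans t0_eq)

theorem odd_sub {e k : ℕ} (he : 1 ≤ e) (hk : 1 ≤ k) : Odd ((2 ^ e) ^ k - 1) := by
  have h1 : Even ((2 ^ e) ^ k) := by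
    rw [← pow_mul]
    exact (Nat.even_pow' (Nat.mul_pos he hk).ne').2 even_two
  exact Nat.Even.sub_odd (Nat.one_le_pow _ _ (by positivity)) h1 odd_one

theorem odd_add {e k : ℕ} (he : 1 ≤ e) (hk : 1 ≤ k) : Odd ((2 ^ e) ^ k + 1) := by
  have h1 : Even ((2 ^ e) ^ k) := by
    rw [← pow_mul]
    exact (Nat.even_pow' (Nat.mul_pos he hk).ne').2 even_two
  exact h1.add_one

theorem odd_prod {e : ℕ} (he : 1 ≤ e) (m : ℕ) : Odd (∏ i ∈ range m, ((2 ^ e) ^ (2 * (i + 1)) - 1)) :=
  Finset.prod_induction _ Odd (fun _ _ => Odd.mul) odd_one fun _ _ => odd_sub he (by omega)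

theorem not_fact (m : ℕ) : 2 * t0 ≠ m.factorial := fun h => by
  rcases le_or_gt m 56 with hm | hm
  · have h1 := Nat.factorial_le hm
    rw [← h] at h1
    revert h1
    unfold t0
    decide +kernel
  · have h1 : (57 : ℕ).factorial ≤ m.factorial := Nat.factorial_le hm
    rw [← h] at h1
    revert h1
    unfold t0
    decide +kernel

theorem not_desc {j c₀ : ℕ} (h1 : c₀.descFactorial j < j.factorial * n0) (h2 : j.factorial * n0 < (c₀ + 1).descFactorial j)
    (c : ℕ) : n0 ≠ c.choose j := fun h => by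
  have e : c.descFactorial j = j.factorial * n0 := by rw [Nat.descFactorial_eq_factorial_mul_choose, h]
  rcases le_or_gt c c₀ with hc | hc
  · have := Nat.descFactorial_le j hc
    omega
  · have := Nat.descFactorial_le j (Nat.succ_le_of_lt hc)
    simp only [Nat.succ_eq_add_one] at this
    omega

theorem not_choose {c j : ℕ} (h2 : 2 ≤ j) (h5 : j ≤ 5) : n0 ≠ c.choose j := by
  interval_cases j
  · exact not_desc (c₀ := 200509346028857830734526945192449) (by unfold n0; decide +kernel) (by unfold n0; decide +kernel) c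
  · exact not_desc (c₀ := 4940794966977904205977) (by unfold n0; decide +kernel) (by unfold n0; decide +kernel) c
  · exact not_desc (c₀ := 26354975800193431) (by unfold n0; decide +kernel) (by unfold n0; decide +kernel) c
  · exact not_desc (c₀ := 18900970239149) (by unfold n0; decide +kernel) (by unfold n0; decide +kernel) c

/-- `q⁹ (q² - 1) (q⁴ - 1) (q⁶ - 1)` -/
def o7 (q : ℕ) : ℕ := q ^ 9 * ((q ^ 2 - 1) * (q ^ 4 - 1) * (q ^ 6 - 1))

theorem o7_mono {a b : ℕ} (h : a ≤ b) : o7 a ≤ o7 b := by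
  unfold o7
  gcongr

theorem gcd_two (q : ℕ) : Nat.gcd 2 q = 1 ∨ Nat.gcd 2 q = 2 := by
  have := Nat.le_of_dvd two_pos (Nat.gcd_dvd_left 2 q)
  have := Nat.gcd_pos_of_pos_left q two_pos
  omega

theorem not_o7 (q : ℕ) : t0 * Nat.gcd 2 (q - 1) ≠ o7 q := fun h => by
  have k : ∀ x c : ℕ, o7 c < x → x < o7 (c + 1) → x ≠ o7 q := fun x c h1 h2 e => by
    rcases le_or_gt q c with hc | hc
    · have := o7_mono hc
      omega
    · have := o7_mono (Nat.succ_le_of_lt hc)
      simp only [Nat.succ_eq_add_one] at this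
      omega
  rcases gcd_two (q - 1) with g | g <;> rw [g] at h
  · exact k _ 4158 (by unfold t0 o7; norm_num) (by unfold t0 o7; norm_num) h
  · exact k _ 4298 (by unfold t0 o7; norm_num) (by unfold t0 o7; norm_num) h

theorem o7_low {q t : ℕ} (hq : 2 ≤ q) (h : t * Nat.gcd 2 (q - 1) = o7 q) : t = 1451520 ∨ 4585351680 ≤ t := by
  rcases hq.eq_or_lt with rfl | h3
  · left
    have : o7 2 = 1451520 := by unfold o7; norm_num
    simpa [this] using h
  · right
    have h1 := o7_mono (Nat.succ_le_of_lt h3)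
    have : o7 (Nat.succ 2) = 9170703360 := by unfold o7; norm_num
    rcases gcd_two (q - 1) with g | g <;> rw [g] at h <;> omega

theorem g2_low {p a : ℕ} (hp : p.Prime) (h2 : p ≠ 2) (ha : 0 < a) :
    (p ^ a) ^ 6 * (((p ^ a) ^ 6 - 1) * ((p ^ a) ^ 2 - 1)) = 4245696 ∨
      5859000000 ≤ (p ^ a) ^ 6 * (((p ^ a) ^ 6 - 1) * ((p ^ a) ^ 2 - 1)) := by
  have ho : Odd (p ^ a) := (hp.odd_of_ne_two h2).pow
  have h1 : 2 ≤ p ^ a := le_trans hp.two_le (Nat.le_self_pow ha.ne' p)
  generalize p ^ a = q at *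
  obtain ⟨r, hr⟩ := ho
  rcases (by omega : q = 3 ∨ 5 ≤ q) with rfl | h5
  · left
    norm_num
  · right
    calc 5859000000 = 5 ^ 6 * ((5 ^ 6 - 1) * (5 ^ 2 - 1)) := by norm_num
      _ ≤ _ := by gcongr

theorem g2_sq {q n : ℕ} (hq : 2 ≤ q)
    (h : n * (q - 1) = q ^ 6 - 1 ∨ 2 * n = q ^ 3 * (q ^ 3 + 1) ∨ 2 * n = q ^ 3 * (q ^ 3 - 1)) :
    n * n ≤ q ^ 6 * ((q ^ 6 - 1) * (q ^ 2 - 1)) := by
  have h3 : 1 ≤ q ^ 3 := Nat.one_le_pow _ _ (by omega)
  have e6 : q ^ 6 = q ^ 3 * q ^ 3 := by ring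
  have hn : n ≤ q ^ 6 := by
    rcases h with h | h | h
    · have : n * 1 ≤ n * (q - 1) := Nat.mul_le_mul_left _ (by omega)
      omega
    · have : q ^ 3 * (q ^ 3 + 1) ≤ q ^ 3 * (2 * q ^ 3) := Nat.mul_le_mul_left _ (by omega)
      nlinarith
    · have : q ^ 3 * (q ^ 3 - 1) ≤ q ^ 3 * q ^ 3 := Nat.mul_le_mul_left _ (by omega)
      omega
  have h2 : 2 ^ 2 ≤ q ^ 2 := Nat.pow_le_pow_left hq 2
  have h6 : 2 ^ 6 ≤ q ^ 6 := Nat.pow_le_pow_left hq 6
  have h4 : (q ^ 6 - 1) * 2 ≤ (q ^ 6 - 1) * (q ^ 2 - 1) := Nat.mul_le_mul_left _ (by omega)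
  exact Nat.mul_le_mul hn (by omega)

theorem f4_low {r : ℕ} (hr : 2 ≤ r) :
    211341312 ≤ r ^ 12 * ((r ^ 2 - 1) * (r ^ 6 - 1) * (r ^ 8 + r ^ 4 + 1)) ∧ 69888 ≤ r ^ 8 * (r ^ 8 + r ^ 4 + 1) := by
  constructor
  · calc 211341312 = 2 ^ 12 * ((2 ^ 2 - 1) * (2 ^ 6 - 1) * (2 ^ 8 + 2 ^ 4 + 1)) := by norm_num
      _ ≤ _ := by gcongr
  · calc 69888 = 2 ^ 8 * (2 ^ 8 + 2 ^ 4 + 1) := by norm_num
      _ ≤ _ := by gcongr

theorem f4_sq {r : ℕ} (hr : 2 ≤ r) :
    r ^ 12 * ((r ^ 2 - 1) * (r ^ 6 - 1) * (r ^ 8 + r ^ 4 + 1)) <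
      r ^ 8 * (r ^ 8 + r ^ 4 + 1) * (r ^ 8 * (r ^ 8 + r ^ 4 + 1)) := by
  have h1 : (r ^ 2 - 1) * (r ^ 6 - 1) ≤ r ^ 2 * r ^ 6 := Nat.mul_le_mul (Nat.sub_le _ _) (Nat.sub_le _ _)
  have h4 : 1 ≤ r ^ 4 := Nat.one_le_pow _ _ (by omega)
  have h2 : r ^ 2 * r ^ 6 < r ^ 4 * (r ^ 8 + r ^ 4 + 1) := by
    have e : r ^ 2 * r ^ 6 = r ^ 4 * r ^ 4 := by ring
    rw [e]
    have h8 : 1 ≤ r ^ 8 := Nat.one_le_pow _ _ (by omega)
    exact Nat.mul_lt_mul_of_pos_left (by omega) h4
  have h0 : 0 < r ^ 12 * (r ^ 8 + r ^ 4 + 1) := by positivity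
  calc _ = r ^ 12 * (r ^ 8 + r ^ 4 + 1) * ((r ^ 2 - 1) * (r ^ 6 - 1)) := by ring
    _ < r ^ 12 * (r ^ 8 + r ^ 4 + 1) * (r ^ 4 * (r ^ 8 + r ^ 4 + 1)) := Nat.mul_lt_mul_of_pos_left (by omega) h0
    _ = _ := by ring

theorem f4_odd {a : ℕ} (ha : 1 ≤ a) : Odd (((2 ^ a) ^ 2 - 1) * ((2 ^ a) ^ 6 - 1) * ((2 ^ a) ^ 8 + (2 ^ a) ^ 4 + 1)) := by
  refine ((odd_sub ha (by norm_num)).mul (odd_sub ha (by norm_num))).mul ?_
  have h1 : Even ((2 ^ a) ^ 8) := by
    rw [← pow_mul]
    exact (Nat.even_pow' (by omega)).2 even_two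
  rw [add_assoc]
  exact h1.add_odd (odd_add ha (by norm_num))

/-- the order of `Sp_{2m}(q)`, `m ≥ 4`, is large -/
theorem c_low {q m d t : ℕ} (hq : 2 ≤ q) (hm : 4 ≤ m) (hd : d ≤ 2)
    (h : d * t = q ^ m ^ 2 * ∏ i ∈ range m, (q ^ (2 * (i + 1)) - 1)) : 5000000000 ≤ t := by
  have h1 : ∏ i ∈ range 4, (2 ^ (2 * (i + 1)) - 1) ≤ ∏ i ∈ range m, (q ^ (2 * (i + 1)) - 1) := by
    calc ∏ i ∈ range 4, (2 ^ (2 * (i + 1)) - 1) ≤ ∏ i ∈ range 4, (q ^ (2 * (i + 1)) - 1) := by gcongr
      _ ≤ _ := Finset.prod_le_prod_of_subset_of_one_le' (Finset.range_subset_range.2 hm) fun i _ _ => by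
        have := Nat.one_lt_pow (n := 2 * (i + 1)) (by omega) (by omega : 1 < q)
        omega
  have h2 : 2 ^ 4 ^ 2 ≤ q ^ m ^ 2 := by gcongr; omega
  have h3 := Nat.mul_le_mul h2 h1
  have h4 : 2 ^ 4 ^ 2 * ∏ i ∈ range 4, (2 ^ (2 * (i + 1)) - 1) = 47377612800 := by decide +kernel
  have h5 : d * t ≤ 2 * t := Nat.mul_le_mul_right _ hd
  omega

/-- the order of `L_m(3)`, `m ≥ 5`, is large -/
theorem l_low {m d t : ℕ} (hm : 5 ≤ m) (hd : d ≤ 2)
    (h : d * t = 3 ^ (m * (m - 1) / 2) * ∏ i ∈ range (m - 1), (3 ^ (i + 2) - 1)) : 5000000000 ≤ t := by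
  have h1 : ∏ i ∈ range 4, (3 ^ (i + 2) - 1) ≤ ∏ i ∈ range (m - 1), (3 ^ (i + 2) - 1) :=
    Finset.prod_le_prod_of_subset_of_one_le' (Finset.range_subset_range.2 (by omega)) fun i _ _ => by
      have := Nat.one_lt_pow (n := i + 2) (by omega) (by omega : 1 < 3)
      omega
  have h0 : 5 * 4 ≤ m * (m - 1) := Nat.mul_le_mul hm (by omega)
  have h2 : 3 ^ 10 ≤ 3 ^ (m * (m - 1) / 2) := Nat.pow_le_pow_right (by norm_num) (by omega)
  have h3 := Nat.mul_le_mul h2 h1
  have h4 : 3 ^ 10 * ∏ i ∈ range 4, (3 ^ (i + 2) - 1) = 237783237120 := by decide +kernel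
  have h5 : d * t ≤ 2 * t := Nat.mul_le_mul_right _ hd
  omega

theorem c11 : 2 ^ 11 ^ 2 * ∏ i ∈ range 11, (2 ^ (2 * (i + 1)) - 1) = t0 := by unfold t0; decide +kernel

end Cfsg.Agent.SM.Ar
end

-- part: SM/L/RBM
section
prune_inst 0x10000000000000
set_option linter.all false
open scoped Cfsg.Agent.FastGrp

/-!
# SM (S3570), `boxRB`: matrices over the field with three elements (helper79)
-/

set_option autoImplicit false
set_option maxHeartbeats 400000

namespace Cfsg.Agent.SM.L.RB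

open Matrix
open scoped MatrixGroups

section gen

variable {F : Type} [CommRing F]

/-- the standard symplectic form -/
def J (F : Type) [CommRing F] : Matrix (Fin 4) (Fin 4) F := !![0, 1, 0, 0; -1, 0, 0, 0; 0, 0, 0, 1; 0, 0, -1, 0]

/-- block matrices `1 + 3` -/
def Blk (g : Matrix (Fin 4) (Fin 4) F) : Prop := ∀ j : Fin 4, j ≠ 0 → g j 0 = 0 ∧ g 0 j = 0

/-- similarities of the standard form -/
def Sim (g : Matrix (Fin 4) (Fin 4) F) : Prop := ∃ c : F, c ≠ 0 ∧ gᵀ * J F * g = c • J F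

/-- the polar form of the Pfaffian -/
def tau (g : Matrix (Fin 4) (Fin 4) F) : F := trace (J F * (gᵀ * J F * g))

theorem det4 (A : Matrix (Fin 4) (Fin 4) F) (h : Blk A) : A.det = A 0 0 * (A.submatrix Fin.succ Fin.succ).det := by
  rw [det_succ_row_zero, Fin.sum_univ_succ, Finset.sum_eq_zero, add_zero]
  · simp
  · intro j _
    rw [(h _ (Fin.succ_ne_zero j)).2]
    simp only [_root_.Nat.succ_eq_add_one, _root_.Nat.reduceAdd, _root_.Fin.val_succ, _root_.MulZeroClass.mul_zero, _root_.MulZeroClass.zero_mul]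

theorem JJ : J F * J F = -1 := by
  ext i j
  (revert i j; simp only [J, Matrix.mul_apply, Fin.sum_univ_four, _root_.Fin.forall_fin_succ, _root_.Matrix.of_apply, _root_.Matrix.cons_val', _root_.Matrix.cons_val_fin_one, Fin.isValue, _root_.Matrix.cons_val_zero, _root_.Matrix.cons_val_one, _root_.Matrix.cons_val, _root_.Matrix.neg_apply, _root_.MulZeroClass.mul_zero, _root_.mul_neg, _root_.mul_one, _root_.zero_add, _root_.add_zero, _root_.neg_inj, _root_.Matrix.cons_val_succ, _root_.IsEmpty.forall_iff, _root_.and_true, _root_.Matrix.one_apply_eq, Nat.reduceAdd, _root_.Fin.succ_zero_eq_one, _root_.ne_eq, _root_.zero_ne_one, _root_.not_false_eq_true, _root_.Matrix.one_apply_ne, _root_.neg_zero, _root_.Fin.succ_one_eq_two, Fin.reduceEq, Fin.reduceSucc, _root_.and_self, _root_.Fin.succ_ne_zero, _root_.zero_eq_neg, _root_.true_and])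

theorem Blk.eq {g : Matrix (Fin 4) (Fin 4) F} (h : Blk g) :
    g = !![g 0 0, 0, 0, 0; 0, g 1 1, g 1 2, g 1 3; 0, g 2 1, g 2 2, g 2 3; 0, g 3 1, g 3 2, g 3 3] := by
  have h1 := h 1 (by decide)
  have h2 := h 2 (by decide)
  have h3 := h 3 (by decide)
  ext i j
  (revert i j; simp only [h1.1, h1.2, h2.1, h2.2, h3.1, h3.2, _root_.Fin.forall_fin_succ, Fin.isValue, _root_.Matrix.of_apply, _root_.Matrix.cons_val', _root_.Matrix.cons_val_fin_one, _root_.Matrix.cons_val_zero, _root_.Matrix.cons_val_succ, _root_.Fin.succ_zero_eq_one, _root_.Fin.succ_one_eq_two, Fin.reduceSucc, _root_.IsEmpty.forall_iff, _root_.and_true, _root_.and_self])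

theorem blk_mk (l a b c d e f g h i : F) : Blk !![l, 0, 0, 0; 0, a, b, c; 0, d, e, f; 0, g, h, i] := by
  intro j hj
  fin_cases j
  · exact absurd rfl hj
  all_goals exact ⟨rfl, rfl⟩

theorem form_mk (l a b c d e f g h i : F) :
    (!![l, 0, 0, 0; 0, a, b, c; 0, d, e, f; 0, g, h, i] : Matrix (Fin 4) (Fin 4) F)ᵀ * J F *
      !![l, 0, 0, 0; 0, a, b, c; 0, d, e, f; 0, g, h, i] =
      !![0, l * a, l * b, l * c; -(l * a), 0, d * h - g * e, d * i - g * f; -(l * b), g * e - d * h, 0, e * i - h * f;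
        -(l * c), g * f - d * i, h * f - e * i, 0] := by
  ext x y
  (revert x y; simp only [J, Matrix.mul_apply, Fin.sum_univ_four, _root_.Fin.forall_fin_succ, _root_.Matrix.transpose_apply, _root_.Matrix.of_apply, _root_.Matrix.cons_val', _root_.Matrix.cons_val_fin_one, Fin.isValue, _root_.Matrix.cons_val_zero, _root_.Matrix.cons_val_one, _root_.Matrix.cons_val, _root_.MulZeroClass.mul_zero, _root_.mul_neg, _root_.mul_one, _root_.zero_add, _root_.add_zero, _root_.neg_mul, _root_.neg_zero, _root_.Matrix.cons_val_succ, _root_.forall_const, _root_.MulZeroClass.zero_mul, _root_.and_self, _root_.neg_inj, _root_.true_and]) <;> (repeat' with_reducible apply And.intro) <;> ring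

theorem tau_mk (l a b c d e f g h i : F) :
    tau !![l, 0, 0, 0; 0, a, b, c; 0, d, e, f; 0, g, h, i] = -2 * (l * a + (e * i - h * f)) := by
  rw [tau, form_mk]
  simp only [J, trace, Fin.sum_univ_four, _root_.Matrix.cons_mul, _root_.Nat.succ_eq_add_one, _root_.Nat.reduceAdd, _root_.Matrix.vecMul_cons, _root_.Matrix.head_cons, _root_.zero_smul, _root_.Matrix.tail_cons, _root_.one_smul, _root_.Matrix.empty_vecMul, _root_.add_zero, _root_.zero_add, _root_.neg_smul, _root_.Matrix.neg_cons, _root_.neg_zero, _root_.Matrix.neg_empty, _root_.neg_neg, _root_.neg_sub, _root_.Matrix.empty_mul, _root_.Equiv.symm_apply_apply, _root_.Matrix.diag_apply, _root_.Matrix.of_apply, _root_.Matrix.cons_val', _root_.Matrix.cons_val_fin_one, _root_.Fin.isValue, _root_.Matrix.cons_val_zero, _root_.Matrix.cons_val_one, _root_.Matrix.cons_val, _root_.neg_mul]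
  ring

theorem det_mk (l a b c d e f g h i : F) :
    (!![l, 0, 0, 0; 0, a, b, c; 0, d, e, f; 0, g, h, i] : Matrix (Fin 4) (Fin 4) F).det =
      l * (a * (e * i - h * f) - b * (d * i - g * f) + c * (d * h - g * e)) := by
  rw [det4 _ (blk_mk l a b c d e f g h i), det_fin_three]
  simp only [Fin.succ, _root_.Fin.isValue, _root_.Matrix.of_apply, _root_.Matrix.cons_val', _root_.Matrix.cons_val_zero, _root_.Matrix.cons_val_fin_one, _root_.Matrix.submatrix_apply, _root_.Nat.reduceAdd, _root_.Nat.zero_mod, _root_.zero_add, _root_.Fin.mk_one, _root_.Matrix.cons_val_one, _root_.Nat.one_mod, _root_.Fin.reduceFinMk, _root_.Matrix.cons_val, _root_.Nat.mod_succ]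
  ring

end gen

abbrev K := ZMod 3

theorem sq_one : ∀ c : K, c ≠ 0 → c * c = 1 := by decide

theorem mul_zero_iff : ∀ c d : K, c ≠ 0 → (c * d = 0 ↔ d = 0) := by decide

theorem tau_left {k : Matrix (Fin 4) (Fin 4) K} (h : Sim k) (g : Matrix (Fin 4) (Fin 4) K) :
    tau (k * g) = 0 ↔ tau g = 0 := by
  obtain ⟨c, hc, e⟩ := h
  have : (k * g)ᵀ * J K * (k * g) = c • (gᵀ * J K * g) := by
    rw [transpose_mul, show gᵀ * kᵀ * J K * (k * g) = gᵀ * (kᵀ * J K * k) * g by simp only [Matrix.mul_assoc], e]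
    simp
  rw [tau, this, Matrix.mul_smul, trace_smul, smul_eq_mul, mul_zero_iff _ _ hc, tau]

theorem tau_right {k : Matrix (Fin 4) (Fin 4) K} (h : Sim k) (g : Matrix (Fin 4) (Fin 4) K) :
    tau (g * k) = 0 ↔ tau g = 0 := by
  obtain ⟨c, hc, e⟩ := h
  have h1 : kᵀ * ((-c) • (J K * k * J K)) = 1 := by
    rw [Matrix.mul_smul, show kᵀ * (J K * k * J K) = kᵀ * J K * k * J K by simp only [Matrix.mul_assoc], e,
      Matrix.smul_mul, JJ, smul_smul, neg_mul, sq_one c hc]
    simp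
  have h2 := mul_eq_one_comm.1 h1
  have h3 : k * J K * kᵀ = c • J K := by
    have h4 : (-(J K)) * (J K * k * J K * kᵀ) = k * J K * kᵀ := by
      rw [show (-(J K)) * (J K * k * J K * kᵀ) = -(J K * J K) * (k * J K * kᵀ) by simp only [Matrix.mul_assoc, neg_mul], JJ]
      simp
    have h5 : J K * k * J K * kᵀ = (-c) • (1 : Matrix (Fin 4) (Fin 4) K) := by
      rw [← h2, Matrix.smul_mul, smul_smul, neg_mul_neg, sq_one c hc, one_smul]
    rw [← h4, h5]
    simp
  have : tau (g * k) = c * tau g := by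
    rw [tau, transpose_mul, show J K * (kᵀ * gᵀ * J K * (g * k)) = J K * kᵀ * (gᵀ * J K * g) * k by
      simp only [Matrix.mul_assoc], trace_mul_comm, show k * (J K * kᵀ * (gᵀ * J K * g)) = k * J K * kᵀ * (gᵀ * J K * g) by
      simp only [Matrix.mul_assoc], h3, Matrix.smul_mul, trace_smul, smul_eq_mul, tau]
  rw [this, mul_zero_iff _ _ hc]

/-- the elements of the stabiliser of the antiflag which are similarities -/
def dg (l m p q r s : K) : Matrix (Fin 4) (Fin 4) K := !![l, 0, 0, 0; 0, m, 0, 0; 0, 0, p, q; 0, 0, r, s]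

set_option synthInstance.maxSize 2048 in
theorem shape_aux : ∀ c l a b d g e h : K, c ≠ 0 → l * a = c → l * b = 0 → d * h - g * e = 0 →
    b = 0 ∧ ∀ f i : K, d * i - g * f = 0 → e * i - h * f = c → d = 0 ∧ g = 0 :=
  have k : ∀ c : K, c ≠ 0 → ∀ l a : K, l * a = c → (∀ b : K, l * b = 0 → b = 0) := by decide +kernel
  have k' : ∀ d g e h : K, d * h - g * e = 0 → ∀ f i : K, d * i - g * f = 0 → e * i - h * f ≠ 0 → d = 0 ∧ g = 0 := by
    decide +kernel
  fun c l a b d g e h h1 h2 h3 h4 => ⟨k c h1 l a h2 b h3, fun f i h5 h6 => k' d g e h h4 f i h5 (h6 ▸ h1)⟩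

theorem shape {g : Matrix (Fin 4) (Fin 4) K} (hb : Blk g) (hs : Sim g) :
    ∃ l m p q r s : K, g = dg l m p q r s ∧ l * m ≠ 0 ∧ p * s - r * q = l * m := by
  obtain ⟨c, hc, e⟩ := hs
  rw [hb.eq, form_mk] at e
  have e1 : g 0 0 * g 1 1 = c := by simpa only [J, _root_.Fin.isValue, _root_.Matrix.of_apply, _root_.Matrix.cons_val', _root_.Matrix.cons_val_one, _root_.Matrix.cons_val_zero, _root_.Matrix.cons_val_fin_one, _root_.Matrix.smul_apply, _root_.smul_eq_mul, _root_.mul_one] using congrFun (congrFun e 0) 1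
  have e2 : g 0 0 * g 1 2 = 0 := by simpa [J, -mul_eq_zero] using congrFun (congrFun e 0) 2
  have e3 : g 0 0 * g 1 3 = 0 := by simpa [J, -mul_eq_zero] using congrFun (congrFun e 0) 3
  have e4 : g 2 1 * g 3 2 - g 3 1 * g 2 2 = 0 := by simpa only [J, _root_.Fin.isValue, _root_.Matrix.of_apply, _root_.Matrix.cons_val', _root_.Matrix.cons_val, _root_.Matrix.cons_val_fin_one, _root_.Matrix.cons_val_one, _root_.Matrix.cons_val_zero, _root_.Matrix.smul_apply, _root_.smul_eq_mul, _root_.MulZeroClass.mul_zero] using congrFun (congrFun e 1) 2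
  have e5 : g 2 1 * g 3 3 - g 3 1 * g 2 3 = 0 := by simpa only [J, _root_.Fin.isValue, _root_.Matrix.of_apply, _root_.Matrix.cons_val', _root_.Matrix.cons_val, _root_.Matrix.cons_val_fin_one, _root_.Matrix.cons_val_one, _root_.Matrix.cons_val_zero, _root_.Matrix.smul_apply, _root_.smul_eq_mul, _root_.MulZeroClass.mul_zero] using congrFun (congrFun e 1) 3
  have e6 : g 2 2 * g 3 3 - g 3 2 * g 2 3 = c := by simpa [J] using congrFun (congrFun e 2) 3
  obtain ⟨k1, k2⟩ := shape_aux c _ _ _ _ _ _ _ hc e1 e2 e4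
  obtain ⟨k3, k4⟩ := k2 _ _ e5 e6
  have k5 := (shape_aux c _ _ _ _ _ _ _ hc e1 e3 e4).1
  refine ⟨g 0 0, g 1 1, g 2 2, g 2 3, g 3 2, g 3 3, ?_, e1 ▸ hc, e1 ▸ e6⟩
  conv_lhs => rw [hb.eq, k1, k3, k4, k5]
  rfl

theorem blk_dg (l m p q r s : K) : Blk (dg l m p q r s) := blk_mk l m 0 0 0 p q 0 r s

theorem sim_dg {l m p q r s : K} (h1 : l * m ≠ 0) (h2 : p * s - r * q = l * m) : Sim (dg l m p q r s) := by
  refine ⟨l * m, h1, ?_⟩
  rw [dg, form_mk]
  ext x y
  (revert x y; simp only [J, ← h2, _root_.Fin.forall_fin_succ, _root_.MulZeroClass.mul_zero, _root_.neg_sub, _root_.MulZeroClass.zero_mul, _root_.sub_self, _root_.neg_zero, _root_.Matrix.of_apply, _root_.Matrix.cons_val', _root_.Matrix.cons_val_fin_one, _root_.Matrix.smul_apply, _root_.smul_eq_mul, Fin.isValue, _root_.Matrix.cons_val_zero, _root_.Matrix.cons_val_succ, _root_.forall_const, _root_.mul_one, _root_.and_self, _root_.mul_neg, _root_.and_self_left, _root_.implies_true])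

theorem det_dg {l m p q r s : K} (h1 : l * m ≠ 0) (h2 : p * s - r * q = l * m) : (dg l m p q r s).det = 1 := by
  rw [dg, det_mk, h2, ← sq_one _ h1]
  ring

theorem dg_mul (l m p q r s l' m' p' q' r' s' : K) : dg l m p q r s * dg l' m' p' q' r' s' =
    dg (l * l') (m * m') (p * p' + q * r') (p * q' + q * s') (r * p' + s * r') (r * q' + s * s') := by
  ext x y
  (revert x y; simp only [dg, Matrix.mul_apply, Fin.sum_univ_four, _root_.Fin.forall_fin_succ, _root_.Matrix.of_apply, _root_.Matrix.cons_val', _root_.Matrix.cons_val_fin_one, Fin.isValue, _root_.Matrix.cons_val_zero, _root_.Matrix.cons_val_one, _root_.Matrix.cons_val, _root_.MulZeroClass.mul_zero, _root_.add_zero, _root_.Matrix.cons_val_succ, _root_.zero_add, _root_.forall_const, _root_.MulZeroClass.zero_mul, _root_.and_self, _root_.implies_true])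

theorem smul_dg (c l m p q r s : K) : c • dg l m p q r s = dg (c * l) (c * m) (c * p) (c * q) (c * r) (c * s) := by
  ext x y
  (revert x y; simp only [dg, _root_.Fin.forall_fin_succ, _root_.Matrix.smul_apply, _root_.Matrix.of_apply, _root_.Matrix.cons_val', _root_.Matrix.cons_val_fin_one, _root_.smul_eq_mul, Fin.isValue, _root_.Matrix.cons_val_zero, _root_.Matrix.cons_val_succ, _root_.forall_const, _root_.MulZeroClass.mul_zero, _root_.and_self, _root_.and_self_left, _root_.implies_true])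

theorem dg_inj {l m p q r s l' m' p' q' r' s' : K} (h : dg l m p q r s = dg l' m' p' q' r' s') :
    l = l' ∧ m = m' ∧ p = p' ∧ q = q' ∧ r = r' ∧ s = s' :=
  ⟨congrFun (congrFun h 0) 0, congrFun (congrFun h 1) 1, congrFun (congrFun h 2) 2, congrFun (congrFun h 2) 3,
    congrFun (congrFun h 3) 2, congrFun (congrFun h 3) 3⟩

theorem dg_one : dg 1 1 1 0 0 1 = 1 := by
  ext x y
  (revert x y; simp only [dg, _root_.Fin.forall_fin_succ, _root_.Matrix.of_apply, _root_.Matrix.cons_val', _root_.Matrix.cons_val_fin_one, Fin.isValue, _root_.Matrix.cons_val_zero, _root_.Matrix.cons_val_succ, _root_.IsEmpty.forall_iff, _root_.and_true, _root_.Matrix.one_apply_eq, Nat.reduceAdd, _root_.Fin.succ_zero_eq_one, _root_.ne_eq, _root_.zero_ne_one, _root_.not_false_eq_true, _root_.Matrix.one_apply_ne, _root_.Fin.succ_one_eq_two, Fin.reduceEq, Fin.reduceSucc, _root_.and_self, _root_.Fin.succ_ne_zero, _root_.true_and])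

/-- the central involution -/
def zeta : SL(4, K) := ⟨dg 1 1 (-1) 0 0 (-1), det_dg (by decide) (by decide)⟩

def t1 : SL(4, K) := ⟨dg 1 1 1 1 0 1, det_dg (by decide) (by decide)⟩

def t2 : SL(4, K) := ⟨dg 1 1 1 0 1 1, det_dg (by decide) (by decide)⟩

theorem zeta_comm {g : SL(4, K)} (hb : Blk g.1) (hs : Sim g.1) : g * zeta = zeta * g := by
  obtain ⟨l, m, p, q, r, s, e, -⟩ := shape hb hs
  refine Subtype.ext ?_
  show g.1 * dg 1 1 (-1) 0 0 (-1) = dg 1 1 (-1) 0 0 (-1) * g.1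
  rw [e, dg_mul, dg_mul]
  congr 1 <;> ring

set_option synthInstance.maxSize 2048 in
theorem cen_aux : ∀ l m p q r s c d : K, l * m ≠ 0 → p * s - r * q = l * m → l = c * l → l = d * l → p + r = c * p →
    q + s = c * (p + q) → p = d * (p + q) → p + r = d * (r + s) →
    (m = l ∧ q = 0 ∧ r = 0 ∧ s = p) ∧ (p = l ∨ p = -l) :=
  have k0 : ∀ l m c : K, l * m ≠ 0 → l = c * l → 1 = c := by decide +kernel
  have k : ∀ p r q : K, p + r = 1 * p → p = 1 * (p + q) → r = 0 ∧ q = 0 := by decide +kernel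
  fun l m p q r s c d h1 h2 h3 h4 h5 h6 h7 h8 => by
    obtain rfl := k0 l m c h1 h3
    obtain rfl := k0 l m d h1 h4
    obtain ⟨rfl, rfl⟩ := k p r q h5 h7
    clear k0 k h3 h4 h5 h7
    revert l m p s
    decide +kernel

theorem central {g : Matrix (Fin 4) (Fin 4) K} (hb : Blk g) (hs : Sim g) {c d : K} (h1 : t1.1 * g = c • (g * t1.1))
    (h2 : t2.1 * g = d • (g * t2.1)) : (∃ l : K, g = l • 1) ∨ ∃ l : K, g = l • zeta.1 := by
  obtain ⟨l, m, p, q, r, s, rfl, k1, k2⟩ := shape hb hs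
  simp only [t1, t2, dg_mul, smul_dg] at h1 h2
  obtain ⟨a1, -, a2, a3, -⟩ := dg_inj h1
  obtain ⟨b1, -, b2, -, b3, -⟩ := dg_inj h2
  obtain ⟨⟨e1, e2, e3, e4⟩, k⟩ := cen_aux l m p q r s c d k1 k2 (by simpa using a1) (by simpa using b1)
    (by simpa using a2) (by simpa using a3) (by simpa using b2) (by simpa using b3)
  rw [e1, e2, e3, e4]
  rcases k with k | k
  · exact Or.inl ⟨l, by rw [← dg_one, smul_dg, k]; simp⟩
  · exact Or.inr ⟨l, by simp [zeta, smul_dg, k]⟩

/-- the product of two central involutions -/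
def pm (a1 a2 a3 b1 b2 b3 : K) : Matrix (Fin 4) (Fin 4) K :=
  !![1, 0, 0, 0; 0, -1 - b1 * a1, -(b1 * a2), -(b1 * a3); 0, b2 * a1, 1 + b2 * a2, b2 * a3; 0, b3 * a1, b3 * a2, 1 + b3 * a3]

private theorem bmul (l a b c d e f g h i l' a' b' c' d' e' f' g' h' i' : K) :
    (!![l, 0, 0, 0; 0, a, b, c; 0, d, e, f; 0, g, h, i] * !![l', 0, 0, 0; 0, a', b', c'; 0, d', e', f'; 0, g', h', i'] : Matrix (Fin 4) (Fin 4) K) =
    !![l * l', 0, 0, 0; 0, a * a' + b * d' + c * g', a * b' + b * e' + c * h', a * c' + b * f' + c * i'; 0, d * a' + e * d' + f * g', d * b' + e * e' + f * h', d * c' + e * f' + f * i'; 0, g * a' + h * d' + i * g', g * b' + h * e' + i * h', g * c' + h * f' + i * i'] := by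
  ext x y
  refine (Matrix.mul_apply.trans (Fin.sum_univ_four _)).trans ?_
  revert x y
  simp only [Fin.forall_fin_succ, Matrix.of_apply, Matrix.cons_val', Matrix.cons_val_fin_one, Fin.isValue,
    Matrix.cons_val_zero, Matrix.cons_val_one, Matrix.cons_val, Matrix.cons_val_succ, mul_zero, zero_mul, add_zero, zero_add,
    implies_true, and_self, forall_const]

private def o9 (a b c d e f g h i : K) : Bool :=
  decide (a = 1) && decide (b = 0) && decide (c = 0) && decide (d = 0) && decide (e = 1) && decide (f = 0) && decide (g = 0) && decide (h = 0) && decide (i = 1)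

private def s9 (k : K → K → K → K → K → K → K → K → K → Bool) (a b c d e f g h i : K) : Bool :=
  k (a * a + b * d + c * g) (a * b + b * e + c * h) (a * c + b * f + c * i) (d * a + e * d + f * g) (d * b + e * e + f * h) (d * c + e * f + f * i) (g * a + h * d + i * g) (g * b + h * e + i * h) (g * c + h * f + i * i)

private theorem o9_iff (a b c d e f g h i : K) :
    (!![1, 0, 0, 0; 0, a, b, c; 0, d, e, f; 0, g, h, i] : Matrix (Fin 4) (Fin 4) K) = 1 ↔ o9 a b c d e f g h i = true := by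
  simp only [o9, Bool.and_eq_true, decide_eq_true_eq]
  refine ⟨fun h => ?_, ?_⟩
  · have e := fun x y => congrFun (congrFun h x) y
    exact ⟨⟨⟨⟨⟨⟨⟨⟨e 1 1, e 1 2⟩, e 1 3⟩, e 2 1⟩, e 2 2⟩, e 2 3⟩, e 3 1⟩, e 3 2⟩, e 3 3⟩
  · rintro ⟨⟨⟨⟨⟨⟨⟨⟨rfl, rfl⟩, rfl⟩, rfl⟩, rfl⟩, rfl⟩, rfl⟩, rfl⟩, rfl⟩
    decide +kernel

theorem key : ∀ a1 a2 a3 b1 b2 b3 : K, a1 * b1 + a2 * b2 + a3 * b3 = 1 →
    ((pm a1 a2 a3 b1 b2 b3 * pm a1 a2 a3 b1 b2 b3 * (pm a1 a2 a3 b1 b2 b3 * pm a1 a2 a3 b1 b2 b3) = 1 ∧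
      pm a1 a2 a3 b1 b2 b3 ≠ 1) ↔ a1 + b1 = 0) := by
  have h : ∀ a1 a2 a3 b1 b2 b3 : K, a1 * b1 + a2 * b2 + a3 * b3 = 1 →
      ((s9 (s9 o9) (-1 - b1 * a1) (-(b1 * a2)) (-(b1 * a3)) (b2 * a1) (1 + b2 * a2) (b2 * a3) (b3 * a1) (b3 * a2) (1 + b3 * a3) = true ∧
        ¬ o9 (-1 - b1 * a1) (-(b1 * a2)) (-(b1 * a3)) (b2 * a1) (1 + b2 * a2) (b2 * a3) (b3 * a1) (b3 * a2) (1 + b3 * a3) = true) ↔ a1 + b1 = 0) := by decide +kernel
  intro a1 a2 a3 b1 b2 b3 e
  rw [← h a1 a2 a3 b1 b2 b3 e, pm, bmul, bmul, mul_one, mul_one, o9_iff, Ne, o9_iff]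
  rfl

theorem key_aux : ∀ l a d x : K, l ≠ 0 → x = l * d → (x + a = 0 ↔ -2 * (l * a + d) = 0) := by decide +kernel

theorem inv_eq : ∀ a b : K, a * b = 1 → a = b ∧ a ≠ 0 := by decide

theorem key' {g h : Matrix (Fin 4) (Fin 4) K} (hg : Blk g) (hh : Blk h) (hd : g.det = 1) (e : g * h = 1) :
    ((zeta.1 * (g * zeta.1 * h)) ^ 4 = 1 ∧ zeta.1 * (g * zeta.1 * h) ≠ 1 ↔ tau g = 0) ∧
      (zeta.1 * (g * zeta.1 * h)) 0 0 = 1 ∧ ((zeta.1 * (g * zeta.1 * h)) ^ 4) 0 0 = 1 := by
  have e' := mul_eq_one_comm.1 e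
  have z : zeta.1 = -1 - dg 1 1 0 0 0 0 := by decide +kernel
  have e0 : g 0 0 * h 0 0 = 1 := by
    have := congrFun (congrFun e 0) 0
    rw [hg.eq, hh.eq] at this
    simpa only [Matrix.mul_apply, Fin.sum_univ_four, _root_.Fin.isValue, _root_.Matrix.of_apply, _root_.Matrix.cons_val', _root_.Matrix.cons_val_fin_one, _root_.Matrix.cons_val_zero, _root_.Matrix.cons_val_one, _root_.MulZeroClass.mul_zero, _root_.add_zero, _root_.Matrix.cons_val, _root_.Matrix.one_apply_eq] using this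
  have e1 : ∀ j, h 1 1 * g 1 j + h 1 2 * g 2 j + h 1 3 * g 3 j = (1 : Matrix (Fin 4) (Fin 4) K) 1 j := fun j => by
    rw [← e', Matrix.mul_apply, Fin.sum_univ_four, (hh 1 (by decide)).1, zero_mul, zero_add]
  have e11 : h 1 1 * g 1 1 + h 1 2 * g 2 1 + h 1 3 * g 3 1 = 1 := e1 1
  have e12 : h 1 1 * g 1 2 + h 1 2 * g 2 2 + h 1 3 * g 3 2 = 0 := e1 2
  have e13 : h 1 1 * g 1 3 + h 1 2 * g 2 3 + h 1 3 * g 3 3 = 0 := e1 3
  have m : zeta.1 * (g * zeta.1 * h) = pm (h 1 1) (h 1 2) (h 1 3) (g 1 1) (g 2 1) (g 3 1) := by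
    have : g * zeta.1 * h = -1 - g * dg 1 1 0 0 0 0 * h := by
      rw [z, Matrix.mul_sub, Matrix.sub_mul, Matrix.mul_neg, Matrix.mul_one, Matrix.neg_mul, e]
    rw [this]
    have h2 : (-1 - 1 : K) = 1 := by decide
    have h3 : ∀ l a b c d e f g h i : K, (-1 - !![l, 0, 0, 0; 0, a, b, c; 0, d, e, f; 0, g, h, i] : Matrix (Fin 4) (Fin 4) K) =
        !![-1 - l, 0, 0, 0; 0, -1 - a, -b, -c; 0, -d, -1 - e, -f; 0, -g, -h, -1 - i] := fun l a b c d e f g h i => by
      rw [show (-1 : Matrix (Fin 4) (Fin 4) K) = !![-1, 0, 0, 0; 0, -1, 0, 0; 0, 0, -1, 0; 0, 0, 0, -1] by decide +kernel]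
      ext x y
      revert x y
      simp only [Fin.forall_fin_succ, Matrix.sub_apply, Matrix.of_apply, Matrix.cons_val', Matrix.cons_val_fin_one,
        Matrix.cons_val_zero, Matrix.cons_val_succ, zero_sub, neg_zero, implies_true, and_self, forall_const]
    conv_lhs => rw [hg.eq, hh.eq]
    rw [show zeta.1 = !![1, 0, 0, 0; 0, 1, 0, 0; 0, 0, -1, 0; 0, 0, 0, -1] from rfl, dg, bmul, bmul, h3, bmul, pm]
    simp only [mul_one, one_mul, mul_zero, zero_mul, add_zero, zero_add, e0, h2, neg_mul, neg_neg, neg_sub, sub_neg_eq_add,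
      add_comm]
  have p4 : ∀ A : Matrix (Fin 4) (Fin 4) K, A ^ 4 = A * A * (A * A) := fun A =>
    (pow_add A 2 2).trans (by rw [sq])
  rw [m, p4, key _ _ _ _ _ _ e11]
  refine ⟨?_, rfl, by simp only [pm, Matrix.mul_apply, Fin.sum_univ_four, _root_.Fin.isValue, _root_.Matrix.cons_mul, _root_.Nat.succ_eq_add_one, _root_.Nat.reduceAdd, _root_.Matrix.vecMul_cons, _root_.Matrix.head_cons, _root_.one_smul, _root_.Matrix.tail_cons, _root_.zero_smul, _root_.Matrix.empty_vecMul, _root_.add_zero, _root_.Matrix.smul_cons, _root_.smul_eq_mul, _root_.MulZeroClass.mul_zero, _root_.mul_neg, _root_.Matrix.smul_empty, _root_.neg_smul, _root_.Matrix.neg_cons, _root_.neg_zero, _root_.Matrix.neg_empty, _root_.Matrix.add_cons, _root_.Matrix.empty_add_empty, _root_.zero_add, _root_.Matrix.empty_mul, _root_.Equiv.symm_apply_apply, _root_.Matrix.of_apply, _root_.Matrix.cons_val', _root_.Matrix.cons_val_fin_one, _root_.Matrix.cons_val_zero, _root_.mul_one, _root_.Matrix.cons_val_one,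 _root_.Matrix.cons_val]⟩
  rw [hg.eq, det_mk] at hd
  have t := tau_mk (g 0 0) (g 1 1) (g 1 2) (g 1 3) (g 2 1) (g 2 2) (g 2 3) (g 3 1) (g 3 2) (g 3 3)
  rw [← hg.eq] at t
  rw [t]
  refine key_aux _ _ _ _ (inv_eq _ _ e0).2 ?_
  linear_combination (-h 1 1) * hd + g 0 0 * (g 2 2 * g 3 3 - g 3 2 * g 2 3) * e11 -
    g 0 0 * (g 2 1 * g 3 3 - g 3 1 * g 2 3) * e12 + g 0 0 * (g 2 1 * g 3 2 - g 3 1 * g 2 2) * e13

theorem card_blk : Nat.card {g : SL(4, K) // Blk g.1} = 11232 := by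
  have hd : ∀ A : GL (Fin 3) K, (!![A.1.det, 0, 0, 0; 0, A.1 0 0, A.1 0 1, A.1 0 2; 0, A.1 1 0, A.1 1 1, A.1 1 2;
      0, A.1 2 0, A.1 2 1, A.1 2 2] : Matrix (Fin 4) (Fin 4) K).det = 1 := fun A => by
    rw [det_mk, ← sq_one _ A.det_ne_zero]
    congr 1
    rw [det_fin_three]
    ring
  let f : GL (Fin 3) K → {g : SL(4, K) // Blk g.1} := fun A => ⟨⟨_, hd A⟩, blk_mk _ _ _ _ _ _ _ _ _ _⟩
  have hf : Function.Bijective f := by
    refine ⟨fun A B e => Units.ext ?_, fun g => ?_⟩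
    · have k : ∀ i j, (f A).1.1 i j = (f B).1.1 i j := fun i j => by rw [e]
      ext i j
      fin_cases i <;> fin_cases j
      exacts [k 1 1, k 1 2, k 1 3, k 2 1, k 2 2, k 2 3, k 3 1, k 3 2, k 3 3]
    · have k := (det4 _ g.2).symm.trans g.1.2
      have k' := inv_eq _ _ ((mul_comm _ _).trans k)
      refine ⟨GeneralLinearGroup.mkOfDetNeZero _ k'.2, Subtype.ext (Subtype.ext ?_)⟩
      conv_rhs => rw [g.2.eq, ← k'.1]
      rfl
  rw [← Nat.card_eq_of_bijective f hf, card_GL_field]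
  simp only [Fin.prod_univ_three, _root_.ZMod.card, _root_.Nat.reducePow, _root_.Fin.isValue, _root_.Fin.coe_ofNat_eq_mod, _root_.Nat.zero_mod, _root_.pow_zero, _root_.Nat.add_one_sub_one, _root_.Nat.one_mod, _root_.pow_one, _root_.Nat.reduceSub, _root_.Nat.reduceMul, _root_.Nat.mod_succ]

theorem card_stab : Nat.card {g : SL(4, K) // Blk g.1 ∧ Sim g.1} = 96 := by
  let f : {x : K × K × K × K × K × K // x.1 * x.2.1 ≠ 0 ∧ x.2.2.1 * x.2.2.2.2.2 - x.2.2.2.2.1 * x.2.2.2.1 = x.1 * x.2.1} →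
    {g : SL(4, K) // Blk g.1 ∧ Sim g.1} := fun x => ⟨⟨_, det_dg x.2.1 x.2.2⟩, blk_dg _ _ _ _ _ _, sim_dg x.2.1 x.2.2⟩
  have hf : Function.Bijective f := by
    refine ⟨fun x y e => Subtype.ext ?_, fun g => ?_⟩
    · obtain ⟨k1, k2, k3, k4, k5, k6⟩ := dg_inj (congrArg (fun g => g.1.1) e)
      exact Prod.ext k1 (Prod.ext k2 (Prod.ext k3 (Prod.ext k4 (Prod.ext k5 k6))))
    · obtain ⟨l, m, p, q, r, s, e, k⟩ := shape g.2.1 g.2.2
      exact ⟨⟨(l, m, p, q, r, s), k⟩, Subtype.ext (Subtype.ext e.symm)⟩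
  rw [← Nat.card_eq_of_bijective f hf, Nat.card_eq_fintype_card]
  decide +kernel

theorem card_ker : Nat.card {g : SL(4, K) // Blk g.1 ∧ ∃ c : K, g.1 = c • 1} = 2 := by
  have e : ∀ c : K, dg c c c 0 0 c = c • (1 : Matrix (Fin 4) (Fin 4) K) := fun c => by
    rw [← dg_one, smul_dg]
    simp
  let f : {c : K // c ≠ 0} → {g : SL(4, K) // Blk g.1 ∧ ∃ c : K, g.1 = c • 1} := fun c =>
    ⟨⟨dg c c c 0 0 c, det_dg (mul_ne_zero c.2 c.2) (by simp)⟩, blk_dg _ _ _ _ _ _, c, e c⟩
  have hf : Function.Bijective f := by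
    refine ⟨fun x y e => Subtype.ext (dg_inj (congrArg (fun g => g.1.1) e)).1, fun g => ?_⟩
    obtain ⟨c, hc⟩ := g.2.2
    refine ⟨⟨c, fun k => ?_⟩, Subtype.ext (Subtype.ext ((e c).trans hc.symm))⟩
    have := g.1.2
    rw [hc, k] at this
    simp only [_root_.zero_smul, _root_.Matrix.det_zero, _root_.zero_ne_one] at this
  rw [← Nat.card_eq_of_bijective f hf, Nat.card_eq_fintype_card]
  decide +kernel

/-- two test elements -/
def g1 : SL(4, K) := ⟨!![1, 0, 0, 0; 0, 0, -1, 0; 0, 1, 0, 0; 0, 0, 0, 1], by rw [det_mk]; decide⟩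

def g2 : SL(4, K) := ⟨!![1, 0, 0, 0; 0, 1, 1, 0; 0, 0, 1, 0; 0, 0, 0, 1], by rw [det_mk]; decide⟩

theorem tau_g1 : tau g1.1 = 0 := by
  rw [g1, tau_mk]
  decide

theorem tau_g2 : tau g2.1 ≠ 0 := by
  rw [g2, tau_mk]
  decide

theorem not_sim_g1 : ¬ Sim g1.1 := fun h => by
  obtain ⟨l, m, p, q, r, s, e, -⟩ := shape (blk_mk _ _ _ _ _ _ _ _ _ _) h
  exact one_ne_zero (congrFun (congrFun e 2) 1)

theorem not_sim_g2 : ¬ Sim g2.1 := fun h => by
  obtain ⟨l, m, p, q, r, s, e, -⟩ := shape (blk_mk _ _ _ _ _ _ _ _ _ _) h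
  exact one_ne_zero (congrFun (congrFun e 1) 2)

end Cfsg.Agent.SM.L.RB

private theorem dce_5c60c2ae13cc : _root_.True := by
  try have : _root_.True := by simp only [_root_.Cfsg.Agent.SM.L.RB.dg.eq_1]
  try have : _root_.True := by simp only [_root_.Cfsg.Agent.SM.L.RB.zeta.eq_1]
  try have : _root_.True := by simp only [_root_.Cfsg.Agent.SM.L.RB.pm.eq_1]
  try have : _root_.True := by simp only [_root_.Cfsg.Agent.SM.L.RB.tau.eq_1]
  try have : _root_.True := by simp only [_root_.Cfsg.Agent.SM.L.RB.t2.eq_1]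
  try have : _root_.True := by simp only [_root_.Cfsg.Agent.SM.L.RB.t1.eq_1]
  try have : _root_.True := by simp only [_root_.Cfsg.Agent.SM.L.RB.g1.eq_1]
  try have : _root_.True := by simp only [_root_.Cfsg.Agent.SM.L.RB.g2.eq_1]
  try have : _root_.True := by simp only [_root_.Cfsg.Agent.SM.L.RB.J.eq_1]
  exact _root_.True.intro
end

-- part: SM/Sy/TwoEN
section
prune_inst 0x312045407322020000000596130020344c00059000200801f9a10f420b0ff362854029404e801c01584e328018040020020800d0404000000e0034000007012080a8500433340f040e000f803087180c00000000000000000000000000051004000000000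
set_option linter.all false
open scoped Cfsg.Agent.FastGrp

/-!
# SM (S3570), `S = Sp₄(q)`, `q` even: arithmetic (helper22)
-/

set_option autoImplicit false
set_option linter.unusedVariables false

namespace Cfsg.Agent.SM.Sy.TE

/-- the order of `Sp₄(q)` -/
def o4 (q : ℕ) : ℕ := q ^ 4 * ((q ^ 2 - 1) * (q ^ 4 - 1))

/-- the order of `Sz(q)` -/
def oz (q : ℕ) : ℕ := q ^ 2 * (q - 1) * (q ^ 2 + 1)

/-- the orders of the proper simple subgroups of `Sp₄(2 ^ f)` -/
def Ty (P : Prop) (f t : ℕ) : Prop :=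
  (∃ a, P ∧ a ∣ 2 * f ∧ t = 2 ^ a * ((2 ^ a) ^ 2 - 1)) ∨ t = 360 ∨ (∃ b, Odd b ∧ b ∣ f ∧ t = oz (2 ^ b)) ∨
    ∃ a, 1 ≤ a ∧ 2 * a ≤ f ∧ t = o4 (2 ^ a)

variable {P : Prop}

theorem odd_sub {n : ℕ} (hn : n ≠ 0) : Odd (2 ^ n - 1) :=
  Nat.Even.sub_odd Nat.one_le_two_pow (Nat.even_pow.2 ⟨even_two, hn⟩) odd_one

theorem odd_add {n : ℕ} (hn : n ≠ 0) : Odd (2 ^ n + 1) := (Nat.even_pow.2 ⟨even_two, hn⟩).add_one

theorem ppd {n : ℕ} (hn : 2 ≤ n) (h6 : n ≠ 6) : ∃ r : ℕ, r.Prime ∧ (∀ m, r ∣ 2 ^ m - 1 ↔ n ∣ m) ∧ n ∣ r - 1 ∧ ¬ r ∣ 2 :=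
  Lib.Zsigmondy.exists_primitive le_rfl hn (fun _ ⟨k, hk⟩ => by
    rcases k with _ | k
    · omega
    · rw [pow_succ] at hk
      omega) (by omega)

theorem dvd_of_o4 {r n a : ℕ} (hr : r.Prime) (h : ∀ m, r ∣ 2 ^ m - 1 ↔ n ∣ m) (h2 : ¬ r ∣ 2) (hd : r ∣ o4 (2 ^ a)) :
    n ∣ 4 * a := by
  rw [o4, hr.dvd_mul, hr.dvd_mul, ← pow_mul, ← pow_mul 2 a 2, h, h] at hd
  rcases hd with k | k | k
  · exact absurd (hr.dvd_of_dvd_pow k) h2
  · exact k.trans ⟨2, by ring⟩
  · rwa [mul_comm]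

theorem fac4 (k : ℕ) : k ^ 4 - 1 = (k ^ 2 - 1) * (k ^ 2 + 1) := by
  rw [show k ^ 4 = (k ^ 2) ^ 2 by ring, mul_comm, ← Nat.sq_sub_sq]

theorem fac2 (k : ℕ) : k ^ 2 - 1 = (k - 1) * (k + 1) := by rw [mul_comm, ← Nat.sq_sub_sq]

theorem ty_l {f a : ℕ} (hP : P) (ha : 2 ≤ a) (h : 2 ^ a * ((2 ^ a) ^ 2 - 1) ∣ o4 (2 ^ f)) :
    Ty P f (2 ^ a * ((2 ^ a) ^ 2 - 1)) := by
  refine .inl ⟨a, hP, ?_, rfl⟩
  rcases eq_or_ne a 3 with rfl | h3
  · obtain ⟨r, hr, h1, -, h2⟩ := ppd (n := 3) (by omega) (by omega)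
    have h4 := dvd_of_o4 hr h1 h2 (((h1 (3 * 2)).2 ⟨2, rfl⟩).trans (pow_mul 2 3 2 ▸ (Dvd.intro_left _ rfl).trans h))
    omega
  · obtain ⟨r, hr, h1, -, h2⟩ := ppd (n := a * 2) (by omega) (by omega)
    have h4 := dvd_of_o4 hr h1 h2 (((h1 _).2 dvd_rfl).trans (pow_mul 2 a 2 ▸ (Dvd.intro_left _ rfl).trans h))
    exact Nat.dvd_of_mul_dvd_mul_right two_pos (h4.trans ⟨1, by ring⟩)

theorem ty_z {f b : ℕ} (hb : Odd b) (h : oz (2 ^ b) ∣ o4 (2 ^ f)) : Ty P f (oz (2 ^ b)) := by
  have hb0 := hb.pos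
  obtain ⟨r, hr, h1, -, h2⟩ := ppd (n := b * 4) (by omega) (by omega)
  have h3 := (h1 _).2 dvd_rfl
  rw [pow_mul, fac4, hr.dvd_mul, ← pow_mul, h1] at h3
  rcases h3 with h3 | h3
  · have := Nat.le_of_dvd (by omega) h3
    omega
  · have h4 := dvd_of_o4 hr h1 h2 ((pow_mul 2 b 2 ▸ h3 : r ∣ (2 ^ b) ^ 2 + 1).trans ((Dvd.intro_left _ rfl).trans h))
    exact .inr (.inr (.inl ⟨b, hb, Nat.dvd_of_mul_dvd_mul_right four_pos (mul_comm 4 f ▸ h4), rfl⟩))

theorem ty_s {f a : ℕ} (hf : 1 ≤ f) (ha : 1 ≤ a) (h : o4 (2 ^ a) ∣ o4 (2 ^ f)) (hne : o4 (2 ^ a) ≠ o4 (2 ^ f)) :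
    Ty P f (o4 (2 ^ a)) := by
  obtain ⟨r, hr, h1, -, h2⟩ := ppd (n := a * 4) (by omega) (by omega)
  have h3 : r ∣ o4 (2 ^ a) := (pow_mul 2 a 4 ▸ (h1 _).2 dvd_rfl : r ∣ (2 ^ a) ^ 4 - 1).trans
    ((Dvd.intro_left _ rfl).trans (Dvd.intro_left _ rfl))
  obtain ⟨c, rfl⟩ := Nat.dvd_of_mul_dvd_mul_right four_pos (mul_comm 4 f ▸ dvd_of_o4 hr h1 h2 (h3.trans h))
  refine .inr (.inr (.inr ⟨a, ha, ?_, rfl⟩))
  rcases c with _ | _ | c
  · omega
  · exact absurd (by rw [zero_add, mul_one]) hne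
  · nlinarith

/-- the `2`-part and the odd part -/
theorem Ty.split {f t : ℕ} (hf : 2 ≤ f) (h : Ty P f t) : ∃ j o, t = 2 ^ j * o ∧ Odd o ∧ j ≤ 2 * f ∧
    (o ∣ (2 ^ f) ^ 4 - 1 ∨ (o ≤ (2 ^ f) ^ 3 ∧ (Odd f → j < 2 * f))) := by
  have h1 : 4 ≤ 2 ^ f := (Nat.pow_le_pow_right two_pos hf : 2 ^ 2 ≤ _)
  rcases h with ⟨a, -, ha, rfl⟩ | rfl | ⟨b, hb, hd, rfl⟩ | ⟨a, ha, hd, rfl⟩
  · have h0 : a ≠ 0 := by rintro rfl; simp at ha; omega
    refine ⟨a, _, rfl, pow_mul 2 a 2 ▸ odd_sub (by omega), Nat.le_of_dvd (by omega) ha, .inl ?_⟩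
    obtain ⟨c, hc⟩ := ha
    rw [← pow_mul, ← pow_mul, show f * 4 = a * 2 * c by nlinarith]
    exact Nat.pow_sub_one_dvd_pow_sub_one 2 ⟨c, rfl⟩
  · exact ⟨3, 45, rfl, by decide, by omega, .inr ⟨le_trans (by norm_num) (Nat.pow_le_pow_left h1 3), fun _ => by omega⟩⟩
  · have h0 := hb.pos
    have h2 := Nat.le_of_dvd (by omega) hd
    refine ⟨b * 2, (2 ^ b - 1) * ((2 ^ b) ^ 2 + 1), by rw [oz, pow_mul, mul_assoc],
      (odd_sub (by omega)).mul (pow_mul 2 b 2 ▸ odd_add (by omega)), by omega, .inl ?_⟩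
    refine Dvd.dvd.trans (b := (2 ^ b) ^ 4 - 1) (by rw [fac4, fac2]; exact ⟨2 ^ b + 1, by ring⟩) ?_
    rw [← pow_mul, ← pow_mul]
    exact Nat.pow_sub_one_dvd_pow_sub_one 2 (mul_dvd_mul_right hd 4)
  · refine ⟨a * 4, _, by rw [o4, pow_mul], (pow_mul 2 a 2 ▸ odd_sub (by omega)).mul (pow_mul 2 a 4 ▸ odd_sub (by omega)),
      by omega, .inr ⟨?_, fun ⟨k, hk⟩ => by omega⟩⟩
    calc _ ≤ (2 ^ a) ^ 2 * (2 ^ a) ^ 4 := Nat.mul_le_mul (Nat.sub_le _ _) (Nat.sub_le _ _)
      _ = 2 ^ (a * 6) := by ring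
      _ ≤ 2 ^ (f * 3) := Nat.pow_le_pow_right two_pos (by omega)
      _ = _ := pow_mul _ _ _

theorem two_part {n j o c : ℕ} (ho : Odd o) (h : 2 ^ (j + n) ∣ 2 ^ j * o * c) : 2 ^ n ∣ c := by
  rw [pow_add, mul_assoc] at h
  exact (Nat.Coprime.pow_left _ (Nat.coprime_two_left.2 ho)).dvd_of_dvd_mul_left
    (Nat.dvd_of_mul_dvd_mul_left (Nat.two_pow_pos j) h)

theorem n1 {f t c : ℕ} (hf : 2 ≤ f) (h : Ty P f t) (hd : o4 (2 ^ f) ∣ t * c) : 2 ^ (2 * f) ∣ c := by
  obtain ⟨j, o, rfl, ho, hj, -⟩ := h.split hf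
  refine two_part ho (j := j) (Dvd.dvd.trans ?_ ((Dvd.intro _ rfl).trans hd))
  rw [← pow_mul]
  exact pow_dvd_pow 2 (by omega)

theorem cop1 {f : ℕ} (hf : 2 ≤ f) : (2 ^ f + 1).Coprime (2 * (2 ^ f - 1)) := by
  have h1 : 4 ≤ 2 ^ f := (Nat.pow_le_pow_right two_pos hf : 2 ^ 2 ≤ _)
  have h2 := Nat.coprime_two_right.2 (odd_add (n := f) (by omega))
  refine h2.mul_right ?_
  rw [show 2 ^ f + 1 = 2 + (2 ^ f - 1) * 1 by omega, Nat.coprime_add_mul_left_left]
  exact Nat.coprime_two_left.2 (odd_sub (by omega))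

theorem cop2 {f : ℕ} (hf : 2 ≤ f) : ((2 ^ f) ^ 2 + 1).Coprime (2 * ((2 ^ f) ^ 2 - 1)) := by
  rw [← pow_mul]
  exact cop1 (by omega)

theorem key {f c : ℕ} (hf : 2 ≤ f) (hc : 0 < c) (hc' : c ≤ 2 ^ f) : ¬ (2 ^ f + 1) ^ 2 ∣ ((2 ^ f) ^ 4 - 1) * c := fun h => by
  have h1 := cop1 hf
  have h2 := cop2 hf
  rw [fac2] at h2
  rw [fac4, fac2, pow_two, show ∀ x y z w : ℕ, x * y * z * w = y * (x * (z * w)) from fun x y z w => by ring] at h
  have h3 := Nat.dvd_of_mul_dvd_mul_left (Nat.succ_pos _) h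
  have h4 := (Nat.Coprime.coprime_mul_left_right h1).dvd_of_dvd_mul_left h3
  have h5 := (Nat.Coprime.coprime_mul_left_right (Nat.Coprime.coprime_mul_left_right h2)).symm.dvd_of_dvd_mul_left h4
  have := Nat.le_of_dvd hc h5
  omega

theorem n2 {f t c : ℕ} (hf : 2 ≤ f) (h : Ty P f t) (hd : o4 (2 ^ f) ∣ t * c)
    (hc : ∀ p, p.Prime → p ∣ c → p ∣ 2 * (2 ^ f - 1)) : False := by
  obtain ⟨j, o, rfl, ho, hj, h1⟩ := h.split hf
  have h2 : (2 ^ f + 1) ^ 2 * ((2 ^ f) ^ 2 + 1) ∣ o4 (2 ^ f) :=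
    ⟨(2 ^ f) ^ 4 * (2 ^ f - 1) ^ 2, by rw [o4, fac4, fac2]; ring⟩
  have h3 : ((2 ^ f + 1) ^ 2 * ((2 ^ f) ^ 2 + 1)).Coprime (2 * (2 ^ f - 1)) := ((cop1 hf).pow_left 2).mul_left (by
    have h4 := cop2 hf
    rw [fac2, ← mul_assoc] at h4
    exact h4.coprime_mul_right_right)
  have h4 : ((2 ^ f + 1) ^ 2 * ((2 ^ f) ^ 2 + 1)).Coprime c := Nat.coprime_of_dvd fun p hp h5 h6 =>
    hp.one_lt.ne' (Nat.eq_one_of_dvd_coprimes h3 h5 (hc p hp h6))
  have h5 := (h3.coprime_mul_right_right.pow_right j).dvd_of_dvd_mul_left (h4.dvd_of_dvd_mul_right (h2.trans hd))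
  rcases h1 with h1 | ⟨h1, -⟩
  · exact key hf one_pos Nat.one_le_two_pow (((Dvd.intro _ rfl).trans (h5.trans h1)).mul_right 1)
  · have h6 := (Nat.le_of_dvd ho.pos h5).trans h1
    generalize 2 ^ f = q at h6
    nlinarith [Nat.zero_le q, Nat.zero_le (q ^ 2), Nat.zero_le (q ^ 3), Nat.zero_le (q ^ 4)]

theorem n4 {f t : ℕ} (hf : 2 ≤ f) (ho : Odd f) (h : Ty P f t) : ¬ o4 (2 ^ f) ∣ t * (f * oz (2 ^ f)) := fun hd => by
  obtain ⟨j, o, rfl, ho', hj, h1⟩ := h.split hf
  have h0 : 4 ≤ 2 ^ f := (Nat.pow_le_pow_right two_pos hf : 2 ^ 2 ≤ _)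
  have h2 : (2 ^ f) ^ 2 * (2 ^ f + 1) ^ 2 ∣ 2 ^ j * o * f := by
    refine Dvd.dvd.trans (Dvd.intro (2 ^ f - 1) rfl) (Nat.dvd_of_mul_dvd_mul_right (k := oz (2 ^ f)) ?_ ?_)
    · exact Nat.mul_pos (Nat.mul_pos (by positivity) (by omega)) (Nat.succ_pos _)
    · rw [mul_assoc _ f]
      refine Dvd.dvd.trans (dvd_of_eq ?_) hd
      rw [o4, oz, fac4, fac2]
      ring
  rcases h1 with h1 | ⟨-, h1⟩
  · rw [mul_assoc] at h2
    exact key hf ho.pos Nat.lt_two_pow_self.le ((((cop1 hf).coprime_mul_right_right.pow 2 j).dvd_of_dvd_mul_left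
      ((Dvd.intro_left _ rfl).trans h2)).trans (mul_dvd_mul_right h1 f))
  · have h3 := two_part ho' (n := 1) (j := j) (Dvd.dvd.trans (by
      rw [← pow_mul]
      exact pow_dvd_pow 2 (by have := h1 ho; omega)) ((Dvd.intro _ rfl).trans h2))
    exact Nat.not_even_iff_odd.2 ho (even_iff_two_dvd.2 h3)

theorem n3 {f t e s : ℕ} (hf : 2 ≤ f) (hs : 2 ≤ s) (he : f = e * s) (h : Ty P f t) (hd : o4 (2 ^ f) ∣ t * o4 (2 ^ e)) :
    f = e * 2 ∧ P ∧ t = (2 ^ f) ^ 2 * ((2 ^ f) ^ 4 - 1) := by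
  have he0 : 0 < e := Nat.pos_of_ne_zero (by rintro rfl; omega)
  have h1 : f = e * 2 := by
    have h1 := n1 hf h hd
    rw [o4, ← pow_mul] at h1
    have h2 := (Nat.pow_dvd_pow_iff_le_right one_lt_two).1 ((Nat.Coprime.pow_left _ (Nat.coprime_two_left.2
      ((pow_mul 2 e 2 ▸ odd_sub (n := e * 2) (by omega)).mul
        (pow_mul 2 e 4 ▸ odd_sub (n := e * 4) (by omega))))).dvd_of_dvd_mul_right h1)
    nlinarith
  refine ⟨h1, ?_⟩
  obtain ⟨r, hr, h2, h3, h4⟩ := ppd (n := f * 4) (by omega) (by omega)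
  have h5 : r ∣ t := by
    refine (hr.dvd_mul.1 (Dvd.dvd.trans ?_ hd)).resolve_right fun k => ?_
    · exact (pow_mul 2 f 4 ▸ (h2 _).2 dvd_rfl : r ∣ (2 ^ f) ^ 4 - 1).trans
        ((Dvd.intro_left _ rfl).trans (Dvd.intro_left _ rfl))
    · have := Nat.le_of_dvd (by omega) (dvd_of_o4 hr h2 h4 k)
      omega
  rcases h with ⟨a, hP, ha, rfl⟩ | rfl | ⟨b, hb, hb', rfl⟩ | ⟨a, ha, ha', rfl⟩
  · rw [hr.dvd_mul, ← pow_mul, h2] at h5
    rcases h5 with h5 | h5
    · exact absurd (hr.dvd_of_dvd_pow h5) h4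
    obtain rfl : a = 2 * f := Nat.dvd_antisymm ha (Nat.dvd_of_mul_dvd_mul_right two_pos (Dvd.dvd.trans ⟨1, by ring⟩ h5))
    refine ⟨hP, ?_⟩
    simp only [← pow_mul]
    rw [mul_comm f 2, show 2 * f * 2 = f * 4 by ring]
  · have h6 := Nat.le_of_dvd (by have := hr.two_le; omega) h3
    have h7 : r ∣ 2 ^ 3 * 3 ^ 2 * 5 := h5
    rw [hr.dvd_mul, hr.dvd_mul] at h7
    rcases h7 with (k | k) | k
    · exact absurd (hr.dvd_of_dvd_pow k) h4
    · have := Nat.le_of_dvd (by omega) (hr.dvd_of_dvd_pow k)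
      omega
    · have := Nat.le_of_dvd (by omega) k
      omega
  · have h6 : oz (2 ^ b) ∣ o4 (2 ^ b) := ⟨(2 ^ b) ^ 2 * (2 ^ b - 1) * (2 ^ b + 1) ^ 2, by rw [o4, oz, fac4, fac2]; ring⟩
    have h7 := Nat.le_of_dvd (by have := hb.pos; omega) (dvd_of_o4 hr h2 h4 (h5.trans h6))
    have h8 := Nat.le_of_dvd (by omega) hb'
    obtain ⟨k, hk⟩ := hb
    omega
  · have := Nat.le_of_dvd (by omega) (dvd_of_o4 hr h2 h4 h5)
    omega

theorem n5 {f e c d : ℕ} (hf : 2 ≤ f) (he : f = e * 2) (h : o4 (2 ^ f) * d = (2 ^ f) ^ 2 * ((2 ^ f) ^ 4 - 1) * c)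
    (hc : c ∣ o4 (2 ^ e)) : Odd d := by
  have h0 : 4 ≤ 2 ^ f := (Nat.pow_le_pow_right two_pos hf : 2 ^ 2 ≤ _)
  have h1 : 0 < (2 ^ f) ^ 4 - 1 := (pow_mul 2 f 4 ▸ odd_sub (by omega)).pos
  have h2 : 0 < (2 ^ f) ^ 2 - 1 := (pow_mul 2 f 2 ▸ odd_sub (by omega)).pos
  have h3 : c = (2 ^ f) ^ 2 * ((2 ^ f) ^ 2 - 1) * d :=
    Nat.eq_of_mul_eq_mul_left (Nat.mul_pos (by positivity) h1) (h.symm.trans (by rw [o4]; ring))
  have h4 : o4 (2 ^ e) = (2 ^ f) ^ 2 * ((2 ^ f) ^ 2 - 1) * (2 ^ f - 1) := by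
    rw [o4, he, pow_mul, ← pow_mul (2 ^ e) 2 2]
    ring
  rw [h3, h4] at hc
  exact Odd.of_dvd_nat (odd_sub (by omega)) (Nat.dvd_of_mul_dvd_mul_left (Nat.mul_pos (by positivity) h2) hc)

end Cfsg.Agent.SM.Sy.TE

private theorem dce_4ebe08079ba2 : _root_.True := by
  try have : _root_.True := by simp only [_root_.Cfsg.Agent.SM.Sy.TE.oz.eq_1]
  try have : _root_.True := by simp only [_root_.Cfsg.Agent.SM.Sy.TE.o4.eq_1]
  exact _root_.True.intro
end

-- part: SM/Sy/ResJ
section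
prune_inst 0x31202544032202000000058651003c76ce000590006b0801d9e10e400787ff6305002f60f4a01f1359caaa24407ec068130800d9425000002e008600411d01a084abf2c6b37ca10427000fc0f887180c00000000000000000000000000051004000000000
set_option linter.all false
open scoped Cfsg.Agent.FastGrp

/-!
# SM (S3570), symplectic socles: subgroups of symmetric groups with a long cycle of prime length (helper47)

* `jor` : Jordan's theorem on the long orbit;
* `alt_idx` : a subgroup of `A_k` of index prime to `p`, `r` has index dividing `k! / p!`;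
* `ten` : subgroups of `S₁₀` of order 30240 or 15120 have a normal subgroup of order three.
-/

set_option autoImplicit false
set_option linter.unusedSectionVars false

namespace Cfsg.Agent.SM.Sy.Rj

open Equiv Equiv.Perm Subgroup MulAction

variable {α : Type} [Fintype α] [DecidableEq α] {B : Subgroup (Perm α)} {g h : Perm α} {x : α} {p r : ℕ}

theorem orbit_cyc (hc : g.IsCycle) (hx : x ∈ g.support) : orbit (zpowers g) x = (g.support : Set α) := by
  ext y
  constructor
  · rintro ⟨⟨_, i, rfl⟩, rfl⟩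
    exact zpow_apply_mem_support.2 hx
  · intro hy
    obtain ⟨i, hi⟩ := hc.exists_zpow_eq (mem_support.1 hx) (mem_support.1 hy)
    exact ⟨⟨_, i, rfl⟩, hi⟩

theorem supp_sub (hh : h ∈ B) (hc : h.IsCycle) {y : α} (hy : y ∈ h.support) (hy' : y ∈ orbit B x) :
    (h.support : Set α) ⊆ orbit B x := fun z hz => by
  obtain ⟨i, hi⟩ := hc.exists_zpow_eq (mem_support.1 hy) (mem_support.1 hz)
  obtain ⟨b, rfl⟩ := hy'
  exact ⟨(⟨h ^ i, B.zpow_mem hh i⟩ * b :), hi⟩

theorem prim (hg : g ∈ B) (hc : g.IsCycle) (hp : g.support.card = p) (pp : p.Prime) (hn : Fintype.card α < 2 * p)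
    (hx : x ∈ g.support) : IsPreprimitive (toPermHom B (orbit B x)).range (orbit B x) := by
  have h1 : Nat.card (orbit (zpowers g) x) = p := by
    rw [orbit_cyc hc hx, Nat.card_coe_set_eq, Set.ncard_coe_finset, hp]
  have h2 : IsPreprimitive (zpowers g) (orbit (zpowers g) x) := IsPreprimitive.of_prime_card (h1 ▸ pp)
  have h3 : IsPretransitive (toPermHom B (orbit B x)).range (orbit B x) := ⟨fun a b => by
    obtain ⟨c, hc⟩ := _root_.MulAction.exists_smul_eq B a b
    exact ⟨⟨_, c, rfl⟩, hc⟩⟩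
  have hle : zpowers g ≤ B := zpowers_le.2 hg
  let φ : zpowers g → (toPermHom B (orbit B x)).range := fun z => ⟨_, ⟨z.1, hle z.2⟩, rfl⟩
  let f : orbit (zpowers g) x →ₑ[φ] orbit B x :=
    { toFun := fun y => ⟨y.1, by obtain ⟨_, z, rfl⟩ := y; exact ⟨⟨z.1, hle z.2⟩, rfl⟩⟩
      map_smul' := fun _ _ => rfl }
  refine IsPreprimitive.of_card_lt (f := f) ?_
  have h4 : Function.Injective f := fun a b e => Subtype.ext (congrArg (fun z : orbit B x => z.1) e)
  rw [Set.ncard_range_of_injective h4, h1]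
  exact lt_of_le_of_lt ((Nat.card_le_card_of_injective _ Subtype.val_injective).trans Nat.card_eq_fintype_card.le) hn

/-- **Jordan's theorem on the long orbit** -/
theorem jor (hg : g ∈ B) (hc : g.IsCycle) (hp : g.support.card = p) (pp : p.Prime) (hn : Fintype.card α < 2 * p)
    (hx : x ∈ g.support) (hh : h ∈ B) (hc' : h.IsCycle) (hr : h.support.card = r) (pr : r.Prime)
    {y : α} (hy : y ∈ h.support) (hy' : y ∈ orbit B x) (h3 : r + 3 ≤ (orbit B x).ncard) :
    (orbit B x).ncard.factorial ∣ 2 * Nat.card B := by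
  classical
  have : Fintype (orbit B x) := Fintype.ofFinite _
  have hk : Fintype.card (orbit B x) = (orbit B x).ncard := by rw [← Nat.card_eq_fintype_card, Nat.card_coe_set_eq]
  have hs := supp_sub hh hc' hy hy'
  have two := pr.two_le
  let ρ := toPermHom B (orbit B x)
  have k1 : ∀ z : orbit B x, ρ ⟨h, hh⟩ z ≠ z ↔ h z ≠ z := fun z => not_congr Subtype.ext_iff
  have k2 : (ρ ⟨h, hh⟩).IsCycle := ⟨⟨y, hy'⟩, (k1 _).2 (mem_support.1 hy), fun z hz => by
    obtain ⟨i, hi⟩ := hc'.exists_zpow_eq (mem_support.1 hy) ((k1 z).1 hz)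
    exact ⟨i, by rw [← map_zpow]; exact Subtype.ext hi⟩⟩
  have k3 : (ρ ⟨h, hh⟩).support.card = r := by
    rw [← hr]
    refine Finset.card_bij (fun z _ => z.1) (fun z hz => mem_support.2 ((k1 z).1 (mem_support.1 hz)))
      (fun _ _ _ _ e => Subtype.ext e) fun z hz => ⟨⟨z, hs hz⟩, mem_support.2 ((k1 _).2 (mem_support.1 hz)), rfl⟩
  have k4 := S0713.result ρ.range (prim hg hc hp pp hn hx) pr (by omega) (by omega) k2 k3 ⟨_, rfl⟩
  have : Nontrivial (orbit B x) := Fintype.one_lt_card_iff_nontrivial.1 (by omega)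
  rw [← hk, ← Fintype.card_perm, ← Nat.card_eq_fintype_card, ← two_mul_nat_card_alternatingGroup]
  exact Nat.mul_dvd_mul_left 2 ((card_dvd_of_le k4).trans (card_range_dvd ρ))

/-- a subgroup of index prime to `p` contains a conjugate of each element of order `p` -/
theorem exists_conj {S : Type*} [Group S] [Finite S] (C : Subgroup S) (pp : p.Prime) (hp : ¬ p ∣ C.index) {s : S}
    (hs : orderOf s = p) : ∃ t : S, t⁻¹ * s * t ∈ C := by
  have := Fact.mk pp
  have h1 : IsPGroup p (zpowers s) := IsPGroup.of_card (n := 1) (by rw [Nat.card_zpowers, hs, pow_one])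
  obtain ⟨q, hq⟩ := h1.nonempty_fixed_point_of_prime_not_dvd_card (S ⧸ C) hp
  induction q using QuotientGroup.induction_on with
  | H t =>
    have h4 : ((s * t : S) : S ⧸ C) = t := hq ⟨s, mem_zpowers s⟩
    exact ⟨t, by have := QuotientGroup.eq.1 h4.symm; rwa [← mul_assoc] at this⟩

theorem cyc_mem {S : Type*} [Group S] {k : ℕ} (e : S ≃* alternatingGroup (Fin k)) (C : Subgroup S) (pp : p.Prime)
    (h2 : Odd p) (hk : p ≤ k) (hp : ¬ p ∣ C.index) :
    ∃ c ∈ C.map ((alternatingGroup (Fin k)).subtype.comp e.toMonoidHom), c.IsCycle ∧ c.support.card = p := by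
  have : Finite S := Finite.of_equiv _ e.symm.toEquiv
  obtain ⟨c, hc⟩ := (exists_with_cycleType_iff (Fin k) (m := {p})).2 ⟨by simpa only [_root_.Multiset.sum_singleton, _root_.Fintype.card_fin] using hk, by simpa using pp.two_le⟩
  have h1 : c.IsCycle := card_cycleType_eq_one.1 (by rw [hc]; rfl)
  have h3 : c.support.card = p := by rw [← sum_cycleType, hc]; rfl
  have h4 : c ∈ alternatingGroup (Fin k) := by rw [mem_alternatingGroup, h1.sign, h3, h2.neg_one_pow, neg_neg]
  obtain ⟨t, ht⟩ := exists_conj C pp hp (s := e.symm ⟨c, h4⟩) (by rw [MulEquiv.orderOf_eq, Subgroup.orderOf_mk, h1.orderOf, h3])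
  have h5 : ((alternatingGroup (Fin k)).subtype.comp e.toMonoidHom) (t⁻¹ * e.symm ⟨c, h4⟩ * t) =
      (e t : Perm (Fin k))⁻¹ * c * (e t : Perm (Fin k))⁻¹⁻¹ := by simp only [_root_.MulEquiv.toMonoidHom_eq_coe, _root_.MonoidHom.coe_comp, _root_.Subgroup.coe_subtype, _root_.MonoidHom.coe_coe, _root_.Function.comp_apply, _root_.map_mul, _root_.map_inv, _root_.MulEquiv.apply_symm_apply, _root_.Subgroup.coe_mul, _root_.InvMemClass.coe_inv, _root_.inv_inv]
  exact ⟨_, ⟨_, ht, h5⟩, h1.conj, by rw [card_support_conj, h3]⟩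

/-- **subgroups of `A_k` of index prime to `p` and `r`** -/
theorem alt_idx {S : Type*} [Group S] {k : ℕ} (e : S ≃* alternatingGroup (Fin k)) (C : Subgroup S) (pp : p.Prime)
    (pr : r.Prime) (h2 : Odd r) (h3 : r + 3 ≤ p) (hk : p ≤ k) (h4 : k < p + r) (hp : ¬ p ∣ C.index) (hr : ¬ r ∣ C.index) :
    C.index * p.factorial ∣ k.factorial := by
  have two := pr.two_le
  obtain ⟨g, hg, g1, g2⟩ := cyc_mem e C pp (pp.odd_of_ne_two (by omega)) hk hp
  obtain ⟨h, hh, h1, h5⟩ := cyc_mem e C pr h2 (by omega) hr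
  obtain ⟨x, hx⟩ : (g.support ∩ h.support).Nonempty := by
    rw [← Finset.card_pos]
    have k1 := Finset.card_union_add_card_inter g.support h.support
    have k2 := Finset.card_le_univ (g.support ∪ h.support)
    rw [Fintype.card_fin] at k2
    omega
  rw [Finset.mem_inter] at hx
  have k3 : p ≤ (orbit (C.map ((alternatingGroup (Fin k)).subtype.comp e.toMonoidHom)) x).ncard := by
    rw [← g2, ← Set.ncard_coe_finset]
    exact Set.ncard_le_ncard (supp_sub hg g1 hx.1 (mem_orbit_self x))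
  have k4 := jor hg g1 g2 pp (by rw [Fintype.card_fin]; omega) hx.1 hh h1 h5 pr hx.2 (mem_orbit_self x) (by omega)
  have hinj : Function.Injective ((alternatingGroup (Fin k)).subtype.comp e.toMonoidHom) :=
    fun a b h => e.injective (Subtype.ext h)
  rw [card_map_of_injective hinj] at k4
  have : Nontrivial (Fin k) := Fin.nontrivial_iff_two_le.2 (by omega)
  have k5 : C.index * (2 * Nat.card C) = k.factorial := by
    rw [mul_left_comm, index_mul_card, Nat.card_congr e.toEquiv, two_mul_nat_card_alternatingGroup, Nat.card_perm,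
      Nat.card_eq_fintype_card, Fintype.card_fin]
  exact k5 ▸ Nat.mul_dvd_mul_left _ ((Nat.factorial_dvd_factorial k3).trans k4)

theorem fix_of (hh : h ∈ B) (pr : r.Prime) (hr : orderOf h = r) {y : α} (hy : y ∉ orbit B x)
    (hlt : Fintype.card α < (orbit B x).ncard + r) : h y = y := by
  have h1 : (orbit (zpowers h) y).ncard ∣ r := by
    rw [← index_stabilizer, ← hr, ← Nat.card_zpowers]
    exact index_dvd_card _
  have h2 : orbit (zpowers h) y ⊆ (orbit B x)ᶜ := by
    rintro _ ⟨z, rfl⟩ ⟨b, hb⟩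
    exact hy ⟨(⟨z.1, zpowers_le.2 hh z.2⟩ : B)⁻¹ * b, by
      show z.1⁻¹ (b.1 x) = y
      exact Perm.inv_eq_iff_eq.2 hb⟩
  have h3 := Set.ncard_le_ncard h2
  have h4 := Set.ncard_add_ncard_compl (orbit B x)
  rw [Nat.card_eq_fintype_card] at h4
  obtain ⟨w, hw⟩ := Set.ncard_eq_one.1 ((pr.eq_one_or_self_of_dvd _ h1).resolve_right (by omega))
  have h5 : y ∈ orbit (zpowers h) y := mem_orbit_self y
  have h6 : h y ∈ orbit (zpowers h) y := ⟨⟨h, mem_zpowers h⟩, rfl⟩
  rw [hw] at h5 h6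
  exact h6.trans h5.symm

/-- **subgroups of `S₁₀` of index 120, 240** -/
theorem ten (hn : Fintype.card α = 10) (hB : Nat.card B = 30240 ∨ Nat.card B = 15120) :
    ∃ z ∈ B, orderOf z = 3 ∧ (∀ b ∈ B, b * z * b⁻¹ ∈ zpowers z) ∧ ∃ y ∈ B, orderOf y = 7 ∧ y * z = z * y := by
  classical
  have p7 : Nat.Prime 7 := by norm_num
  have elt : ∀ (K : Subgroup B) (l : ℕ), l.Prime → l ∣ Nat.card K → ∃ u ∈ K, orderOf (u : Perm α) = l := fun K l hl hd => by
    have := Fact.mk hl
    obtain ⟨u, hu⟩ := exists_prime_orderOf_dvd_card' l hd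
    exact ⟨u.1, u.2, by rw [Subgroup.orderOf_coe, Subgroup.orderOf_coe, hu]⟩
  obtain ⟨g, -, g0⟩ := elt ⊤ 7 p7 (by rw [card_top]; rcases hB with k | k <;> rw [k] <;> norm_num)
  have g1 : g.1.IsCycle := isCycle_of_prime_order' (g0 ▸ p7) (by omega)
  have g2 : g.1.support.card = 7 := g1.orderOf.symm.trans g0
  obtain ⟨x, hx⟩ : g.1.support.Nonempty := Finset.card_pos.1 (by omega)
  have k1 := supp_sub g.2 g1 hx (mem_orbit_self x)
  have k2 := Set.ncard_le_ncard k1
  rw [Set.ncard_coe_finset, g2] at k2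
  have k4 := Set.ncard_add_ncard_compl (orbit B x)
  rw [Nat.card_eq_fintype_card, hn] at k4
  have k5 : ¬ Nat.factorial 8 ∣ 2 * Nat.card B := by rcases hB with k | k <;> rw [k] <;> decide
  have k3 : (orbit B x).ncard = 7 := by
    by_contra hne
    by_cases h10 : (orbit B x).ncard = 10
    · exact k5 ((Nat.factorial_dvd_factorial (by omega)).trans
        (jor g.2 g1 g2 p7 (by omega) hx g.2 g1 g2 p7 hx (mem_orbit_self x) (by omega)))
    obtain ⟨u, -, u0⟩ := elt ⊤ 5 Nat.prime_five (by rw [card_top]; rcases hB with k | k <;> rw [k] <;> norm_num)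
    obtain ⟨w, hw⟩ : (orbit B x)ᶜ.Nonempty := Set.nonempty_of_ncard_ne_zero (by omega)
    have u1 : u.1.IsCycle := isCycle_of_prime_order (u0 ▸ Nat.prime_five) (by
      rw [u0]
      refine lt_of_lt_of_eq (Finset.card_lt_univ_of_notMem (x := w) ?_) hn
      exact notMem_support.2 (fix_of u.2 Nat.prime_five u0 hw (by omega)))
    have u2 : u.1.support.card = 5 := u1.orderOf.symm.trans u0
    obtain ⟨y, hy⟩ : u.1.support.Nonempty := Finset.card_pos.1 (by omega)
    exact k5 ((Nat.factorial_dvd_factorial (by omega)).trans (jor g.2 g1 g2 p7 (by omega) hx u.2 u1 u2 Nat.prime_five hy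
      (by_contra fun k => mem_support.1 hy (fix_of u.2 Nat.prime_five u0 k (by omega))) (by omega)))
  let ρ := toPermHom B (orbit B x)
  have inv : ∀ (b : B) (y : α), b.1 y ∈ (orbit B x)ᶜ ↔ y ∈ (orbit B x)ᶜ := fun b y =>
    not_congr ⟨fun ⟨c, hc⟩ => ⟨b⁻¹ * c, Perm.inv_eq_iff_eq.2 hc⟩, fun ⟨c, hc⟩ => ⟨b * c, congrArg b.1 hc⟩⟩
  let σ : ρ.ker →* Perm ((orbit B x)ᶜ : Set α) :=
    { toFun := fun b => b.1.1.subtypePerm (inv b.1)
      map_one' := Perm.ext fun _ => rfl
      map_mul' := fun _ _ => Perm.ext fun _ => rfl }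
  have fx : ∀ b ∈ ρ.ker, ∀ y ∈ orbit B x, b.1 y = y := fun b hb y hy =>
    congrArg (fun c : Perm (orbit B x) => (c ⟨y, hy⟩).1) hb
  have k6 : Nat.card ρ.ker ∣ 6 := by
    have := card_dvd_of_injective σ ((injective_iff_map_eq_one σ).2 fun b hb => Subtype.ext (Subtype.ext (Perm.ext fun y => by
      by_cases hy : y ∈ orbit B x
      · exact fx _ b.2 y hy
      · exact congrArg (fun c : Perm ((orbit B x)ᶜ : Set α) => (c ⟨y, hy⟩).1) hb)))
    rwa [Nat.card_perm, Nat.card_coe_set_eq, show (orbit B x)ᶜ.ncard = 3 by omega] at this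
  have k7 : 3 ∣ Nat.card ρ.ker := by
    have h1 : ρ.ker.index ∣ 5040 := by
      have := card_subgroup_dvd_card ρ.range
      rwa [Nat.card_perm, Nat.card_coe_set_eq, k3, ← index_ker] at this
    have h2 : 3 * 5040 ∣ Nat.card ρ.ker * 5040 :=
      Dvd.dvd.trans (by rcases hB with k | k <;> rw [k] <;> norm_num) (ρ.ker.card_mul_index ▸ Nat.mul_dvd_mul_left _ h1)
    exact Nat.dvd_of_mul_dvd_mul_right (by norm_num) h2
  obtain ⟨z, hz, z0⟩ := elt ρ.ker 3 Nat.prime_three k7
  refine ⟨z.1, z.2, z0, fun b hb => ?_, g.1, g.2, g0, Disjoint.commute fun y => ?_⟩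
  · let w : ρ.ker := ⟨(⟨b, hb⟩ : B) * z * (⟨b, hb⟩ : B)⁻¹, ρ.normal_ker.conj_mem z hz (⟨b, hb⟩ : B)⟩
    have h1 := (zpowers (⟨z, hz⟩ : ρ.ker)).card_mul_index
    rw [Nat.card_zpowers, Subgroup.orderOf_mk, ← Subgroup.orderOf_coe, z0] at h1
    have h2 : (zpowers (⟨z, hz⟩ : ρ.ker)).index ∣ 2 := Nat.dvd_of_mul_dvd_mul_left (by norm_num : 0 < 3) (h1 ▸ k6)
    have h3 : w ^ 2 ∈ zpowers (⟨z, hz⟩ : ρ.ker) := by
      rcases (Nat.dvd_prime Nat.prime_two).1 h2 with k | k
      · rw [index_eq_one.1 k]; trivial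
      · exact sq_mem_of_index_two k w
    obtain ⟨i, hi⟩ := pow_mem h3 2
    refine ⟨i, (congrArg (fun c : ρ.ker => c.1.1) hi).trans ?_⟩
    show ((b * z.1 * b⁻¹) ^ 2) ^ 2 = _
    rw [← pow_mul, conj_pow, show 2 * 2 = 3 + 1 from rfl, pow_succ, ← z0, pow_orderOf_eq_one, one_mul]
  · by_cases hy : y ∈ orbit B x
    · exact Or.inr (fx z hz y hy)
    · exact Or.inl (by_contra fun k => hy (k1 (mem_support.2 k)))

end Cfsg.Agent.SM.Sy.Rj
end

-- part: H870/GE/Spin
section
prune_inst 0x10000000000000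
set_option linter.all false
open scoped Cfsg.Agent.FastGrp

/-!
# `G₂(q)` in `Ω₇(q)` and `Sp₆(q)` by the spin module (helper870, for S3499)

`Sp y c` : `y (z w) = c(z) y(w)` for the octonions `z` of trace zero; `y` is in the spin group, `c` its image in the
orthogonal group of the octonions of trace zero.
-/

set_option autoImplicit false
set_option linter.unusedSimpArgs false

namespace Cfsg.Agent.H870.GE

open Cfsg.Lie Cfsg.Agent.H161.Oct

variable {F : Type*} [Field F]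

/-- the spin relation -/
structure Sp (y c : V F ≃ₗ[F] V F) : Prop where
  rel : ∀ z w : V F, tr z = 0 → y (zornMul z w) = zornMul (c z) (y w)
  tr0 : ∀ z : V F, tr (c z) = tr z
  oo : c o = o
  iso : ∀ w : V F, nm (y w) = nm w
  isoc : ∀ z : V F, nm (c z) = nm z

theorem Sp.mul {y c y' c' : V F ≃ₗ[F] V F} (h : Sp y c) (h' : Sp y' c') : Sp (y * y') (c * c') where
  rel z w hz := by
    rw [LinearEquiv.mul_apply, LinearEquiv.mul_apply, LinearEquiv.mul_apply, h'.rel z w hz, h.rel _ _ (by rw [h'.tr0, hz])]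
  tr0 z := by rw [LinearEquiv.mul_apply, h.tr0, h'.tr0]
  oo := by rw [LinearEquiv.mul_apply, h'.oo, h.oo]
  iso w := by rw [LinearEquiv.mul_apply, h.iso, h'.iso]
  isoc w := by rw [LinearEquiv.mul_apply, h.isoc, h'.isoc]

/-- spin side -/
def YF (t : F) (w : V F) : V F := ![w 0 + t * w 3, w 1, w 2, w 3, w 4, w 5, w 6 + t * w 7, w 7]

theorem YF0 (t : F) (w : V F) : YF t w 0 = w 0 + t * w 3 := rfl
theorem YF1 (t : F) (w : V F) : YF t w 1 = w 1 := rfl
theorem YF2 (t : F) (w : V F) : YF t w 2 = w 2 := rfl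
theorem YF3 (t : F) (w : V F) : YF t w 3 = w 3 := rfl
theorem YF4 (t : F) (w : V F) : YF t w 4 = w 4 := rfl
theorem YF5 (t : F) (w : V F) : YF t w 5 = w 5 := rfl
theorem YF6 (t : F) (w : V F) : YF t w 6 = w 6 + t * w 7 := rfl
theorem YF7 (t : F) (w : V F) : YF t w 7 = w 7 := rfl

/-- spin side -/
def Y (t : F) : V F ≃ₗ[F] V F where
  toFun := YF t
  map_add' x y := by
    apply ext8 <;> simp only [YF0, YF1, YF2, YF3, YF4, YF5, YF6, YF7, Pi.add_apply] <;> ring
  map_smul' c x := by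
    apply ext8 <;> simp only [YF0, YF1, YF2, YF3, YF4, YF5, YF6, YF7, Pi.smul_apply, smul_eq_mul, RingHom.id_apply] <;>
      ring
  invFun := YF (-t)
  left_inv x := by
    apply ext8 <;> simp only [YF0, YF1, YF2, YF3, YF4, YF5, YF6, YF7] <;> ring
  right_inv x := by
    apply ext8 <;> simp only [YF0, YF1, YF2, YF3, YF4, YF5, YF6, YF7] <;> ring

/-- orthogonal side -/
def CF (t : F) (w : V F) : V F := ![w 0, w 1 + t * w 5, w 2 - t * w 4, w 3, w 4, w 5, w 6, w 7]

theorem CF0 (t : F) (w : V F) : CF t w 0 = w 0 := rfl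
theorem CF1 (t : F) (w : V F) : CF t w 1 = w 1 + t * w 5 := rfl
theorem CF2 (t : F) (w : V F) : CF t w 2 = w 2 - t * w 4 := rfl
theorem CF3 (t : F) (w : V F) : CF t w 3 = w 3 := rfl
theorem CF4 (t : F) (w : V F) : CF t w 4 = w 4 := rfl
theorem CF5 (t : F) (w : V F) : CF t w 5 = w 5 := rfl
theorem CF6 (t : F) (w : V F) : CF t w 6 = w 6 := rfl
theorem CF7 (t : F) (w : V F) : CF t w 7 = w 7 := rfl

/-- orthogonal side -/
def C (t : F) : V F ≃ₗ[F] V F where
  toFun := CF t
  map_add' x y := by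
    apply ext8 <;> simp only [CF0, CF1, CF2, CF3, CF4, CF5, CF6, CF7, Pi.add_apply] <;> ring
  map_smul' c x := by
    apply ext8 <;> simp only [CF0, CF1, CF2, CF3, CF4, CF5, CF6, CF7, Pi.smul_apply, smul_eq_mul, RingHom.id_apply] <;>
      ring
  invFun := CF (-t)
  left_inv x := by
    apply ext8 <;> simp only [CF0, CF1, CF2, CF3, CF4, CF5, CF6, CF7] <;> ring
  right_inv x := by
    apply ext8 <;> simp only [CF0, CF1, CF2, CF3, CF4, CF5, CF6, CF7] <;> ring

theorem C_apply (t : F) (w : V F) : C t w = CF t w := rfl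

theorem YC_rel (t : F) (z w : V F) (hz : tr z = 0) : YF t (zornMul z w) = zornMul (CF t z) (YF t w) := by
  have h7 : z 7 = - z 0 := by
    rw [tr] at hz
    exact eq_neg_of_add_eq_zero_right hz
  apply ext8
  · rw [YF0, mul0, mul3, mul0, YF0, YF4, YF5, YF6, CF0, CF1, CF2, CF3]; ring
  · rw [YF1, mul1, mul1, YF1, YF7, YF6, YF5, CF0, CF1, CF5, CF6]; ring
  · rw [YF2, mul2, mul2, YF2, YF7, YF4, YF6, CF0, CF2, CF6, CF4]; ring
  · rw [YF3, mul3, mul3, YF3, YF7, YF4, YF5, CF0, CF3, CF4, CF5]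
    try ring
  · rw [YF4, mul4, mul4, YF0, YF4, YF3, YF2, CF4, CF7, CF2, CF3, h7]; ring
  · rw [YF5, mul5, mul5, YF0, YF5, YF1, YF3, CF5, CF7, CF3, CF1, h7]; ring
  · rw [YF6, mul6, mul7, mul6, YF0, YF6, YF2, YF1, CF6, CF7, CF1, CF2, h7]; ring
  · rw [YF7, mul7, mul7, YF1, YF2, YF3, YF7, CF4, CF5, CF6, CF7]
    try ring

theorem CF_o (t : F) : CF t o = o := by
  apply ext8
  · rw [CF0]
  · rw [CF1, o1, o5]; ring
  · rw [CF2, o2, o4]; ring
  · rw [CF3]
  · rw [CF4]
  · rw [CF5]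
  · rw [CF6]
  · rw [CF7]

theorem nm_YF (t : F) (w : V F) : nm (YF t w) = nm w := by
  rw [nm, nm]
  simp only [YF0, YF1, YF2, YF3, YF4, YF5, YF6, YF7]
  ring

theorem nm_CF (t : F) (w : V F) : nm (CF t w) = nm w := by
  rw [nm, nm]
  simp only [CF0, CF1, CF2, CF3, CF4, CF5, CF6, CF7]
  ring

theorem tr_CF (t : F) (w : V F) : tr (CF t w) = tr w := by
  rw [tr, tr, CF0, CF7]

theorem sp_YC (t : F) : Sp (Y t) (C t) where
  rel z w hz := YC_rel t z w hz
  tr0 z := tr_CF t z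
  oo := CF_o t
  iso w := nm_YF t w
  isoc w := nm_CF t w

/-! ### the kernel -/

/-- basis vectors -/
def E (i : Fin 8) : V F := Pi.single i 1

end Cfsg.Agent.H870.GE
end

-- part: H870/GE/Mod
section
prune_inst 0x31206544732200000018051670001c728a0004920048080090c103000fcbdc62a5452861be30091358928cd46034006813080010426000000e000c00011c018000819204b148a000220006002080000000000000000000000000000000051000000000000
set_option linter.all false
open scoped Cfsg.Agent.FastGrp

/-!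
# The modules of dimension 7 and 6 for `G₂(F)` (helper870, for S3499)

`Md ι F` : a space `ι → F` identified with the octonions of trace zero modulo the scalars among them.
-/

set_option autoImplicit false
set_option linter.unusedSimpArgs false

namespace Cfsg.Agent.H870.GE

open Cfsg.Lie Cfsg.Agent.H161.Oct
open scoped Matrix

variable {F : Type*} [Field F]

/-- the model of the octonions of trace zero -/
structure Md (ι : Type) (F : Type*) [Field F] where
  inc : (ι → F) →ₗ[F] V F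
  cor : V F →ₗ[F] (ι → F)
  cor_inc : ∀ v, cor (inc v) = v
  tr_inc : ∀ v, tr (inc v) = 0
  inc_cor : ∀ z, tr z = 0 → ∃ a : F, inc (cor z) = z + a • o
  ker : ∀ a : F, tr (a • o : V F) = 0 → cor (a • o) = 0

/-- linear maps fixing the identity and the trace -/
def TO (F : Type*) [Field F] : Subgroup (V F ≃ₗ[F] V F) where
  carrier := {c | c o = o ∧ ∀ z, tr (c z) = tr z}
  mul_mem' {a b} ha hb := ⟨by rw [LinearEquiv.mul_apply, hb.1, ha.1], fun z => by
    rw [LinearEquiv.mul_apply, ha.2, hb.2]⟩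
  one_mem' := ⟨rfl, fun z => rfl⟩
  inv_mem' {a} ha := ⟨by
      have h1 : a⁻¹ (a o) = (o : V F) := a.symm_apply_apply o
      rw [ha.1] at h1
      exact h1, fun z => by
      have h1 : a (a⁻¹ z) = z := a.apply_symm_apply z
      rw [← ha.2 (a⁻¹ z), h1]⟩

theorem AutO_le_TO : AutO F ≤ TO F := fun _ hg => ⟨map_o hg, map_tr hg⟩

theorem Sp.mem_TO {y c : V F ≃ₗ[F] V F} (h : Sp y c) : c ∈ TO F := ⟨h.oo, h.tr0⟩

namespace Md

variable {ι : Type} (M : Md ι F)

theorem cor_add_o {z : V F} (hz : tr z = 0) {a : F} (h : tr (z + a • o) = 0) : M.cor (z + a • o) = M.cor z := by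
  rw [map_add, M.ker a, add_zero]
  rw [tr_add, hz, zero_add] at h
  exact h

/-- the representation -/
noncomputable def rho : ↥(TO F) →* ((ι → F) →ₗ[F] (ι → F)) where
  toFun f := M.cor.comp ((f : V F ≃ₗ[F] V F).toLinearMap.comp M.inc)
  map_one' := LinearMap.ext fun v => M.cor_inc v
  map_mul' f g := by
    refine LinearMap.ext fun v => ?_
    show M.cor (f.1 (g.1 (M.inc v))) = M.cor (f.1 (M.inc (M.cor (g.1 (M.inc v)))))
    have h0 : tr (g.1 (M.inc v)) = 0 := by rw [g.2.2, M.tr_inc]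
    obtain ⟨a, ha⟩ := M.inc_cor _ h0
    have h1 : tr (g.1 (M.inc v) + a • o) = 0 := by rw [← ha, M.tr_inc]
    have h2 : f.1 (g.1 (M.inc v) + a • o) = f.1 (g.1 (M.inc v)) + a • o := by rw [map_add, map_smul, f.2.1]
    have h3 : tr (f.1 (g.1 (M.inc v))) = 0 := by rw [f.2.2, h0]
    rw [ha, h2, M.cor_add_o h3]
    rw [tr_add, h0, zero_add] at h1
    rw [tr_add, h1, h3, zero_add]

theorem rho_apply (f : ↥(TO F)) (v : ι → F) : M.rho f v = M.cor (f.1 (M.inc v)) := rfl

variable [Fintype ι] [DecidableEq ι]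

/-- the representation by matrices -/
noncomputable def rhoG : ↥(TO F) →* GL ι F :=
  (LinearMap.toMatrixAlgEquiv' : ((ι → F) →ₗ[F] (ι → F)) ≃ₐ[F] Matrix ι ι F).toMonoidHom.comp
    M.rho |>.toHomUnits

theorem rhoG_mulVec (f : ↥(TO F)) (v : ι → F) :
    ((M.rhoG f : GL ι F) : Matrix ι ι F) *ᵥ v = M.rho f v := by
  show (LinearMap.toMatrixAlgEquiv' (M.rho f)) *ᵥ v = M.rho f v
  rw [← Matrix.toLin'_apply]
  exact LinearMap.congr_fun (Matrix.toLinAlgEquiv'_toMatrixAlgEquiv' (M.rho f)) v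

/-- the image of the automorphism group of the octonions -/
noncomputable def P0 : Subgroup (GL ι F) := ((AutO F).subgroupOf (TO F)).map M.rhoG

theorem mem_P0 {g : GL ι F} : g ∈ M.P0 ↔ ∃ f, ∃ hf : f ∈ AutO F, M.rhoG ⟨f, AutO_le_TO hf⟩ = g := by
  constructor
  · rintro ⟨⟨f, hf⟩, h, rfl⟩
    exact ⟨f, h, rfl⟩
  · rintro ⟨f, hf, rfl⟩
    exact ⟨⟨f, AutO_le_TO hf⟩, hf, rfl⟩

/-- `C t` in the representation -/
noncomputable def x (t : F) : GL ι F := M.rhoG ⟨C t, (sp_YC t).mem_TO⟩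

end Md

/-! ### the facts -/

end Cfsg.Agent.H870.GE

private theorem dce_a1c259312ffd : _root_.True := by
  try have : _root_.True := by simp only [_root_.Cfsg.Agent.H870.GE.Md.x.eq_1]
  exact _root_.True.intro
end

-- part: SM/SpB/Mat
section
prune_inst 0x10000000000000
set_option linter.all false

/-- decoders of the packed data (elaboration time only) -/
private noncomputable def pk61d (b S i : Nat) : Nat := Nat.mod (Nat.shiftRight S (Nat.mul b i)) (Nat.shiftLeft (nat_lit 1) b)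
private noncomputable def pk61c {α : Type} (t : Nat) (a : α) (f : Nat → α) : α := Nat.rec a (fun k _ => f k) t
private noncomputable def pk61f {α : Type} (t : Nat) (f : Nat → α) : α := Nat.rec (f Nat.zero) (fun k _ => f (Nat.succ k)) t
private noncomputable def pk61l {α : Type} (f : Nat → α) (s e : Nat) (tl : List α) : List α :=
  pk61f e fun e => Nat.rec tl (fun k ih => List.cons (pk61f (Nat.sub e (Nat.succ k)) f) ih) (Nat.sub e s)
private noncomputable def pk61o {α : Type} (O : (n : Nat) → OfNat α n → α) (I : (n : Nat) → OfNat α n) (t : Nat) : α :=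
  pk61c t (O (nat_lit 0) (I (nat_lit 0))) fun k => O (Nat.succ k) (I (Nat.succ k))
private noncomputable def pk61y (O : (n : Nat) → OfNat Int n → Int) (I : (n : Nat) → OfNat Int n) (G : Int → Int) (t : Nat) : Int := pk61f t fun t =>
  pk61c (Nat.mod t (nat_lit 2)) (pk61o O I (Nat.div t (nat_lit 2))) fun _ => G (pk61o O I (Nat.succ (Nat.div t (nat_lit 2))))

/-!
# SM (S3570), the socle `Co1` (helper83): explicit elements of `Co0`

`I`, `J`, `W` generate `SL(2, 3)`, centralized by `R` of order 13; `T2`, `T3`, `B` fix a short vector.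
-/

set_option autoImplicit false

namespace Cfsg.Agent.SM.SpB.Mat

open Cfsg Cfsg.Agent.SporadicStructure.Co0Matrix Cfsg.Agent.CoOneType.CoEval

/-- rows -/
def rI : List (List ℤ) :=
  (by
  refine (?fq9001 : (fun (Oz : (n : Nat) → OfNat Int n → Int) (Iz : (n : Nat) → OfNat Int n) (Gz : Int → Int) => ((pk61l (fun i1 => (pk61l (fun i2 => (pk61y Oz Iz Gz (pk61d (nat_lit 4) 
    (nat_lit 0x4840340040070000300330003830430030070000400440340404004403444333044003773030340030000000300340340403003303343344043003003040348030700000400430430404004303444344033004340303004403433334033004003047330040008000400340003040430030000007307330340404003404344434033004004040440030000000480348003048330040007000400340883030340030000000300340003040347030800000400430004040440030000000470347004030340040000007407440004030330830000080400330430403003403343333034004003030440047000800400330003040440840000080300440430403004404443434043003430304003403334334043003004040330037000800300440)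 i2))) (Nat.mul (nat_lit 24) i1) (Nat.mul (nat_lit 24) (Nat.succ i1)) List.nil)) (nat_lit 0) (nat_lit 24) List.nil) : List (List ℤ)))
    = ?xq9001 → (List (List ℤ))) ?hq9001; (case hq9001 => (set_option maxRecDepth 1000000 in conv => lhs; reduce)); intro _; exact ?xq9001 (@OfNat.ofNat Int) (@instOfNat) (@Neg.neg Int Int.instNegInt) : List (List ℤ))

/-- columns -/
def cI : List (List ℤ) :=
  (by
  refine (?fq9002 : (fun (Oz : (n : Nat) → OfNat Int n → Int) (Iz : (n : Nat) → OfNat Int n) (Gz : Int → Int) => ((pk61l (fun i1 => (pk61l (fun i2 => (pk61y Oz Iz Gz (pk61d (nat_lit 4) 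
    (nat_lit 0x3730430030080000400440004740340040080000300330430303003304333444033004884040430040000000400430430304004404434433034004004030437040800000300340340303003404333433044003430404003304344443044003004038440030007000300430004030340040000008408440430303004303433343044003003030330040000000370437004037440030008000300430774040430040000000400430004030438040700000300340003030330040000000380438003040430030000008308330003040440740000070300440340304004304434444043003004040330038000700300440004030330730000070400330340304003303334343034004340403004304443443034004003030440048000700400330) i2))) (Nat.mul (nat_lit 24) i1) (Nat.mul (nat_lit 24) (Nat.succ i1)) List.nil)) (nat_lit 0) (nat_lit 24) List.nil) : List (List ℤ)))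
    = ?xq9002 → (List (List ℤ))) ?hq9002; (case hq9002 => (set_option maxRecDepth 1000000 in conv => lhs; reduce)); intro _; exact ?xq9002 (@OfNat.ofNat Int) (@instOfNat) (@Neg.neg Int Int.instNegInt) : List (List ℤ))

theorem okI : Ok rI cI := Ok.of_bool (by exact Cfsg.Agent.CoOneType.CoQ.ok2_of (by decide +kernel))

/-- rows -/
def rJ : List (List ℤ) :=
  (by
  refine (?fq9003 : (fun (Oz : (n : Nat) → OfNat Int n → Int) (Iz : (n : Nat) → OfNat Int n) (Gz : Int → Int) => ((pk61l (fun i1 => (pk61l (fun i2 => (pk61y Oz Iz Gz (pk61d (nat_lit 4) 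
    (nat_lit 0x3034333440403044304430004044443430403044404340430400000083040300030084003033443340404034404330430400000073040300030074330400000003030407038003430300080004030400030804430300700003030300840003440400000703030480040004330400008004830300040004347380000003030300030004004044344340303034304330330300000704040380030003003034444440303043403330440300000004040307048004004043343440404043303330330400007004730300040004330308000003048400040004430300070004030400030704004044433340403033403430330307000003047400040004340400700004040400830004437480000004040400040003003034343330403033303340) i2))) (Nat.mul (nat_lit 24) i1) (Nat.mul (nat_lit 24) (Nat.succ i1)) List.nil)) (nat_lit 0) (nat_lit 24) List.nil) : List (List ℤ)))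
    = ?xq9003 → (List (List ℤ))) ?hq9003; (case hq9003 => (set_option maxRecDepth 1000000 in conv => lhs; reduce)); intro _; exact ?xq9003 (@OfNat.ofNat Int) (@instOfNat) (@Neg.neg Int Int.instNegInt) : List (List ℤ))

/-- columns -/
def cJ : List (List ℤ) :=
  (by
  refine (?fq9004 : (fun (Oz : (n : Nat) → OfNat Int n → Int) (Iz : (n : Nat) → OfNat Int n) (Gz : Int → Int) => ((pk61l (fun i1 => (pk61l (fun i2 => (pk61y Oz Iz Gz (pk61d (nat_lit 4) 
    (nat_lit 0x4043444330304033403340003033334340304033303430340300000074030400040073004044334430303043303440340300000084030400040083440300000004040308047004340400070003040300040703340400800004040400730004330300000804040370030003440300007003740400030003438470000004040400040003003033433430404043403440440400000803030470040004004043333330404034304440330400000003030408037003003034434330303034404440440300008003840400030003440407000004037300030003340400080003040300040803003033344430304044304340440408000004038300030003430300800003030300740003348370000003030300030004004043434440304044404430)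 i2))) (Nat.mul (nat_lit 24) i1) (Nat.mul (nat_lit 24) (Nat.succ i1)) List.nil)) (nat_lit 0) (nat_lit 24) List.nil) : List (List ℤ)))
    = ?xq9004 → (List (List ℤ))) ?hq9004; (case hq9004 => (set_option maxRecDepth 1000000 in conv => lhs; reduce)); intro _; exact ?xq9004 (@OfNat.ofNat Int) (@instOfNat) (@Neg.neg Int Int.instNegInt) : List (List ℤ))

theorem okJ : Ok rJ cJ := Ok.of_bool (by exact Cfsg.Agent.CoOneType.CoQ.ok2_of (by decide +kernel))

/-- rows -/
def rW : List (List ℤ) :=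
  (by
  refine (?fq9005 : (fun (Oz : (n : Nat) → OfNat Int n → Int) (Iz : (n : Nat) → OfNat Int n) (Gz : Int → Int) => ((pk61l (fun i1 => (pk61l (fun i2 => (pk61y Oz Iz Gz (pk61d (nat_lit 3) 
    (nat_lit 0xf18) (pk61d (nat_lit 2) 
    (nat_lit 0xc204499124843208469228880e0889a1188857521008421102c845612844023485521884946e10088122010785912848a491d00882120208b691144464a22c08411298a21304421254a110c48111a46220348211010446ad18849892200b811102044a51d84858612008b212945120044d12010849921b445492200482e202048aa2287494a12008422d020445a2144b) i2)))) (Nat.mul (nat_lit 24) i1) (Nat.mul (nat_lit 24) (Nat.succ i1)) List.nil)) (nat_lit 0) (nat_lit 24) List.nil) : List (List ℤ)))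
    = ?xq9005 → (List (List ℤ))) ?hq9005; (case hq9005 => (set_option maxRecDepth 1000000 in conv => lhs; reduce)); intro _; exact ?xq9005 (@OfNat.ofNat Int) (@instOfNat) (@Neg.neg Int Int.instNegInt) : List (List ℤ))

/-- columns -/
def cW : List (List ℤ) :=
  (by
  refine (?fq9006 : (fun (Oz : (n : Nat) → OfNat Int n → Int) (Iz : (n : Nat) → OfNat Int n) (Gz : Int → Int) => ((pk61l (fun i1 => (pk61l (fun i2 => (pk61y Oz Iz Gz (pk61d (nat_lit 3) 
    (nat_lit 0xf18) (pk61d (nat_lit 2) 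
    (nat_lit 0xc108866218483104896114440d0446522444aba12004812201c48a92148801384aa12448689d20044211020b4a6214845862e004412101047962288898511c048221645123088121a85220c842225891103841220208895e2448646110074222010885a2e484a4921004712168a210088e21020486612788a861100841d10108455114b868521004811e01088a512887) i2)))) (Nat.mul (nat_lit 24) i1) (Nat.mul (nat_lit 24) (Nat.succ i1)) List.nil)) (nat_lit 0) (nat_lit 24) List.nil) : List (List ℤ)))
    = ?xq9006 → (List (List ℤ))) ?hq9006; (case hq9006 => (set_option maxRecDepth 1000000 in conv => lhs; reduce)); intro _; exact ?xq9006 (@OfNat.ofNat Int) (@instOfNat) (@Neg.neg Int Int.instNegInt) : List (List ℤ))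

theorem okW : Ok rW cW := Ok.of_bool (by exact Cfsg.Agent.CoOneType.CoQ.ok2_of (by decide +kernel))

/-- rows -/
def rR : List (List ℤ) :=
  (by
  refine (?fq9007 : (fun (Oz : (n : Nat) → OfNat Int n → Int) (Iz : (n : Nat) → OfNat Int n) (Gz : Int → Int) => ((pk61l (fun i1 => (pk61l (fun i2 => (pk61y Oz Iz Gz (pk61d (nat_lit 4) 
    (nat_lit 0x12116122121222122112511a12161122151222625112261256222511212116211221152112111622151522122612216262611125156222122112211262111152121522155112211215111122126222125162216226552211212111261521122112111125121255125612211212111122151225152165211221222261215111211526152115111152651252122112211221252211515616211221122112111622126252652112211215111125121522622115211251252211212161211226125112611622621222125115211221222216512111261221155112116122121222122112a115126111521212256221122162121191221212221221125115215222112126612112511521621111226212226226622112212525662121112112511221) i2))) (Nat.mul (nat_lit 24) i1)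 (Nat.mul (nat_lit 24) (Nat.succ i1)) List.nil)) (nat_lit 0) (nat_lit 24) List.nil) : List (List ℤ)))
    = ?xq9007 → (List (List ℤ))) ?hq9007; (case hq9007 => (set_option maxRecDepth 1000000 in conv => lhs; reduce)); intro _; exact ?xq9007 (@OfNat.ofNat Int) (@instOfNat) (@Neg.neg Int Int.instNegInt) : List (List ℤ))

/-- columns -/
def cR : List (List ℤ) :=
  (by
  refine (?fq9008 : (fun (Oz : (n : Nat) → OfNat Int n → Int) (Iz : (n : Nat) → OfNat Int n) (Gz : Int → Int) => ((pk61l (fun i1 => (pk61l (fun i2 => (pk61y Oz Iz Gz (pk61d (nat_lit 4) 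
    (nat_lit 0x115166121121211512111262226222562215125121222121112161151121211262161512162111151121511512111215612111121121211212619212115611121121261262111215221225212265122121252126221252215212125126222126112111121126511265111262251552212515122121222121112161621151561212111212221525212212625121222621221222215215152621222621226222215512622121252121162111121121266212161262221225262512152126222121251225515212122151222121112611156151211212111262112111621621211212111565221222212562125651222121521222212212122121a25121165111121151211215111512112611621121211515161212a21222212212122121525121) i2))) (Nat.mul (nat_lit 24) i1) (Nat.mul (nat_lit 24) (Nat.succ i1)) List.nil)) (nat_lit 0) (nat_lit 24) List.nil) : List (List ℤ)))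
    = ?xq9008 → (List (List ℤ))) ?hq9008; (case hq9008 => (set_option maxRecDepth 1000000 in conv => lhs; reduce)); intro _; exact ?xq9008 (@OfNat.ofNat Int) (@instOfNat) (@Neg.neg Int Int.instNegInt) : List (List ℤ))

theorem okR : Ok rR cR := Ok.of_bool (by exact Cfsg.Agent.CoOneType.CoQ.ok2_of (by decide +kernel))

/-- rows -/
def rT : List (List ℤ) :=
  (by
  refine (?fq9009 : (fun (Oz : (n : Nat) → OfNat Int n → Int) (Iz : (n : Nat) → OfNat Int n) (Gz : Int → Int) => ((pk61l (fun i1 => (pk61l (fun i2 => (pk61y Oz Iz Gz (pk61d (nat_lit 4) 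
    (nat_lit 0x62211222226121211211121a211251111122156251252121122662222211212612611512216221111122626221522151216221611125151221222621122112255216215612111212122115222216212112666212211221661122121256522121152162222216512115111212122112222211262615116262122612222516212162111262211256616122121221222151125612225211212115161212211221611622621521252121122615252211562112111212261221116622151221522121261221161122121221252651122115222511215115111512261521611122126221225121155115222211212662111212216251161622121221225121211221116122621251225621622112222291212112111215a11221111152121221222126) i2))) (Nat.mul (nat_lit 24) i1) (Nat.mul (nat_lit 24) (Nat.succ i1)) List.nil)) (nat_lit 0) (nat_lit 24) List.nil) : List (List ℤ)))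
    = ?xq9009 → (List (List ℤ))) ?hq9009; (case hq9009 => (set_option maxRecDepth 1000000 in conv => lhs; reduce)); intro _; exact ?xq9009 (@OfNat.ofNat Int) (@instOfNat) (@Neg.neg Int Int.instNegInt) : List (List ℤ))

/-- columns -/
def cT : List (List ℤ) :=
  (by
  refine (?fq9010 : (fun (Oz : (n : Nat) → OfNat Int n → Int) (Iz : (n : Nat) → OfNat Int n) (Gz : Int → Int) => ((pk61l (fun i1 => (pk61l (fun i2 => (pk61y Oz Iz Gz (pk61d (nat_lit 4) 
    (nat_lit 0x62122112111212122121226a212112215221212662651121212662212221512112156121126221121162626221512212156221126115121221215212212112512226215115151121212162262226262112621121212115262221215162126121212115212226512612121621212112212251262615126121621221121112121221212295121256626162121221212212212612215221265112121621151251121612126521212212262615212221212115621121126226121612151221262212151221151162121221262512212112265521512115121121126521651112121521212212151221621112651251212212121221621612121221515512215162212221212165121621121521121665121251212212a12112212221212112121156)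 i2))) (Nat.mul (nat_lit 24) i1) (Nat.mul (nat_lit 24) (Nat.succ i1)) List.nil)) (nat_lit 0) (nat_lit 24) List.nil) : List (List ℤ)))
    = ?xq9010 → (List (List ℤ))) ?hq9010; (case hq9010 => (set_option maxRecDepth 1000000 in conv => lhs; reduce)); intro _; exact ?xq9010 (@OfNat.ofNat Int) (@instOfNat) (@Neg.neg Int Int.instNegInt) : List (List ℤ))

theorem okT : Ok rT cT := Ok.of_bool (by exact Cfsg.Agent.CoOneType.CoQ.ok2_of (by decide +kernel))

/-- rows -/
def rU : List (List ℤ) :=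
  (by
  refine (?fq9011 : (fun (Oz : (n : Nat) → OfNat Int n → Int) (Iz : (n : Nat) → OfNat Int n) (Gz : Int → Int) => ((pk61l (fun i1 => (pk61l (fun i2 => (pk61y Oz Iz Gz (pk61d (nat_lit 4) 
    (nat_lit 0x626212212662222222221226215126121221116116112612651212512112222225221251212121621526161111112612121262292112222222226221262121121226116111162115215621121226111161112162121292262112222222226221212121121221661166112115621512212112255522221221621212212112222252551521212626621221111111612115212121126221111611112665212621126521111116162112262126121521111661112112212121121521616111612162212121626251116161112112265121126221161111612112212121121256111616612112212126121251161111162162121262262112222222229221262621121251611111112612215121621221611611162112621215215115522222221221) i2))) (Nat.mul (nat_lit 24) i1) (Nat.mul (nat_lit 24) (Nat.succ i1)) List.nil)) (nat_lit 0) (nat_lit 24) List.nil) : List (List ℤ)))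
    = ?xq9011 → (List (List ℤ))) ?hq9011; (case hq9011 => (set_option maxRecDepth 1000000 in conv => lhs; reduce)); intro _; exact ?xq9011 (@OfNat.ofNat Int) (@instOfNat) (@Neg.neg Int Int.instNegInt) : List (List ℤ))

/-- columns -/
def cU : List (List ℤ) :=
  (by
  refine (?fq9012 : (fun (Oz : (n : Nat) → OfNat Int n → Int) (Iz : (n : Nat) → OfNat Int n) (Gz : Int → Int) => ((pk61l (fun i1 => (pk61l (fun i2 => (pk61y Oz Iz Gz (pk61d (nat_lit 4) 
    (nat_lit 0x626212212662222222221226215126121221116116112612651212512112222225221251212121621526161111112612121262292112222222226221262121121226116111162115215621121226111161112162121292262112222222226221212121121221661166112115621512212112255522221221621212212112222252551521212626621221111111612115212121126221111611112665212621126521111116162112262126121521111661112112212121121521616111612162212121626251116161112112265121126221161111612112212121121256111616612112212126121251161111162162121262262112222222229221262621121251611111112612215121621221611611162112621215215115522222221221)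 i2))) (Nat.mul (nat_lit 24) i1) (Nat.mul (nat_lit 24) (Nat.succ i1)) List.nil)) (nat_lit 0) (nat_lit 24) List.nil) : List (List ℤ)))
    = ?xq9012 → (List (List ℤ))) ?hq9012; (case hq9012 => (set_option maxRecDepth 1000000 in conv => lhs; reduce)); intro _; exact ?xq9012 (@OfNat.ofNat Int) (@instOfNat) (@Neg.neg Int Int.instNegInt) : List (List ℤ))

theorem okU : Ok rU cU := Ok.of_bool (by exact Cfsg.Agent.CoOneType.CoQ.ok2_of (by decide +kernel))

/-- rows -/
def rB : List (List ℤ) :=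
  (by
  refine (?fq9013 : (fun (Oz : (n : Nat) → OfNat Int n → Int) (Iz : (n : Nat) → OfNat Int n) (Gz : Int → Int) => ((pk61l (fun i1 => (pk61l (fun i2 => (pk61y Oz Iz Gz (pk61d (nat_lit 5) 
    (nat_lit 0x200) (pk61d (nat_lit 1) 
    (nat_lit 0x800000000800400000000400200000000200100000000100080000000080040000000040020000000020010000000010008000000008004000000004002000000002001000000001) i2)))) (Nat.mul (nat_lit 24) i1) (Nat.mul (nat_lit 24) (Nat.succ i1)) List.nil)) (nat_lit 0) (nat_lit 24) List.nil) : List (List ℤ)))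
    = ?xq9013 → (List (List ℤ))) ?hq9013; (case hq9013 => (set_option maxRecDepth 1000000 in conv => lhs; reduce)); intro _; exact ?xq9013 (@OfNat.ofNat Int) (@instOfNat) (@Neg.neg Int Int.instNegInt) : List (List ℤ))

/-- columns -/
def cB : List (List ℤ) :=
  (by
  refine (?fq9014 : (fun (Oz : (n : Nat) → OfNat Int n → Int) (Iz : (n : Nat) → OfNat Int n) (Gz : Int → Int) => ((pk61l (fun i1 => (pk61l (fun i2 => (pk61y Oz Iz Gz (pk61d (nat_lit 5) 
    (nat_lit 0x200) (pk61d (nat_lit 1) 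
    (nat_lit 0x800000200000080000020000008000002000000800000200000080000020000008000002400000100000040000010000004000001000000400000100000040000010000004000001) i2)))) (Nat.mul (nat_lit 24) i1) (Nat.mul (nat_lit 24) (Nat.succ i1)) List.nil)) (nat_lit 0) (nat_lit 24) List.nil) : List (List ℤ)))
    = ?xq9014 → (List (List ℤ))) ?hq9014; (case hq9014 => (set_option maxRecDepth 1000000 in conv => lhs; reduce)); intro _; exact ?xq9014 (@OfNat.ofNat Int) (@instOfNat) (@Neg.neg Int Int.instNegInt) : List (List ℤ))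

theorem okB : Ok rB cB := Ok.of_bool (by exact Cfsg.Agent.CoOneType.CoQ.ok2_of (by decide +kernel))

/-- the matrices -/
def M : ℕ → List (List ℤ)
  | 0 => rI
  | 1 => rJ
  | 2 => rW
  | 3 => rR
  | 4 => rT
  | 5 => rU
  | 6 => rB
  | 7 => cI
  | 8 => cJ
  | 9 => cW
  | 10 => cR
  | 11 => cT
  | 12 => cU
  | _ => cB

/-- the elements -/
def e : ℕ → Co0
  | 0 => mk okI
  | 1 => mk okJ
  | 2 => mk okW
  | 3 => mk okR
  | 4 => mk okT
  | 5 => mk okU
  | 6 => mk okB
  | 7 => (mk okI)⁻¹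
  | 8 => (mk okJ)⁻¹
  | 9 => (mk okW)⁻¹
  | 10 => (mk okR)⁻¹
  | 11 => (mk okT)⁻¹
  | 12 => (mk okU)⁻¹
  | _ => (mk okB)⁻¹

theorem rep : ∀ i, Rep (e i) (M i)
  | 0 => rep_mk okI
  | 1 => rep_mk okJ
  | 2 => rep_mk okW
  | 3 => rep_mk okR
  | 4 => rep_mk okT
  | 5 => rep_mk okU
  | 6 => rep_mk okB
  | 7 => rep_inv okI
  | 8 => rep_inv okJ
  | 9 => rep_inv okW
  | 10 => rep_inv okR
  | 11 => rep_inv okT
  | 12 => rep_inv okU
  | _ + 13 => rep_inv okB

end Cfsg.Agent.SM.SpB.Mat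
end

-- part: SM/CS/Lin
section
prune_inst 0x31206144732202000000001452001c76ca000500000b0800e9e10f420789ec6285400e60aab0050340828004083400681200001000400000040000000119018000009206b048a100020008000000000000000000000000000000000000010000000000000
set_option linter.all false
open scoped Cfsg.Agent.FastGrp

/-!
# SM / CS: a canonical subspace in the perp of a non-singular point (helper62)
-/

set_option autoImplicit false
set_option linter.unusedSectionVars false
set_option maxHeartbeats 400000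

namespace Cfsg.Agent.SM.CS

open Module QuadraticMap
open Cfsg.Agent.LieClassical.OrthCore Cfsg.Agent.LieClassical.OrthTrans Cfsg.Agent.LieClassical.OrthFinite
open Cfsg.Agent.AutOrth.SemiSim (IsSemi)
open Cfsg.Agent.H955 (perp mem_perp)

variable {F V : Type} [Field F] [Fintype F] [AddCommGroup V] [Module F V] [FiniteDimensional F V] {Q : QuadraticForm F V}

/-- an element of order `r` (`q` of order 3 modulo `r`) is trivial on sections of dimension at most two -/
theorem fix_of_ord {r : ℕ} (hr : r.Prime) (h3 : orderOf (Fintype.card F : ZMod r) = 3) {g : V ≃ₗ[F] V} (hg : g ^ r = 1)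
    {Z S : Submodule F V} (hZ : Z ≤ S) (hS : ∀ x ∈ S, g x ∈ S) (hf : ∀ z ∈ Z, g z = z) (hd : finrank F S ≤ finrank F Z + 2) :
    ∀ s ∈ S, g s = s := by
  classical
  have : Finite V := Module.finite_of_finite F
  have : Fact r.Prime := ⟨hr⟩
  have := Fintype.ofFinite S
  let f : Function.End S := fun s => ⟨g s, hS s s.2⟩
  have h1 : ∀ (n : ℕ) (s : S), ((f ^ n) s : V) = (g ^ n) s := fun n => by
    induction n with
    | zero => exact fun s => rfl
    | succ n ih =>
      intro s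
      rw [pow_succ, pow_succ]
      exact ih (f s)
  have h2 : f ^ r ^ 1 = 1 := funext fun s => Subtype.ext (by rw [pow_one, h1, hg]; rfl)
  have h4 := Equiv.Perm.card_fixedPoints_modEq h2
  let C : Submodule F V := S ⊓ LinearMap.eqLocus (g : V →ₗ[F] V) LinearMap.id
  have h5 : Nat.card (Function.fixedPoints f) = Nat.card C :=
    Nat.card_congr ⟨fun x => ⟨x.1.1, x.1.2, congrArg Subtype.val x.2⟩, fun x => ⟨⟨x.1, x.2.1⟩, Subtype.ext x.2.2⟩,
      fun _ => rfl, fun _ => rfl⟩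
  rw [← Nat.card_eq_fintype_card, ← Nat.card_eq_fintype_card, h5, Module.natCard_eq_pow_finrank (K := F),
    Module.natCard_eq_pow_finrank (K := F) (V := C), ← ZMod.natCast_eq_natCast_iff, Nat.card_eq_fintype_card] at h4
  push_cast at h4
  rw [(orderOf_pos_iff.1 (by omega)).pow_eq_pow_iff_modEq, h3] at h4
  have h6 : finrank F Z ≤ finrank F C := Submodule.finrank_mono fun z hz => ⟨hZ hz, hf z hz⟩
  have h7 : finrank F C ≤ finrank F S := Submodule.finrank_mono inf_le_left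
  have h8 : C = S := Submodule.eq_of_le_of_finrank_eq inf_le_left (by unfold Nat.ModEq at h4; omega)
  exact fun s hs => (h8.symm ▸ hs : s ∈ C).2

theorem dvd_dim {Z : Submodule F V} {e : ℕ} {I : Submodule F V → Prop} (hI : ∀ A B, I A → I B → I (A ⊔ B))
    {𝒮 : Set (Submodule F V)} (he : 0 < e)
    (h : ∀ S ∈ 𝒮, I S ∧ finrank F S = finrank F Z + e ∧ ∀ U, I U → Z ≤ U → S ≤ U ∨ S ⊓ U = Z) (n : ℕ) :
    ∀ U, I U → Z ≤ U → U ≤ sSup 𝒮 → finrank F (sSup 𝒮 : Submodule F V) = finrank F U + n → e ∣ n := by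
  induction n using Nat.strong_induction_on with
  | _ n ih =>
    intro U h1 h2 h3 h4
    by_cases hc : ∀ S ∈ 𝒮, S ≤ U
    · have h5 := Submodule.finrank_mono (sSup_le hc)
      rw [show n = 0 by omega]
      exact dvd_zero e
    · push Not at hc
      obtain ⟨S, hS, hn⟩ := hc
      obtain ⟨k1, k2, k3⟩ := h S hS
      have h5 := Submodule.finrank_sup_add_finrank_inf_eq S U
      rw [(k3 U h1 h2).resolve_left hn] at h5
      have h6 : S ⊔ U ≤ sSup 𝒮 := sup_le (le_sSup hS) h3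
      have h7 := Submodule.finrank_mono h6
      have h8 := ih (n - e) (by omega) (S ⊔ U) (hI _ _ k1 h1) (h2.trans le_sup_right) h6 (by omega)
      rw [show n = e + (n - e) by omega]
      exact dvd_add dvd_rfl h8

theorem hyp_perp (hQ : Nondeg Q) {v x : V} (hv : Q v ≠ 0) (hx : Q x = 0) (h0 : x ≠ 0) (hvx : polar Q v x = 0) :
    ∃ y, Hyp Q x y ∧ polar Q v y = 0 := by
  obtain ⟨y, h1, h2⟩ := exists_sep hQ (x := x) (z := v) fun c e => by
    rw [e, QuadraticMap.map_smul, smul_eq_mul, mul_eq_zero, mul_self_eq_zero] at hx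
    exact h0 (by rw [e, hx.resolve_right hv, zero_smul])
  refine ⟨y + (-Q y) • x, ⟨hx, ?_, ?_⟩, ?_⟩
  · rw [Q_add, QuadraticMap.map_smul, hx, polar_smul_right, polar_comm Q y x, h2]
    simp
  · rw [polar_add_right, polar_smul_right, polar_self_of_sing hx, h2]
    simp
  · rw [polar_add_right, polar_smul_right, h1, hvx]
    simp

/-- the stabiliser of a non-singular vector is irreducible on `v ^ ⊥` modulo its radical -/
theorem irr_pt (hQ : Nondeg Q) (hd : 6 ≤ finrank F V) {v : V} (hv : Q v ≠ 0) {S : Submodule F V}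
    (hS : ∀ g ∈ E Q, g v = v → ∀ s ∈ S, g s ∈ S) {s : V} (hs : s ∈ S) (hsv : polar Q v s = 0) (hn : ∀ c : F, s ≠ c • v)
    {w : V} (hw : polar Q v w = 0) : w ∈ S := by
  obtain ⟨x, hx0, hx, hx1⟩ := exists_sing_perp (Q := Q) ![v] (by omega)
  obtain ⟨y, hxy, hy⟩ := hyp_perp hQ hv hx hx0 (hx1 0)
  obtain ⟨u, hu, huv, hus⟩ : ∃ u, Q u = 0 ∧ polar Q v u = 0 ∧ polar Q u s = 1 := by
    by_contra hc
    push Not at hc
    obtain ⟨z, h1, h2⟩ := exists_sep hQ hn
    refine one_ne_zero (h2.symm.trans (sing_induction_perp (z := v) (w := v) hxy (hx1 0) hy (hx1 0) hy (P := fun a => polar Q s a = 0)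
      (fun a c _ _ _ _ h h' => by rw [polar_add_right, h, h', add_zero]) (fun a ha hva _ => ?_) z h1 h1))
    by_contra h
    refine hc ((polar Q s a)⁻¹ • a) (by rw [QuadraticMap.map_smul, ha, smul_zero]) (by rw [polar_smul_right, hva, smul_zero]) ?_
    rw [polar_smul_left, polar_comm Q a s, smul_eq_mul, inv_mul_cancel₀ h]
  have hu0 : u ≠ 0 := by
    rintro rfl
    rw [polar_zero_left] at hus
    exact zero_ne_one hus
  obtain ⟨u', huu, hu'⟩ := hyp_perp hQ hv hu hu0 huv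
  obtain ⟨a, ha0, ha, ha1⟩ := exists_sing_perp (Q := Q) ![v, u, u'] (by omega)
  obtain ⟨c, hac, hc⟩ := hyp_perp hQ hv ha ha0 (ha1 0)
  have key : ∀ x, polar Q u x = 0 → polar Q v x = 0 → x - (polar Q x s + Q x) • u ∈ S := fun x h1 h2 => by
    have h := S.sub_mem (hS _ (siegel_mem_E hu h1) (by
      rw [siegel_apply, polar_comm Q u v, polar_comm Q x v, huv, h2]
      simp) s hs) hs
    rw [siegel_apply, hus] at h
    convert h using 1
    module
  have c1 : polar Q u (proj Q u u' c) = 0 := polar_proj_left huu c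
  have c2 : polar Q v (proj Q u u' c) = 0 := by
    rw [polar_proj_of_perp ((polar_comm _ _ _).trans huv) ((polar_comm _ _ _).trans hu'), hc]
  have c3 : polar Q a (proj Q u u' c) = 1 := by rw [polar_proj_of_perp (x := u) (y := u') (ha1 1) (ha1 2), hac.pair]
  generalize proj Q u u' c = d at c1 c2 c3
  have a1 : polar Q u a = 0 := ha1 1
  have a2 : polar Q v a = 0 := ha1 0
  have huS : u ∈ S := by
    have h := S.sub_mem (S.add_mem (key a a1 a2) (key d c1 c2))
      (key (a + d) (by rw [polar_add_right, a1, c1, add_zero]) (by rw [polar_add_right, a2, c2, add_zero]))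
    rw [polar_add_left, Q_add, c3] at h
    convert h using 1
    module
  have h := S.add_mem (S.add_mem (key (w - polar Q u w • s) (by rw [polar_sub_right, polar_smul_right, hus]; simp)
    (by rw [polar_sub_right, polar_smul_right, hw, hsv]; simp)) (S.smul_mem (polar Q (w - polar Q u w • s) s +
      Q (w - polar Q u w • s)) huS)) (S.smul_mem (polar Q u w) hs)
  convert h using 1
  module

variable {T : V ≃+ V} {σ : F ≃+* F} {μ : F}

/-- the preimage under a semisimilarity -/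
def cm (h : IsSemi Q T σ μ) (U : Submodule F V) : Submodule F V where
  carrier := {x | T x ∈ U}
  add_mem' := fun {a b} ha hb => by
    change T (a + b) ∈ U
    rw [map_add]
    exact U.add_mem ha hb
  zero_mem' := by
    change T 0 ∈ U
    rw [map_zero]
    exact U.zero_mem
  smul_mem' := fun c x hx => by
    change T (c • x) ∈ U
    rw [h.smul]
    exact U.smul_mem _ hx

theorem mem_cm (h : IsSemi Q T σ μ) {U : Submodule F V} {x : V} : x ∈ cm h U ↔ T x ∈ U := Iff.rfl

theorem finrank_cm (h : IsSemi Q T σ μ) (U : Submodule F V) : finrank F (cm h U) = finrank F U := by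
  have h1 : Nat.card (cm h U) = Nat.card U := Nat.card_congr (T.toEquiv.subtypeEquiv fun _ => Iff.rfl)
  rw [Module.natCard_eq_pow_finrank (K := F), Module.natCard_eq_pow_finrank (K := F) (V := U)] at h1
  exact Nat.pow_right_injective Finite.one_lt_card h1

theorem cm_perp (h : IsSemi Q T σ μ) (U : Submodule F V) : cm h (perp Q U) = perp Q (cm h U) := by
  ext x
  refine ⟨fun hx w hw => ?_, fun hx w hw => ?_⟩
  · have h1 := hx (T w) hw
    rwa [h.polar, mul_eq_zero, or_iff_right h.ne, map_eq_zero] at h1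
  · obtain ⟨w, rfl⟩ := T.surjective w
    rw [h.polar, hx w hw, map_zero, mul_zero]

theorem mem_pp {v x : V} : x ∈ perp Q (Submodule.span F {v}) ↔ polar Q v x = 0 := by
  refine ⟨fun h => h v (Submodule.mem_span_singleton_self v), fun h w hw => ?_⟩
  obtain ⟨c, rfl⟩ := Submodule.mem_span_singleton.1 hw
  rw [polar_smul_left, h, smul_zero]

theorem finrank_pp (hQ : Nondeg Q) {v : V} (hv : Q v ≠ 0) : finrank F (perp Q (Submodule.span F {v})) + 1 = finrank F V := by
  rw [← H955.finrank_add_perp hQ (Submodule.span F {v}), finrank_span_singleton (by rintro rfl; exact hv (map_zero Q)), add_comm]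

/-- a semisimilarity which normalises the stabiliser of the point fixes its perp -/
theorem cm_pp (hQ : Nondeg Q) (hd : 6 ≤ finrank F V) {v : V} (hv : Q v ≠ 0) (h : IsSemi Q T σ μ)
    (hn : ∀ g ∈ E Q, g v = v → ∀ x, polar Q v (T x) = 0 → polar Q v (T (g x)) = 0) :
    cm h (perp Q (Submodule.span F {v})) = perp Q (Submodule.span F {v}) := by
  have h1 := finrank_pp hQ hv
  have h2 := finrank_cm h (perp Q (Submodule.span F {v}))
  have h3 := Submodule.finrank_sup_add_finrank_inf_eq (cm h (perp Q (Submodule.span F {v}))) (perp Q (Submodule.span F {v}))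
  have h4 := Submodule.finrank_le (cm h (perp Q (Submodule.span F {v})) ⊔ perp Q (Submodule.span F {v}))
  obtain ⟨s, hs, h0, hQs⟩ := exists_sing_mem (Q := Q) (cm h (perp Q (Submodule.span F {v})) ⊓ perp Q (Submodule.span F {v}))
    (by omega)
  refine (Submodule.eq_of_le_of_finrank_eq (S₁ := perp Q (Submodule.span F {v})) (fun w hw => ?_) h2.symm).symm
  refine irr_pt hQ hd hv (S := cm h (perp Q (Submodule.span F {v})))
    (fun g hg hgv x hx => (mem_cm h).2 (mem_pp.2 (hn g hg hgv x (mem_pp.1 ((mem_cm h).1 hx))))) hs.1 (mem_pp.1 hs.2)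
    (fun c e => ?_) (mem_pp.1 hw)
  rw [e, QuadraticMap.map_smul, smul_eq_mul, mul_eq_zero, mul_self_eq_zero] at hQs
  exact h0 (by rw [e, hQs.resolve_right hv, zero_smul])

/-- **a canonical proper subspace** -/
theorem exists_can (hQ : Nondeg Q) (hd : finrank F V = 16) {v : V} (hv : Q v ≠ 0) {A : Set (V ≃ₗ[F] V)}
    (hA : ∀ a ∈ A, a ∈ O Q ∧ ∃ c : F, a v = c • v) {U : Submodule F V} (h8 : finrank F U = 8) (hU : ∀ a ∈ A, ∀ u ∈ U, a u ∈ U)
    (hvU : v ∉ U) (hUv : ∀ u ∈ U, polar Q v u = 0) {r : ℕ} (hr : r.Prime) (h3 : orderOf (Fintype.card F : ZMod r) = 3)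
    {g : V ≃ₗ[F] V} (hgA : g ∈ A) (hg : g ^ r = 1) (hg1 : g ≠ 1) :
    ∃ S : Submodule F V, (∀ a ∈ A, ∀ x ∈ S, a x ∈ S) ∧ (∃ s ∈ S, polar Q v s = 0 ∧ ∀ c : F, s ≠ c • v) ∧
      (∃ w, polar Q v w = 0 ∧ w ∉ S) ∧ ∀ (T : V ≃+ V) (σ : F ≃+* F) (μ : F) (h : IsSemi Q T σ μ),
        cm h (perp Q (Submodule.span F {v})) = perp Q (Submodule.span F {v}) →
        (∀ a ∈ A, ∃ a' ∈ A, ∀ x, a' (T x) = T (a x)) → cm h S = S := by
  classical
  have hv0 : v ≠ 0 := by
    rintro rfl
    exact hv (map_zero Q)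
  have hW := finrank_pp hQ hv
  have hP : ∀ a ∈ A, ∀ x ∈ Submodule.span F {v}, a x ∈ Submodule.span F {v} := fun a ha x hx => by
    obtain ⟨c, rfl⟩ := Submodule.mem_span_singleton.1 hx
    obtain ⟨-, d, hd⟩ := hA a ha
    rw [map_smul, hd, smul_smul]
    exact Submodule.mem_span_singleton.2 ⟨_, rfl⟩
  have hWI : ∀ a ∈ A, ∀ x ∈ perp Q (Submodule.span F {v}), a x ∈ perp Q (Submodule.span F {v}) := fun a ha x hx => by
    obtain ⟨h1, d, hd⟩ := hA a ha
    have h2 := polar_map h1 v x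
    rw [mem_pp.1 hx, hd, polar_smul_left, smul_eq_zero] at h2
    refine mem_pp.2 (h2.resolve_left ?_)
    rintro rfl
    exact hv0 (a.map_eq_zero_iff.1 (hd.trans (zero_smul _ _)))
  have hpp := H955.perp_perp hQ (Submodule.span F {v})
  have hUW : U ≤ perp Q (Submodule.span F {v}) := fun u hu => mem_pp.2 (hUv u hu)
  have hw : ∀ w ∈ perp Q (Submodule.span F {v}), polar Q v w = 0 := fun w => mem_pp.1
  generalize perp Q (Submodule.span F {v}) = W at hW hWI hpp hUW hw
  let I : Submodule F V → Prop := fun S => ∀ a ∈ A, ∀ x ∈ S, a x ∈ S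
  have hI : ∀ S S', I S → I S' → I (S ⊔ S') := fun S S' h h' a ha x hx => by
    obtain ⟨y, hy, z, hz, rfl⟩ := Submodule.mem_sup.1 hx
    rw [map_add]
    exact Submodule.add_mem_sup (h a ha y hy) (h' a ha z hz)
  have hI' : ∀ S S', I S → I S' → I (S ⊓ S') := fun S S' h h' a ha x hx => ⟨h a ha x hx.1, h' a ha x hx.2⟩
  set Z := W ⊓ Submodule.span F {v} with hZ
  have hZI : I Z := hI' _ _ hWI hP
  have hZ1 : finrank F Z ≤ 1 := (Submodule.finrank_mono inf_le_right).trans (finrank_span_singleton hv0).le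
  have hUZ : finrank F (U ⊔ Z : Submodule F V) = 8 + finrank F Z := by
    have h1 := Submodule.finrank_sup_add_finrank_inf_eq U Z
    have h2 : U ⊓ Z = ⊥ := eq_bot_iff.2 fun x hx => by
      obtain ⟨c, rfl⟩ := Submodule.mem_span_singleton.1 hx.2.2
      by_cases hc : c = 0
      · rw [hc, zero_smul]
        exact Submodule.zero_mem _
      · exact (hvU ((U.smul_mem_iff hc).1 hx.1)).elim
    rw [h2, finrank_bot] at h1
    omega
  have hex : ∃ n, ∃ S, I S ∧ Z < S ∧ S ≤ W ∧ finrank F S = n :=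
    ⟨_, W, hWI, Submodule.lt_of_le_of_finrank_lt_finrank inf_le_left (by omega), le_rfl, rfl⟩
  let 𝒮 : Set (Submodule F V) := {S | I S ∧ Z < S ∧ S ≤ W ∧ finrank F S = Nat.find hex}
  obtain ⟨S₀, hS₀⟩ : ∃ S, S ∈ 𝒮 := Nat.find_spec hex
  have hlt : finrank F Z < Nat.find hex := hS₀.2.2.2 ▸ Submodule.finrank_lt_finrank_of_lt hS₀.2.1
  have hle : sSup 𝒮 ≤ W := sSup_le fun S hS => hS.2.2.1
  refine ⟨sSup 𝒮, fun a ha x hx => ?_, ?_, ?_, fun T σ μ h h1 h2 => ?_⟩
  · exact (sSup_le fun S hS y hy => (le_sSup hS : S ≤ sSup 𝒮) (hS.1 a ha y hy) :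
      sSup 𝒮 ≤ (sSup 𝒮).comap (a : V →ₗ[F] V)) hx
  · obtain ⟨s, hs, hs'⟩ := SetLike.exists_of_lt hS₀.2.1
    exact ⟨s, le_sSup hS₀ hs, hw s (hS₀.2.2.1 hs), fun c e =>
      hs' ⟨hS₀.2.2.1 hs, Submodule.mem_span_singleton.2 ⟨c, e.symm⟩⟩⟩
  · by_contra hc
    push Not at hc
    have hE : sSup 𝒮 = W := le_antisymm hle fun w hw' => hc w (hw w hw')
    have hdv := dvd_dim (Z := Z) (e := Nat.find hex - finrank F Z) (𝒮 := 𝒮) hI (by omega) fun S hS =>
      ⟨hS.1, by rw [hS.2.2.2]; omega, fun U' k1 k2 => by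
        rcases (le_inf hS.2.1.le k2).eq_or_lt with k | k
        · exact Or.inr k.symm
        · refine Or.inl (inf_eq_left.1 (Submodule.eq_of_le_of_finrank_le inf_le_left ?_))
          rw [hS.2.2.2]
          exact Nat.find_min' hex ⟨_, hI' _ _ hS.1 k1, k, inf_le_left.trans hS.2.2.1, rfl⟩⟩
    rw [hE] at hdv
    have k1 := hdv (15 - finrank F Z) Z hZI le_rfl inf_le_left (by omega)
    have k2 := hdv (7 - finrank F Z) (U ⊔ Z) (hI _ _ hU hZI) le_sup_right (sup_le hUW inf_le_left) (by omega)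
    have k3 : Nat.find hex - finrank F Z ≤ 2 := by
      have k4 := Nat.dvd_gcd k1 k2
      refine (Nat.le_of_dvd ?_ k4).trans ?_ <;> interval_cases finrank F Z <;> norm_num
    have f1 := fix_of_ord hr h3 hg bot_le (hP g hgA) (fun z hz => by rw [(Submodule.mem_bot F).1 hz, map_zero])
      (by rw [finrank_span_singleton hv0]; omega)
    have f2 : W ≤ LinearMap.eqLocus (g : V →ₗ[F] V) LinearMap.id := hE ▸ sSup_le fun S hS =>
      fix_of_ord hr h3 hg hS.2.1.le (hS.1 g hgA) (fun z hz => f1 z hz.2) (by rw [hS.2.2.2]; omega)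
    exact hg1 (LinearEquiv.ext fun x => fix_of_ord hr h3 hg (S := ⊤) le_top (fun _ _ => trivial) f2
      (by rw [finrank_top]; omega) x trivial)
  · have h3 : cm h Z = Z := by
      ext x
      have h4 := cm_perp h W
      rw [h1, hpp] at h4
      exact and_congr (SetLike.ext_iff.1 h1 x) (SetLike.ext_iff.1 h4 x)
    have h4 : ∀ S ∈ 𝒮, cm h S ∈ 𝒮 := fun S hS => by
      have h5 : Z ≤ cm h S := fun x hx => hS.2.1.le (h3.symm ▸ hx : x ∈ cm h Z)
      refine ⟨fun a ha x hx => ?_, Submodule.lt_of_le_of_finrank_lt_finrank h5 ?_, fun x hx => h1 ▸ hS.2.2.1 hx,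
        (finrank_cm h S).trans hS.2.2.2⟩
      · obtain ⟨a', ha', e⟩ := h2 a ha
        rw [mem_cm, ← e]
        exact hS.1 a' ha' _ hx
      · rwa [finrank_cm, hS.2.2.2]
    refine Submodule.eq_of_le_of_finrank_eq (fun y hy => ?_) (finrank_cm h _)
    have h5 : sSup 𝒮 ≤ cm h.symm (sSup 𝒮) := sSup_le fun S hS x hx =>
      (le_sSup (h4 S hS) : cm h S ≤ sSup 𝒮) (by rwa [mem_cm, T.apply_symm_apply])
    have h6 := h5 hy
    rwa [mem_cm, T.symm_apply_apply] at h6

end Cfsg.Agent.SM.CS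
end

-- part: SM/CSi/Cnt
section
prune_inst 0x31006504732202000018059641001c328c0004920048080068810a4207496c60a5402861020001135800800000040060020800004000000000000000000401000000820011400100220008000000000000000000000000000000000000010000000000000
set_option linter.all false
open scoped Cfsg.Agent.FastGrp

/-!
# SM (S3570), box CS-Idx: counting vectors of a given norm, orbits on points (helper99)
-/

set_option autoImplicit false
set_option linter.unusedSectionVars false

namespace Cfsg.Agent.SM.CS.Ix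

open Module QuadraticMap Matrix
open Cfsg Cfsg.Geo
open Cfsg.Agent.LieClassical.OrthCore (Nondeg O E Q_add)
open Cfsg.Agent.H955 (IsPlus res perp)
open Cfsg.Agent.H925 (qf nondeg_qf)

universe u v

section abstract

variable {F : Type u} [Field F] [Finite F] {V : Type v} [AddCommGroup V] [Module F V] [FiniteDimensional F V]
  {Q : QuadraticForm F V}

theorem nondeg_smul (hQ : Nondeg Q) {c : F} (hc : c ≠ 0) : Nondeg (c • Q) := by
  intro x hx
  refine hQ x fun y => ?_
  have := hx y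
  rw [FunLike.coe_smul, QuadraticMap.polar_smul, smul_eq_mul] at this
  exact (mul_eq_zero.1 this).resolve_left hc

theorem isPlus_smul {c : F} (hc : c ≠ 0) : IsPlus (c • Q) ↔ IsPlus Q := by
  refine exists_congr fun U => and_congr_left fun _ => forall₂_congr fun u _ => ?_
  rw [_root_.smul_apply, smul_eq_mul, mul_eq_zero, or_iff_right hc]

theorem card_norm_smul {c : F} (hc : c ≠ 0) : Nat.card {v : V // Q v = c} = Nat.card {v : V // (c⁻¹ • Q) v = 1} := by
  refine Nat.card_congr (Equiv.subtypeEquivRight fun v => ?_)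
  rw [_root_.smul_apply, smul_eq_mul, inv_mul_eq_one₀ hc, eq_comm]

/-- plus type, dimension `2 m`: there are `q ^ (2 m - 1) - q ^ (m - 1)` vectors of norm `c ≠ 0` -/
theorem card_norm_plus (hQ : Nondeg Q) {m : ℕ} (hd : finrank F V = 2 * m) (hP : IsPlus Q) {c : F} (hc : c ≠ 0) :
    Nat.card F * Nat.card {v : V // Q v = c} + Nat.card F ^ m = Nat.card F ^ (2 * m) := by
  rw [card_norm_smul hc]
  exact H955.card_eq_one_of_isPlus (nondeg_smul hQ (inv_ne_zero hc)) hd ((isPlus_smul (inv_ne_zero hc)).2 hP)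

/-- minus type, dimension `2 m`: there are `q ^ (2 m - 1) + q ^ (m - 1)` vectors of norm `c ≠ 0` -/
theorem card_norm_minus (hQ : Nondeg Q) {m : ℕ} (hd : finrank F V = 2 * m) (hP : ¬ IsPlus Q) {c : F} (hc : c ≠ 0) :
    Nat.card F * Nat.card {v : V // Q v = c} = Nat.card F ^ (2 * m) + Nat.card F ^ m := by
  rw [card_norm_smul hc]
  exact H955.card_eq_one_of_not_isPlus (nondeg_smul hQ (inv_ne_zero hc)) hd
    fun h => hP ((isPlus_smul (inv_ne_zero hc)).1 h)

theorem card_norm_eq (hQ : Nondeg Q) {m : ℕ} (hd : finrank F V = 2 * m) {c d : F} (hc : c ≠ 0) (hd0 : d ≠ 0) :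
    Nat.card {v : V // Q v = c} = Nat.card {v : V // Q v = d} := by
  have hq : 0 < Nat.card F := Nat.card_pos
  by_cases hP : IsPlus Q
  · have h1 := card_norm_plus hQ hd hP hc
    rw [← card_norm_plus hQ hd hP hd0] at h1
    exact Nat.eq_of_mul_eq_mul_left hq (Nat.add_right_cancel h1)
  · have h1 := card_norm_minus hQ hd hP hc
    rw [← card_norm_minus hQ hd hP hd0] at h1
    exact Nat.eq_of_mul_eq_mul_left hq h1

/-- the singular vectors (with `0`) -/
theorem card_zero_add (hQ : Nondeg Q) {m : ℕ} (hd : finrank F V = 2 * m) :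
    Nat.card {v : V // Q v = 0} + (Nat.card F - 1) * Nat.card {v : V // Q v = 1} = Nat.card F ^ (2 * m) := by
  classical
  have := Fintype.ofFinite F
  have : Finite V := Module.finite_of_finite F
  rw [← hd, ← Module.natCard_eq_pow_finrank, ← Nat.card_congr (Equiv.sigmaFiberEquiv Q), Nat.card_sigma,
    ← Finset.add_sum_erase _ _ (Finset.mem_univ (0 : F)), Finset.sum_congr rfl fun c hc =>
      card_norm_eq hQ hd (Finset.ne_of_mem_erase hc) one_ne_zero, Finset.sum_const, Finset.card_erase_of_mem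
      (Finset.mem_univ _), Finset.card_univ, smul_eq_mul, Nat.card_eq_fintype_card (α := F)]

/-- the perp of a non-singular vector, odd characteristic -/
theorem perp_props (h2 : (2 : F) ≠ 0) (hQ : Nondeg Q) {v : V} (hv : Q v ≠ 0) :
    Nondeg (res Q (perp Q (Submodule.span F {v}))) ∧ finrank F (perp Q (Submodule.span F {v})) + 1 = finrank F V := by
  have hv0 : v ≠ 0 := by
    rintro rfl
    exact hv (map_zero Q)
  refine ⟨H955.nondeg_perp hQ (H955.nondeg_span_singleton h2 hv), ?_⟩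
  rw [← H955.finrank_add_perp hQ (Submodule.span F {v}), finrank_span_singleton hv0, add_comm]

theorem card_norm_odd_aux (h2 : (2 : F) ≠ 0) (hQ : Nondeg Q) {k : ℕ} (hd : finrank F V = 2 * k + 1) {v : V}
    (hv : Q v ≠ 0) : Nat.card {w : V // Q w = Q v} +
      Nat.card F * Nat.card {u : perp Q (Submodule.span F {v}) // res Q _ u = 1} = 2 * Nat.card F ^ (2 * k) := by
  classical
  have := Fintype.ofFinite F
  have : Finite V := Module.finite_of_finite F
  obtain ⟨hW, hWd⟩ := perp_props h2 hQ hv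
  have hWd' : finrank F (perp Q (Submodule.span F {v})) = 2 * k := by omega
  have hv0 : v ≠ 0 := by
    rintro rfl
    exact hv (map_zero Q)
  let W := perp Q (Submodule.span F {v})
  let e : (F × W) ≃ V := (((LinearEquiv.toSpanNonzeroSingleton F V v hv0).prodCongr (LinearEquiv.refl F W)).trans
    (H955.decomp (H955.nondeg_span_singleton h2 hv))).toEquiv
  have he : ∀ x : F × W, Q (e x) = x.1 * x.1 * Q v + res Q W x.2 := by
    intro x
    change Q (H955.decomp (H955.nondeg_span_singleton h2 hv) _) = _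
    rw [H955.Q_decomp]
    change Q (x.1 • v) + Q (x.2 : V) = _
    rw [QuadraticMap.map_smul, smul_eq_mul]
    rfl
  have h1 : Nat.card {w : V // Q w = Q v} = ∑ a : F, Nat.card {u : W // res Q W u = (1 - a * a) * Q v} := by
    rw [← Nat.card_sigma, ← Nat.card_congr (Equiv.subtypeProdEquivSigmaSubtype
      (fun (a : F) (u : W) => res Q W u = (1 - a * a) * Q v))]
    refine (Nat.card_congr (e.subtypeEquiv fun x => ?_)).symm
    rw [he]
    constructor
    · intro h
      rw [h]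
      ring
    · intro h
      linear_combination h
  have h3 : ∀ a : F, Nat.card {u : W // res Q W u = (1 - a * a) * Q v} =
      if a ∈ ({1, -1} : Finset F) then Nat.card {u : W // res Q W u = 0} else Nat.card {u : W // res Q W u = 1} := by
    intro a
    split_ifs with h
    · have : 1 - a * a = 0 := by
        rcases Finset.mem_insert.1 h with rfl | h
        · ring
        · rw [Finset.mem_singleton.1 h]
          ring
      rw [this, zero_mul]
    · refine card_norm_eq hW hWd' (mul_ne_zero (fun h0 => h ?_) hv) one_ne_zero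
      have := mul_self_eq_one_iff.1 (sub_eq_zero.1 h0).symm
      simpa using this
  have hne : (1 : F) ≠ -1 := fun h => h2 (by linear_combination h)
  have h4 : (Finset.univ.filter fun a : F => a ∈ ({1, -1} : Finset F)).card = 2 := by
    rw [Finset.filter_mem_eq_inter, Finset.univ_inter, Finset.card_pair hne]
  have h5 := Finset.card_filter_add_card_filter_not (s := Finset.univ) (fun a : F => a ∈ ({1, -1} : Finset F))
  rw [h4, Finset.card_univ, ← Nat.card_eq_fintype_card] at h5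
  rw [h1, Finset.sum_congr rfl fun a _ => h3 a, Finset.sum_ite, Finset.sum_const, Finset.sum_const, h4, smul_eq_mul,
    smul_eq_mul, ← card_zero_add hW hWd', ← h5]
  rw [show ∀ x : ℕ, 2 + x - 1 = x + 1 from fun x => by omega]
  ring

/-- odd dimension `2 k + 1`, `v ^ ⊥` of plus type: `q ^ (2 k) + q ^ k` vectors have the norm of `v` -/
theorem card_norm_odd_plus (h2 : (2 : F) ≠ 0) (hQ : Nondeg Q) {k : ℕ} (hd : finrank F V = 2 * k + 1) {v : V}
    (hv : Q v ≠ 0) (hP : IsPlus (res Q (perp Q (Submodule.span F {v})))) :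
    Nat.card {w : V // Q w = Q v} = Nat.card F ^ (2 * k) + Nat.card F ^ k := by
  obtain ⟨hW, hWd⟩ := perp_props h2 hQ hv
  have h1 := card_norm_odd_aux h2 hQ hd hv
  have h3 := card_norm_plus hW (m := k) (by omega) hP one_ne_zero
  omega

/-- odd dimension `2 k + 1`, `v ^ ⊥` of minus type: `q ^ (2 k) - q ^ k` vectors have the norm of `v` -/
theorem card_norm_odd_minus (h2 : (2 : F) ≠ 0) (hQ : Nondeg Q) {k : ℕ} (hd : finrank F V = 2 * k + 1) {v : V}
    (hv : Q v ≠ 0) (hP : ¬ IsPlus (res Q (perp Q (Submodule.span F {v})))) :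
    Nat.card {w : V // Q w = Q v} + Nat.card F ^ k = Nat.card F ^ (2 * k) := by
  obtain ⟨hW, hWd⟩ := perp_props h2 hQ hv
  have h1 := card_norm_odd_aux h2 hQ hd hv
  have h3 := card_norm_minus hW (m := k) (by omega) hP one_ne_zero
  omega

theorem card_norm_le_odd (h2 : (2 : F) ≠ 0) (hQ : Nondeg Q) {k : ℕ} (hd : finrank F V = 2 * k + 1) {c : F} (hc : c ≠ 0) :
    Nat.card {w : V // Q w = c} ≤ Nat.card F ^ k * (Nat.card F ^ k + 1) := by
  by_cases h : ∃ v, Q v = c
  · obtain ⟨v, rfl⟩ := h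
    have e : Nat.card F ^ k * (Nat.card F ^ k + 1) = Nat.card F ^ (2 * k) + Nat.card F ^ k := by ring
    by_cases hP : IsPlus (res Q (perp Q (Submodule.span F {v})))
    · rw [card_norm_odd_plus h2 hQ hd hc hP, e]
    · have := card_norm_odd_minus h2 hQ hd hc hP
      omega
  · have : IsEmpty {w : V // Q w = c} := ⟨fun w => h ⟨w.1, w.2⟩⟩
    rw [Nat.card_of_isEmpty]
    exact Nat.zero_le _

theorem card_norm_plus' (hQ : Nondeg Q) {k : ℕ} (hd : finrank F V = 2 * (k + 1)) (hP : IsPlus Q) {c : F} (hc : c ≠ 0) :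
    Nat.card {w : V // Q w = c} = Nat.card F ^ k * (Nat.card F ^ (k + 1) - 1) := by
  have h1 := card_norm_plus hQ hd hP hc
  have hq : 0 < Nat.card F := Nat.card_pos
  refine Nat.eq_of_mul_eq_mul_left hq ?_
  obtain ⟨y, hy⟩ : ∃ y, Nat.card F ^ (k + 1) = y + 1 := ⟨Nat.card F ^ (k + 1) - 1, by
    have := Nat.pow_pos (n := k + 1) hq
    omega⟩
  rw [← mul_assoc, ← pow_succ', hy, Nat.add_sub_cancel]
  rw [two_mul, pow_add _ (k + 1), hy] at h1
  nlinarith

theorem card_norm_minus' (hQ : Nondeg Q) {k : ℕ} (hd : finrank F V = 2 * (k + 1)) (hP : ¬ IsPlus Q) {c : F}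
    (hc : c ≠ 0) : Nat.card {w : V // Q w = c} = Nat.card F ^ k * (Nat.card F ^ (k + 1) + 1) := by
  have hq : 0 < Nat.card F := Nat.card_pos
  refine Nat.eq_of_mul_eq_mul_left hq ?_
  rw [card_norm_minus hQ hd hP hc]
  ring

theorem card_norm_le_even (hQ : Nondeg Q) {k : ℕ} (hd : finrank F V = 2 * (k + 1)) {c : F} (hc : c ≠ 0) :
    Nat.card {w : V // Q w = c} ≤ Nat.card F ^ k * (Nat.card F ^ (k + 1) + 1) := by
  by_cases hP : IsPlus Q
  · rw [card_norm_plus' hQ hd hP hc]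
    exact Nat.mul_le_mul_left _ (by omega)
  · exact (card_norm_minus' hQ hd hP hc).le

end abstract

section orbit

variable {ι : Type} [Fintype ι] [DecidableEq ι] {K : Type} [Field K]

theorem relIndex_stabilizer {Γ α : Type*} [Group Γ] [MulAction Γ α] (G : Subgroup Γ) (a : α) :
    (MulAction.stabilizer Γ a).relIndex G = {b | ∃ g ∈ G, g • a = b}.ncard := by
  have h1 : (MulAction.stabilizer Γ a).subgroupOf G = MulAction.stabilizer G a := by
    ext g
    rfl
  rw [Subgroup.relIndex, h1, MulAction.index_stabilizer]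
  congr 1
  ext b
  exact ⟨fun ⟨g, hg⟩ => ⟨g, g.2, hg⟩, fun ⟨g, hg, h⟩ => ⟨⟨g, hg⟩, h⟩⟩

theorem mem_stab_iff {W : Submodule K (ι → K)} {g : GL ι K} :
    g ∈ subspaceStabilizer W ↔ ∀ w ∈ W, (g : Matrix ι ι K) *ᵥ w ∈ W := by
  refine ⟨fun h w hw => (h w).1 hw, fun h w => ⟨h w, fun hw => ?_⟩⟩
  let e := LieClassical.OrthFinite.glEquiv ι K g
  have h1 : W.map (e : (ι → K) →ₗ[K] (ι → K)) = W := by
    apply Submodule.eq_of_le_of_finrank_eq
    · rintro _ ⟨w, hw, rfl⟩
      exact h w hw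
    · exact LinearEquiv.finrank_map_eq e W
  have h2 : e w ∈ W.map (e : (ι → K) →ₗ[K] (ι → K)) := by
    rw [h1]
    exact hw
  obtain ⟨w', hw', he⟩ := h2
  rwa [← e.injective he]

theorem mem_stab_point {v : ι → K} {g : GL ι K} :
    g ∈ subspaceStabilizer (Submodule.span K {v}) ↔ ∃ c : K, (g : Matrix ι ι K) *ᵥ v = c • v := by
  rw [mem_stab_iff]
  constructor
  · intro h
    obtain ⟨c, hc⟩ := Submodule.mem_span_singleton.1 (h v (Submodule.mem_span_singleton_self v))
    exact ⟨c, hc.symm⟩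
  · rintro ⟨c, hc⟩ w hw
    obtain ⟨a, rfl⟩ := Submodule.mem_span_singleton.1 hw
    rw [mulVec_smul, hc, smul_smul]
    exact Submodule.mem_span_singleton.2 ⟨_, rfl⟩

/-- the orbit of a vector -/
def orb (G : Subgroup (GL ι K)) (v : ι → K) : Set (ι → K) := {w | ∃ g ∈ G, (g : Matrix ι ι K) *ᵥ v = w}

/-- orbit of the vector = orbit of the point times the number of multiples of `v` in the orbit -/
theorem ncard_orb (G : Subgroup (GL ι K)) {v : ι → K} (hv : v ≠ 0) : (orb G v).ncard =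
    (subspaceStabilizer (Submodule.span K {v})).relIndex G * {c : K | c • v ∈ orb G v}.ncard := by
  let X := subspaceStabilizer (Submodule.span K {v})
  let S := MulAction.stabilizer (GL ι K) v
  have h1 : S.relIndex G = (orb G v).ncard := relIndex_stabilizer G v
  have h2 : S.relIndex (X ⊓ G) = (orb (X ⊓ G) v).ncard := relIndex_stabilizer (X ⊓ G) v
  have hS : S ≤ X := fun g hg => mem_stab_point.2 ⟨1, by rw [one_smul]; exact hg⟩
  have h3 : orb (X ⊓ G) v = (fun c : K => c • v) '' {c : K | c • v ∈ orb G v} := by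
    ext w
    constructor
    · rintro ⟨g, hg, rfl⟩
      obtain ⟨c, hc⟩ := mem_stab_point.1 hg.1
      exact ⟨c, ⟨g, hg.2, hc⟩, hc.symm⟩
    · rintro ⟨c, ⟨g, hg, hc⟩, rfl⟩
      exact ⟨g, ⟨mem_stab_point.2 ⟨c, hc⟩, hg⟩, hc⟩
  rw [h3, Set.ncard_image_of_injective _ (smul_left_injective K hv)] at h2
  rw [← h1, ← h2, ← Subgroup.inf_relIndex_right X G, mul_comm, ← Subgroup.inf_relIndex_right S G,
    ← Subgroup.relIndex_mul_relIndex (S ⊓ G) (X ⊓ G) G (inf_le_inf_right G hS) inf_le_right,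
    ← Subgroup.inf_relIndex_right S (X ⊓ G), ← inf_assoc, inf_eq_left.2 hS]

variable [Fintype K] {Q : (ι → K) → K}

theorem nondeg_res (hQ : IsNondegenerateQuadraticForm Q) {U : Submodule K (ι → K)}
    (hU : IsNondegenerateOn (polar Q) U) : Nondeg (res (qf hQ) U) := by
  rw [H955.nondeg_res_iff]
  intro x hx hxy
  by_contra h
  obtain ⟨y, hy, hne⟩ := (hU x hx h).2
  exact hne (hxy y hy)

theorem ndOn_of_nondeg (hQ : IsNondegenerateQuadraticForm Q) {U : Submodule K (ι → K)}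
    (hU : Nondeg (res (qf hQ) U)) : IsNondegenerateOn (polar Q) U := by
  rw [H955.nondeg_res_iff] at hU
  intro w hw h0
  have : ∃ x ∈ U, polar Q w x ≠ 0 := by
    by_contra h
    push Not at h
    exact h0 (hU w hw h)
  obtain ⟨x, hx, hne⟩ := this
  exact ⟨⟨x, hx, by rwa [polar_comm]⟩, x, hx, hne⟩

theorem isPlus_res_iff (hQ : IsNondegenerateQuadraticForm Q) {U : Submodule K (ι → K)} :
    IsPlus (res (qf hQ) U) ↔ IsPlusTypeOn Q U := by
  constructor
  · rintro ⟨A, hA, hd⟩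
    refine ⟨A.map U.subtype, Submodule.map_subtype_le U A, ?_, ?_⟩
    · rintro _ ⟨a, ha, rfl⟩
      exact hA a ha
    · rw [H955.finrank_map_of_injective U.subtype U.injective_subtype, hd]
  · rintro ⟨A, hAU, hA, hd⟩
    refine ⟨A.comap U.subtype, fun a ha => hA _ ha, ?_⟩
    rw [(Submodule.comapSubtypeEquivOfLe hAU).finrank_eq, hd]

theorem isPlus_iff (hQ : IsNondegenerateQuadraticForm Q) : IsPlus (qf hQ) ↔ IsPlusTypeOn Q ⊤ := by
  rw [← isPlus_res_iff hQ]
  exact (H955.isPlus_iff_of_equiv Submodule.topEquiv fun _ => rfl).symm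

theorem ncard_res (hQ : IsNondegenerateQuadraticForm Q) (U : Submodule K (ι → K)) (c : K) :
    {w | w ∈ U ∧ Q w = c}.ncard = Nat.card {u : U // res (qf hQ) U u = c} := by
  rw [← Nat.card_coe_set_eq]
  exact (Nat.card_congr (Equiv.subtypeSubtypeEquivSubtypeInter (· ∈ U) fun w => Q w = c)).symm

theorem two_ne_zero_of_odd (h : Odd (Fintype.card K)) : (2 : K) ≠ 0 := by
  intro h2
  have : CharP K 2 := CharTwo.of_one_ne_zero_of_two_eq_zero one_ne_zero h2
  obtain ⟨n, -, hn⟩ := FiniteField.card K 2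
  rw [hn] at h
  exact (Nat.not_even_iff_odd.2 h) ((Nat.even_pow.2 ⟨even_two, n.ne_zero⟩))

/-- vectors of norm `c` in a non-degenerate subspace of dimension `2 k + 1` -/
theorem ncard_le_odd (hQ : IsNondegenerateQuadraticForm Q) (hq : Odd (Fintype.card K)) {U : Submodule K (ι → K)}
    (hU : IsNondegenerateOn (polar Q) U) {k : ℕ} (hd : finrank K U = 2 * k + 1) {c : K} (hc : c ≠ 0) :
    {w | w ∈ U ∧ Q w = c}.ncard ≤ Fintype.card K ^ k * (Fintype.card K ^ k + 1) := by
  rw [ncard_res hQ, ← Nat.card_eq_fintype_card]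
  exact card_norm_le_odd (two_ne_zero_of_odd hq) (nondeg_res hQ hU) hd hc

/-- vectors of norm `c` in a non-degenerate subspace of dimension `2 (k + 1)` -/
theorem ncard_le_even (hQ : IsNondegenerateQuadraticForm Q) {U : Submodule K (ι → K)}
    (hU : IsNondegenerateOn (polar Q) U) {k : ℕ} (hd : finrank K U = 2 * (k + 1)) {c : K} (hc : c ≠ 0) :
    {w | w ∈ U ∧ Q w = c}.ncard ≤ Fintype.card K ^ k * (Fintype.card K ^ (k + 1) + 1) := by
  rw [ncard_res hQ, ← Nat.card_eq_fintype_card]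
  exact card_norm_le_even (nondeg_res hQ hU) hd hc

/-- a non-degenerate subspace of dimension at least two takes all values (odd `q`) -/
theorem exists_norm (hQ : IsNondegenerateQuadraticForm Q) (hq : Odd (Fintype.card K)) {U : Submodule K (ι → K)}
    (hU : IsNondegenerateOn (polar Q) U) (hd : 2 ≤ finrank K U) (c : K) : ∃ v ∈ U, Q v = c := by
  obtain ⟨v, hv⟩ := H955.exists_value (two_ne_zero_of_odd hq) (nondeg_res hQ hU) hd c
  exact ⟨v, v.2, hv⟩

/-- **the orbit of the point `⟨v⟩` under a group of isometries which keeps `U`** -/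
theorem two_mul_relIndex_le (hQ : IsNondegenerateQuadraticForm Q) (hq : Odd (Fintype.card K)) {D : Subgroup (GL ι K)}
    (hD : D ≤ isometryGroup K Q) {U : Submodule K (ι → K)} (hU : ∀ g ∈ D, ∀ u ∈ U, (g : Matrix ι ι K) *ᵥ u ∈ U)
    {v : ι → K} (hvU : v ∈ U) (hv : v ≠ 0) :
    2 * (subspaceStabilizer (Submodule.span K {v})).relIndex D ≤ {w | w ∈ U ∧ Q w = Q v}.ncard := by
  let H := isometryGroup K Q ⊓ subspaceStabilizer U
  have hDH : D ≤ H := fun g hg => ⟨hD hg, mem_stab_iff.2 (hU g hg)⟩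
  have h1 : (subspaceStabilizer (Submodule.span K {v})).relIndex D ≤
      (subspaceStabilizer (Submodule.span K {v})).relIndex H :=
    Subgroup.relIndex_le_of_le_right hDH Subgroup.FiniteIndex.index_ne_zero
  have h2 : orb H v ⊆ {w | w ∈ U ∧ Q w = Q v} := by
    rintro _ ⟨g, hg, rfl⟩
    exact ⟨mem_stab_iff.1 hg.2 v hvU, H925.mem_iso_iff.1 hg.1 v⟩
  have hne : (1 : K) ≠ -1 := fun h => two_ne_zero_of_odd hq (by linear_combination h)
  have hm : ∀ w : ι → K, ((-1 : GL ι K) : Matrix ι ι K) *ᵥ w = (-1 : K) • w := fun w => by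
    rw [Units.val_neg, Units.val_one, neg_mulVec, one_mulVec, neg_one_smul]
  have h3 : ({1, -1} : Set K) ⊆ {c : K | c • v ∈ orb H v} := by
    rintro c (rfl | rfl)
    · exact ⟨1, H.one_mem, by rw [Units.val_one, one_mulVec, one_smul]⟩
    · refine ⟨-1, ⟨H925.mem_iso_iff.2 fun w => ?_, mem_stab_iff.2 fun w hw => ?_⟩, hm v⟩
      · rw [hm, hQ.smul, neg_one_sq, one_mul]
      · rw [hm]
        exact U.smul_mem _ hw
  have h4 := Set.ncard_le_ncard h3
  rw [Set.ncard_pair hne] at h4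
  calc 2 * _ ≤ {c : K | c • v ∈ orb H v}.ncard * (subspaceStabilizer (Submodule.span K {v})).relIndex H :=
        Nat.mul_le_mul h4 h1
    _ = (orb H v).ncard := by rw [ncard_orb H hv, mul_comm]
    _ ≤ _ := Set.ncard_le_ncard h2

/-- any characteristic -/
theorem relIndex_le {D : Subgroup (GL ι K)} (hD : D ≤ isometryGroup K Q) {U : Submodule K (ι → K)}
    (hU : ∀ g ∈ D, ∀ u ∈ U, (g : Matrix ι ι K) *ᵥ u ∈ U) {v : ι → K} (hvU : v ∈ U) (hv : v ≠ 0) :
    (subspaceStabilizer (Submodule.span K {v})).relIndex D ≤ {w | w ∈ U ∧ Q w = Q v}.ncard := by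
  have h2 : orb D v ⊆ {w | w ∈ U ∧ Q w = Q v} := by
    rintro _ ⟨g, hg, rfl⟩
    exact ⟨hU g hg v hvU, H925.mem_iso_iff.1 (hD hg) v⟩
  have h3 : 0 < {c : K | c • v ∈ orb D v}.ncard :=
    (Set.ncard_pos).2 ⟨1, 1, D.one_mem, by rw [Units.val_one, one_mulVec, one_smul]⟩
  calc _ ≤ (orb D v).ncard := by
        rw [ncard_orb D hv]
        exact Nat.le_mul_of_pos_right _ h3
    _ ≤ _ := Set.ncard_le_ncard h2

/-- `Ω(Q)` is transitive on the vectors of a given non-zero norm -/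
theorem orb_omega (hQ : IsNondegenerateQuadraticForm Q) (hn : 5 ≤ Fintype.card ι) {v : ι → K} (hv : Q v ≠ 0) :
    orb (omegaGL Q) v = {w | Q w = Q v} := by
  have h0 : ∀ w, Q w ≠ 0 → w ≠ 0 := by
    rintro w hw rfl
    exact hw (map_zero (qf hQ))
  ext w
  constructor
  · rintro ⟨g, hg, rfl⟩
    exact H925.mem_iso_iff.1 (H925.omegaGL_le_iso Q hg) v
  · intro hw
    have hw' : Q w = Q v := hw
    exact H925.exists_trans hQ hn (h0 v hv) (h0 w (by rwa [hw'])) hw'.symm

/-- the pole of a non-degenerate hyperplane -/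
theorem exists_pole (hQ : IsNondegenerateQuadraticForm Q) {W : Submodule K (ι → K)}
    (hd : finrank K W + 1 = Fintype.card ι) (hn : IsNondegenerateOn (polar Q) W) :
    ∃ v, Q v ≠ 0 ∧ ∀ w, w ∈ W ↔ polar Q v w = 0 := by
  have h1 := H955.finrank_add_perp (nondeg_qf hQ) W
  rw [Module.finrank_fintype_fun_eq_card] at h1
  have h2 : finrank K (perp (qf hQ) W) = 1 := by omega
  obtain ⟨v, hv⟩ := H955.exists_nonsingular (H955.nondeg_perp (nondeg_qf hQ) (nondeg_res hQ hn)) (by omega)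
  have hv0 : (v : ι → K) ≠ 0 := fun h => hv (by
    change qf hQ (v : ι → K) = 0
    rw [h, map_zero])
  have h3 : Submodule.span K {(v : ι → K)} = perp (qf hQ) W := by
    apply Submodule.eq_of_le_of_finrank_eq
    · rw [Submodule.span_singleton_le_iff_mem]
      exact v.2
    · rw [finrank_span_singleton hv0, h2]
  refine ⟨v, hv, fun w => ?_⟩
  have h4 : W = perp (qf hQ) (Submodule.span K {(v : ι → K)}) := by rw [h3, H955.perp_perp (nondeg_qf hQ)]
  refine (SetLike.ext_iff.1 h4 w).trans ?_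
  rw [H955.mem_perp]
  constructor
  · intro h
    exact h _ (Submodule.mem_span_singleton_self _)
  · intro h u hu
    obtain ⟨a, rfl⟩ := Submodule.mem_span_singleton.1 hu
    rw [polar_smul_left]
    change a • polar Q (v : ι → K) w = 0
    rw [h, smul_zero]

theorem polar_iso {g : GL ι K} (hg : g ∈ isometryGroup K Q) (u w : ι → K) :
    polar Q ((g : Matrix ι ι K) *ᵥ u) ((g : Matrix ι ι K) *ᵥ w) = polar Q u w := by
  simp only [polar, ← mulVec_add, H925.mem_iso_iff.1 hg]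

/-- an isometry keeps the hyperplane `v ^ ⊥` iff it keeps the point `⟨v⟩` -/
theorem stab_pole (hQ : IsNondegenerateQuadraticForm Q) {W : Submodule K (ι → K)} {v : ι → K}
    (hW : ∀ w, w ∈ W ↔ polar Q v w = 0) {g : GL ι K} (hg : g ∈ isometryGroup K Q) :
    g ∈ subspaceStabilizer W ↔ g ∈ subspaceStabilizer (Submodule.span K {v}) := by
  have hW' : W = perp (qf hQ) (Submodule.span K {v}) := by
    ext w
    rw [hW, H955.mem_perp]
    constructor
    · intro h u hu
      obtain ⟨a, rfl⟩ := Submodule.mem_span_singleton.1 hu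
      rw [polar_smul_left]
      change a • polar Q v w = 0
      rw [h, smul_zero]
    · intro h
      exact h _ (Submodule.mem_span_singleton_self _)
  have key : ∀ A : Submodule K (ι → K), g ∈ subspaceStabilizer A → g ∈ subspaceStabilizer (perp (qf hQ) A) := by
    intro A hA
    refine mem_stab_iff.2 fun x hx a ha => ?_
    have h1 := mem_stab_iff.1 ((subspaceStabilizer A).inv_mem hA) a ha
    have h2 := polar_iso hg (((g⁻¹ : GL ι K) : Matrix ι ι K) *ᵥ a) x
    rw [mulVec_mulVec, ← Units.val_mul, mul_inv_cancel, Units.val_one, one_mulVec] at h2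
    exact h2.trans (hx _ h1)
  constructor
  · intro h
    have := key W h
    rwa [hW', H955.perp_perp (nondeg_qf hQ)] at this
  · intro h
    rw [hW']
    exact key _ h

theorem relIndex_pole (hQ : IsNondegenerateQuadraticForm Q) {W : Submodule K (ι → K)} {v : ι → K}
    (hW : ∀ w, w ∈ W ↔ polar Q v w = 0) {D : Subgroup (GL ι K)} (hD : D ≤ isometryGroup K Q) :
    (subspaceStabilizer W).relIndex D = (subspaceStabilizer (Submodule.span K {v})).relIndex D := by
  rw [← Subgroup.inf_relIndex_right, ← Subgroup.inf_relIndex_right (subspaceStabilizer (Submodule.span K {v}))]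
  congr 1
  ext g
  exact and_congr_left fun hg => stab_pole hQ hW (hD hg)

end orbit

end Cfsg.Agent.SM.CS.Ix
end

-- part: SM/CSf/Eig
section
prune_inst 0x30006104730002000000058251001c328e00049000080000e80102400689ac2085002860b220010358008004003c0048130800000000000000000000011d01800000820011400100220008000000000000000000000000000000000000000000000000000
set_option linter.all false
open scoped Cfsg.Agent.FastGrp

/-!
# SM (S3570), box CS-F: eigenspaces of an involution, orbit counts (helper61)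
-/

set_option autoImplicit false
set_option linter.unusedSectionVars false

namespace Cfsg.Agent.SM.CS.Ff

open Module QuadraticMap Matrix Subgroup
open Cfsg Cfsg.Geo Cfsg.Agent.SM.CS.Ix
open Cfsg.Agent.H925 (qf nondeg_qf)

section group

variable {Γ : Type*} [Group Γ]

/-- the index of a centraliser is the number of conjugates -/
theorem relIndex_cent (H : Subgroup Γ) (z : Γ) :
    (centralizer {z}).relIndex H = {b | ∃ g ∈ H, g * z * g⁻¹ = b}.ncard := by
  let _ : MulAction Γ Γ := MulAction.compHom Γ (MulAut.conj : Γ →* MulAut Γ)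
  have h1 := relIndex_stabilizer H z
  have h2 : MulAction.stabilizer Γ z = centralizer {z} := by
    ext g
    rw [MulAction.mem_stabilizer_iff, mem_centralizer_singleton_iff]
    change g * z * g⁻¹ = z ↔ _
    rw [mul_inv_eq_iff_eq_mul]
  rw [h2] at h1
  exact h1

theorem relIndex_swap (A C Y : Subgroup Γ) : A.relIndex (C ⊓ Y) * C.relIndex Y = C.relIndex (A ⊓ Y) * A.relIndex Y := by
  rw [relIndex_inf_mul_relIndex, relIndex_inf_mul_relIndex, inf_comm]

/-- a union of orbits -/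
theorem dvd_ncard {α : Type*} [Finite α] [MulAction Γ α] (D : Subgroup Γ) (T : Set α) (m : ℕ)
    (hT : ∀ g ∈ D, ∀ a ∈ T, g • a ∈ T) (hm : ∀ a ∈ T, m ∣ (MulAction.stabilizer Γ a).relIndex D) : m ∣ T.ncard := by
  induction hn : T.ncard using Nat.strong_induction_on generalizing T with
  | _ n ih =>
    rcases T.eq_empty_or_nonempty with rfl | ⟨a, ha⟩
    · rw [← hn, Set.ncard_empty]
      exact dvd_zero _
    · let O : Set α := {b | ∃ g ∈ D, g • a = b}
      have hO : O ⊆ T := by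
        rintro _ ⟨g, hg, rfl⟩
        exact hT g hg a ha
      have h1 : (T \ O).ncard + O.ncard = T.ncard := Set.ncard_sdiff_add_ncard_of_subset hO
      have h2 : 0 < O.ncard := (Set.ncard_pos).2 ⟨a, 1, D.one_mem, one_smul _ _⟩
      have h3 : m ∣ O.ncard := by
        rw [← relIndex_stabilizer D a]
        exact hm a ha
      rw [← hn, ← h1]
      refine dvd_add (ih _ (by omega) (T \ O) (fun g hg b hb => ⟨hT g hg b hb.1, ?_⟩) (fun b hb => hm b hb.1) rfl) h3
      rintro ⟨h, hh, hb'⟩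
      exact hb.2 ⟨g⁻¹ * h, D.mul_mem (D.inv_mem hg) hh, by rw [mul_smul, hb', inv_smul_smul]⟩

/-- a prime which divides the order of a normal subgroup and not the index of `A` -/
theorem dvd_card_inf [Finite Γ] (N A : Subgroup Γ) [N.Normal] {r : ℕ} (hr : r.Prime) (h1 : r ∣ Nat.card N)
    (h2 : ¬ r ∣ A.index) : r ∣ Nat.card ↥(N ⊓ A) := by
  obtain ⟨t, ht⟩ := relIndex_dvd_index_of_normal N A
  have h3 : Nat.card ↥(N ⊓ A) * N.relIndex A = Nat.card A := by
    rw [relIndex, ← (N.subgroupOf A).card_mul_index, ← inf_subgroupOf_right,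
      Nat.card_congr (subgroupOfEquivOfLe (inf_le_right : N ⊓ A ≤ A)).toEquiv]
  have h4 : Nat.card N * t * N.relIndex A = Nat.card ↥(N ⊓ A) * A.index * N.relIndex A := by
    rw [mul_assoc, mul_comm t, ← ht, N.card_mul_index, mul_right_comm, h3, A.card_mul_index]
  have h5 := Nat.eq_of_mul_eq_mul_right (Nat.pos_of_ne_zero FiniteIndex.index_ne_zero) h4
  have h6 : r ∣ Nat.card ↥(N ⊓ A) * A.index := h5 ▸ h1.mul_right t
  exact (hr.dvd_mul.1 h6).resolve_right h2

/-- a cyclic group has at most one involution -/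
theorem inv_unique [Finite Γ] {C : Subgroup Γ} (hC : IsCyclic C) {x y : Γ} (hx : x ∈ C) (hy : y ∈ C) (hx2 : x * x = 1)
    (hy2 : y * y = 1) (hx1 : x ≠ 1) (hy1 : y ≠ 1) : x = y := by
  classical
  have : Fintype C := Fintype.ofFinite _
  have h3 := IsCyclic.card_pow_eq_one_le (α := C) (n := 2) (by norm_num)
  by_contra hne
  have h4 : ({1, ⟨x, hx⟩, ⟨y, hy⟩} : Finset C) ⊆ Finset.univ.filter fun a : C => a ^ 2 = 1 := by
    intro a ha
    rw [Finset.mem_filter]
    refine ⟨Finset.mem_univ _, ?_⟩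
    simp only [Finset.mem_insert, Finset.mem_singleton] at ha
    rcases ha with rfl | rfl | rfl
    · exact one_pow _
    · exact Subtype.ext (by rw [pow_two]; exact hx2)
    · exact Subtype.ext (by rw [pow_two]; exact hy2)
  have h5 := Finset.card_le_card h4
  rw [Finset.card_eq_three.2 ⟨_, _, _, fun h => hx1 (congrArg Subtype.val h).symm,
    fun h => hy1 (congrArg Subtype.val h).symm, fun h => hne (congrArg Subtype.val h), rfl⟩] at h5
  omega

end group

section arith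

theorem even_dim {q k a : ℕ} (hq : 3 ≤ q) (hk : k + 1 ≤ 12) (h : q ^ 4 * (q ^ 4 - 1) ∣ q ^ k * a)
    (ha : a + 1 = q ^ (k + 1) ∨ a = q ^ (k + 1) + 1) : k = 7 ∨ k = 11 := by
  obtain ⟨y, hy⟩ : ∃ y, q ^ 4 = y + 1 := ⟨q ^ 4 - 1, by
    have := Nat.one_le_pow 4 q (by omega)
    omega⟩
  have hc : Nat.Coprime y q := by
    have h1 : Nat.Coprime y (q ^ 4) := by
      rw [hy]
      simp
    exact h1.coprime_dvd_right (dvd_pow_self q (by norm_num))
  have h1 : y ∣ a := by
    refine (hc.pow_right k).dvd_of_dvd_mul_left (dvd_trans ?_ h)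
    rw [hy, Nat.add_sub_cancel]
    exact dvd_mul_left _ _
  have hca : Nat.Coprime q a := by
    refine Nat.Coprime.coprime_dvd_left (dvd_pow_self q (Nat.succ_ne_zero k)) ?_
    rcases ha with ha | ha
    · rw [← ha]
      simp
    · rw [ha]
      simp
  have h2 : 4 ≤ k := by
    have h3 : q ^ 4 ∣ q ^ k := (hca.pow_left 4).dvd_of_dvd_mul_right ((dvd_mul_right _ _).trans h)
    exact (Nat.pow_dvd_pow_iff_le_right (by omega)).1 h3
  have h3 : q ^ (k + 1) ≡ q ^ ((k + 1) % 4) [MOD y] := by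
    have h4 : q ^ 4 ≡ 1 [MOD y] := by
      rw [hy]
      exact Nat.add_modEq_left
    conv_lhs => rw [← Nat.div_add_mod (k + 1) 4, pow_add, pow_mul]
    have h5 := (h4.pow ((k + 1) / 4)).mul_right (q ^ ((k + 1) % 4))
    rwa [one_pow, one_mul] at h5
  have h5 : q ^ ((k + 1) % 4) ≤ q ^ 3 := Nat.pow_le_pow_right (by omega) (by omega)
  have h6 : 3 * q ^ 3 ≤ q ^ 4 := by
    rw [show q ^ 4 = q * q ^ 3 by ring]
    exact Nat.mul_le_mul_right _ hq
  have h7 : 2 ≤ q ^ 3 := le_trans (by omega) (Nat.le_self_pow (by norm_num) q)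
  have h8 : a ≡ 0 [MOD y] := (Nat.modEq_zero_iff_dvd).2 h1
  have h9 : 1 ≤ q ^ ((k + 1) % 4) := Nat.one_le_pow _ _ (by omega)
  rcases ha with ha | ha
  · rw [← ha] at h3
    have h10 : 1 = q ^ ((k + 1) % 4) :=
      Nat.ModEq.eq_of_lt_of_lt (((h8.add_right 1).symm).trans h3) (by omega) (by omega)
    have h11 : (k + 1) % 4 = 0 := by
      rcases Nat.pow_eq_one.1 h10.symm with h | h
      · omega
      · exact h
    omega
  · have h10 : 0 = q ^ ((k + 1) % 4) + 1 := by
      refine Nat.ModEq.eq_of_lt_of_lt (h8.symm.trans ?_) (by omega) (by omega)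
      rw [ha]
      exact h3.add_right 1
    omega

end arith

variable {ι : Type} [Fintype ι] [DecidableEq ι] {K : Type} [Field K]

/-- the eigenspace -/
def eig (z : GL ι K) (c : K) : Submodule K (ι → K) where
  carrier := {w | (z : Matrix ι ι K) *ᵥ w = c • w}
  add_mem' := fun {a b} ha hb => by
    change _ *ᵥ _ = _ at ha hb ⊢
    rw [mulVec_add, ha, hb, smul_add]
  zero_mem' := by
    change _ *ᵥ _ = _
    rw [mulVec_zero, smul_zero]
  smul_mem' := fun a w hw => by
    change _ *ᵥ _ = _ at hw ⊢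
    rw [mulVec_smul, hw, smul_comm]

theorem mem_eig {z : GL ι K} {c : K} {w : ι → K} : w ∈ eig z c ↔ (z : Matrix ι ι K) *ᵥ w = c • w := Iff.rfl

theorem mul_act (g h : GL ι K) (w : ι → K) :
    ((g * h : GL ι K) : Matrix ι ι K) *ᵥ w = (g : Matrix ι ι K) *ᵥ ((h : Matrix ι ι K) *ᵥ w) := by
  rw [Units.val_mul, mulVec_mulVec]

theorem one_act (w : ι → K) : ((1 : GL ι K) : Matrix ι ι K) *ᵥ w = w := by rw [Units.val_one, one_mulVec]

theorem eig_comm {z g : GL ι K} (h : g * z = z * g) {c : K} {w : ι → K} (hw : w ∈ eig z c) :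
    (g : Matrix ι ι K) *ᵥ w ∈ eig z c := by
  rw [mem_eig, ← mul_act, ← h, mul_act, mem_eig.1 hw, mulVec_smul]

theorem add_mem_eig {z : GL ι K} (hz : z * z = 1) {c : K} (hc : c * c = 1) (x : ι → K) :
    x + c • (z : Matrix ι ι K) *ᵥ x ∈ eig z c := by
  rw [mem_eig, mulVec_add, mulVec_smul, ← mul_act, hz, one_act, smul_add, smul_smul, hc, one_smul, add_comm]

theorem eig_compl (h2 : (2 : K) ≠ 0) {z : GL ι K} (hz : z * z = 1) : IsCompl (eig z 1) (eig z (-1)) := by
  constructor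
  · rw [Submodule.disjoint_def]
    intro w h1 h3
    rw [mem_eig] at h1 h3
    have h4 : (2 : K) • w = 0 := by
      rw [h1, one_smul, neg_one_smul, eq_neg_iff_add_eq_zero] at h3
      rw [two_smul, h3]
    exact (smul_eq_zero.1 h4).resolve_left h2
  · rw [codisjoint_iff, eq_top_iff]
    intro w _
    have h1 := Submodule.add_mem_sup (add_mem_eig hz (one_mul 1) ((2 : K)⁻¹ • w))
      (add_mem_eig hz (c := -1) (by ring) ((2 : K)⁻¹ • w))
    rwa [one_smul, neg_one_smul, add_add_add_comm, add_neg_cancel, add_zero, ← two_smul K, smul_smul,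
      mul_inv_cancel₀ h2, one_smul] at h1

theorem finrank_eig (h2 : (2 : K) ≠ 0) {z : GL ι K} (hz : z * z = 1) :
    finrank K (eig z 1) + finrank K (eig z (-1)) = Fintype.card ι := by
  rw [Submodule.finrank_add_eq_of_isCompl (eig_compl h2 hz), Module.finrank_fintype_fun_eq_card]

theorem det_eq (h2 : (2 : K) ≠ 0) {z : GL ι K} (hz : z * z = 1) :
    (z : Matrix ι ι K).det = (-1) ^ finrank K (eig z (-1)) := by
  let e := Submodule.prodEquivOfIsCompl _ _ (eig_compl h2 hz)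
  have he : Matrix.toLin' (z : Matrix ι ι K) = (e : (eig z 1 × eig z (-1)) →ₗ[K] (ι → K)) ∘ₗ
      ((LinearMap.id : eig z 1 →ₗ[K] eig z 1).prodMap ((-1 : K) • (LinearMap.id : eig z (-1) →ₗ[K] eig z (-1)))) ∘ₗ
      (e.symm : (ι → K) →ₗ[K] (eig z 1 × eig z (-1))) := by
    refine LinearMap.ext fun v => ?_
    obtain ⟨p, rfl⟩ := e.surjective v
    have h3 : ∀ x : eig z 1 × eig z (-1), e x = (x.1 : ι → K) + (x.2 : ι → K) := fun _ => rfl
    simp only [LinearMap.comp_apply, LinearEquiv.coe_coe, LinearEquiv.symm_apply_apply, LinearMap.prodMap_apply]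
    rw [h3, h3, Matrix.toLin'_apply, mulVec_add, mem_eig.1 p.1.2, mem_eig.1 p.2.2]
    simp
  rw [← LinearMap.det_toLin', he, LinearMap.det_conj, LinearMap.det_prodMap, LinearMap.det_id, one_mul,
    LinearMap.det_smul, LinearMap.det_id, mul_one]

theorem even_eig (h2 : (2 : K) ≠ 0) {z : GL ι K} (hz : z * z = 1) (hd : (z : Matrix ι ι K).det = 1) :
    Even (finrank K (eig z (-1))) := by
  by_contra h
  rw [det_eq h2 hz, (Nat.not_even_iff_odd.1 h).neg_one_pow] at hd
  exact h2 (by linear_combination -hd)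

theorem finrank_conj_le (g z : GL ι K) (c : K) : finrank K (eig z c) ≤ finrank K (eig (g * z * g⁻¹) c) := by
  let e := LieClassical.OrthFinite.glEquiv ι K g
  rw [← LinearEquiv.finrank_map_eq e (eig z c)]
  refine Submodule.finrank_mono ?_
  rintro _ ⟨w, hw, rfl⟩
  change _ *ᵥ ((g : Matrix ι ι K) *ᵥ w) = c • ((g : Matrix ι ι K) *ᵥ w)
  rw [← mul_act, inv_mul_cancel_right, mul_act, mem_eig.1 hw, mulVec_smul]

theorem finrank_conj {z z' : GL ι K} (h : IsConj z' z) (c : K) : finrank K (eig z' c) = finrank K (eig z c) := by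
  obtain ⟨g, rfl⟩ := isConj_iff.1 h
  refine le_antisymm (finrank_conj_le g z' c) ?_
  have := finrank_conj_le g⁻¹ (g * z' * g⁻¹) c
  rwa [show g⁻¹ * (g * z' * g⁻¹) * g⁻¹⁻¹ = z' by group] at this

theorem inf_le_eig (z w : GL ι K) : eig z (-1) ⊓ eig w (-1) ≤ eig (z * w) 1 := by
  rintro x ⟨h1, h2⟩
  rw [mem_eig, mul_act, mem_eig.1 h2, mulVec_smul, mem_eig.1 h1, smul_smul]
  simp

theorem eq_one_of_eig (h2 : (2 : K) ≠ 0) {z : GL ι K} (hz : z * z = 1) (h : finrank K (eig z (-1)) = 0) : z = 1 := by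
  have h1 := finrank_eig h2 hz
  rw [h, add_zero, ← Module.finrank_fintype_fun_eq_card K] at h1
  have h3 := Submodule.eq_top_of_finrank_eq h1
  apply Units.ext
  apply Matrix.toLin'.injective
  refine LinearMap.ext fun v => ?_
  have h4 : v ∈ eig z 1 := h3 ▸ Submodule.mem_top
  rw [Matrix.toLin'_apply, Matrix.toLin'_apply, mem_eig.1 h4, one_smul, one_act]

variable [Fintype K] {Q : (ι → K) → K}

theorem eig_nd (hQ : IsNondegenerateQuadraticForm Q) (h2 : (2 : K) ≠ 0) {z : GL ι K} (hz : z * z = 1)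
    (hi : z ∈ isometryGroup K Q) {c : K} (hc : c * c = 1) : IsNondegenerateOn (polar Q) (eig z c) := by
  intro w hw h0
  have : ∃ x ∈ eig z c, polar Q w x ≠ 0 := by
    obtain ⟨x, hx⟩ : ∃ x, polar (qf hQ) w x ≠ 0 := by
      by_contra h
      push Not at h
      exact h0 (nondeg_qf hQ w h)
    refine ⟨_, add_mem_eig hz hc x, ?_⟩
    have h3 : polar (qf hQ) ((z : Matrix ι ι K) *ᵥ w) ((z : Matrix ι ι K) *ᵥ x) = polar (qf hQ) w x := polar_iso hi w x
    rw [mem_eig.1 hw, polar_smul_left] at h3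
    change polar (qf hQ) w _ ≠ 0
    rw [polar_add_right, polar_smul_right, h3, ← two_mul]
    exact mul_ne_zero h2 hx
  obtain ⟨x, hx, hne⟩ := this
  exact ⟨⟨x, hx, by rwa [polar_comm]⟩, x, hx, hne⟩

/-- the exact count in even dimension -/
theorem ncard_even (hQ : IsNondegenerateQuadraticForm Q) {U : Submodule K (ι → K)}
    (hU : IsNondegenerateOn (polar Q) U) {k : ℕ} (hd : finrank K U = 2 * (k + 1)) {c : K} (hc : c ≠ 0) :
    ∃ a, {w | w ∈ U ∧ Q w = c}.ncard = Fintype.card K ^ k * a ∧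
      (a + 1 = Fintype.card K ^ (k + 1) ∨ a = Fintype.card K ^ (k + 1) + 1) := by
  rw [ncard_res hQ, ← Nat.card_eq_fintype_card]
  by_cases hP : H955.IsPlus (H955.res (qf hQ) U)
  · refine ⟨_, card_norm_plus' (nondeg_res hQ hU) hd hP hc, Or.inl ?_⟩
    exact Nat.sub_add_cancel (Nat.one_le_pow _ _ Nat.card_pos)
  · exact ⟨_, card_norm_minus' (nondeg_res hQ hU) hd hP hc, Or.inr rfl⟩

/-- `Y` with `-1` -/
def pm (Y : Subgroup (GL ι K)) : Subgroup (GL ι K) where
  carrier := {g | g ∈ Y ∨ -g ∈ Y}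
  one_mem' := Or.inl Y.one_mem
  mul_mem' := by
    rintro a b (ha | ha) (hb | hb)
    · exact Or.inl (Y.mul_mem ha hb)
    · exact Or.inr (by rw [← mul_neg]; exact Y.mul_mem ha hb)
    · exact Or.inr (by rw [← neg_mul]; exact Y.mul_mem ha hb)
    · exact Or.inl (by rw [← neg_mul_neg]; exact Y.mul_mem ha hb)
  inv_mem' := by
    rintro a (ha | ha)
    · exact Or.inl (Y.inv_mem ha)
    · exact Or.inr (by rw [← inv_neg]; exact Y.inv_mem ha)

theorem neg_act (g : GL ι K) (w : ι → K) : ((-g : GL ι K) : Matrix ι ι K) *ᵥ w = -((g : Matrix ι ι K) *ᵥ w) := by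
  rw [Units.val_neg, neg_mulVec]

theorem pm_le (hQ : IsNondegenerateQuadraticForm Q) {Y : Subgroup (GL ι K)} (hY : Y ≤ isometryGroup K Q) :
    pm Y ≤ isometryGroup K Q := by
  rintro g (hg | hg)
  · exact hY hg
  · refine H925.mem_iso_iff.2 fun w => ?_
    have h1 := H925.mem_iso_iff.1 (hY hg) w
    rwa [neg_act, ← neg_one_smul K, hQ.smul, neg_one_sq, one_mul] at h1

/-- an isometry which keeps a non-singular point -/
theorem pm_of_point (hQ : IsNondegenerateQuadraticForm Q) {g : GL ι K} (hg : g ∈ isometryGroup K Q) {v : ι → K}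
    (hv : Q v ≠ 0) (h : g ∈ subspaceStabilizer (Submodule.span K {v})) :
    (g : Matrix ι ι K) *ᵥ v = v ∨ ((-g : GL ι K) : Matrix ι ι K) *ᵥ v = v := by
  obtain ⟨c, hc⟩ := mem_stab_point.1 h
  have h1 := H925.mem_iso_iff.1 hg v
  rw [hc, hQ.smul, pow_two] at h1
  rcases mul_self_eq_one_iff.1 (mul_right_cancel₀ hv (h1.trans (one_mul _).symm)) with rfl | rfl
  · exact Or.inl (by rw [hc, one_smul])
  · exact Or.inr (by rw [neg_act, hc, neg_one_smul, neg_neg])

end Cfsg.Agent.SM.CS.Ff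
end

-- part: SM/CSi/Uni
section
prune_inst 0x10000000000000
set_option linter.all false
open scoped Cfsg.Agent.FastGrp

/-!
# SM (S3570), box CS-Idx: the non-isotropic points of a unitary space (helper99)
-/

set_option autoImplicit false
set_option linter.unusedSectionVars false

namespace Cfsg.Agent.SM.CS.Ix

open Module Matrix
open Cfsg Cfsg.Geo
open Cfsg.Agent.LieClassical.HermBasic
open Cfsg.Agent.H930 (UForm.sub_left UForm.smul_right UForm.add_right UForm.zero_left)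

variable {ι : Type} [Fintype ι] [DecidableEq ι] {K : Type} [Field K] [Fintype K] {q : ℕ}
  {f : (ι → K) → (ι → K) → K}

theorem u_sub_right (hK : Fintype.card K = q ^ 2) (hf : IsUnitaryFormPow q f) (u v w : ι → K) :
    f u (v - w) = f u v - f u w := by
  rw [hf.herm, UForm.sub_left hf, sub_pow_q hK, ← hf.herm, ← hf.herm]

/-- the functional `x ↦ f x d` -/
def uFun (hf : IsUnitaryFormPow q f) (d : ι → K) : (ι → K) →ₗ[K] K where
  toFun x := f x d
  map_add' x y := hf.add_left x y d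
  map_smul' c x := hf.smul_left c x d

/-- quasi-reflections and transvections -/
theorem exists_qrefl (hK : Fintype.card K = q ^ 2) (hf : IsUnitaryFormPow q f) (d : ι → K) {β : K} (hβ : β ≠ 0)
    (h : f d d = β + β ^ q) : ∃ g ∈ preserving (Units.coeHom (Matrix ι ι K)) f,
      (∀ x, (g : Matrix ι ι K) *ᵥ x = x - (β⁻¹ * f x d) • d) ∧ (g : Matrix ι ι K).det = 1 - β⁻¹ * f d d := by
  obtain ⟨φ, hφ⟩ := (dotProductEquiv K ι).surjective (uFun hf d)
  have hφ' : ∀ x, φ ⬝ᵥ x = f x d := fun x => LinearMap.congr_fun hφ x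
  have hβq : β ^ q ≠ 0 := pow_ne_zero _ hβ
  have hdet : (1 + vecMulVec (-β⁻¹ • d) φ).det = 1 - β⁻¹ * f d d := by
    rw [vecMulVec_eq Unit, det_one_add_replicateCol_mul_replicateRow, dotProduct_smul, hφ', smul_eq_mul]
    ring
  have hne : (1 + vecMulVec (-β⁻¹ • d) φ).det ≠ 0 := by
    rw [hdet, h, mul_add, inv_mul_cancel₀ hβ, sub_add_cancel_left, neg_ne_zero]
    exact mul_ne_zero (inv_ne_zero hβ) hβq
  have hap : ∀ x, (1 + vecMulVec (-β⁻¹ • d) φ) *ᵥ x = x - (β⁻¹ * f x d) • d := by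
    intro x
    rw [add_mulVec, one_mulVec, vecMulVec_mulVec, op_smul_eq_smul, hφ', smul_smul, mul_neg, neg_smul, sub_eq_add_neg,
      mul_comm]
  refine ⟨Matrix.GeneralLinearGroup.mkOfDetNeZero _ hne, fun x y => ?_, hap, hdet⟩
  change f ((1 + vecMulVec (-β⁻¹ • d) φ) *ᵥ x) ((1 + vecMulVec (-β⁻¹ • d) φ) *ᵥ y) = f x y
  rw [hap, hap, UForm.sub_left hf, u_sub_right hK hf, u_sub_right hK hf, hf.smul_left, hf.smul_left,
    UForm.smul_right hf, UForm.smul_right hf, h, hf.herm d y, mul_pow, inv_pow]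
  field_simp
  ring

theorem u_step (hK : Fintype.card K = q ^ 2) (hf : IsUnitaryFormPow q f) {v w : ι → K} (h : f w w = f v v)
    (hne : f v w ≠ f v v) : ∃ g ∈ preserving (Units.coeHom (Matrix ι ι K)) f, (g : Matrix ι ι K) *ᵥ v = w ∧
      (g : Matrix ι ι K).det * (g : Matrix ι ι K).det ^ q = 1 := by
  have hβ : f v (v - w) ≠ 0 := by
    rw [u_sub_right hK hf]
    exact sub_ne_zero.2 hne.symm
  have h1 : f (v - w) (v - w) = f v (v - w) + f v (v - w) ^ q := by
    rw [← hf.herm, UForm.sub_left hf, UForm.sub_left hf, u_sub_right hK hf w, h]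
    ring
  obtain ⟨g, hg, hap, hdet⟩ := exists_qrefl hK hf (v - w) hβ h1
  refine ⟨g, hg, by rw [hap, inv_mul_cancel₀ hβ, one_smul, sub_sub_cancel], ?_⟩
  have h2 : (g : Matrix ι ι K).det = -((f v (v - w))⁻¹ * f v (v - w) ^ q) := by
    rw [hdet, h1, mul_add, inv_mul_cancel₀ hβ, sub_add_cancel_left]
  have hβq : f v (v - w) ^ q ≠ 0 := pow_ne_zero _ hβ
  rw [h2, neg_pow_q hK, mul_pow, inv_pow, pow_q_pow_q hK]
  field_simp

theorem exists_norm_one_ne (hK : Fintype.card K = q ^ 2) : ∃ l : K, l * l ^ q = 1 ∧ l ≠ 1 := by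
  by_contra h
  push Not at h
  have h1 := card_norm_eq_one hK
  have h2 := two_le hK
  have : Subsingleton {x : K // x * x ^ q = 1} := ⟨fun a b => Subtype.ext ((h a a.2).trans (h b b.2).symm)⟩
  have := Finite.card_le_one_iff_subsingleton.2 this
  omega

/-- `GU(f)` is transitive on the vectors of a given non-zero norm -/
theorem u_trans (hK : Fintype.card K = q ^ 2) (hf : IsUnitaryFormPow q f) {v w : ι → K} (hv : f v v ≠ 0)
    (h : f w w = f v v) : ∃ g ∈ preserving (Units.coeHom (Matrix ι ι K)) f, (g : Matrix ι ι K) *ᵥ v = w ∧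
      (g : Matrix ι ι K).det * (g : Matrix ι ι K).det ^ q = 1 := by
  by_cases hne : f v w = f v v
  · obtain ⟨l, hl, hl1⟩ := exists_norm_one_ne hK
    have h1 : f (l • w) (l • w) = f v v := by
      rw [hf.smul_left, UForm.smul_right hf, ← mul_assoc, hl, one_mul, h]
    obtain ⟨g, hg, hgv, hd⟩ := u_step hK hf h1 (by
      rw [UForm.smul_right hf, hne]
      intro h2
      apply hl1
      rw [← pow_q_inj hK, one_pow]
      exact mul_right_cancel₀ hv (h2.trans (one_mul _).symm))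
    obtain ⟨g', hg', hgv', hd'⟩ := u_step hK hf (v := l • w) (w := w) (h.trans h1.symm) (by
      rw [h1, hf.smul_left, h]
      exact fun h2 => hl1 (mul_right_cancel₀ hv (h2.trans (one_mul _).symm)))
    refine ⟨g' * g, Subgroup.mul_mem _ hg' hg, by rw [Units.val_mul, ← mulVec_mulVec, hgv, hgv'], ?_⟩
    rw [Units.val_mul, det_mul, mul_pow]
    linear_combination ((g : Matrix ι ι K).det * (g : Matrix ι ι K).det ^ q) * hd' + hd
  · exact u_step hK hf h hne

/-- coordinates in an orthonormal basis -/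
theorem exists_coord (hK : Fintype.card K = q ^ 2) (hf : IsUnitaryFormPow q f) :
    ∃ e : (Fin (Fintype.card ι) → K) ≃ₗ[K] (ι → K), ∀ u v, f (e u) (e v) = hermForm (Fintype.card ι) K q u v := by
  have hne : ((conj hK : K ≃+* K) : K →+* K) ≠ RingHom.id K := by
    intro h
    obtain ⟨x, hx⟩ := exists_not_fixed hK
    exact hx (by have := RingHom.congr_fun h x; simpa [conj_apply] using this)
  let B : (ι → K) →ₛₗ[((conj hK : K ≃+* K) : K →+* K)] (ι → K) →ₗ[K] K :=
    LinearMap.mk₂'ₛₗ ((conj hK : K ≃+* K) : K →+* K) (RingHom.id K) (fun u v => f v u)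
      (fun u u' v => UForm.add_right hK hf v u u') (fun c u v => UForm.smul_right hf c v u)
      (fun u v v' => hf.add_left v v' u) (fun c u v => hf.smul_left c v u)
  obtain ⟨b, hb⟩ := Cfsg.Agent.ClassicalGeometry.HermOrthonormal.exists_orthonormal_basis hne
    (fun a => by simp [conj_apply, pow_q_pow_q hK]) B
    ⟨fun u v => by
      change (f v u) ^ q = f u v
      exact (hf.herm u v).symm⟩
    (by
      intro u hu
      by_contra hu0
      obtain ⟨⟨x, hx⟩, -⟩ := hf.nondegenerate u hu0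
      exact hx (hu x))
  have hfin : finrank K (ι → K) = Fintype.card ι := Module.finrank_fintype_fun_eq_card K
  let b' : Basis (Fin (Fintype.card ι)) K (ι → K) := b.reindex (finCongr hfin)
  have hb' : ∀ i j, f (b' i) (b' j) = if i = j then 1 else 0 := by
    intro i j
    have : f (b ((finCongr hfin).symm i)) (b ((finCongr hfin).symm j)) = _ :=
      hb ((finCongr hfin).symm j) ((finCongr hfin).symm i)
    simp only [b', Basis.reindex_apply]
    rw [this]
    simp [eq_comm]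
  have hl : ∀ (u : Fin (Fintype.card ι) → K) (d : ι → K), f (b'.equivFun.symm u) d = ∑ i, u i * f (b' i) d := by
    intro u d
    change uFun hf d _ = _
    rw [Basis.equivFun_symm_apply, map_sum]
    exact Finset.sum_congr rfl fun i _ => by rw [map_smul, smul_eq_mul]; rfl
  refine ⟨b'.equivFun.symm, fun u v => ?_⟩
  rw [hl, herm_def]
  refine Finset.sum_congr rfl fun i _ => ?_
  rw [hf.herm, hl]
  simp [hb']

theorem u_count (hK : Fintype.card K = q ^ 2) (hf : IsUnitaryFormPow q f) {m : ℕ} (hd : Fintype.card ι = 2 * m)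
    {v : ι → K} (hv : f v v ≠ 0) : {w | f w w = f v v}.ncard = q ^ (2 * m - 1) * (q ^ (2 * m) - 1) := by
  obtain ⟨e, he⟩ := exists_coord hK hf
  have h1 : Nat.card {w : ι → K // f w w = f v v} =
      Nat.card {u : Fin (Fintype.card ι) → K // hermForm _ K q u u = f v v} :=
    (Nat.card_congr (e.toEquiv.subtypeEquiv fun u => by rw [← he]; rfl)).symm
  rw [← Nat.card_coe_set_eq]
  refine h1.trans ?_
  rw [LieClassical.HermCount.card_scale hK _ (hf.herm v v).symm hv, LieClassical.HermCount.card_norm_one hK, hd,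
    if_pos (even_two_mul m)]

/-- `SU(f)` is transitive on the vectors of a given non-zero norm -/
theorem orb_su (hK : Fintype.card K = q ^ 2) (hf : IsUnitaryFormPow q f) (hn : 2 ≤ Fintype.card ι) {v : ι → K}
    (hv : f v v ≠ 0) :
    orb (preserving (Units.coeHom (Matrix ι ι K)) f ⊓ specialLinear ι K) v = {w | f w w = f v v} := by
  ext w
  refine ⟨?_, fun hw => ?_⟩
  · rintro ⟨g, hg, rfl⟩
    exact hg.1 v v
  have hw' : f w w = f v v := hw
  obtain ⟨g, hg, hgv, hd⟩ := u_trans hK hf hv hw'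
  have hsl : ∀ x : GL ι K, (x : Matrix ι ι K).det = 1 → x ∈ specialLinear ι K := fun x hx => Units.ext hx
  by_cases h1 : (g : Matrix ι ι K).det = 1
  · exact ⟨g, ⟨hg, hsl g h1⟩, hgv⟩
  obtain ⟨a, ha, hva⟩ : ∃ a, f a a = 1 ∧ f v a = 0 := by
    obtain ⟨e, he⟩ := exists_coord hK hf
    obtain ⟨s, hs⟩ := exists_norm_eq hK (hf.herm v v).symm
    let i : Fin (Fintype.card ι) := ⟨0, by omega⟩
    let j : Fin (Fintype.card ι) := ⟨1, by omega⟩
    have hij : j ≠ i := fun h => absurd (congrArg Fin.val h) one_ne_zero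
    have h2 : f (e (Pi.single i s)) (e (Pi.single i s)) = f v v := by
      rw [he, herm_single_left, Pi.single_eq_same, hs]
    obtain ⟨x, hx, hxv, -⟩ := u_trans hK hf (v := e (Pi.single i s)) (w := v) (by rwa [h2]) h2.symm
    refine ⟨(x : Matrix ι ι K) *ᵥ e (Pi.single j 1), (hx _ _).trans ?_, ?_⟩
    · rw [he, herm_single_left, Pi.single_eq_same, one_pow, mul_one]
    · conv_lhs => rw [← hxv]
      refine (hx _ _).trans ?_
      rw [he, herm_single_left, Pi.single_eq_of_ne hij.symm, zero_pow_q hK, mul_zero]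
  obtain ⟨δ, hδ⟩ : ∃ δ, δ = (g : Matrix ι ι K).det := ⟨_, rfl⟩
  rw [← hδ] at hd h1
  have hδ0 : δ ≠ 0 := left_ne_zero_of_mul_eq_one hd
  have h3 : δ ^ q = δ⁻¹ := eq_inv_of_mul_eq_one_right hd
  have h4 : δ - 1 ≠ 0 := sub_ne_zero.2 h1
  have h5 : 1 - δ ≠ 0 := sub_ne_zero.2 (Ne.symm h1)
  obtain ⟨x, hx, hap, hdet⟩ := exists_qrefl hK hf a (β := δ * (δ - 1)⁻¹) (mul_ne_zero hδ0 (inv_ne_zero h4)) (by
    rw [ha, mul_pow, inv_pow, sub_pow_q hK, one_pow, h3]
    have : δ⁻¹ - 1 = δ⁻¹ * (1 - δ) := by field_simp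
    rw [this]
    field_simp
    ring)
  refine ⟨g * x, ⟨Subgroup.mul_mem _ hg hx, hsl _ ?_⟩, ?_⟩
  · rw [Units.val_mul, det_mul, hdet, ← hδ, ha]
    field_simp
    ring
  · rw [Units.val_mul, ← mulVec_mulVec, hap, hva, mul_zero, zero_smul, sub_zero, hgv]

theorem idx_u (hK : Fintype.card K = q ^ 2) (hf : IsUnitaryFormPow q f) {m : ℕ} (hd : Fintype.card ι = 2 * m)
    (hn : 2 ≤ Fintype.card ι) {v : ι → K} (hv : f v v ≠ 0) :
    (subspaceStabilizer (Submodule.span K {v})).relIndex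
      (preserving (Units.coeHom (Matrix ι ι K)) f ⊓ specialLinear ι K) * (q + 1) =
      q ^ (2 * m - 1) * (q ^ (2 * m) - 1) := by
  have hv0 : v ≠ 0 := by
    rintro rfl
    exact hv (UForm.zero_left hf 0)
  rw [← u_count hK hf hd hv, ← orb_su hK hf hn hv, ncard_orb _ hv0, orb_su hK hf hn hv, ← card_norm_eq_one hK,
    ← Nat.card_coe_set_eq]
  congr 1
  refine Nat.card_congr (Equiv.subtypeEquivRight fun c => ?_)
  change _ ↔ f (c • v) (c • v) = f v v
  rw [hf.smul_left, UForm.smul_right hf, ← mul_assoc, mul_eq_right₀ hv]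

end Cfsg.Agent.SM.CS.Ix

private theorem dce_32ee636a23fc : _root_.True := by
  try have : _root_.True := by simp only [_root_.Cfsg.Agent.LieClassical.HermBasic.conj.congr_simp]
  exact _root_.True.intro
end

-- part: SM/O8/KUOct
section
prune_inst 0x31206104532200000000059473001c76860000920048080068e1074207c8ec6285400861a8300511508004040034006813080010024000000e000000011e018000009006b0480000200000000000000000000000000000000000000000000000000000000
set_option linter.all false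
open scoped Cfsg.Agent.FastGrp

/-!
# SM-O8-7, octonion part (helper76)

For a subspace `U` of the octonions and `v` nonsingular, `DD U v` is the span of the products `x (ȳ v)`, `x, y ∈ U`, `y` nonsingular.
It contains `v`, is not the point `⟨v⟩` if `dim U ≥ 2`, has dimension at most 4 if `dim U ≤ 3`, and is invariant under `M` for every
triple `(M, M₁, M₂)` with `M v ∈ ⟨v⟩`, `M₁ U ≤ U`.
-/

set_option autoImplicit false

namespace Cfsg.Agent.SM.O8.KU

open Module QuadraticMap Cfsg.Agent.LieClassical.OrthCore Cfsg.Agent.LieClassical.OrthTrans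
  Cfsg.Agent.ClassicalGeometry.OrthSemi Cfsg.Agent.H198.Classes Cfsg.Agent.LieClassical.QuadForms
  Cfsg.Agent.ClassicalGeometry.TrialityOct Cfsg.Agent.ClassicalGeometry.Triality Cfsg.Agent.H198.TriBase
open Cfsg.Agent.ClassicalGeometry.TrialitySpaces (leftMul rightMul polarBilin_nondegenerate)

variable {F : Type*} [Field F]

theorem lin_left (x y z : V8 F) :
    omul x (omul (oconj y) z) + omul y (omul (oconj x) z) = polar (plusForm 4 F) x y • z := by
  coord8

theorem polar_left (v z d : V8 F) :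
    polar (plusForm 4 F) (omul v z) d = polar (plusForm 4 F) z (omul (oconj v) d) := by
  simp only [polar8, omul_l0, omul_l1, omul_l2, omul_l3, omul_r0, omul_r1, omul_r2, omul_r3,
    oconj_l0, oconj_l1, oconj_l2, oconj_l3, oconj_r0, oconj_r1, oconj_r2, oconj_r3]
  ring

theorem right_cancel {a x y : V8 F} (ha : plusForm 4 F a ≠ 0) (h : omul x a = omul y a) : x = y := by
  have h1 := congrArg (fun z => omul z (oconj a)) h
  simp only [omul_omul_oconj] at h1
  exact smul_right_injective _ ha h1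

theorem finrank8 : finrank F (V8 F) = 8 := by simp

/-- the span of the products `x (ȳ v)` -/
def DD (U : Submodule F (V8 F)) (v : V8 F) : Submodule F (V8 F) :=
  Submodule.span F {d | ∃ x ∈ U, ∃ y ∈ U, plusForm 4 F y ≠ 0 ∧ d = omul x (omul (oconj y) v)}

theorem mem_DD {U : Submodule F (V8 F)} (v : V8 F) {x y : V8 F} (hx : x ∈ U) (hy : y ∈ U) (h : plusForm 4 F y ≠ 0) :
    omul x (omul (oconj y) v) ∈ DD U v := Submodule.subset_span ⟨x, hx, y, hy, h, rfl⟩

theorem self_mem_DD {U : Submodule F (V8 F)} (v : V8 F) {y : V8 F} (hy : y ∈ U) (h : plusForm 4 F y ≠ 0) :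
    v ∈ DD U v := by
  have h1 := (DD U v).smul_mem (plusForm 4 F y)⁻¹ (mem_DD v hy hy h)
  rwa [omul_oconj_omul, smul_smul, inv_mul_cancel₀ h, one_smul] at h1

theorem exists_DD {U : Submodule F (V8 F)} {v y : V8 F} (hv : plusForm 4 F v ≠ 0) (hy : y ∈ U)
    (h : plusForm 4 F y ≠ 0) (h2 : 2 ≤ finrank F U) : ∃ d ∈ DD U v, d ∉ Submodule.span F {v} := by
  by_contra hcon
  push Not at hcon
  have hz : plusForm 4 F (omul (oconj y) v) ≠ 0 := by
    rw [norm_omul, norm_oconj]
    exact mul_ne_zero h hv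
  have h1 : U ≤ Submodule.span F {y} := by
    intro x hx
    obtain ⟨c, hc⟩ := Submodule.mem_span_singleton.1 (hcon _ (mem_DD v hx hy h))
    refine Submodule.mem_span_singleton.2 ⟨c * (plusForm 4 F y)⁻¹, right_cancel hz ?_⟩
    rw [smul_omul, omul_oconj_omul, smul_smul, mul_assoc, inv_mul_cancel₀ h, mul_one, hc]
  have h3 := Submodule.finrank_mono h1
  have h4 : finrank F (Submodule.span F {y}) ≤ 1 := by
    have := finrank_span_le_card (R := F) ({y} : Set (V8 F))
    simpa using this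
  omega

theorem exists_three {V : Type*} [AddCommGroup V] [Module F V] [FiniteDimensional F V] {U : Submodule F V}
    (h : finrank F U ≤ 3) : ∃ f : Fin 3 → V, U ≤ Submodule.span F (Set.range f) := by
  obtain ⟨f, -, hf, -⟩ := Submodule.exists_fun_fin_finrank_span_eq F (U : Set V)
  have h1 : finrank F (Submodule.span F (U : Set V)) ≤ 3 := by rwa [Submodule.span_eq]
  refine ⟨fun i => if hi : i.1 < finrank F (Submodule.span F (U : Set V)) then f ⟨i.1, hi⟩ else 0, ?_⟩
  refine ((hf.trans (Submodule.span_eq U)).symm.le).trans (Submodule.span_mono ?_)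
  rintro _ ⟨k, rfl⟩
  refine ⟨⟨k.1, lt_of_lt_of_le k.2 h1⟩, ?_⟩
  simp only [k.2, dif_pos]

seal _root_.Cfsg.Agent.ClassicalGeometry.TrialityOct.omul _root_.Cfsg.Agent.ClassicalGeometry.TrialityOct.oconj in
theorem finrank_DD {U : Submodule F (V8 F)} (v : V8 F) (h : finrank F U ≤ 3) : finrank F (DD U v) ≤ 4 := by
  obtain ⟨f, hf⟩ := exists_three h
  let p : Fin 3 → Fin 3 → V8 F := fun i j => omul (f i) (omul (oconj (f j)) v)
  let S : Submodule F (V8 F) := Submodule.span F (Set.range ![v, p 0 1, p 0 2, p 1 2])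
  have hv : v ∈ S := Submodule.subset_span ⟨0, rfl⟩
  have h01 : p 0 1 ∈ S := Submodule.subset_span ⟨1, rfl⟩
  have h02 : p 0 2 ∈ S := Submodule.subset_span ⟨2, rfl⟩
  have h12 : p 1 2 ∈ S := Submodule.subset_span ⟨3, rfl⟩
  have hii : ∀ i, p i i ∈ S := fun i => by
    change omul (f i) (omul (oconj (f i)) v) ∈ S
    rw [omul_oconj_omul]
    exact S.smul_mem _ hv
  have hsw : ∀ i j, p i j ∈ S → p j i ∈ S := fun i j hij => by
    have e : p j i = polar (plusForm 4 F) (f i) (f j) • v - p i j := by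
      rw [← lin_left, add_sub_cancel_left]
    rw [e]
    exact S.sub_mem (S.smul_mem _ hv) hij
  have hp : ∀ i j, p i j ∈ S := by
    intro i j
    fin_cases i <;> fin_cases j
    exacts [hii 0, h01, h02, hsw _ _ h01, hii 1, h12, hsw _ _ h02, hsw _ _ h12, hii 2]
  have h1 : ∀ j, ∀ x ∈ Submodule.span F (Set.range f), omul x (omul (oconj (f j)) v) ∈ S := by
    intro j
    have : Submodule.span F (Set.range f) ≤ S.comap (rightMul (omul (oconj (f j)) v)) := by
      rw [Submodule.span_le]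
      rintro _ ⟨i, rfl⟩
      exact hp i j
    exact fun x hx => this hx
  have h2 : ∀ x ∈ Submodule.span F (Set.range f), ∀ y ∈ Submodule.span F (Set.range f),
      omul x (omul (oconj y) v) ∈ S := by
    intro x hx
    have : Submodule.span F (Set.range f) ≤
        S.comap ((leftMul x).comp ((rightMul v).comp (kap F).toLinearMap)) := by
      rw [Submodule.span_le]
      rintro _ ⟨j, rfl⟩
      exact (h1 j x hx :)
    exact fun y hy => (this hy :)
  have h3 : DD U v ≤ S := by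
    rw [DD, Submodule.span_le]
    rintro _ ⟨x, hx, y, hy, -, rfl⟩
    exact h2 x (hf hx) y (hf hy)
  have h4 : finrank F S ≤ 4 := by
    have := finrank_range_le_card (R := F) ![v, p 0 1, p 0 2, p 1 2]
    rwa [Fintype.card_fin] at this
  exact (Submodule.finrank_mono h3).trans h4

/-- invariance under triples -/
theorem inv_DD {U : Submodule F (V8 F)} {v : V8 F} {M M₁ M₂ : G8 F} (h : TriS M M₁ M₂)
    (hv : M.1 v ∈ Submodule.span F {v}) (hU : ∀ u ∈ U, M₁.1 u ∈ U) : ∀ d ∈ DD U v, M.1 d ∈ DD U v := by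
  obtain ⟨σ, c, hM⟩ := M.2
  obtain ⟨σ₁, c₁, hM₁⟩ := M₁.2
  obtain ⟨l, hl⟩ := Submodule.mem_span_singleton.1 hv
  intro d hd
  induction hd using Submodule.span_induction with
  | mem d hd =>
    obtain ⟨x, hx, y, hy, hQ, rfl⟩ := hd
    have hQ' : plusForm 4 F (M₁.1 y) ≠ 0 := by
      rw [hM₁.form]
      exact mul_ne_zero hM₁.ne ((map_ne_zero σ₁).2 hQ)
    have h1 := h y (omul (oconj y) v)
    rw [omul_oconj_omul, hM.smul, ← hl, smul_smul] at h1
    have h2 := congrArg (omul (oconj (M₁.1 y))) h1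
    rw [oconj_omul_omul, omul_smul] at h2
    have h3 : M₂.1 (omul (oconj y) v) =
        ((plusForm 4 F (M₁.1 y))⁻¹ * (σ (plusForm 4 F y) * l)) • omul (oconj (M₁.1 y)) v := by
      rw [mul_smul, h2, smul_smul, inv_mul_cancel₀ hQ', one_smul]
    rw [h, h3, omul_smul]
    exact (DD U v).smul_mem _ (mem_DD v (hU x hx) (hU y hy) hQ')
  | zero => rw [hM.map_zero]; exact (DD U v).zero_mem
  | add x y _ _ hx hy => rw [hM.add]; exact (DD U v).add_mem hx hy
  | smul a x _ hx => rw [hM.smul]; exact (DD U v).smul_mem _ hx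

/-! ### an element which fixes `v` and moves `D` -/

theorem exists_sing {v d : V8 F} (hv : plusForm 4 F v ≠ 0) (hd : d ∉ Submodule.span F {v}) :
    ∃ u, plusForm 4 F u = 0 ∧ polar (plusForm 4 F) u v = 0 ∧ polar (plusForm 4 F) u d ≠ 0 := by
  by_contra hcon
  push Not at hcon
  set e := omul (oconj v) d with he
  have key : ∀ z : V8 F, plusForm 4 F z = 0 → z (.inl 0) + z (.inr 0) = 0 → polar (plusForm 4 F) z e = 0 := by
    intro z hz hz1
    rw [he, ← polar_left]
    refine hcon _ (by rw [norm_omul, hz, mul_zero]) ?_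
    have h1 : omul (oconj v) v = plusForm 4 F v • one8 F := by
      rw [← oconj_omul_omul, omul_one]
    rw [polar_left, h1, polar_smul_right, polar8]
    simp only [one8, Sum.elim_inl, Sum.elim_inr, Matrix.cons_val_zero, Matrix.cons_val_one, Matrix.cons_val,
      mul_zero, zero_mul, add_zero, mul_one, one_mul, hz1, smul_zero]
  have k1 := key (Sum.elim ![0, 1, 0, 0] ![0, 0, 0, 0]) (by rw [norm8]; simp) (by simp)
  have k2 := key (Sum.elim ![0, 0, 1, 0] ![0, 0, 0, 0]) (by rw [norm8]; simp) (by simp)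
  have k3 := key (Sum.elim ![0, 0, 0, 1] ![0, 0, 0, 0]) (by rw [norm8]; simp) (by simp)
  have k4 := key (Sum.elim ![0, 0, 0, 0] ![0, 1, 0, 0]) (by rw [norm8]; simp) (by simp)
  have k5 := key (Sum.elim ![0, 0, 0, 0] ![0, 0, 1, 0]) (by rw [norm8]; simp) (by simp)
  have k6 := key (Sum.elim ![0, 0, 0, 0] ![0, 0, 0, 1]) (by rw [norm8]; simp) (by simp)
  have k7 := key (Sum.elim ![1, 1, 0, 0] ![-1, 1, 0, 0]) (by rw [norm8]; simp) (by simp)
  rw [polar8] at k1 k2 k3 k4 k5 k6 k7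
  simp only [Sum.elim_inl, Sum.elim_inr, Matrix.cons_val_zero, Matrix.cons_val_one, Matrix.cons_val,
    mul_zero, zero_mul, add_zero, zero_add, mul_one, one_mul] at k1 k2 k3 k4 k5 k6 k7
  have h1 : e = e (.inl 0) • one8 F := by
    apply ext8 <;>
      simp only [one8, Pi.smul_apply, Sum.elim_inl, Sum.elim_inr, Matrix.cons_val_zero, Matrix.cons_val_one,
        Matrix.cons_val, smul_eq_mul, mul_zero, mul_one, k1, k2, k3, k4, k5, k6]
    linear_combination k7 - k1 - k4
  have h2 := omul_oconj_omul v d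
  rw [← he, h1, omul_smul, omul_one] at h2
  refine hd (Submodule.mem_span_singleton.2 ⟨(plusForm 4 F v)⁻¹ * e (.inl 0), ?_⟩)
  rw [mul_smul, h2, smul_smul, inv_mul_cancel₀ hv, one_smul]

theorem exists_move {D : Submodule F (V8 F)} {v d : V8 F} (hv : plusForm 4 F v ≠ 0) (hdD : d ∈ D)
    (hd : d ∉ Submodule.span F {v}) (h4 : finrank F D ≤ 4) :
    ∃ g ∈ E (plusForm 4 F), g v = v ∧ ∃ d ∈ D, g d ∉ D := by
  obtain ⟨u, hu, huv, hud⟩ := exists_sing hv hd
  by_contra hcon
  push Not at hcon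
  let W : Submodule F (V8 F) := LinearMap.BilinForm.orthogonal (polarBilin (plusForm 4 F))
    (Submodule.span F (Set.range ![u, v]))
  have h1 : W ≤ D ⊔ Submodule.span F {u} := by
    intro w hw
    have hw1 : polar (plusForm 4 F) u w = 0 := hw u (Submodule.subset_span ⟨0, rfl⟩)
    have hw2 : polar (plusForm 4 F) w v = 0 := by
      rw [polar_comm]
      exact hw v (Submodule.subset_span ⟨1, rfl⟩)
    have h2 := hcon _ (siegel_mem_E hu hw1) (by rw [siegel_apply, huv, hw2]; simp) d hdD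
    have h3 : w = (polar (plusForm 4 F) u d)⁻¹ • (siegel (plusForm 4 F) u w hu hw1 d - d) +
        ((polar (plusForm 4 F) u d)⁻¹ * polar (plusForm 4 F) w d + plusForm 4 F w) • u := by
      rw [siegel_apply]
      match_scalars
      · field_simp
      · ring
      · field_simp
        ring
    rw [h3]
    exact Submodule.add_mem_sup (D.smul_mem _ (D.sub_mem h2 hdD))
      (Submodule.smul_mem _ _ (Submodule.mem_span_singleton_self u))
  have h2 : finrank F W = finrank F (V8 F) - finrank F (Submodule.span F (Set.range ![u, v])) :=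
    LinearMap.BilinForm.finrank_orthogonal (_root_.Cfsg.Agent.ClassicalGeometry.TrialitySpaces.polarBilin_nondegenerate (F := F)) (Submodule.span F (Set.range ![u, v]))
  have h3 : finrank F (Submodule.span F (Set.range ![u, v])) ≤ 2 := by
    have := finrank_range_le_card (R := F) ![u, v]
    rwa [Fintype.card_fin] at this
  have h5 : finrank F (Submodule.span F {u}) ≤ 1 := by
    have := finrank_span_le_card (R := F) ({u} : Set (V8 F))
    simpa using this
  have h6 : finrank F W ≤ finrank F ↥(D ⊔ Submodule.span F {u}) := Submodule.finrank_mono h1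
  have h7 : finrank F ↥(D ⊔ Submodule.span F {u}) ≤ finrank F D + finrank F (Submodule.span F {u}) :=
    Submodule.finrank_add_le_finrank_add_finrank D (Submodule.span F {u})
  have h8 := finrank8 (F := F)
  omega

/-! ### an element which fixes `D` pointwise and moves `U` in the second module -/

theorem conic [Finite F] (hq : 4 ≤ Nat.card F) (β γ : F) :
    ∃ l m : F, l ≠ 0 ∧ l ^ 2 * γ + l * m * β + m ^ 2 = 1 := by
  by_cases h : (2 : F) = 0 ∧ β = 0
  · have h2 : ringChar F = 2 := by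
      have : CharP F 2 := CharTwo.of_one_ne_zero_of_two_eq_zero one_ne_zero h.1
      exact ringChar.eq F 2
    obtain ⟨r, hr⟩ := FiniteField.isSquare_of_char_two h2 γ
    refine ⟨1, 1 + r, one_ne_zero, ?_⟩
    rw [h.2, hr]
    linear_combination (r + r ^ 2) * h.1
  · let p : Polynomial F := (Polynomial.X ^ 2 - Polynomial.C β * Polynomial.X + Polynomial.C γ) *
      (Polynomial.C 2 * Polynomial.X - Polynomial.C β)
    have h1 : (Polynomial.X ^ 2 - Polynomial.C β * Polynomial.X + Polynomial.C γ : Polynomial F) ≠ 0 := by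
      intro h0
      have := congrArg (fun f => Polynomial.coeff f 2) h0
      simp at this
    have h2 : (Polynomial.C 2 * Polynomial.X - Polynomial.C β : Polynomial F) ≠ 0 := by
      intro h0
      have k0 := congrArg (fun f => Polynomial.coeff f 0) h0
      have k1 := congrArg (fun f => Polynomial.coeff f 1) h0
      simp only [Polynomial.coeff_X, Polynomial.coeff_C, _root_.Polynomial.coeff_sub, _root_.Polynomial.mul_coeff_zero, ↓ _root_.reduceIte, _root_.one_ne_zero, _root_.MulZeroClass.mul_zero, _root_.zero_sub, _root_.Polynomial.coeff_zero, _root_.neg_eq_zero, _root_.Polynomial.coeff_mul_X, _root_.Polynomial.coeff_C_succ, _root_.sub_zero] at k0 k1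
      exact h ⟨k1, k0⟩
    have h3 : p.natDegree ≤ 3 := by
      simp only [p]
      compute_degree
    have h4 : (p.natDegree : Cardinal) < Cardinal.mk F := by
      rw [← Nat.cast_card]
      exact_mod_cast (by omega : p.natDegree < Nat.card F)
    obtain ⟨m, hm⟩ := Polynomial.exists_eval_ne_zero_of_natDegree_lt_card p (mul_ne_zero h1 h2) h4
    simp only [p, Polynomial.eval_mul, Polynomial.eval_add, Polynomial.eval_sub, Polynomial.eval_pow, Polynomial.eval_X,
      Polynomial.eval_C] at hm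
    have h5 := left_ne_zero_of_mul hm
    have h6 := right_ne_zero_of_mul hm
    have h7 := div_mul_cancel₀ (2 * m - β) h5
    refine ⟨(2 * m - β) / (m ^ 2 - β * m + γ), 1 - m * ((2 * m - β) / (m ^ 2 - β * m + γ)), div_ne_zero h6 h5, ?_⟩
    generalize (2 * m - β) / (m ^ 2 - β * m + γ) = l at h7 ⊢
    linear_combination l * h7

theorem le_of_norm [Finite F] (hq : 4 ≤ Nat.card F) {V : Type*} [AddCommGroup V] [Module F V] {Q : QuadraticForm F V}
    {W S : Submodule F V} {b : V} (hb : b ∈ W) (hQ : Q b ≠ 0) (h : ∀ a ∈ W, Q a = Q b → a ∈ S) : W ≤ S := by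
  intro x hx
  obtain ⟨l, m, hl, hlm⟩ := conic hq (polar Q x b / Q b) (Q x / Q b)
  have h1 : l • x + m • b ∈ S := by
    refine h _ (W.add_mem (W.smul_mem _ hx) (W.smul_mem _ hb)) ?_
    rw [Q_add, QuadraticMap.map_smul, QuadraticMap.map_smul, polar_smul_left, polar_smul_right]
    simp only [smul_eq_mul]
    field_simp at hlm
    linear_combination hlm
  have h2 : x = l⁻¹ • ((l • x + m • b) - m • b) := by
    rw [add_sub_cancel_right, smul_smul, inv_mul_cancel₀ hl, one_smul]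
  rw [h2]
  exact S.smul_mem _ (S.sub_mem h1 (S.smul_mem _ (h b hb rfl)))

theorem exists_fix [Finite F] (hq : 4 ≤ Nat.card F) (hG : Good (plusForm 4 F)) {D U : Submodule F (V8 F)} {v y : V8 F}
    (hv : plusForm 4 F v ≠ 0) (hvD : v ∈ D) (h4 : finrank F D ≤ 4) (hy : y ∈ U) (hQ : plusForm 4 F y ≠ 0)
    (h3 : finrank F U ≤ 3) :
    ∃ g : O (plusForm 4 F), g.1 ∈ E (plusForm 4 F) ∧ (∀ d ∈ D, g.1 d = d) ∧
      ∃ M₁ M₂ : G8 F, TriS (gamO _ g) M₁ M₂ ∧ ∃ u ∈ U, M₁.1 u ∉ U := by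
  set W : Submodule F (V8 F) := LinearMap.BilinForm.orthogonal (polarBilin (plusForm 4 F)) D with hW
  have h8 := finrank8 (F := F)
  have hdim : 4 ≤ finrank F W := by
    have h2 : finrank F W = finrank F (V8 F) - finrank F D :=
      LinearMap.BilinForm.finrank_orthogonal (_root_.Cfsg.Agent.ClassicalGeometry.TrialitySpaces.polarBilin_nondegenerate (F := F)) D
    omega
  obtain ⟨b, hb, hQb⟩ : ∃ b ∈ W, plusForm 4 F b ≠ 0 := by
    by_contra hcon
    push Not at hcon
    have hrefl : (polarBilin (plusForm 4 F)).IsRefl := fun x y hxy => by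
      change polar (plusForm 4 F) y x = 0
      rw [polar_comm]
      exact hxy
    have h1 : W ≤ D := by
      rw [← LinearMap.BilinForm.orthogonal_orthogonal (_root_.Cfsg.Agent.ClassicalGeometry.TrialitySpaces.polarBilin_nondegenerate (F := F)) hrefl D, ← hW]
      intro w hw x hx
      change polar (plusForm 4 F) x w = 0
      rw [polar, hcon _ (W.add_mem hx hw), hcon x hx, hcon w hw]
      simp
    have h2 : W = D := Submodule.eq_of_le_of_finrank_le h1 (by omega)
    exact hv (hcon v (by rw [h2]; exact hvD))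
  by_contra hcon
  push Not at hcon
  have hz : plusForm 4 F (omul (oconj b) y) ≠ 0 := by
    rw [norm_omul, norm_oconj]
    exact mul_ne_zero hQb hQ
  have h1 : W ≤ U.comap (rightMul (omul (oconj b) y)) := by
    refine le_of_norm hq hb hQb fun a ha hab => ?_
    have hQa : plusForm 4 F a ≠ 0 := by rw [hab]; exact hQb
    have h2 := hcon ⟨refl _ a hQa * refl _ b hQb, (mul_mem (refl_mem_O hQa) (refl_mem_O hQb) :)⟩
      (hG.refl_mul_refl_mem hQb hQa hab.symm) (fun d hd => by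
        have e1 : polar (plusForm 4 F) b d = 0 := by rw [polar_comm]; exact hb d hd
        have e2 : polar (plusForm 4 F) a d = 0 := by rw [polar_comm]; exact ha d hd
        change refl _ a hQa (refl _ b hQb d) = d
        rw [refl_apply hQb, e1, mul_zero, zero_smul, sub_zero, refl_apply hQa, e2, mul_zero, zero_smul, sub_zero])
      (gamO _ ⟨tri1 hQb hab rfl, tri1_mem hQb hab rfl⟩) (gamO _ ⟨tri2 hQb hab rfl, tri2_mem hQb hab rfl⟩)
      (tri_refl hQb hab rfl hQa hQb) y hy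
    have h5 : (plusForm 4 F b)⁻¹ • omul a (omul (oconj b) y) ∈ U := h2
    have h6 := U.smul_mem (plusForm 4 F b) h5
    rwa [smul_smul, mul_inv_cancel₀ hQb, one_smul] at h6
  have h2 : W.map (rightMul (omul (oconj b) y)) ≤ U := Submodule.map_le_iff_le_comap.2 h1
  have h5 : finrank F (W.map (rightMul (omul (oconj b) y))) ≤ finrank F U := Submodule.finrank_mono h2
  have h6 : finrank F (W.map (rightMul (omul (oconj b) y))) = finrank F W :=
    (Submodule.equivMapOfInjective _ (fun x x' hx => right_cancel hz hx) W).finrank_eq.symm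
  omega

end Cfsg.Agent.SM.O8.KU

private theorem dce_a91e3a3d43bc : _root_.True := by
  try have : _root_.True := by simp only [_root_.Cfsg.Agent.SM.O8.KU.DD.eq_1]
  exact _root_.True.intro
end
end

-- part: SM/O8/M1A
section
prune_inst 0x10000000000000
set_option linter.all false
open scoped Cfsg.Agent.FastGrp

/-!
# SM (S3570), socle `PΩ⁺₈(q)`, box M1: the twisted product of an involution outside `PΓO` (helper43)

If `γ σ γ⁻¹ = Φ(M)`, `M² = 1`, and `σ` is not induced by a semisimilarity, then in another module there is a product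
`f x y = B x · L (B y)` which is compatible with the involution and with everything that commutes with `σ`.
-/

set_option autoImplicit false
set_option linter.unusedSectionVars false
set_option maxHeartbeats 400000

namespace Cfsg.Agent.SM.O8.M1

open Module QuadraticMap Cfsg.Agent.LieClassical.OrthCore Cfsg.Agent.LieClassical.OrthTrans
  Cfsg.Agent.ClassicalGeometry.OrthSemi Cfsg.Agent.H198.OrthFrame Cfsg.Agent.LieClassical.QuadForms
  Cfsg.Agent.ClassicalGeometry.TrialityOct Cfsg.Agent.ClassicalGeometry.Triality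
  Cfsg.Agent.H198.TriBase Cfsg.Agent.H198.TriAut Cfsg.Agent.AutOrth.Main

variable {F : Type} [Field F]

/-! ### group identities -/

section grp

variable {G : Type*} [Group G]

theorem g1 {k t : G} (hk : k * k = 1) (ht : t * t = 1) (h3 : (k * t) ^ 3 = 1) : t * k * t = k * t * k := by
  have h1 : k⁻¹ = k := inv_eq_of_mul_eq_one_right hk
  have h2 : t⁻¹ = t := inv_eq_of_mul_eq_one_right ht
  have h4 : (k * t * k) * (t * k * t) = 1 := by rw [← h3, pow_succ, pow_two]; simp only [mul_assoc]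
  rw [← inv_eq_of_mul_eq_one_right h4, mul_inv_rev, mul_inv_rev, h1, h2, mul_assoc]

/-- two different transpositions do not commute -/
theorem g2 {H : Subgroup G} {k t m m₁ n p₁ : G} (hk : k * k = 1) (ht : t * t = 1) (h3 : (k * t) ^ 3 = 1) (hkH : k ∈ H)
    (hm : m₁ ∈ H) (hn : n ∈ H) (hp : p₁ ∈ H) (h1 : t * (m * k) * t⁻¹ = m₁) (h2 : t * (k * (n * k) * k) * t⁻¹ = p₁)
    (hc : n * (t⁻¹ * m * t) = t⁻¹ * m * t * n) : t ∈ H := by
  have e1 : k⁻¹ = k := inv_eq_of_mul_eq_one_right hk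
  have e2 : t⁻¹ = t := inv_eq_of_mul_eq_one_right ht
  have e3 := g1 hk ht h3
  have e4 : t⁻¹ * m * t = m₁ * (k * t * k) := by
    rw [← e3, ← h1, e2]
    calc t * m * t = t * (m * (k * (t * t) * k)) * t := by rw [ht, mul_one, hk, mul_one]
      _ = _ := by simp only [mul_assoc]
  have e5 : p₁ * (k * t * k) = t * (k * n * k) * t := by
    rw [← e3, ← h2, e2]
    calc t * (k * (n * k) * k) * t * (t * k * t) = t * (k * n * (k * k) * (t * t) * k) * t := by simp only [mul_assoc]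
      _ = _ := by rw [hk, ht, mul_one, mul_one]
  have e6 : t * (k * n * k) * t = (m₁ * k)⁻¹ * n * (m₁ * k) := by
    rw [e4] at hc
    calc t * (k * n * k) * t = (m₁ * k)⁻¹ * (m₁ * (k * t * k) * n) * (k * t) := by group
      _ = (m₁ * k)⁻¹ * n * (m₁ * k) * (t * (k * k) * t) := by rw [← hc]; simp only [mul_assoc]
      _ = _ := by rw [hk, mul_one, ht, mul_one]
  have e7 : t = k⁻¹ * (p₁⁻¹ * ((m₁ * k)⁻¹ * n * (m₁ * k))) * k⁻¹ := by
    rw [← e6, ← e5]
    group
  rw [e7]
  exact mul_mem (mul_mem (inv_mem hkH) (mul_mem (inv_mem hp) (mul_mem (mul_mem (inv_mem (mul_mem hm hkH)) hn)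
    (mul_mem hm hkH)))) (inv_mem hkH)

end grp

/-! ### twisted triples -/

/-- `M (x y) = A y · L x` -/
def TriK (M A L : G8 F) : Prop := ∀ x y, M.1 (omul x y) = omul (A.1 y) (L.1 x)

theorem TriK.mul {M A L M' A' L' : G8 F} (h : TriK M A L) (k : TriK M' A' L') : TriS (M * M') (A * L') (L * A') :=
  fun x y => (congrArg M.1 (k x y)).trans (h _ _)

theorem TriK.left {N N₁ N₂ M A L : G8 F} (h : TriS N N₁ N₂) (k : TriK M A L) : TriK (N * M) (N₁ * A) (N₂ * L) :=
  fun x y => (congrArg N.1 (k x y)).trans (h _ _)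

theorem TriK.right {N N₁ N₂ M A L : G8 F} (k : TriK M A L) (h : TriS N N₁ N₂) : TriK (M * N) (A * N₂) (L * N₁) :=
  fun x y => (congrArg M.1 (h x y)).trans (k _ _)

theorem TriK.inv {M A L : G8 F} (h : TriK M A L) : TriK M⁻¹ L⁻¹ A⁻¹ := fun x y => by
  have h1 := h (L.1⁻¹ y) (A.1⁻¹ x)
  rw [apply_inv, apply_inv] at h1
  rw [← h1]
  exact inv_apply _ _

theorem triK_of {M M₁ M₂ : G8 F} (h : TriS (M * kapG F) M₁ M₂) : TriK M (M₁ * kapG F) (M₂ * kapG F) := fun x y => by
  have h1 := h (oconj y) (oconj x)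
  rw [← oconj_omul] at h1
  have h2 : (M * kapG F).1 (oconj (omul x y)) = M.1 (oconj (oconj (omul x y))) := rfl
  rw [h2, oconj_oconj] at h1
  exact h1

/-- triality, abstractly -/
structure TD {G : Type} [Group G] (Ψ : G8 F →* G) (t : G) : Prop where
  tt : t * t = 1
  cube : (Ψ (kapG F) * t) ^ 3 = 1
  nm : t ∉ Ψ.range
  conj : ∀ {M M₁ M₂ : G8 F}, TriS M M₁ M₂ → t * Ψ M * t⁻¹ = Ψ M₁
  ker : ∀ {A : G8 F}, Ψ A = 1 → ∃ c : F, ∀ v, A.1 v = c • v
  cases : ∀ γ : G, ∃ (i : ℕ) (M : G8 F), i < 3 ∧ γ = (Ψ (kapG F) * t) ^ i * Ψ M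

theorem TD.one {G : Type} [Group G] {Ψ : G8 F →* G} {t : G} (D : TD Ψ t) {A A₁ A₂ : G8 F} (h : TriS A A₁ A₂)
    (h1 : Ψ A = 1) : Ψ A₁ = 1 ∧ Ψ A₂ = 1 := by
  have hk : Ψ (kapG F) * Ψ (kapG F) = 1 := by rw [← map_mul, kapG_mul_kapG, map_one]
  have h2 := D.conj h
  have h3 := D.conj h.kap
  rw [h1, mul_one, mul_inv_cancel] at h2
  rw [map_mul, map_mul, map_mul, map_mul, h1, mul_one, hk, mul_one, mul_inv_cancel] at h3
  refine ⟨h2.symm, ?_⟩
  calc Ψ A₂ = (Ψ (kapG F))⁻¹ * (Ψ (kapG F) * Ψ A₂ * Ψ (kapG F)) * Ψ (kapG F) * (Ψ (kapG F) * Ψ (kapG F))⁻¹ := by group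
    _ = 1 := by rw [← h3, hk]; group

theorem cases_T1 (hG : Good (plusForm 4 F)) (M : G8 F) : M ∈ T1 F ∨ M * kapG F ∈ T1 F :=
  (mem_S1 hG M).imp And.right And.right

/-- the data of the twisted product -/
structure Tw {V : Type} [AddCommGroup V] [Module F V] {Q : QuadraticForm F V} {G : Type} [Group G] (Φ : Gam Q →* G)
    (σ α : G) (M : Gam Q) (f : V → V → V) : Prop where
  conj : α * σ * α⁻¹ = Φ M
  addl : ∀ x x' y, f (x + x') y = f x y + f x' y
  addr : ∀ x y y', f x (y + y') = f x y + f x y'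
  smull : ∀ (a : F) x y, ∃ c : F, f (a • x) y = c • f x y
  smulr : ∀ (a : F) x y, ∃ c : F, f x (a • y) = c • f x y
  ne : ∀ x, Q x ≠ 0 → Q (f x x) ≠ 0
  swap : ∀ x y, ∃ c : F, M.1 (f x y) = c • f y x
  eqv : ∀ N : Gam Q, Φ N * σ = σ * Φ N → ∃ N' : Gam Q, Φ N' = α * Φ N * α⁻¹ ∧
    ∀ x y, ∃ c : F, N'.1 (f x y) = c • f (N.1 x) (N.1 y)

theorem tw_tau {G : Type} [Group G] {Ψ : G8 F →* G} {t : G} (hG : Good (plusForm 4 F)) (D : TD Ψ t) {σ : G} {M B : G8 F} (hM : M * M = 1)
    (h : t * Ψ B * σ * (t * Ψ B)⁻¹ = Ψ M) (hn : σ ∉ Ψ.range) :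
    ∃ f, Tw Ψ σ (t * Ψ B) M f := by
  have hσ : σ = (Ψ B)⁻¹ * (t⁻¹ * Ψ M * t) * Ψ B := by rw [← h]; group
  have hk : Ψ (kapG F) * Ψ (kapG F) = 1 := by rw [← map_mul, kapG_mul_kapG, map_one]
  obtain ⟨M₁, M₂, hT⟩ : M * kapG F ∈ T1 F := (cases_T1 hG M).resolve_left fun ⟨M₁, M₂, hT⟩ => hn ⟨B⁻¹ * M₁ * B, by
    rw [hσ, map_mul, map_mul, map_inv, ← D.conj hT, inv_eq_of_mul_eq_one_right D.tt]⟩
  have hK := triK_of hT
  generalize M₂ * kapG F = L at hK
  generalize M₁ * kapG F = A at hK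
  obtain ⟨σB, cB, hB⟩ := B.2
  obtain ⟨σL, cL, hL⟩ := L.2
  refine ⟨fun x y => omul (B.1 x) (L.1 (B.1 y)), h, fun x x' y => by rw [hB.add, add_omul],
    fun x y y' => by rw [hB.add, hL.add, omul_add], fun a x y => ⟨_, by rw [hB.smul, smul_omul]⟩,
    fun a x y => ⟨_, by rw [hB.smul, hL.smul, omul_smul]⟩, fun x hx => ?_, fun x y => ?_, fun N hN => ?_⟩
  · have h1 : plusForm 4 F (B.1 x) ≠ 0 := by rw [hB.form]; exact mul_ne_zero hB.ne ((map_ne_zero σB).2 hx)
    rw [norm_omul, hL.form]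
    exact mul_ne_zero h1 (mul_ne_zero hL.ne ((map_ne_zero σL).2 h1))
  · obtain ⟨c, hc⟩ := D.ker (D.one (hK.mul hK) (by rw [hM, map_one])).1
    exact ⟨c, by rw [hK, show A.1 (L.1 (B.1 y)) = _ from hc _, smul_omul]⟩
  · have hc : Ψ (B * N * B⁻¹) * (t⁻¹ * Ψ M * t) =
        t⁻¹ * Ψ M * t * Ψ (B * N * B⁻¹) := by
      have h1 : t⁻¹ * Ψ M * t = Ψ B * σ * (Ψ B)⁻¹ := by rw [← h]; group
      rw [h1, map_mul, map_mul, map_inv]
      calc _ = Ψ B * (Ψ N * σ) * (Ψ B)⁻¹ := by group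
        _ = _ := by rw [hN]; group
    obtain ⟨N', N₂, hT'⟩ : B * N * B⁻¹ ∈ T1 F := (cases_T1 hG _).resolve_right fun k => by
      obtain ⟨P₁, P₂, hP⟩ := kap_mem_T1 k
      have h1 := D.conj hT
      have h2 := D.conj hP
      rw [map_mul] at h1
      rw [map_mul, map_mul, map_mul _ (B * N * B⁻¹)] at h2
      exact D.nm (g2 hk D.tt D.cube ⟨_, rfl⟩ ⟨_, rfl⟩ ⟨_, rfl⟩ ⟨_, rfl⟩ h1 h2 hc)
    have h3 := D.conj hT'
    obtain ⟨σ₂, c₂, h₂⟩ := N₂.2
    have hS := hT'.swap (c₂ := Units.mk0 c₂ h₂.ne) h₂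
    generalize hatG (Units.mk0 c₂ h₂.ne) N₂ = N₃ at hS
    have h4 : Ψ (N' * M * (M * N')⁻¹) = 1 := by
      rw [map_mul, map_inv, mul_inv_eq_one, map_mul, map_mul, ← h3]
      calc _ = t * (Ψ (B * N * B⁻¹) * (t⁻¹ * Ψ M * t)) * t⁻¹ := by group
        _ = _ := by rw [hc]; group
    obtain ⟨c, hc'⟩ := D.ker (D.one ((TriK.left hS hK).mul (hK.right hS).inv) h4).2
    refine ⟨N', by rw [← h3, map_mul, map_mul, map_inv]; group, fun x y => ⟨c, ?_⟩⟩
    have h5 : ∀ z, (B * N * B⁻¹).1 (B.1 z) = B.1 (N.1 z) := fun z => congrArg (fun w => B.1 (N.1 w)) (inv_apply _ _)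
    have h6 := hc' ((L * (B * N * B⁻¹)).1 (B.1 y))
    have h7 : (N₃ * L * (L * (B * N * B⁻¹))⁻¹).1 ((L * (B * N * B⁻¹)).1 (B.1 y)) = N₃.1 (L.1 (B.1 y)) :=
      congrArg (fun w => N₃.1 (L.1 w)) (inv_apply _ _)
    rw [hS, h5, ← h7, h6, omul_smul]
    exact congrArg (fun w => c • omul _ (L.1 w)) (h5 y)

theorem tw_psi {G : Type} [Group G] {Ψ : G8 F →* G} {t : G} (hG : Good (plusForm 4 F)) (D : TD Ψ t) {σ γ : G} {M : G8 F} (hM : M * M = 1)
    (h : γ * σ * γ⁻¹ = Ψ M) (hn : σ ∉ Ψ.range) :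
    ∃ (A : G8 F) (α : G) (f : V8 F → V8 F → V8 F), Tw Ψ σ α (A⁻¹ * M * A) f := by
  obtain ⟨A, B, rfl⟩ : ∃ A B : G8 F, γ = Ψ A * (t * Ψ B) := by
    obtain ⟨i, B, hi, rfl⟩ := D.cases γ
    interval_cases i
    · refine absurd ⟨B⁻¹ * M * B, ?_⟩ hn
      rw [map_mul, map_mul, map_inv, ← h]
      group
    · exact ⟨kapG F, B, by rw [pow_one, mul_assoc]⟩
    · refine ⟨1, kapG F * B, ?_⟩
      have hk : Ψ (kapG F) * Ψ (kapG F) = 1 := by rw [← map_mul, kapG_mul_kapG, map_one]
      rw [pow_two, ← mul_assoc _ (Ψ (kapG F)), ← g1 hk D.tt D.cube, _root_.MonoidHom.map_one, one_mul, _root_.MonoidHom.map_mul, mul_assoc _ t t, D.tt, mul_one,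
        mul_assoc]
  obtain ⟨f, hf⟩ := tw_tau hG D (σ := σ) (M := A⁻¹ * M * A) (B := B)
    (by rw [show A⁻¹ * M * A * (A⁻¹ * M * A) = A⁻¹ * (M * M) * A by group, hM]; group)
    (by rw [_root_.MonoidHom.map_mul, _root_.MonoidHom.map_mul, _root_.MonoidHom.map_inv, ← h]; group) hn
  exact ⟨A, _, f, hf⟩

theorem tw_phi [Finite F] {Q : QuadraticForm F (Fin 4 ⊕ Fin 4 → F)} (hQ : Q = plusForm 4 F) (hG : Good Q)
    {σ γ : MulAut (POmega F ⇑Q)} {M : Gam Q} (hM : M * M = 1) (h : γ * σ * γ⁻¹ = Phi hG M) (hn : σ ∉ (Phi hG).range) :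
    ∃ (A : Gam Q) (α : MulAut (POmega F ⇑Q)) (f : V8 F → V8 F → V8 F), Tw (Phi hG) σ α (A⁻¹ * M * A) f := by
  subst hQ
  set! e : MulAut (P8 F) ≃* MulAut (POmega F ⇑(plusForm 4 F)) := MulAut.congr (pe hG).symm with he
  have hPhi : ∀ M, Phi hG M = e (Psi _ M) := fun M => rfl
  refine tw_psi hG (t := e (tau hG)) ⟨?_, ?_, ?_, fun k => ?_, fun k => ?_, fun β => ?_⟩ hM h hn
  · simp only [← map_mul, tau_mul_tau, map_one]
  · have h1 := congrArg e (rho_pow_three hG)
    simp only [map_pow, map_one, rho, map_mul] at h1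
    exact h1
  · rintro ⟨N, hN⟩
    exact tau_not_mem hG ⟨N, e.injective hN⟩
  · have h1 := congrArg e (tau_conj hG k)
    simp only [map_mul, map_mul, map_inv] at h1
    exact h1
  · obtain ⟨c, -, hc⟩ := (Phi_eq_one_iff hG _).1 k
    exact ⟨c, hc⟩
  · (have h_ob := aut_cases hG (e.symm β)
     revert h_ob; rintro (⟨i, N, hi, k⟩))
    have h1 := congrArg e k
    simp only [map_mul e, map_pow e, MulEquiv.apply_symm_apply, rho] at h1
    exact ⟨i, N, hi, h1⟩

end Cfsg.Agent.SM.O8.M1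
end

section
prune_inst 0xfdecf9bba96bdedfff7e3fa6d8cdfc31820fffe6dff94bffe061bf0b9f03020dc5238589e010fe0e96421410a87843fb7eceffe26bdc7ffffd5ff41ffbee1fe5f7b50851968c340fbc2ff703e0778e7f000000000000000000000000000010000200000000

-- part: H870/GE/Kill
section
prune_inst 0x2130644529420200001c050270203ce79300009200480000c844014404c1cc222d87a061b62011161a00ac5500390048131000504028000000000c00011c0180008012069108a00000008e010080000000000000000000000000000000000000000000000
set_option linter.all false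
open scoped Cfsg.Agent.FastGrp

/-!
# The kill of `G₂(F)` (helper870, for S3499)

* `KD P x b` : `b ∈ P` normalises `P ∩ P^x ≠ 1` and is not in the normaliser of `P^x`;
* `Md.kd` : the data for `P0`;
* `ept_kill` : no extremely primitive group has a stabiliser with socle `N` and `KD N x b`.
-/

set_option autoImplicit false
set_option linter.unusedSimpArgs false

namespace Cfsg.Agent.H870.GE

open Cfsg.Lie Cfsg.Agent.H161.Oct Cfsg.Agent.H284 Subgroup
open scoped Matrix

/-- the data of the kill -/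
structure KD {G : Type*} [Group G] (P : Subgroup G) (x b : G) : Prop where
  mem : b ∈ P
  k1 : ∀ g ∈ P, x⁻¹ * g * x ∈ P → x⁻¹ * (b * g * b⁻¹) * x ∈ P
  k2 : ¬ ∀ g ∈ P, (x⁻¹ * b * x) * g * (x⁻¹ * b * x)⁻¹ ∈ P
  k4 : ∃ g ∈ P, g ≠ 1 ∧ x⁻¹ * g * x ∈ P

section

variable {F : Type*} [Field F] {ι : Type} [Fintype ι] [DecidableEq ι] (M : Md ι F)

end

/-! ### transport -/

theorem KD.map {G H : Type*} [Group G] [Group H] {P : Subgroup G} {x b : G} (h : KD P x b) (f : G →* H)
    (hf : Function.Injective f) : KD (P.map f) (f x) (f b) where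
  mem := mem_map_of_mem f h.mem
  k1 := by
    rintro _ ⟨g, hg, rfl⟩ h1
    rw [← map_inv, ← map_mul, ← map_mul] at h1
    obtain ⟨k, hk, e⟩ := h1
    have h2 := h.k1 g hg (by rw [← hf e]; exact hk)
    refine ⟨_, h2, ?_⟩
    simp only [map_mul, map_inv]
  k2 := by
    intro h1
    apply h.k2
    intro g hg
    obtain ⟨k, hk, e⟩ := h1 (f g) (mem_map_of_mem f hg)
    have h2 : f k = f ((x⁻¹ * b * x) * g * (x⁻¹ * b * x)⁻¹) := by
      rw [e]
      simp only [map_mul, map_inv]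
    rw [← hf h2]
    exact hk
  k4 := by
    obtain ⟨g, hg, hg1, h1⟩ := h.k4
    refine ⟨f g, mem_map_of_mem f hg, fun e => hg1 (hf (e.trans (map_one f).symm)), ?_⟩
    refine ⟨_, h1, ?_⟩
    simp only [map_mul, map_inv]

/-! ### the kill -/

end Cfsg.Agent.H870.GE
end

-- part: SM/SpB/Mod
section
set_option linter.all false
open scoped Cfsg.Agent.FastGrp

/-!
# SM (S3570), the socle `Co1` (helper83): blocks of the centralizer of an element of order 13

`Kill x K` : the stabilizer of the set `K x` lies strictly between `G_x ⊓ N(K)` and `G_x`.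
-/

set_option autoImplicit false

namespace Cfsg.Agent.SM.SpB

open Cfsg Subgroup MulAction
open scoped Pointwise

section abs

variable {G Ω : Type} [Group G] [MulAction G Ω]

/-- `t` stabilizes the set `K x` and does not normalize `K`, `s` does not stabilize it -/
def Kill (x : Ω) (K : Subgroup G) : Prop :=
  ∃ t s : G, t • x = x ∧ s • x = x ∧ (∀ k ∈ K, ∃ k' ∈ K, t • k • x = k' • x) ∧ (∃ k ∈ K, t * k * t⁻¹ ∉ K) ∧
    ∃ k ∈ K, ∀ k' ∈ K, s • k • x ≠ k' • x

theorem Kill.conj {x : Ω} {K K' : Subgroup G} (h : Kill x K) (u : G) (hK : ∀ k, u * k * u⁻¹ ∈ K' ↔ k ∈ K) :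
    Kill (u • x) K' := by
  obtain ⟨t, s, h1, h2, h3, ⟨k, hk, h4⟩, m, hm, h5⟩ := h
  have e : ∀ a : G, (u * a * u⁻¹) • u • x = u • a • x := fun a => by rw [mul_smul, mul_smul, inv_smul_smul]
  have e2 : ∀ a b : G, (u * a * u⁻¹) • (u * b * u⁻¹) • u • x = u • a • b • x := fun a b => by
    rw [e, mul_smul, mul_smul, inv_smul_smul]
  have sj : ∀ k', ∃ k, k' = u * k * u⁻¹ := fun k' => ⟨u⁻¹ * k' * u, by group⟩
  refine ⟨u * t * u⁻¹, u * s * u⁻¹, by rw [e, h1], by rw [e, h2], fun k' hk' => ?_, ⟨_, (hK k).2 hk, fun h6 => h4 ?_⟩,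
    _, (hK m).2 hm, fun k' hk' h6 => ?_⟩
  · obtain ⟨a, rfl⟩ := sj k'
    obtain ⟨b, hb, h6⟩ := h3 a ((hK a).1 hk')
    exact ⟨_, (hK b).2 hb, by rw [e2, e, h6]⟩
  · rw [← hK]
    convert h6 using 1
    group
  · obtain ⟨a, rfl⟩ := sj k'
    rw [e2, e, smul_left_cancel_iff] at h6
    exact h5 a ((hK a).1 hk') h6

theorem Kill.false [Finite Ω] {x : Ω} {K Y : Subgroup G} (h : Kill x K) (hY : Y ≤ normalizer (K : Set G))
    (hm : stabilizer G x ⊓ Y ⋖ stabilizer G x) : False := by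
  obtain ⟨t, s, h1, h2, h3, ⟨k, hk, h4⟩, m, hm', h5⟩ := h
  have key : ∀ g : G, g ∈ stabilizer G (orbit K x) ↔ ∀ k ∈ K, ∃ k' ∈ K, g • k • x = k' • x := fun g => by
    rw [mem_stabilizer_set_iff_smul_set_subset (Set.toFinite _)]
    constructor
    · intro h6 k hk
      obtain ⟨k', h7⟩ := h6 (Set.smul_mem_smul_set (mem_orbit x (⟨k, hk⟩ : K)))
      exact ⟨k', k'.2, h7.symm⟩
    · rintro h6 _ ⟨_, ⟨k, rfl⟩, rfl⟩
      obtain ⟨k', h7, h8⟩ := h6 k k.2
      exact ⟨⟨k', h7⟩, h8.symm⟩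
  rcases hm.eq_or_eq (c := stabilizer G x ⊓ stabilizer G (orbit K x))
    (fun a ha => ⟨ha.1, (key a).2 fun k hk => ⟨_, (mem_normalizer_iff.1 (hY ha.2) k).1 hk, by
      rw [mul_smul, mul_smul, show a⁻¹ • x = x from inv_mem (s := stabilizer G x) ha.1]⟩⟩) inf_le_left with e | e
  · have h6 : t ∈ stabilizer G x ⊓ Y := e ▸ ⟨h1, (key t).2 h3⟩
    exact h4 ((mem_normalizer_iff.1 (hY h6.2) k).1 hk)
  · have h6 : s ∈ stabilizer G x ⊓ stabilizer G (orbit K x) := e.symm ▸ h2
    obtain ⟨k', h7, h8⟩ := (key s).1 h6.2 m hm'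
    exact h5 k' h7 h8

end abs

open Cfsg.Agent.SporadicStructure.Co0Matrix Cfsg.Agent.CoOneType.CoEval Cfsg.Agent.MonsterU.Lam2 Mat

/-- the value of a word -/
def val (w : List ℕ) : Spor.Co1 := (w.map fun i => pr (e i)).prod

theorem val_append (u w : List ℕ) : val (u ++ w) = val u * val w := by
  rw [val, List.map_append, List.prod_append]; rfl

theorem val_cons (i : ℕ) (w : List ℕ) : val (i :: w) = val [i] * val w := val_append [i] w

theorem val_rel {w : List ℕ} (h : relB M w = true) : val w = 1 := eq_one_of_relB rep h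

theorem val_ne {w : List ℕ} (h : neB M w = true) : val w ≠ 1 := ne_one_of_neB rep h

theorem val_same {u w : List ℕ} (h : sameB M u w = true) : val u = val w := eq_of_sameB rep h

/-- the class of an explicit vector -/
def Is (x : L2) (l : List ℤ) : Prop := l.length ≤ 24 ∧ ∃ v : leechLattice, (v : GolayPt → ℤ) = vec l ∧ cl v = x

theorem Is.smul {x : L2} {l : List ℤ} (h : Is x l) (w : List ℕ) : Is (val w • x) (fold M w l) := by
  obtain ⟨h1, v, h2, rfl⟩ := h
  obtain ⟨h3, h4⟩ := fold_spec rep w h1 h2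
  refine ⟨h3, _, h4, ?_⟩
  rw [val, map_prod_pr]
  rfl

/-- equal up to the sign -/
def pmB (l l' : List ℤ) : Bool := eqL l l' || eqL l (negL l')

theorem Is.eq {x y : L2} {l l' : List ℤ} (h : Is x l) (h' : Is y l') (hb : pmB l l' = true) : x = y := by
  obtain ⟨-, v, h2, rfl⟩ := h
  obtain ⟨-, v', h3, rfl⟩ := h'
  rcases Bool.or_eq_true _ _ ▸ hb with h4 | h4
  · rw [show v = v' from Subtype.ext (by rw [h2, h3, eqL_eq h4])]
  · rw [show v = -v' from Subtype.ext (by rw [h2, eqL_eq h4, vec_negL, ← h3]; rfl), cl_neg]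

/-- different classes -/
def nqB (l l' : List ℤ) : Bool := gens.any fun g => decide ((dotL l g - dotL l' g) % 16 ≠ 0)

theorem Is.ne {x y : L2} {l l' : List ℤ} (h : Is x l) (h' : Is y l') (hb : nqB l l' = true) : x ≠ y := by
  obtain ⟨h1, v, h2, rfl⟩ := h
  obtain ⟨h1', v', h3, rfl⟩ := h'
  obtain ⟨g, hg, h4⟩ := List.any_eq_true.1 hb
  intro h5
  obtain ⟨u, h6⟩ := cl_eq.1 h5
  have h7 := dvd_dot u ⟨vec g, vec_mem_of_leechB (List.all_eq_true.1 gens_leech g hg)⟩
  have h8 : vec l = vec l' + ((u : GolayPt → ℤ) + u) := by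
    rw [← h2, ← h3, sub_eq_iff_eq_add'.1 h6, two_nsmul]; rfl
  refine of_decide_eq_true h4 ?_
  rw [← dotInt_vec l g h1, ← dotInt_vec l' g h1', h8, dotInt_add_left, dotInt_add_left]
  obtain ⟨c, hc⟩ := h7
  change dotInt _ (vec g) = _ at hc
  rw [hc]
  omega

/-- the common check -/
def chkN (L : List (List ℕ)) (t : ℕ) (l : List ℤ) : Bool :=
  pmB (fold M [t] l) l && pmB (fold M [6] l) l && relB M [t, t + 7] &&
    L.all fun u => ([] :: L).all fun u' => neB M (t :: (u ++ (t + 7) :: u')) && nqB (fold M [6] (fold M u l)) (fold M u' l)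

theorem kill_of {L : List (List ℕ)} {P K : Subgroup Spor.Co1} (hP : ∀ z ∈ P, ∃ u ∈ [] :: L, z = val u) (hK : K ≤ P)
    (h0 : K ≠ ⊥) {t : ℕ} {l : List ℤ} {x : L2} (hx : Is x l) (h : chkN L t l = true)
    (h1 : ∀ k ∈ K, ∃ k' ∈ K, val [t] • k • x = k' • x) : Kill x K := by
  simp only [chkN, Bool.and_eq_true, List.all_eq_true] at h
  obtain ⟨⟨⟨h2, h3⟩, h4⟩, h5⟩ := h
  obtain ⟨⟨k, hk⟩, hk1⟩ := ne_bot_iff_exists_ne_one.1 h0
  obtain ⟨u, hu, rfl⟩ := hP k (hK hk)
  have hu' : u ∈ L := (List.mem_cons.1 hu).resolve_left fun e => hk1 (Subtype.ext (by subst e; rfl))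
  have h6 : val [t + 7] = (val [t])⁻¹ := eq_inv_of_mul_eq_one_right (by rw [← val_cons]; exact val_rel h4)
  refine ⟨val [t], val [6], (hx.smul _).eq hx h2, (hx.smul _).eq hx h3, h1, ⟨_, hk, fun h7 => ?_⟩, _, hk,
    fun k' hk' => ?_⟩
  · obtain ⟨u', hu2, h8⟩ := hP _ (hK (inv_mem h7))
    refine val_ne (h5 u hu' u' hu2).1 ?_
    rw [val_cons t, val_append, val_cons (t + 7) u', h6, ← h8]
    group
  · obtain ⟨u', hu2, rfl⟩ := hP _ (hK hk')
    exact ((hx.smul u).smul [6]).ne (hx.smul u') (h5 u hu' u' hu2).2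

/-- the four group -/
def V : Subgroup Spor.Co1 where
  carrier := {z | z = 1 ∨ z = val [0] ∨ z = val [1] ∨ z = val [0] * val [1]}
  one_mem' := Or.inl rfl
  mul_mem' := by
    have h1 : val [0] * val [0] = 1 := by rw [← val_cons]; exact val_rel (by decide +kernel)
    have h2 : val [1] * val [1] = 1 := by rw [← val_cons]; exact val_rel (by decide +kernel)
    have h3 : val [1] * val [0] = val [0] * val [1] := by
      rw [← val_cons, ← val_cons]; exact val_same (by decide +kernel)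
    have h4 : ∀ g, val [0] * (val [0] * g) = g := fun g => by rw [← mul_assoc, h1, one_mul]
    have h5 : ∀ g, val [1] * (val [0] * g) = val [0] * (val [1] * g) := fun g => by rw [← mul_assoc, h3, mul_assoc]
    rintro _ _ (rfl | rfl | rfl | rfl) (rfl | rfl | rfl | rfl) <;>
      simp only [Set.mem_ofPred_eq, one_mul, mul_one, mul_assoc, h1, h2, h3, h4, h5, true_or, or_true]
  inv_mem' := by
    have h1 : val [0] * val [0] = 1 := by rw [← val_cons]; exact val_rel (by decide +kernel)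
    have h2 : val [1] * val [1] = 1 := by rw [← val_cons]; exact val_rel (by decide +kernel)
    have h3 : val [1] * val [0] = val [0] * val [1] := by
      rw [← val_cons, ← val_cons]; exact val_same (by decide +kernel)
    rintro _ (rfl | rfl | rfl | rfl) <;>
      simp only [Set.mem_ofPred_eq, inv_one, mul_inv_rev, inv_eq_of_mul_eq_one_right h1, inv_eq_of_mul_eq_one_right h2,
        h3, true_or, or_true]

theorem mem_V : ∀ z ∈ V, ∃ u ∈ [] :: [[0], [1], [0, 1]], z = val u := by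
  rintro _ (rfl | rfl | rfl | rfl)
  exacts [⟨[], by simp, rfl⟩, ⟨[0], by simp, rfl⟩, ⟨[1], by simp, rfl⟩, ⟨[0, 1], by simp, (val_cons 0 [1]).symm⟩]

theorem card_V : Nat.card V = 4 := by
  have n : ∀ {u w : List ℕ}, neB M (u ++ w) = true → relB M (w ++ w) = true → val u ≠ val w := fun h1 h2 h3 =>
    val_ne h1 (by rw [val_append, h3, ← val_append]; exact val_rel h2)
  have h1 : val [] ≠ val [0] := n (by decide +kernel) (by decide +kernel)
  have h2 : val [] ≠ val [1] := n (by decide +kernel) (by decide +kernel)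
  have h3 : val [] ≠ val [0, 1] := n (by decide +kernel) (by decide +kernel)
  have h4 : val [0] ≠ val [1] := n (by decide +kernel) (by decide +kernel)
  have h5 : val [0] ≠ val [0, 1] := n (by decide +kernel) (by decide +kernel)
  have h6 : val [1] ≠ val [0, 1] := n (by decide +kernel) (by decide +kernel)
  have h7 : (V : Set Spor.Co1) = {val [], val [0], val [1], val [0, 1]} := by
    rw [val_cons 0 [1]]; rfl
  rw [← SetLike.coe_sort_coe, Nat.card_coe_set_eq, h7, Set.ncard_insert_of_notMem (by simp [h1, h2, h3]),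
    Set.ncard_insert_of_notMem (by simp [h4, h5]), Set.ncard_pair h6]

theorem orderOf_w : orderOf (val [2]) = 3 :=
  haveI := Fact.mk Nat.prime_three
  orderOf_eq_prime (by rw [pow_succ, pow_two, ← val_cons, ← val_append]; exact val_rel (by decide +kernel))
    (val_ne (by decide +kernel))

theorem mem_W : ∀ z ∈ zpowers (val [2]), ∃ u ∈ [] :: [[2], [2, 2]], z = val u := by
  classical
  intro z hz
  rw [(isOfFinOrder_iff_pow_eq_one.2 ⟨3, by norm_num, orderOf_w ▸ pow_orderOf_eq_one _⟩).mem_zpowers_iff_mem_range_orderOf,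
    orderOf_w] at hz
  obtain ⟨i, hi, rfl⟩ := Finset.mem_image.1 hz
  have := Finset.mem_range.1 hi
  interval_cases i
  exacts [⟨[], by simp, pow_zero _⟩, ⟨[2], by simp, pow_one _⟩, ⟨[2, 2], by simp, by rw [pow_two, ← val_cons]⟩]

/-- the element of order 13 -/
def r0 : Spor.Co1 := val [3]

private noncomputable def _root_.Cfsg.Agent.LsF.fd5e352_0 : {f // @Cfsg.Agent.SporadicStructure.Co0Matrix.dotL = f} := ⟨_, by first | (delta Cfsg.Agent.SporadicStructure.Co0Matrix.dotL List.brecOn List.brecOn.go Cfsg.Agent.SporadicStructure.Co0Matrix.dotL._f; rewrite [Cfsg.Agent.LsF.iadd_pat, Cfsg.Agent.LsF.imul_pat]; (try delta Cfsg.Agent.SporadicStructure.Co0Matrix.dotL.match_1); (try delta Cfsg.Agent.SporadicStructure.Co0Matrix.dotL._sparseCasesOn_1); first | dsimp -zeta only | exact rfl) | exact rfl⟩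
private noncomputable def _root_.Cfsg.Agent.LsF.fd5e352_1 : {f // @Cfsg.Agent.CoOneType.CoEval.ap = f} := ⟨_, by first | (delta Cfsg.Agent.CoOneType.CoEval.ap; rewrite [Cfsg.Agent.LsF.fd5e352_0.2, Cfsg.Agent.LsF.map_eq]; exact rfl) | exact rfl⟩
private noncomputable def _root_.Cfsg.Agent.LsF.fd5e352_2 : {f // @Cfsg.Agent.CoOneType.CoEval.fold = f} := ⟨_, by first | (delta Cfsg.Agent.CoOneType.CoEval.fold; rewrite [Cfsg.Agent.LsF.fd5e352_1.2, Cfsg.Agent.LsF.foldr_eq]; exact rfl) | exact rfl⟩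
private noncomputable def _root_.Cfsg.Agent.LsF.fd5e352_3 : {f // @Cfsg.Agent.CoOneType.CoEval.betaL = f} := ⟨_, by first | (delta Cfsg.Agent.CoOneType.CoEval.betaL; rewrite [Cfsg.Agent.LsF.imul_pat, Cfsg.Agent.LsF.map_eq, Cfsg.Agent.LsF.range_eq]; exact rfl) | exact rfl⟩
private noncomputable def _root_.Cfsg.Agent.LsF.fd5e352_4 : {f // @Cfsg.Agent.CoOneType.CoEval.eqL = f} := ⟨_, by first | (delta Cfsg.Agent.CoOneType.CoEval.eqL List.brecOn List.brecOn.go Cfsg.Agent.CoOneType.CoEval.eqL._f; rewrite [Cfsg.Agent.LsF.and_eq, Cfsg.Agent.LsF.instIDecEq_eq, Cfsg.Agent.LsF.decide_eq]; (try delta Cfsg.Agent.CoOneType.CoEval.eqL.match_1); (try delta Cfsg.Agent.CoOneType.CoEval.eqL._sparseCasesOn_1); (try delta Cfsg.Agent.CoOneType.CoEval.eqL._sparseCasesOn_2); (try delta List.casesOn); first | dsimp -zeta only | exact rfl) | exact rfl⟩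
private noncomputable def _root_.Cfsg.Agent.LsF.fd5e352_5 : {f // @Cfsg.Agent.CoOneType.CoEval.negbetaL = f} := ⟨_, by first | (delta Cfsg.Agent.CoOneType.CoEval.negbetaL; rewrite [Cfsg.Agent.LsF.imul_pat, Cfsg.Agent.LsF.ineg_pat, Cfsg.Agent.LsF.map_eq, Cfsg.Agent.LsF.range_eq]; exact rfl) | exact rfl⟩
private noncomputable def _root_.Cfsg.Agent.LsF.fd5e352_6 : {f // @Cfsg.Agent.CoOneType.CoEval.relB = f} := ⟨_, by first | (delta Cfsg.Agent.CoOneType.CoEval.relB; rewrite [Cfsg.Agent.LsF.fd5e352_2.2, Cfsg.Agent.LsF.fd5e352_3.2, Cfsg.Agent.LsF.fd5e352_4.2, Cfsg.Agent.LsF.fd5e352_5.2, Cfsg.Agent.LsF.or_eq, Cfsg.Agent.LsF.headD_eq, Cfsg.Agent.LsF.instIDecEq_eq, Cfsg.Agent.LsF.dBoolEq_eq, Cfsg.Agent.LsF.ite_eq, Cfsg.Agent.LsF.decide_eq]; exact rfl) | exact rfl⟩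
private noncomputable def _root_.Cfsg.Agent.LsF.fd5e352_7 : {f // @Cfsg.Agent.SM.SpB.Mat.M = f} := ⟨_, by first | (delta Cfsg.Agent.SM.SpB.Mat.M; (try delta Cfsg.Agent.SM.SpB.Mat.M.match_1); (try rewrite [Cfsg.Agent.LsF.instDecEq_eq, Cfsg.Agent.LsF.dite_eq]); exact rfl) | exact rfl⟩
theorem orderOf_r0 : orderOf r0 = 13 := by
  have : Fact (Nat.Prime 13) := ⟨by norm_num⟩
  refine orderOf_eq_prime ?_ (val_ne (by decide +kernel))
  have h := val_rel (w := List.replicate 13 3) (by ((try (rewrite [Cfsg.Agent.LsF.fd5e352_6.2, Cfsg.Agent.LsF.fd5e352_7.2, Cfsg.Agent.LsF.replicate_eq])); decide +kernel))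
  rwa [val, List.map_replicate, List.prod_replicate, ← mul_one (pr (e 3))] at h

theorem comm_r0 {i : ℕ} (h : sameB M [i, 3] [3, i] = true) : val [i] ∈ centralizer ({r0} : Set Spor.Co1) :=
  mem_centralizer_singleton_iff.2 (by rw [r0, ← val_cons, ← val_cons]; exact val_same h)

theorem V_le : V ≤ centralizer ({r0} : Set Spor.Co1) := by
  have h0 := comm_r0 (i := 0) (by decide +kernel)
  have h1 := comm_r0 (i := 1) (by decide +kernel)
  rintro _ (rfl | rfl | rfl | rfl)
  exacts [one_mem _, h0, h1, mul_mem h0 h1]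

theorem W_le : zpowers (val [2]) ≤ centralizer ({r0} : Set Spor.Co1) := zpowers_le.2 (comm_r0 (by decide +kernel))

/-- all the checks -/
def chk (t : ℕ) (l : List ℤ) : Bool :=
  leechB l && chkN [[0], [1], [0, 1]] t l && chkN [[2], [2, 2]] t l &&
    (([] :: [[0], [1], [0, 1]]).all fun u => pmB (fold M [t] (fold M u l)) (fold M u l)) &&
    ([] :: [[2], [2, 2]]).all fun u => ([] :: [[2], [2, 2]]).any fun u' => pmB (fold M [t] (fold M u l)) (fold M u' l)

theorem kill_chk {t : ℕ} {l : List ℤ} {n : ℤ} (h : chk t l = true) (hn : dotL l l = 16 * n) :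
    ∃ x, IsType n x ∧ (∀ K ≤ V, K ≠ ⊥ → Kill x K) ∧ Kill x (zpowers (val [2])) := by
  simp only [chk, Bool.and_eq_true] at h
  obtain ⟨⟨⟨⟨h1, h2⟩, h3⟩, h4⟩, h5⟩ := h
  have hl : l.length ≤ 24 := by
    simp only [leechB, Bool.and_eq_true, Nat.beq_eq] at h1
    exact h1.1.1.1.le
  have hx : Is (cl ⟨vec l, vec_mem_of_leechB h1⟩) l := ⟨hl, _, rfl, rfl⟩
  refine ⟨_, ⟨_, by rw [sqNorm_eq_dot, ← hn, ← dotInt_vec l l hl], rfl⟩, fun K hK h0 =>
    kill_of mem_V hK h0 hx h2 fun k hk => ⟨k, hk, ?_⟩, kill_of mem_W le_rfl ?_ hx h3 fun k hk => ?_⟩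
  · obtain ⟨u, hu, rfl⟩ := mem_V k (hK hk)
    exact ((hx.smul u).smul [t]).eq (hx.smul u) (List.all_eq_true.1 h4 u hu)
  · exact fun e => val_ne (w := [2]) (by decide +kernel) (zpowers_eq_bot.1 e)
  · obtain ⟨u, hu, rfl⟩ := mem_W k hk
    obtain ⟨u', hu', h6⟩ := List.any_eq_true.1 (List.all_eq_true.1 h5 u hu)
    refine ⟨val u', ?_, ((hx.smul u).smul [t]).eq (hx.smul u') h6⟩
    simp only [List.mem_cons, List.not_mem_nil, or_false] at hu'
    rcases hu' with rfl | rfl | rfl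
    exacts [one_mem _, mem_zpowers _, val_cons 2 [2] ▸ mul_mem (mem_zpowers _) (mem_zpowers _)]

private noncomputable def _root_.Cfsg.Agent.LsF.fd5e352_8 : {f // @Cfsg.Agent.SporadicA.GolayBase.enc = f} := ⟨_, by first | (delta Cfsg.Agent.SporadicA.GolayBase.enc; rewrite [Cfsg.Agent.LsF.nmul_pat, Cfsg.Agent.LsF.nmod_pat, Cfsg.Agent.LsF.nxor_pat, Cfsg.Agent.LsF.nshr_pat]; exact rfl) | exact rfl⟩
private noncomputable def _root_.Cfsg.Agent.LsF.fd5e352_9 : {f // @Cfsg.Agent.SporadicA.GolayBase.isCode = f} := ⟨_, by first | (delta Cfsg.Agent.SporadicA.GolayBase.isCode; rewrite [Cfsg.Agent.LsF.fd5e352_8.2]; exact rfl) | exact rfl⟩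
private noncomputable def _root_.Cfsg.Agent.LsF.fd5e352_10 : {f // @Cfsg.Agent.SporadicStructure.Co0Matrix.maskL = f} := ⟨_, by first | (delta Cfsg.Agent.SporadicStructure.Co0Matrix.maskL List.brecOn List.brecOn.go Cfsg.Agent.SporadicStructure.Co0Matrix.maskL._f; rewrite [Cfsg.Agent.LsF.nadd_pat, Cfsg.Agent.LsF.nmul_pat, Cfsg.Agent.LsF.imod_pat, Cfsg.Agent.LsF.toNat_eq]; (try delta Cfsg.Agent.SporadicStructure.Co0Matrix.maskL.match_1); (try delta List.casesOn); first | dsimp -zeta only | exact rfl) | exact rfl⟩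
private noncomputable def _root_.Cfsg.Agent.LsF.fd5e352_11 : {f // @Cfsg.Agent.SporadicStructure.Co0Matrix.leechB = f} := ⟨_, by first | (delta Cfsg.Agent.SporadicStructure.Co0Matrix.leechB; rewrite [Cfsg.Agent.LsF.fd5e352_9.2, Cfsg.Agent.LsF.fd5e352_10.2, Cfsg.Agent.LsF.imul_pat, Cfsg.Agent.LsF.isub_pat, Cfsg.Agent.LsF.imod_pat, Cfsg.Agent.LsF.and_eq, Cfsg.Agent.LsF.all_eq, Cfsg.Agent.LsF.map_eq, Cfsg.Agent.LsF.sum_eq, Cfsg.Agent.LsF.headD_eq, Cfsg.Agent.LsF.instIAdd_eq, Cfsg.Agent.LsF.instIDecEq_eq, Cfsg.Agent.LsF.length_eq, Cfsg.Agent.LsF.decide_eq]; exact rfl) | exact rfl⟩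
private noncomputable def _root_.Cfsg.Agent.LsF.fd5e352_12 : {f // @Cfsg.Agent.CoOneType.CoEval.negL = f} := ⟨_, by first | (delta Cfsg.Agent.CoOneType.CoEval.negL; rewrite [Cfsg.Agent.LsF.ineg_pat, Cfsg.Agent.LsF.map_eq]; exact rfl) | exact rfl⟩
private noncomputable def _root_.Cfsg.Agent.LsF.fd5e352_13 : {f // @Cfsg.Agent.SM.SpB.pmB = f} := ⟨_, by first | (delta Cfsg.Agent.SM.SpB.pmB; rewrite [Cfsg.Agent.LsF.fd5e352_4.2, Cfsg.Agent.LsF.fd5e352_12.2, Cfsg.Agent.LsF.or_eq]; exact rfl) | exact rfl⟩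
private noncomputable def _root_.Cfsg.Agent.LsF.fd5e352_14 : {f // @Cfsg.Agent.CoOneType.CoEval.neB = f} := ⟨_, by first | (delta Cfsg.Agent.CoOneType.CoEval.neB; rewrite [Cfsg.Agent.LsF.fd5e352_2.2, Cfsg.Agent.LsF.fd5e352_3.2, Cfsg.Agent.LsF.fd5e352_4.2, Cfsg.Agent.LsF.fd5e352_5.2, Cfsg.Agent.LsF.and_eq, Cfsg.Agent.LsF.not_eq, Cfsg.Agent.LsF.length_eq]; exact rfl) | exact rfl⟩
private noncomputable def _root_.Cfsg.Agent.LsF.fd5e352_15 : {f // @Cfsg.Agent.SporadicStructure.Co0Matrix.twoL = f} := ⟨_, by first | (delta Cfsg.Agent.SporadicStructure.Co0Matrix.twoL; rewrite [Cfsg.Agent.LsF.instDecEq_eq, Cfsg.Agent.LsF.map_eq, Cfsg.Agent.LsF.range_eq, Cfsg.Agent.LsF.ite_eq]; exact rfl) | exact rfl⟩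
private noncomputable def _root_.Cfsg.Agent.LsF.fd5e352_16 : {f // @Cfsg.Agent.SporadicA.GolayBase.qrMask = f} := ⟨_, by first | (delta Cfsg.Agent.SporadicA.GolayBase.qrMask; rewrite [Cfsg.Agent.LsF.nsub_pat, Cfsg.Agent.LsF.nmod_pat, Cfsg.Agent.LsF.nor_pat, Cfsg.Agent.LsF.nshl_pat, Cfsg.Agent.LsF.nshr_pat]; exact rfl) | exact rfl⟩
private noncomputable def _root_.Cfsg.Agent.LsF.fd5e352_17 : {f // @Cfsg.Agent.SporadicStructure.Co0Matrix.gens = f} := ⟨_, by first | (delta Cfsg.Agent.SporadicStructure.Co0Matrix.gens; rewrite [Cfsg.Agent.LsF.fd5e352_15.2, Cfsg.Agent.LsF.fd5e352_16.2, Cfsg.Agent.LsF.ineg_pat, Cfsg.Agent.LsF.lappend_pat, Cfsg.Agent.LsF.instDecEq_eq, Cfsg.Agent.LsF.testBit_eq, Cfsg.Agent.LsF.map_eq, Cfsg.Agent.LsF.range_eq, Cfsg.Agent.LsF.dBoolEq_eq, Cfsg.Agent.LsF.ite_eq]; exact rfl) | exact rfl⟩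
private noncomputable def _root_.Cfsg.Agent.LsF.fd5e352_18 : {f // @Cfsg.Agent.SM.SpB.nqB = f} := ⟨_, by first | (delta Cfsg.Agent.SM.SpB.nqB; rewrite [Cfsg.Agent.LsF.fd5e352_17.2, Cfsg.Agent.LsF.fd5e352_0.2, Cfsg.Agent.LsF.isub_pat, Cfsg.Agent.LsF.imod_pat, Cfsg.Agent.LsF.any_eq, Cfsg.Agent.LsF.instIDecEq_eq, Cfsg.Agent.LsF.dNot_eq, Cfsg.Agent.LsF.decide_eq]; exact rfl) | exact rfl⟩
private noncomputable def _root_.Cfsg.Agent.LsF.fd5e352_19 : {f // @Cfsg.Agent.SM.SpB.chkN = f} := ⟨_, by first | (delta Cfsg.Agent.SM.SpB.chkN; rewrite [Cfsg.Agent.LsF.fd5e352_13.2, Cfsg.Agent.LsF.fd5e352_2.2, Cfsg.Agent.LsF.fd5e352_7.2, Cfsg.Agent.LsF.fd5e352_6.2, Cfsg.Agent.LsF.fd5e352_14.2, Cfsg.Agent.LsF.fd5e352_18.2, Cfsg.Agent.LsF.nadd_pat, Cfsg.Agent.LsF.lappend_pat, Cfsg.Agent.LsF.and_eq, Cfsg.Agent.LsF.all_eq]; exact rfl) | exact rfl⟩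
private noncomputable def _root_.Cfsg.Agent.LsF.fd5e352_20 : {f // @Cfsg.Agent.SM.SpB.chk = f} := ⟨_, by first | (delta Cfsg.Agent.SM.SpB.chk; rewrite [Cfsg.Agent.LsF.fd5e352_11.2, Cfsg.Agent.LsF.fd5e352_19.2, Cfsg.Agent.LsF.fd5e352_13.2, Cfsg.Agent.LsF.fd5e352_2.2, Cfsg.Agent.LsF.fd5e352_7.2, Cfsg.Agent.LsF.and_eq, Cfsg.Agent.LsF.all_eq, Cfsg.Agent.LsF.any_eq]; exact rfl) | exact rfl⟩
/-- **the model** -/
theorem model {n : ℤ} (hn : n = 2 ∨ n = 3) :
    ∃ x, IsType n x ∧ (∀ K ≤ V, K ≠ ⊥ → Kill x K) ∧ Kill x (zpowers (val [2])) := by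
  rcases hn with rfl | rfl
  · exact kill_chk (t := 4) (l := 4 :: (List.replicate 22 0 ++ [4])) (by ((try (rewrite [Cfsg.Agent.LsF.fd5e352_20.2, Cfsg.Agent.LsF.lappend_pat, Cfsg.Agent.LsF.replicate_eq])); decide +kernel)) (by decide +kernel)
  · exact kill_chk (t := 5) (l := List.replicate 23 (-1) ++ [-5]) (by ((try (rewrite [Cfsg.Agent.LsF.fd5e352_20.2, Cfsg.Agent.LsF.ineg_pat, Cfsg.Agent.LsF.lappend_pat, Cfsg.Agent.LsF.replicate_eq])); decide +kernel)) (by decide +kernel)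

end Cfsg.Agent.SM.SpB

private theorem dce_0c6e654ecc67 : _root_.True := by
  try have : _root_.True := by simp only [_root_.Cfsg.Agent.SM.SpB.chkN.eq_1]
  try have : _root_.True := by simp only [_root_.Cfsg.Agent.SM.SpB.val.eq_1]
  try have : _root_.True := by simp only [_root_.Cfsg.Agent.SM.SpB.r0.eq_1]
  try have : _root_.True := by simp only [_root_.Cfsg.Agent.SM.SpB.chk.eq_1]
  exact _root_.True.intro
end

-- part: SM/SpB/Vec
section
set_option linter.all false
open scoped Cfsg.Agent.FastGrp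

/-!
# SM (S3570), the socle `Co1` (helper83): fixed classes in `Λ / 2Λ` from the character of degree 24
-/

set_option autoImplicit false

namespace Cfsg.Agent.SM.SpB

open Cfsg Module Submodule Cfsg.Agent.H419.LeechIrr Cfsg.Agent.MonsterU.Lam2 Cfsg.Agent.Characters
  Cfsg.Agent.SporadicStructure.Co0Base Cfsg.Agent.TAB.Use

variable {G : Type} [Group G]

/-- `toC` is additive -/
def toCh : leechLattice →+ (GolayPt → ℂ) where
  toFun := toC
  map_zero' := funext fun i => by simp [toC]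
  map_add' v w := funext fun i => by simp [toC]

theorem eq_sum (y : GolayPt → ℂ) : y = ∑ i, (y i / 8) • toC (e8 i) := by
  funext j
  rw [Finset.sum_apply, Finset.sum_eq_single j (fun i _ h => by simp [toC, e8_coe, Pi.single_eq_of_ne h.symm])
    fun h => absurd (Finset.mem_univ j) h]
  simp [toC, e8_coe]

/-- a fixed lattice vector outside of a small subspace -/
theorem exists_vec [Finite G] (f : G →* Co0) (W : Submodule ℂ (GolayPt → ℂ)) (h : finrank ℂ W < finrank ℂ (inv f)) :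
    ∃ w : leechLattice, (∀ g, f g • w = w) ∧ toC w ∉ W := by
  have := Fintype.ofFinite G
  by_contra hn
  push Not at hn
  refine h.not_ge (finrank_mono fun y hy => ?_)
  have h1 : ∀ v, ∑ g, rp f g (toC v) ∈ W := fun v => by
    have h2 := hn (∑ g, f g • v) fun g => by
      show smulHom (f g) _ = _
      rw [map_sum]
      exact Fintype.sum_equiv (Equiv.mulLeft g) _ _ fun a => by
        show f g • f a • v = f (g * a) • v
        rw [map_mul, mul_smul]
    change toCh _ ∈ W at h2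
    rw [map_sum] at h2
    exact (Finset.sum_congr rfl fun g _ => repC_toC (f g) v) ▸ h2
  have h2 : ∑ g, rp f g y ∈ W := by
    rw [eq_sum y]
    simp only [map_sum, map_smul]
    rw [Finset.sum_comm]
    exact W.sum_mem fun i _ => by rw [← Finset.smul_sum]; exact W.smul_mem _ (h1 _)
  rw [Finset.sum_congr rfl fun g _ => (Representation.mem_invariants _ _).1 hy g, Finset.sum_const,
    ← Nat.cast_smul_eq_nsmul ℂ] at h2
  exact (W.smul_mem_iff (by simp)).1 h2

theorem descent (f : G →* Co0) {x : leechLattice} (hx : ∀ g, f g • x = x) (D : leechLattice →+ ℤ) (hD : D x = 0) (n : ℕ) :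
    ∀ w, (D w).natAbs = n → D w ≠ 0 → (∀ g, f g • w = w) → ∃ v, (∀ g, f g • v = v) ∧ cl v ≠ 0 ∧ cl v ≠ cl x := by
  induction n using Nat.strong_induction_on with
  | _ n ih =>
    intro w h1 h2 h3
    have key : ∀ u : leechLattice, (∀ g, f g • (2 • u : leechLattice) = 2 • u) → D w = D (2 • u) →
        ∃ v, (∀ g, f g • v = v) ∧ cl v ≠ 0 ∧ cl v ≠ cl x := fun u h4 h5 => by
      rw [map_nsmul, two_nsmul] at h5
      refine ih _ (by omega) u rfl (by omega) fun g => ?_
      have h6 := h4 g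
      rw [smul_two] at h6
      exact nsmul_right_injective two_ne_zero h6
    by_cases h4 : cl w = 0
    · obtain ⟨u, rfl⟩ := cl_eq_zero.1 h4
      exact key u h3 rfl
    by_cases h5 : cl w = cl x
    · obtain ⟨u, h6⟩ := cl_eq.1 h5
      exact key u (fun g => by rw [← h6, co0_smul_sub, h3, hx]) (by rw [← h6, map_sub, hD, sub_zero])
    · exact ⟨w, h3, h4, h5⟩

/-- a coordinate -/
def co (j : GolayPt) : leechLattice →+ ℤ where
  toFun v := (v : GolayPt → ℤ) j
  map_zero' := rfl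
  map_add' _ _ := rfl

/-- a fixed class which is not zero -/
theorem exists_cl0 [Finite G] (f : G →* Co0) (h : 0 < finrank ℂ (inv f)) : ∃ v, (∀ g, f g • v = v) ∧ cl v ≠ 0 := by
  obtain ⟨w, h1, h2⟩ := exists_vec f ⊥ (by rwa [finrank_bot])
  obtain ⟨j, hj⟩ : ∃ j, co j w ≠ 0 := by
    by_contra hn
    push Not at hn
    exact h2 (funext fun j => by rw [toC, show (w : GolayPt → ℤ) j = 0 from hn j]; simp)
  obtain ⟨v, h3, h4, -⟩ := descent f (x := 0) (fun g => co0_smul_zero _) (co j) rfl _ w rfl hj h1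
  exact ⟨v, h3, h4⟩

/-- a second fixed class -/
theorem exists_cl1 [Finite G] (f : G →* Co0) (h : 1 < finrank ℂ (inv f)) {x : leechLattice} (hx : ∀ g, f g • x = x)
    (h0 : cl x ≠ 0) : ∃ v, (∀ g, f g • v = v) ∧ cl v ≠ 0 ∧ cl v ≠ cl x := by
  obtain ⟨w, h1, h2⟩ := exists_vec f (span ℂ {toC x})
    (lt_of_le_of_lt ((finrank_span_le_card _).trans (by simp)) h)
  obtain ⟨i, hi⟩ : ∃ i, co i x ≠ 0 := by
    by_contra hn
    push Not at hn
    exact h0 (by rw [show x = 0 from Subtype.ext (funext hn), map_zero])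
  obtain ⟨j, hj⟩ : ∃ j, (co i x • co j - co j x • co i) w ≠ 0 := by
    by_contra hn
    push Not at hn
    refine h2 (mem_span_singleton.2 ⟨(co i w : ℂ) / co i x, funext fun j => ?_⟩)
    have h3 : co i x * co j w - co j x * co i w = 0 := hn j
    have h4 : (co i x : ℂ) * co j w - co j x * co i w = 0 := by exact_mod_cast h3
    have h5 : (co i x : ℂ) ≠ 0 := by exact_mod_cast hi
    show (co i w : ℂ) / co i x * co j x = co j w
    field_simp
    linear_combination -h4
  exact descent f hx _ (show co i x * co j x - co j x * co i x = 0 by ring) _ w rfl hj h1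

theorem pos_of_fix (f : G →* Co0) {x : leechLattice} (hx : ∀ g, f g • x = x) (h0 : cl x ≠ 0) : 0 < finrank ℂ (inv f) := by
  refine finrank_pos_iff_exists_ne_zero.2 ⟨⟨toC x, toC_mem_inv.2 hx⟩, fun h => h0 ?_⟩
  rw [show x = 0 from toC_injective ((congrArg Subtype.val h).trans toCh.map_zero.symm), map_zero]

theorem sum_lchi [Fintype G] (f : G →* Co0) : ∑ g, lchi f g = Nat.card G * finrank ℂ (inv f) := by
  rw [← classInner_lchi, Core.classInner_def, mul_inv_cancel_left₀ Core.card_ne_zero_complex]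
  simp

theorem lchi_one (f : G →* Co0) : lchi f 1 = 24 := by
  rw [lchi_eq, Representation.char_one]
  simp [GolayPt]

/-- **the character of degree 24 is `1 + χ₂₃`** -/
theorem lchi_dec [Finite G] {n : ℕ} {d : ℕ → ℕ} {χ : ℕ → G → ℂ} (h : Enum G n d χ) (hn : 2 ≤ n) (h1 : d 1 = 23)
    (h2 : ∀ j < n, 2 ≤ j → 25 ≤ d j) (f : G →* Co0) (hf : ∃ g, f g ≠ 1) :
    (∀ g, lchi f g = 1 + χ 1 g) ∧ finrank ℂ (inv f) = 1 := by
  classical
  have := Fintype.ofFinite G
  have := Core.finite_irr (G := G)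
  have : Fintype (IrrCharacter G) := Fintype.ofFinite _
  obtain ⟨c, hc⟩ := Core.exists_nat_comb (isCharacter_lchi f)
  let m : ℕ → ℕ := fun j => if hj : j < n then c ⟨χ j, h.irr j hj⟩ else 0
  have h3 : ∀ g, lchi f g = ∑ j ∈ Finset.range n, m j * χ j g := fun g => by
    rw [congrFun hc g, Finset.sum_apply]
    refine (Finset.sum_bij (fun j hj => ⟨χ j, h.irr j (Finset.mem_range.1 hj)⟩) (fun _ _ => Finset.mem_univ _)
      (fun i hi j hj e => h.inj i (Finset.mem_range.1 hi) j (Finset.mem_range.1 hj) (congrArg Subtype.val e))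
      (fun ψ _ => ?_) fun j hj => ?_).symm
    · obtain ⟨j, hj, e⟩ := h.all ψ.1 ψ.2
      exact ⟨j, Finset.mem_range.2 hj, Subtype.ext e.symm⟩
    · simp only [m, dif_pos (Finset.mem_range.1 hj), Pi.smul_apply, nsmul_eq_mul]
  have h4 : 24 = ∑ j ∈ Finset.range n, m j * d j := by
    have h4 := h3 1
    rw [lchi_one, Finset.sum_congr rfl fun j hj => by rw [h.deg j (Finset.mem_range.1 hj)]] at h4
    exact_mod_cast h4
  have hz : ∀ j ∈ Finset.range n, j ∉ Finset.range 2 → m j = 0 := fun j hj hj' => by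
    have a1 : m j * d j ≤ 24 := h4 ▸ Finset.single_le_sum (f := fun j => m j * d j) (fun _ _ => Nat.zero_le _) hj
    have a2 := h2 j (Finset.mem_range.1 hj) (not_lt.1 fun a => hj' (Finset.mem_range.2 a))
    by_contra a3
    have := Nat.mul_le_mul (Nat.pos_of_ne_zero a3) a2
    omega
  have hs : Finset.range 2 ⊆ Finset.range n := Finset.range_subset_range.2 hn
  obtain ⟨h5, h6⟩ : χ 0 = 1 ∧ d 0 = 1 := by
    obtain ⟨j, hj, e⟩ := h.all 1 Core.isIrr_one
    have a1 := h.deg j hj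
    rw [← e, Pi.one_apply] at a1
    have a2 : d j = 1 := by exact_mod_cast a1.symm
    obtain rfl : j = 0 := by
      by_contra a3
      by_cases a4 : j = 1
      · rw [a4] at a2; omega
      · have := h2 j hj (by omega); omega
    exact ⟨e.symm, a2⟩
  rw [← Finset.sum_subset hs fun j hj hj' => by rw [hz j hj hj', Nat.zero_mul]] at h4
  have h7 : ∀ g, lchi f g = m 0 + m 1 * χ 1 g := fun g => by
    rw [h3 g, ← Finset.sum_subset hs fun j hj hj' => by rw [hz j hj hj', Nat.cast_zero, zero_mul]]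
    simp [Finset.sum_range_succ, h5]
  simp only [Finset.sum_range_succ, Finset.sum_range_zero, h6, h1] at h4
  have h8 : finrank ℂ (inv f) = m 0 := by
    have a1 := Core.classInner_sum_nsmul_irr c ⟨χ 0, h.irr 0 (by omega)⟩
    rw [← hc] at a1
    simp only [h5] at a1
    rw [classInner_lchi] at a1
    simp only [m, dif_pos (show 0 < n by omega), h5]
    exact_mod_cast a1
  have h9 : m 0 ≠ 24 := fun a1 => by
    obtain ⟨g, hg⟩ := hf
    have a2 : inv f = ⊤ := eq_top_of_finrank_eq (by rw [h8, a1]; simp [GolayPt])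
    exact hg (Subtype.ext (Equiv.ext fun v => toC_mem_inv.1 (a2 ▸ mem_top) g))
  obtain ⟨a1, a2⟩ : m 0 = 1 ∧ m 1 = 1 := by omega
  exact ⟨fun g => by rw [h7, a1, a2]; simp, h8.trans a1⟩

end Cfsg.Agent.SM.SpB
end

-- part: SM/F4/TT_mg
section
prune_inst 0x200020452000100000040080010000e10100000000000000008400000001000000008000020000020000000000000000000000800000000000000400000000000080000000000000000000010000000000000000000000000000000000000000000000000
set_option linter.all false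
open scoped Cfsg.Agent.FastGrp

-- part: SM/F4/Defs
section
/-!
# SM (S3570), the row `³D₄(q) < F₄(q)`, `q` even: the local structure of `F₄(q)` at a long root group (helper37)

`Z = X_θ`, `Zm = X_{-θ}`, `Q = O₂(C(Z)) = q^(1+6+8)`, `L = C(Z, Zm) = Sp₆(q)`, `γ` a graph automorphism.
-/

set_option autoImplicit false

namespace Cfsg.Agent.SM.F4

open Subgroup
open scoped commutatorElement

/-- the centre of `Q`, as a subgroup of the ambient group -/
abbrev Zc {S : Type} [Group S] (Q : Subgroup S) : Subgroup S := Q ⊓ centralizer (Q : Set S)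

/-- the unipotent part -/
structure LocU (q : ℕ) {S : Type} [Group S] (Z Q : Subgroup S) : Prop where
  cardZ : Nat.card Z = q
  cardQ : Nat.card Q = q ^ 15
  ZQ : Z ≤ Q
  comQ : ⁅Q, Q⁆ ≤ Z
  cardC : q ^ 7 ≤ Nat.card (Zc Q)
  nQ : ∀ g ∈ normalizer (Z : Set S), ∀ y ∈ Q, g * y * g⁻¹ ∈ Q

/-- the Levi part -/
structure LocL (F : Type) [Field F] {S : Type} [Group S] (Z Zm Q L : Subgroup S) : Prop where
  cenL : ∀ g, g ∈ L ↔ (∀ z ∈ Z, g * z = z * g) ∧ ∀ z ∈ Zm, g * z = z * g
  isoL : Nonempty (L ≃* Matrix.symplecticGroup (Fin 3) F)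
  cz : ∀ z ∈ Z, z ≠ 1 → centralizer {z} = Q ⊔ L
  QL : Q ⊓ L = ⊥

/-- the fusion part -/
structure LocF (q : ℕ) {S : Type} [Group S] (Z Zm Q L : Subgroup S) (γ : MulAut S) : Prop where
  inv : ∀ (x : S) (r : ℕ), x * x = 1 → x ≠ 1 → r.Prime → r ∣ q ^ 2 + q + 1 → r ≠ 3 →
    r ∣ Nat.card (centralizer ({x} : Set S)) → ∃ g, g * x * g⁻¹ ∈ Z ∨ γ (g * x * g⁻¹) ∈ Z
  opp : ∀ g, ¬ IsPGroup 2 ↥(Z ⊔ Z.map (MulAut.conj g).toMonoidHom) →
    ∃ p ∈ normalizer (Z : Set S), Z.map (MulAut.conj (p * g)).toMonoidHom = Zm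
  mix : ∃ D ≤ Q, q ^ 11 ≤ Nat.card D ∧ ∃ g, ∀ d ∈ D, γ (g * d * g⁻¹) ∈ Zc Q ⊔ L ⊔ Zm

end Cfsg.Agent.SM.F4
end

-- part: SM/S6/Nat
section
/-!
# SM (S3570): a faithful symplectic `SL₂(q³)`-module of dimension six over `F_q`, `q` even, is the natural module (helper89)
-/

set_option autoImplicit false
set_option linter.unusedSectionVars false

namespace Cfsg.Agent.SM.S6

open Matrix Module
open scoped MatrixGroups

section sl2

variable {K : Type} [Field K] [CharP K 2]

/-- the upper unitriangular matrices -/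
def uu (a : K) : SL(2, K) := ⟨!![1, a; 0, 1], by simp⟩

variable (K) in
/-- the Weyl element -/
def nn : SL(2, K) := ⟨!![0, 1; 1, 0], by simp [CharTwo.neg_eq]⟩

theorem uu_val (a : K) : ((uu a : SL(2, K)) : Matrix (Fin 2) (Fin 2) K) = !![1, a; 0, 1] := rfl

theorem nn_val : ((nn K : SL(2, K)) : Matrix (Fin 2) (Fin 2) K) = !![0, 1; 1, 0] := rfl

/-- the diagonal matrices -/
def hh : Kˣ →* SL(2, K) where
  toFun l := ⟨!![(l : K), 0; 0, ((l⁻¹ : Kˣ) : K)], by simp⟩
  map_one' := Subtype.ext (by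
    show !![((1 : Kˣ) : K), 0; 0, ((1⁻¹ : Kˣ) : K)] = 1
    simp [one_fin_two])
  map_mul' a b := Subtype.ext (by
    show !![((a * b : Kˣ) : K), 0; 0, (((a * b)⁻¹ : Kˣ) : K)] =
      !![(a : K), 0; 0, ((a⁻¹ : Kˣ) : K)] * !![(b : K), 0; 0, ((b⁻¹ : Kˣ) : K)]
    simp only [mul_comm, _root_.Units.val_mul, _root_.mul_inv_rev, _root_.Units.val_inv_eq_inv_val, _root_.Matrix.cons_mul, _root_.Nat.succ_eq_add_one, _root_.Nat.reduceAdd, _root_.Matrix.vecMul_cons, _root_.Matrix.head_cons, _root_.Matrix.smul_cons, _root_.smul_eq_mul, _root_.MulZeroClass.mul_zero, _root_.Matrix.smul_empty, _root_.Matrix.tail_cons, _root_.zero_smul, _root_.Matrix.empty_vecMul, _root_.add_zero, _root_.zero_add, _root_.Matrix.empty_mul, _root_.Equiv.symm_apply_apply])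

theorem hh_val (l : Kˣ) : ((hh l : SL(2, K)) : Matrix (Fin 2) (Fin 2) K) = !![(l : K), 0; 0, ((l⁻¹ : Kˣ) : K)] := rfl

theorem uu_add (a b : K) : uu (a + b) = uu a * uu b :=
  Subtype.ext (by simp [uu_val, add_comm])

theorem uu_zero : uu (0 : K) = 1 := Subtype.ext (by simp [uu_val, one_fin_two])

theorem uu_uu (a : K) : uu a * uu a = 1 := by rw [← uu_add, CharTwo.add_self_eq_zero, uu_zero]

theorem uu_comm (a b : K) : uu a * uu b = uu b * uu a := by rw [← uu_add, add_comm, uu_add]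

theorem nn_nn : nn K * nn K = 1 := Subtype.ext (by simp [nn_val, one_fin_two])

theorem hh_eq (l : Kˣ) : hh l = uu (l : K) * nn K * uu ((l⁻¹ : Kˣ) : K) * nn K * uu (l : K) * nn K :=
  Subtype.ext (by simp [uu_val, nn_val, hh_val, CharTwo.add_self_eq_zero])

theorem uu_hh (l : Kˣ) (a : K) : uu a * hh l = hh l * uu (((l⁻¹ : Kˣ) : K) ^ 2 * a) :=
  Subtype.ext (by
    simp only [uu_val, hh_val, _root_.Matrix.SpecialLinearGroup.coe_mul, _root_.Units.val_inv_eq_inv_val, _root_.Matrix.cons_mul, _root_.Nat.succ_eq_add_one, _root_.Nat.reduceAdd, _root_.Matrix.vecMul_cons, _root_.Matrix.head_cons, _root_.one_smul, _root_.Matrix.tail_cons, _root_.Matrix.smul_cons, _root_.smul_eq_mul, _root_.MulZeroClass.mul_zero, _root_.Matrix.smul_empty, _root_.Matrix.empty_vecMul, _root_.add_zero, _root_.Matrix.add_cons, _root_.zero_add, _root_.Matrix.empty_add_empty, _root_.zero_smul, _root_.Matrix.empty_mul, _root_.Equiv.symm_apply_apply, _root_.inv_pow, _root_.mul_one,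 _root_.EmbeddingLike.apply_eq_iff_eq, _root_.Matrix.vecCons_inj, _root_.and_true, _root_.true_and]
    field_simp)

theorem hh_inj : Function.Injective (hh : Kˣ → SL(2, K)) := fun _ _ h =>
  Units.ext (congrArg (fun g : SL(2, K) => g.1 0 0) h)

theorem uu_ne : uu (1 : K) ≠ 1 := fun h => by
  simpa [uu_val] using congrArg (fun g : SL(2, K) => g.1 0 1) h

theorem sl2_ind (P : SL(2, K) → Prop) (hu : ∀ a, P (uu a)) (hn : P (nn K)) (hm : ∀ a b, P a → P b → P (a * b))
    (g : SL(2, K)) : P g := by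
  refine SL2.transvection_induction P (fun i j h c => ?_) hm g
  fin_cases i <;> fin_cases j
  · exact absurd rfl h
  · convert hu c using 1
    ext i j
    (revert i j; simp only [uu_val, SpecialLinearGroup.transvection_coe, _root_.Fin.forall_fin_succ, _root_.Fin.zero_eta, Fin.isValue, _root_.Fin.mk_one, _root_.Matrix.add_apply, _root_.Matrix.of_apply, _root_.Matrix.cons_val', _root_.Matrix.cons_val_fin_one, _root_.one_ne_zero, _root_.and_false, _root_.not_false_eq_true, _root_.Matrix.single_apply_of_ne, _root_.add_zero, _root_.Matrix.cons_val_zero, _root_.Matrix.cons_val_succ, _root_.Fin.succ_zero_eq_one, _root_.IsEmpty.forall_iff, _root_.and_true, _root_.Matrix.one_apply_eq, Nat.reduceAdd, _root_.ne_eq, _root_.zero_ne_one, _root_.Matrix.one_apply_ne, _root_.Matrix.single_apply_same, _root_.zero_add, _root_.and_self, _root_.Fin.succ_ne_zero, _root_.true_and])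
  · convert hm _ _ (hm _ _ hn (hu c)) hn using 1
    ext i j
    (revert i j; simp only [uu_val, nn_val, SpecialLinearGroup.transvection_coe, _root_.Fin.forall_fin_succ, _root_.Fin.mk_one, Fin.isValue, _root_.Fin.zero_eta, _root_.Matrix.add_apply, _root_.Matrix.SpecialLinearGroup.coe_mul, _root_.Matrix.cons_mul, _root_.Nat.succ_eq_add_one, Nat.reduceAdd, _root_.Matrix.vecMul_cons, _root_.Matrix.head_cons, _root_.zero_smul, _root_.Matrix.tail_cons, _root_.one_smul, _root_.Matrix.empty_vecMul, _root_.add_zero, _root_.zero_add, _root_.Matrix.empty_mul, _root_.Equiv.symm_apply_apply, _root_.Matrix.smul_cons, _root_.smul_eq_mul, _root_.mul_one, _root_.MulZeroClass.mul_zero, _root_.Matrix.smul_empty, _root_.Matrix.add_cons, _root_.Matrix.empty_add_empty, _root_.Matrix.of_apply, _root_.Matrix.cons_val', _root_.Matrix.cons_val_fin_one, _root_.Matrix.cons_val_zero, _root_.Matrix.cons_val_succ, _root_.Fin.succ_zero_eq_one, _root_.zero_ne_one, _root_.and_false,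 _root_.not_false_eq_true, _root_.Matrix.single_apply_of_ne, _root_.IsEmpty.forall_iff, _root_.and_true, _root_.Matrix.one_apply_eq, _root_.one_ne_zero, _root_.ne_eq, _root_.Matrix.one_apply_ne, _root_.and_self, _root_.Fin.succ_ne_zero, _root_.Matrix.single_apply_same])
  · exact absurd rfl h

end sl2

theorem exists_prime {q : ℕ} (hq : 2 ≤ q) : ∃ r, r.Prime ∧ r ≠ 2 ∧ r ∣ q ^ 3 - 1 ∧ orderOf (q : ZMod r) = 3 := by
  obtain ⟨r, h1, h2, h3⟩ : ∃ r, r.Prime ∧ r ∣ q ^ 2 + q + 1 ∧ r ≠ 3 := by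
    by_contra h
    push Not at h
    obtain ⟨k, hk⟩ : ∃ k, q ^ 2 + q + 1 = 3 ^ k :=
      ⟨_, Nat.eq_prime_pow_of_unique_prime_dvd (by omega) fun h1 h2 => h _ h1 h2⟩
    have h4 : 2 ≤ k := by
      by_contra h5
      have : k = 0 ∨ k = 1 := by omega
      rcases this with rfl | rfl <;> nlinarith only [hq, hk, _root_.sq_nonneg (↑q : ℤ)]
    have h5 : (q ^ 2 + q + 1) % 9 = 0 := Nat.mod_eq_zero_of_dvd (hk ▸ pow_dvd_pow 3 h4)
    have h6 : ∀ x < 9, (x ^ 2 + x + 1) % 9 ≠ 0 := by decide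
    refine h6 (q % 9) (Nat.mod_lt _ (by norm_num)) ?_
    rw [← h5]
    simp only [Nat.add_mod, Nat.pow_mod, _root_.dvd_refl, _root_.Nat.mod_mod_of_dvd, _root_.Nat.one_mod]
  have := Fact.mk h1
  have h4 : (q : ZMod r) ^ 2 + q + 1 = 0 := by exact_mod_cast (ZMod.natCast_eq_zero_iff _ _).2 h2
  refine ⟨r, h1, ?_, h2.trans ⟨q - 1, ?_⟩, ?_⟩
  · rintro rfl
    have h5 : Even (q * (q + 1)) := Nat.even_mul_succ_self q
    have h6 : q * (q + 1) = q ^ 2 + q := by ring
    rw [h6] at h5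
    obtain ⟨m, hm⟩ := h5
    omega
  · obtain ⟨m, rfl⟩ : ∃ m, q = m + 1 := ⟨q - 1, by omega⟩
    rw [Nat.add_sub_cancel]
    exact Nat.sub_eq_of_eq_add (by ring)
  · have := Fact.mk Nat.prime_three
    refine orderOf_eq_prime (by linear_combination (q - 1 : ZMod r) * h4) fun h5 => h3 ?_
    rw [h5] at h4
    exact (Nat.prime_dvd_prime_iff_eq h1 Nat.prime_three).1 ((ZMod.natCast_eq_zero_iff _ _).1 (by
      rw [← h4]
      norm_num))

section lin

variable {F V : Type} [Field F] [Finite F] [AddCommGroup V] [Module F V] [Finite V]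

/-- the fixed points -/
def FX (T : End F V) : Submodule F V where
  carrier := {v | T v = v}
  zero_mem' := map_zero _
  add_mem' h h' := by rw [Set.mem_ofPred_eq, map_add, h, h']
  smul_mem' c _ h := by rw [Set.mem_ofPred_eq, map_smul, h]

theorem modEq_fix {T : End F V} {r : ℕ} (hr : r.Prime) (hT : T ^ r = 1) {X : Submodule F V} (hX : ∀ x ∈ X, T x ∈ X) :
    Nat.card F ^ finrank F X ≡ Nat.card F ^ finrank F ↥(X ⊓ FX T) [MOD r] := by
  classical
  have := Fact.mk hr
  have := Fintype.ofFinite V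
  let f : Function.End X := fun x => ⟨T x, hX x x.2⟩
  have h1 : ∀ (n : ℕ) (x : X), ((f ^ n) x).1 = (T ^ n) x := fun n => by
    induction n with
    | zero => exact fun _ => rfl
    | succ n ih => exact fun x => by rw [pow_succ, pow_succ]; exact ih (f x)
  have h2 := Equiv.Perm.card_fixedPoints_modEq (f := f) (p := r) (n := 1) (funext fun x => Subtype.ext (by
    rw [pow_one, h1, hT]
    rfl))
  rw [← Module.natCard_eq_pow_finrank, ← Module.natCard_eq_pow_finrank]
  rw [← Nat.card_eq_fintype_card, ← Nat.card_eq_fintype_card] at h2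
  refine h2.trans (by rw [Nat.card_congr (α := f.fixedPoints) (β := ↥(X ⊓ FX T))
    ⟨fun x => ⟨x.1.1, x.1.2, congrArg Subtype.val x.2⟩,
      fun x => ⟨⟨x.1, x.2.1⟩, Subtype.ext x.2.2⟩, fun _ => rfl, fun _ => rfl⟩])

theorem rad_three {B : LinearMap.BilinForm F V} (alt : ∀ v, B v v = 0) {X : Submodule F V} (h : finrank F X = 3) :
    ∃ v ∈ X, v ≠ 0 ∧ ∀ w ∈ X, B v w = 0 := by
  have sk : ∀ v w, B v w = -B w v := fun v w => by
    have h1 := alt (v + w)
    simp only [map_add, LinearMap.add_apply, alt] at h1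
    linear_combination h1
  let b := Module.finBasisOfFinrankEq F X h
  have h1 : ∀ v : V, (∀ i, B v (b i) = 0) → ∀ w ∈ X, B v w = 0 := fun v hv w hw => by
    have h2 := congrArg Subtype.val (b.sum_repr ⟨w, hw⟩)
    simp only [Submodule.coe_sum, Submodule.coe_smul] at h2
    rw [← h2, map_sum]
    exact Finset.sum_eq_zero fun i _ => by rw [map_smul, hv, smul_zero]
  by_cases h2 : B (b 0) (b 1) = 0 ∧ B (b 0) (b 2) = 0
  · refine ⟨b 0, (b 0).2, fun e => b.ne_zero 0 (Subtype.ext e), h1 _ fun i => ?_⟩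
    fin_cases i
    exacts [alt _, h2.1, h2.2]
  · refine ⟨(B (b 1) (b 2) • b 0 + B (b 2) (b 0) • b 1 + B (b 0) (b 1) • b 2 : X), Subtype.prop _, fun e => h2 ?_,
      h1 _ fun i => ?_⟩
    · have h3 := Fintype.linearIndependent_iff.1 b.linearIndependent ![B (b 1) (b 2), B (b 2) (b 0), B (b 0) (b 1)] (by
        rw [Fin.sum_univ_three]
        exact Subtype.ext e)
      exact ⟨h3 2, by rw [sk, show B (b 2) (b 0) = 0 from h3 1, neg_zero]⟩
    · fin_cases i <;>
        simp only [Submodule.coe_add, Submodule.coe_smul, map_add, map_smul, LinearMap.add_apply, LinearMap.smul_apply,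
          smul_eq_mul, Fin.zero_eta, Fin.mk_one, Fin.reduceFinMk, alt]
      · rw [sk (b 1) (b 0)]; ring
      · rw [sk (b 2) (b 1)]; ring
      · rw [sk (b 2) (b 0)]; ring

end lin

variable {F K V : Type} [Field F] [Finite F] [CharP F 2] [Field K] [Finite K] [CharP K 2] [Algebra F K] [AddCommGroup V]
  [Module F V] [Finite V]

/-- the setting -/
structure Cx (ρ : SL(2, K) →* End F V) (B : LinearMap.BilinForm F V) : Prop where
  dK : finrank F K = 3
  dV : finrank F V = 6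
  inj : Function.Injective ρ
  alt : ∀ v, B v v = 0
  nd : ∀ v, (∀ w, B v w = 0) → v = 0
  inv : ∀ g v w, B (ρ g v) (ρ g w) = B v w

/-- the fixed points of the unipotent radical -/
def WW (ρ : SL(2, K) →* End F V) : Submodule F V where
  carrier := {v | ∀ a, ρ (uu a) v = v}
  zero_mem' _ := map_zero _
  add_mem' h h' a := by rw [map_add, h, h']
  smul_mem' c _ h a := by rw [map_smul, h]

variable {ρ : SL(2, K) →* End F V} {B : LinearMap.BilinForm F V}

theorem ap_mul (ρ : SL(2, K) →* End F V) (a b : SL(2, K)) (v : V) : ρ (a * b) v = ρ a (ρ b v) := by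
  rw [map_mul]; rfl

theorem ap_one (ρ : SL(2, K) →* End F V) (v : V) : ρ 1 v = v := by rw [map_one]; rfl

theorem add_self (F : Type) [Field F] [CharP F 2] [Module F V] (v : V) : v + v = 0 := by
  rw [← two_smul F, show (2 : F) = 0 from CharTwo.two_eq_zero, zero_smul]

theorem hh_WW (l : Kˣ) {v : V} (hv : v ∈ WW ρ) : ρ (hh l) v ∈ WW ρ := fun a => by
  rw [← ap_mul, uu_hh, ap_mul, hv]

/-- an invariant subspace contains fixed points -/
theorem exists_fix {X : Submodule F V} (hX : ∀ a, ∀ x ∈ X, ρ (uu a) x ∈ X) {x : V} (hx : x ∈ X) (h0 : x ≠ 0) :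
    ∃ v ∈ X, v ≠ 0 ∧ v ∈ WW ρ := by
  have : Nonempty {v // v ∈ X ∧ v ≠ 0} := ⟨⟨x, hx, h0⟩⟩
  obtain ⟨⟨v, h1, h2⟩, h3⟩ := Finite.exists_max fun v : {v // v ∈ X ∧ v ≠ 0} => {a | ρ (uu a) v.1 = v.1}.ncard
  refine ⟨v, h1, h2, fun a => ?_⟩
  by_contra h4
  refine absurd (h3 ⟨ρ (uu a) v - v, sub_mem (hX a v h1) h1, sub_ne_zero.2 h4⟩) (not_le.2 ?_)
  refine Set.ncard_lt_ncard ⟨fun b hb => ?_, fun h5 => h4 (h5 (a := a) ?_)⟩
  · show ρ (uu b) (ρ (uu a) v - v) = ρ (uu a) v - v
    rw [map_sub, ← ap_mul, uu_comm, ap_mul, show ρ (uu b) v = v from hb]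
  · show ρ (uu a) (ρ (uu a) v - v) = ρ (uu a) v - v
    rw [map_sub, ← ap_mul, uu_uu, ap_one, ← neg_sub, neg_eq_iff_add_eq_zero, add_self F]

namespace Cx

variable (h : Cx ρ B)
include h

theorem sk (v w : V) : B v w = -B w v := by
  have h1 := h.alt (v + w)
  simp only [map_add, LinearMap.add_apply, h.alt] at h1
  linear_combination h1

theorem exists_tor : ∃ l : Kˣ, (∀ v, ρ (hh l) v = v → v = 0) ∧
    ∀ X : Submodule F V, (∀ x ∈ X, ρ (hh l) x ∈ X) → 3 ∣ finrank F X := by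
  obtain ⟨r, h1, h2, h3, h4⟩ := exists_prime (q := Nat.card F) Finite.one_lt_card
  have := Fact.mk h1
  obtain ⟨l, hl⟩ := exists_prime_orderOf_dvd_card' (G := Kˣ) r (by
    rwa [Nat.card_units, Module.natCard_eq_pow_finrank (K := F), h.dK])
  have hT : ρ (hh l) ^ r = 1 := by rw [← map_pow, ← map_pow, ← hl, pow_orderOf_eq_one, map_one, map_one]
  have h5 : ∀ {a b : ℕ}, Nat.card F ^ a ≡ Nat.card F ^ b [MOD r] → 3 ∣ b → 3 ∣ a := fun {a b} e e' => by
    rw [← h4, orderOf_dvd_iff_pow_eq_one] at e' ⊢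
    rw [← e']
    exact_mod_cast (ZMod.natCast_eq_natCast_iff _ _ _).2 e
  have h6 : FX (ρ (hh l)) = ⊥ := by
    have h7 := modEq_fix h1 hT (X := ⊤) fun _ _ => trivial
    rw [top_inf_eq, finrank_top, h.dV] at h7
    have h8 := h5 h7.symm (by norm_num)
    have h9 := (FX (ρ (hh l))).finrank_le
    rw [h.dV] at h9
    have h10 : finrank F (FX (ρ (hh l))) ≠ 6 := fun e => by
      have h11 : ρ (hh l) = 1 := LinearMap.ext fun v =>
        (show v ∈ FX (ρ (hh l)) from Submodule.eq_top_of_finrank_eq (e.trans h.dV.symm) ▸ Submodule.mem_top)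
      rw [← map_one ρ, h.inj.eq_iff, ← map_one hh, hh_inj.eq_iff] at h11
      rw [h11, orderOf_one] at hl
      exact h1.one_lt.ne hl
    have h11 : finrank F (FX (ρ (hh l))) ≠ 3 := fun e => by
      obtain ⟨v, v1, v2, v3⟩ := rad_three h.alt e
      refine v2 (h.nd v fun w => ?_)
      have v4 : ∀ i : ℕ, B v ((ρ (hh l) ^ i) w) = B v w := fun i => by
        induction i with
        | zero => rfl
        | succ i ih =>
          rw [pow_succ', End.mul_apply, ← ih, ← h.inv (hh l) v ((ρ (hh l) ^ i) w), show ρ (hh l) v = v from v1]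
      have v5 := v3 ((∑ i ∈ Finset.range r, ρ (hh l) ^ i) w) (by
        refine sub_eq_zero.1 (?_ : (ρ (hh l) - 1) _ = 0)
        rw [← End.mul_apply, mul_geom_sum, hT, sub_self, LinearMap.zero_apply])
      rw [LinearMap.sum_apply, map_sum, Finset.sum_congr rfl fun i _ => v4 i, Finset.sum_const, Finset.card_range,
        nsmul_eq_mul, mul_eq_zero, CharP.cast_eq_zero_iff F 2] at v5
      exact v5.resolve_left fun e => h2 ((Nat.prime_dvd_prime_iff_eq Nat.prime_two h1).1 e).symm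
    exact Submodule.finrank_eq_zero.1 (by omega)
  refine ⟨l, fun v hv => ?_, fun X hX => h5 (modEq_fix h1 hT hX) ?_⟩
  · exact (Submodule.mem_bot F).1 (h6 ▸ (hv : v ∈ FX (ρ (hh l))))
  · rw [h6, inf_bot_eq, finrank_bot]
    exact dvd_zero 3

/-- the action is quadratic -/
theorem quad : finrank F (WW ρ) = 3 ∧ (∀ a v, ρ (uu a) v - v ∈ WW ρ) ∧ (∀ v ∈ WW ρ, ∀ w ∈ WW ρ, B v w = 0) ∧
    ∀ v ∈ WW ρ, ρ (nn K) v ∈ WW ρ → v = 0 := by
  obtain ⟨l, h1, h2⟩ := h.exists_tor
  have h3 : ∀ X : Submodule F V, (∀ x ∈ X, ρ (hh l) x ∈ X) → X ≠ ⊥ → X ≠ ⊤ → finrank F X = 3 := fun X e1 e2 e3 => by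
    have h4 := h2 X e1
    have h5 := Submodule.finrank_lt e3
    have h6 : finrank F X ≠ 0 := fun e => e2 (Submodule.finrank_eq_zero.1 e)
    rw [h.dV] at h5
    omega
  let X : Submodule F V :=
    { carrier := {v | ∀ w ∈ WW ρ, B v w = 0}
      zero_mem' := fun _ _ => by simp
      add_mem' := fun e e' w hw => by rw [map_add, LinearMap.add_apply, e w hw, e' w hw, add_zero]
      smul_mem' := fun c _ e w hw => by rw [map_smul, LinearMap.smul_apply, e w hw, smul_zero] }
  have x1 : ∀ a v, ρ (uu a) v - v ∈ X := fun a v w hw => by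
    rw [map_sub, LinearMap.sub_apply, ← h.inv (uu a) v w, hw, sub_self]
  have x2 : ∀ x ∈ X, ρ (hh l) x ∈ X := fun x hx w hw => by
    rw [← ap_one ρ w, ← map_one hh, ← mul_inv_cancel l, map_mul, ap_mul, h.inv, hx _ (hh_WW _ hw)]
  obtain ⟨v, hv⟩ : ∃ v, ρ (uu 1) v - v ≠ 0 := by
    by_contra e
    push Not at e
    exact uu_ne (h.inj ((LinearMap.ext fun v => sub_eq_zero.1 (e v)).trans (map_one ρ).symm))
  obtain ⟨w, w1, w2, w3⟩ := exists_fix (ρ := ρ) (X := X) (fun a x hx => by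
    simpa using add_mem (x1 a x) hx) (x1 1 v) hv
  have x3 : X ≠ ⊤ := fun e => w2 (h.nd w fun y => by
    rw [h.sk, (show y ∈ X from e ▸ Submodule.mem_top) w w3, neg_zero])
  have x4 : finrank F X = 3 := h3 X x2 (fun e => w2 ((Submodule.mem_bot F).1 (e ▸ w1))) x3
  have x5 : finrank F ↥(WW ρ ⊓ X) = 3 := h3 _ (fun x hx => ⟨hh_WW l hx.1, x2 x hx.2⟩)
    (fun e => w2 ((Submodule.mem_bot F).1 (e ▸ ⟨w3, w1⟩))) fun e => x3 (eq_top_iff.2 (e.ge.trans inf_le_right))
  have x6 : finrank F (WW ρ) = 3 := h3 _ (fun x hx => hh_WW l hx) (fun e => w2 ((Submodule.mem_bot F).1 (e ▸ w3)))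
    fun e => hv (sub_eq_zero.2 ((show v ∈ WW ρ from e ▸ Submodule.mem_top) 1))
  have x7 : WW ρ ⊓ X = X := Submodule.eq_of_le_of_finrank_eq inf_le_right (x5.trans x4.symm)
  have x8 : WW ρ ⊓ X = WW ρ := Submodule.eq_of_le_of_finrank_eq inf_le_left (x5.trans x6.symm)
  refine ⟨x6, fun a v => (x7.ge (x1 a v)).1, fun v hv => (x8.ge hv).2, fun v v1 v2 => h1 v ?_⟩
  have h4 : ρ (nn K) (ρ (nn K) v) = v := by rw [← ap_mul, nn_nn, ap_one]
  have h5 : ∀ l, ρ (hh l) v = ρ (nn K) v := fun l => by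
    rw [hh_eq]
    simp only [ap_mul]
    rw [v2, h4, v1, v2]
  rw [h5, ← h5 1, map_one, ap_one]

end Cx

end Cfsg.Agent.SM.S6
end

-- part: SM/S6/Nf
section
/-!
# SM (S3570): the normal form of a subgroup `SL₂(q³)` of `Sp₆(q)`, `q` even (helper89)
-/

set_option autoImplicit false
set_option linter.unusedSectionVars false
set_option maxHeartbeats 200000

namespace Cfsg.Agent.SM.S6

open Matrix Module
open scoped MatrixGroups

variable {F K V : Type} [Field F] [Finite F] [CharP F 2] [Field K] [Finite K] [CharP K 2] [Algebra F K] [AddCommGroup V]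
  [Module F V] [Finite V] {ρ : SL(2, K) →* End F V} {B : LinearMap.BilinForm F V}

/-- the action of the field on the fixed points -/
def ps (ρ : SL(2, K) →* End F V) (a : K) : End F V := (ρ (uu a) - 1) * ρ (nn K)

theorem ps_eq (a : K) (w : V) : ρ (uu a) (ρ (nn K) w) = ρ (nn K) w + ps ρ a w := by
  simp only [ps, _root_.Module.End.mul_apply, _root_.LinearMap.sub_apply, _root_.Module.End.one_apply, _root_.add_sub_cancel]

theorem ap_nn (v : V) : ρ (nn K) (ρ (nn K) v) = v := by rw [← ap_mul, nn_nn, ap_one]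

theorem ps_zero (w : V) : ps ρ 0 w = 0 := by simp only [ps, uu_zero, _root_.map_one, _root_.sub_self, _root_.MulZeroClass.zero_mul, _root_.LinearMap.zero_apply]

namespace Cx

variable (h : Cx ρ B)
include h

theorem ps_mem (a : K) (w : V) : ps ρ a w ∈ WW ρ := h.quad.2.1 a _

theorem ps_add (a b : K) (w : V) : ps ρ (a + b) w = ps ρ a w + ps ρ b w := by
  have h1 := ps_eq (ρ := ρ) (a + b) w
  rw [uu_add, ap_mul, ps_eq, map_add, ps_eq, h.ps_mem b w a, add_assoc] at h1
  exact (add_left_cancel h1).symm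

theorem ps_hh (l : Kˣ) {w : V} (hw : w ∈ WW ρ) : ps ρ l w = ρ (hh l) w := by
  have h1 : ρ (hh l) w = ρ (nn K) (w + ps ρ ((l⁻¹ : Kˣ) : K) (ps ρ l w)) + ps ρ l (ps ρ ((l⁻¹ : Kˣ) : K) (ps ρ l w)) := by
    rw [hh_eq]
    simp only [ap_mul, ps_eq, map_add, ap_nn]
    rw [hw, h.ps_mem l w l, add_assoc, ← add_assoc (ps ρ l w), add_self F, zero_add, add_assoc]
  have h2 : w + ps ρ ((l⁻¹ : Kˣ) : K) (ps ρ l w) = 0 := h.quad.2.2.2 _ (add_mem hw (h.ps_mem _ _)) (by
    rw [← sub_eq_iff_eq_add.2 h1]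
    exact sub_mem (hh_WW l hw) (h.ps_mem _ _))
  rw [h1, h2, map_zero, zero_add, add_left_cancel (h2.trans (add_self F w).symm)]

theorem ps_one {w : V} (hw : w ∈ WW ρ) : ps ρ 1 w = w := (h.ps_hh 1 hw).trans (by rw [map_one, ap_one])

theorem ps_mul (a b : K) {w : V} (hw : w ∈ WW ρ) : ps ρ (a * b) w = ps ρ a (ps ρ b w) := by
  rcases eq_or_ne a 0 with rfl | ha
  · rw [zero_mul, ps_zero, ps_zero]
  rcases eq_or_ne b 0 with rfl | hb
  · rw [mul_zero, ps_zero, map_zero]
  have h1 := h.ps_hh (Units.mk0 a ha * Units.mk0 b hb) hw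
  rwa [map_mul, ap_mul, ← h.ps_hh _ hw, ← h.ps_hh _ (h.ps_mem _ _)] at h1

theorem ps_eq_zero {a : K} {w : V} (hw : w ∈ WW ρ) (h0 : w ≠ 0) (e : ps ρ a w = 0) : a = 0 := by
  by_contra ha
  refine h0 ?_
  rw [← h.ps_one hw, ← inv_mul_cancel₀ ha, h.ps_mul _ _ hw, e, map_zero]

theorem ps_inj {w : V} (hw : w ∈ WW ρ) (h0 : w ≠ 0) {a b : K} (e : ps ρ a w = ps ρ b w) : a = b := by
  have h1 := h.ps_eq_zero hw h0 (a := a + b) (by rw [h.ps_add, e, add_self F])
  rwa [CharTwo.add_eq_zero] at h1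

theorem ps_surj {w : V} (hw : w ∈ WW ρ) (h0 : w ≠ 0) {v : V} (hv : v ∈ WW ρ) : ∃ a, ps ρ a w = v := by
  have h1 : Function.Bijective fun a : K => (⟨ps ρ a w, h.ps_mem a w⟩ : WW ρ) :=
    (Nat.bijective_iff_injective_and_card _).2 ⟨fun a b e => h.ps_inj hw h0 (congrArg Subtype.val e), by
      rw [Module.natCard_eq_pow_finrank (K := F), Module.natCard_eq_pow_finrank (K := F) (V := WW ρ), h.dK, h.quad.1]⟩
  obtain ⟨a, ha⟩ := h1.2 ⟨v, hv⟩
  exact ⟨a, congrArg Subtype.val ha⟩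

/-- the scalars -/
theorem exists_aut {w : V} (hw : w ∈ WW ρ) (h0 : w ≠ 0) :
    ∃ σ : K ≃+* K, ∀ (c : F) (a : K), ps ρ (σ (c • a)) w = c • ps ρ (σ a) w := by
  choose j hj using fun c : F => h.ps_surj hw h0 ((WW ρ).smul_mem c hw)
  have h1 : ∀ c a, ps ρ (j c * a) w = c • ps ρ a w := fun c a => by rw [mul_comm, h.ps_mul _ _ hw, hj, map_smul]
  let J : F →+* K :=
    { toFun := j
      map_one' := h.ps_inj hw h0 (by rw [hj, h.ps_one hw, one_smul])
      map_mul' := fun c d => h.ps_inj hw h0 (by rw [h1, hj, hj, mul_smul])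
      map_zero' := h.ps_inj hw h0 (by rw [hj, ps_zero, zero_smul])
      map_add' := fun c d => h.ps_inj hw h0 (by rw [h.ps_add, hj, hj, hj, add_smul]) }
  have h2 := @Module.natCard_eq_pow_finrank F K _ _ J.toAlgebra.toModule _
  rw [Module.natCard_eq_pow_finrank (K := F)] at h2
  obtain ⟨f⟩ := @FiniteField.nonempty_algHom_of_finrank_dvd F K K _ _ _ _ J.toAlgebra _
    (Nat.pow_right_injective Finite.one_lt_card h2).dvd
  let g : K →+* K := @AlgHom.toRingHom F K K _ _ _ _ J.toAlgebra f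
  have h3 : ∀ c, g (algebraMap F K c) = j c := @AlgHom.commutes F K K _ _ _ _ J.toAlgebra f
  refine ⟨RingEquiv.ofBijective g (Finite.injective_iff_bijective.1 g.injective), fun c a => ?_⟩
  rw [RingEquiv.ofBijective_apply, RingEquiv.ofBijective_apply, Algebra.smul_def, map_mul, h3, h1]

end Cx

/-- the matrix -/
abbrev mx (g : SL(2, K)) : Matrix (Fin 2) (Fin 2) K := g

/-- the determinant form -/
def dt (x y : Fin 2 → K) : K := x 0 * y 1 + x 1 * y 0

/-- **The normal form.** -/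
theorem Cx.nf (h : Cx ρ B) : ∃ (σ : K ≃+* K) (θ : (Fin 2 → K) ≃ₗ[F] V),
    (∀ g x, ρ (SpecialLinearGroup.map σ.toRingHom g) (θ x) = θ (mx g *ᵥ x)) ∧
      ∀ x y, B (θ x) (θ y) = Algebra.trace F K (dt x y) := by
  obtain ⟨w, hw, h0⟩ := (WW ρ).ne_bot_iff.1 fun e => by
    have h1 := h.quad.1
    rw [e, finrank_bot] at h1
    omega
  obtain ⟨σ, hσ⟩ := h.exists_aut hw h0
  let t : (Fin 2 → K) →ₗ[F] V :=
    { toFun := fun x => ps ρ (σ (x 0)) w + ρ (nn K) (ps ρ (σ (x 1)) w)
      map_add' := fun x y => by simp only [Pi.add_apply, map_add, h.ps_add, add_add_add_comm]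
      map_smul' := fun c x => by simp only [Pi.smul_apply, hσ, map_smul, smul_add, RingHom.id_apply] }
  have t0 : ∀ x, t x = ps ρ (σ (x 0)) w + ρ (nn K) (ps ρ (σ (x 1)) w) := fun _ => rfl
  have t1 : Function.Injective t := (injective_iff_map_eq_zero t).2 fun x hx => by
    have h1 := h.quad.2.2.2 _ (h.ps_mem (σ (x 1)) w) (by
      rw [eq_neg_of_add_eq_zero_right hx]
      exact neg_mem (h.ps_mem _ _))
    rw [t0, h1, map_zero, add_zero] at hx
    funext i
    fin_cases i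
    exacts [σ.map_eq_zero_iff.1 (h.ps_eq_zero hw h0 hx), σ.map_eq_zero_iff.1 (h.ps_eq_zero hw h0 h1)]
  have t2 : ∀ g x, ρ (SpecialLinearGroup.map σ.toRingHom g) (t x) = t (mx g *ᵥ x) := fun g => by
    induction g using sl2_ind with
    | hu a =>
      intro x
      have h1 : SpecialLinearGroup.map σ.toRingHom (uu a) = uu (σ a) := by
        ext i j
        (revert i j; simp only [uu_val, _root_.Fin.forall_fin_succ, _root_.RingEquiv.toRingHom_eq_coe, _root_.Matrix.SpecialLinearGroup.map_apply_coe, _root_.RingHom.mapMatrix_apply, _root_.RingHom.coe_coe, _root_.Matrix.map_apply, _root_.Matrix.of_apply, _root_.Matrix.cons_val', _root_.Matrix.cons_val_fin_one, Fin.isValue, _root_.Matrix.cons_val_zero, _root_.Matrix.cons_val_succ, _root_.forall_const, _root_.map_one, _root_.and_self, _root_.map_zero, _root_.implies_true])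
      rw [h1, t0, t0, map_add, h.ps_mem, ps_eq, ← h.ps_mul _ _ hw]
      simp [uu_val, h.ps_add, mulVec, dotProduct, add_assoc, add_comm]
    | hn =>
      intro x
      have h1 : SpecialLinearGroup.map σ.toRingHom (nn K) = nn K := by
        ext i j
        (revert i j; simp only [nn_val, _root_.Fin.forall_fin_succ, _root_.RingEquiv.toRingHom_eq_coe, _root_.Matrix.SpecialLinearGroup.map_apply_coe, _root_.RingHom.mapMatrix_apply, _root_.RingHom.coe_coe, _root_.Matrix.map_apply, _root_.Matrix.of_apply, _root_.Matrix.cons_val', _root_.Matrix.cons_val_fin_one, Fin.isValue, _root_.Matrix.cons_val_zero, _root_.Matrix.cons_val_succ, _root_.forall_const, _root_.map_zero, _root_.map_one, _root_.and_self, _root_.implies_true])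
      rw [h1, t0, t0, map_add, ap_nn, add_comm]
      simp only [nn_val, mulVec, dotProduct, _root_.Fin.isValue, _root_.Matrix.of_apply, _root_.Matrix.cons_val', _root_.Matrix.cons_val_fin_one, _root_.Matrix.cons_val_zero, _root_.Fin.sum_univ_two, _root_.MulZeroClass.zero_mul, _root_.Matrix.cons_val_one, _root_.one_mul, _root_.zero_add, _root_.add_zero]
    | hm a b ha hb => exact fun x => by rw [map_mul, ap_mul, hb, ha, mulVec_mulVec]; rfl
  have t3 : ∀ (g : SL(2, K)) x y, B (t (mx g *ᵥ x)) (t (mx g *ᵥ y)) = B (t x) (t y) := fun g x y => by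
    rw [← t2, ← t2, h.inv]
  let θ := t.linearEquivOfInjective t1 (by
    rw [h.dV, Module.finrank_pi_fintype, Finset.sum_const, h.dK]
    rfl)
  let L : Module.Dual F K := (B.flip (t ![0, 1])).comp (t.comp (LinearMap.single F (fun _ => K) 0))
  have l1 : ∀ a b, B (t (Pi.single 0 a)) (t (Pi.single 1 b)) = L (a * b) := fun a b => by
    rcases eq_or_ne b 0 with rfl | hb
    · simp
    have e1 : mx (hh (Units.mk0 b hb)) *ᵥ Pi.single 0 a = Pi.single 0 (a * b) := by
      funext i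
      (revert i; simp only [hh_val, mul_comm, _root_.Fin.forall_fin_succ, _root_.Units.val_mk0, _root_.Units.val_inv_eq_inv_val, Fin.isValue, _root_.Matrix.mulVec_single, _root_.Pi.smul_apply, _root_.Matrix.col_apply, _root_.Matrix.of_apply, _root_.Matrix.cons_val', _root_.Matrix.cons_val_zero, _root_.Matrix.cons_val_fin_one, _root_.MulOpposite.smul_eq_mul_unop, _root_.MulOpposite.unop_op, _root_.Pi.single_eq_same, _root_.Matrix.cons_val_succ, _root_.MulZeroClass.mul_zero, _root_.ne_eq, _root_.Fin.succ_ne_zero, _root_.not_false_eq_true, _root_.Pi.single_eq_of_ne, _root_.implies_true, _root_.and_self])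
    have e2 : mx (hh (Units.mk0 b hb)) *ᵥ Pi.single 1 b = ![0, 1] := by
      funext i
      (revert i; simp only [hh_val, hb, _root_.Fin.forall_fin_succ, _root_.Units.val_mk0, _root_.Units.val_inv_eq_inv_val, Fin.isValue, _root_.Matrix.mulVec_single, _root_.Pi.smul_apply, _root_.Matrix.col_apply, _root_.Matrix.of_apply, _root_.Matrix.cons_val', _root_.Matrix.cons_val_one, _root_.Matrix.cons_val_fin_one, _root_.MulOpposite.smul_eq_mul_unop, _root_.MulOpposite.unop_op, _root_.Nat.succ_eq_add_one, Nat.reduceAdd, _root_.Matrix.cons_val_zero, _root_.MulZeroClass.zero_mul, _root_.Matrix.cons_val_succ, _root_.ne_eq, _root_.not_false_eq_true, _root_.inv_mul_cancel₀, _root_.implies_true, _root_.and_self])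
    rw [← t3 (hh (Units.mk0 b hb)), e1, e2]
    rfl
  have l2 : ∀ a b, B (t (Pi.single 0 a)) (t (Pi.single 0 b)) = 0 := fun a b => by
    simpa only [t0, ps_zero, _root_.Fin.isValue, _root_.Pi.single_eq_same, _root_.ne_eq, _root_.one_ne_zero, _root_.not_false_eq_true, _root_.Pi.single_eq_of_ne, _root_.map_zero, _root_.add_zero] using h.quad.2.2.1 _ (h.ps_mem _ _) _ (h.ps_mem _ _)
  have l3 : ∀ a b, B (t (Pi.single 1 a)) (t (Pi.single 1 b)) = 0 := fun a b => by
    simpa only [t0, ps_zero, h.inv, _root_.Fin.isValue, _root_.ne_eq, _root_.zero_ne_one, _root_.not_false_eq_true, _root_.Pi.single_eq_of_ne, _root_.map_zero, _root_.Pi.single_eq_same, _root_.zero_add] using h.quad.2.2.1 _ (h.ps_mem _ _) _ (h.ps_mem _ _)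
  have l4 : ∀ x y, B (t x) (t y) = L (dt x y) := fun x y => by
    have h1 : ∀ z : Fin 2 → K, z = Pi.single 0 (z 0) + Pi.single 1 (z 1) := fun z => by
      funext i
      (revert i; simp only [_root_.Fin.forall_fin_succ, Fin.isValue, _root_.Pi.add_apply, _root_.Pi.single_eq_same, _root_.ne_eq, _root_.zero_ne_one, _root_.not_false_eq_true, _root_.Pi.single_eq_of_ne, _root_.add_zero, _root_.Fin.succ_ne_zero, _root_.zero_add, _root_.Fin.succ_zero_eq_one, _root_.IsEmpty.forall_iff, _root_.and_self])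
    conv_lhs => rw [h1 x, h1 y]
    simp only [map_add, LinearMap.add_apply]
    rw [l1, l2, l3, h.sk, l1, CharTwo.neg_eq, zero_add, add_zero, dt, map_add, mul_comm (x 1), add_comm]
  obtain ⟨c, hc⟩ := ((Algebra.traceForm F K).toDual (traceForm_nondegenerate F K)).surjective L
  have l5 : ∀ a, L a = Algebra.trace F K (c * a) := fun a => by rw [← hc]; rfl
  obtain ⟨m, rfl⟩ : ∃ m, m * m = c := by
    have := Fact.mk Nat.prime_two
    obtain ⟨m, hm⟩ := (bijective_frobenius K 2).2 c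
    exact ⟨m, by rw [← hm, frobenius_def, sq]⟩
  have m0 : m ≠ 0 := by
    rintro rfl
    refine h0 (h.nd w fun v => ?_)
    obtain ⟨x, hx⟩ := θ.surjective w
    obtain ⟨y, rfl⟩ := θ.surjective v
    rw [← hx]
    exact (l4 x y).trans (by rw [l5, mul_zero, zero_mul, map_zero])
  refine ⟨σ, ((LinearEquiv.smulOfNeZero K (Fin 2 → K) m⁻¹ (inv_ne_zero m0)).restrictScalars F).trans θ,
    fun g x => ?_, fun x y => ?_⟩
  · show ρ _ (t (m⁻¹ • x)) = t (m⁻¹ • (mx g *ᵥ x))
    rw [t2, mulVec_smul]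
  · show B (t (m⁻¹ • x)) (t (m⁻¹ • y)) = _
    rw [l4, l5]
    congr 1
    simp only [dt, Pi.smul_apply, smul_eq_mul]
    field_simp

end Cfsg.Agent.SM.S6
end

-- part: SM/S6/Main
section
/-!
# SM (S3570): the subgroups `SL₂(q³)` of `Sp₆(q)`, `q` even, form one class; the normaliser contains `A.3` (helper89)
-/

set_option autoImplicit false
set_option linter.unusedSectionVars false
set_option maxHeartbeats 200000

namespace Cfsg.Agent.SM.S6

open Matrix Module
open scoped MatrixGroups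

variable {F K : Type} [Field F] [Finite F] [CharP F 2] [Field K] [Finite K] [CharP K 2]

/-- the action on the natural module -/
def ac (F : Type) [Field F] : symplecticGroup (Fin 3) F →* End F (Fin 3 ⊕ Fin 3 → F) where
  toFun A := toLin' A.1
  map_one' := toLin'_one
  map_mul' A B := toLin'_mul A.1 B.1

/-- the form -/
noncomputable def bf (F : Type) [Field F] : LinearMap.BilinForm F (Fin 3 ⊕ Fin 3 → F) := toBilin' (J (Fin 3) F)

theorem ac_inj : Function.Injective (ac F) := fun _ _ h => Subtype.ext (toLin'.injective h)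

theorem bf_ac (A : symplecticGroup (Fin 3) F) (v w : Fin 3 ⊕ Fin 3 → F) : bf F (ac F A v) (ac F A w) = bf F v w := by
  have h := congrArg toBilin' (SymplecticGroup.mem_iff'.1 A.2)
  rw [← Matrix.toBilin'_comp] at h
  exact LinearMap.congr_fun₂ h v w

theorem exists_ac {g : End F (Fin 3 ⊕ Fin 3 → F)} (h : ∀ v w, bf F (g v) (g w) = bf F v w) : ∃ A, ac F A = g := by
  refine ⟨⟨LinearMap.toMatrix' g, SymplecticGroup.mem_iff'.2 (toBilin'.injective ?_)⟩, toLin'_toMatrix' g⟩
  rw [← Matrix.toBilin'_comp, toLin'_toMatrix']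
  exact LinearMap.ext₂ h

theorem bf_alt (v : Fin 3 ⊕ Fin 3 → F) : bf F v v = 0 := by
  simp only [bf, toBilin'_apply', J, dotProduct, mulVec, Fintype.sum_sum_type, one_apply, mul_comm, _root_.Matrix.fromBlocks_apply₁₁, _root_.Matrix.zero_apply, _root_.MulZeroClass.zero_mul, _root_.Finset.sum_const_zero, _root_.Matrix.fromBlocks_apply₁₂, _root_.Matrix.neg_apply, _root_.neg_mul, _root_.ite_mul, _root_.one_mul, _root_.Finset.sum_neg_distrib, _root_.Finset.sum_ite_eq, _root_.Finset.mem_univ, ↓ _root_.reduceIte, _root_.zero_add, _root_.mul_neg, _root_.Matrix.fromBlocks_apply₂₁, _root_.Matrix.fromBlocks_apply₂₂, _root_.add_zero, _root_.neg_add_cancel]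

theorem bf_nd (v : Fin 3 ⊕ Fin 3 → F) (h : ∀ w, bf F v w = 0) : v = 0 := by
  refine funext fun i => ?_
  have h1 := h (-J (Fin 3) F *ᵥ Pi.single i 1)
  rwa [bf, toBilin'_apply', mulVec_mulVec, Matrix.mul_neg, J_squared, neg_neg, one_mulVec, dotProduct_single_one] at h1

section

variable [Algebra F K]

/-- the subgroup `SL₂(K)` in the coordinates `θ` -/
def Nf (θ : (Fin 2 → K) ≃ₗ[F] (Fin 3 ⊕ Fin 3 → F)) (A : Subgroup (symplecticGroup (Fin 3) F)) : Prop :=
  (∀ x y, bf F (θ x) (θ y) = Algebra.trace F K (dt x y)) ∧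
    ∀ g, g ∈ A ↔ ∃ s : SL(2, K), ∀ x, ac F g (θ x) = θ (mx s *ᵥ x)

theorem exists_nf (hK : finrank F K = 3) {A : Subgroup (symplecticGroup (Fin 3) F)} (e : A ≃* SL(2, K)) :
    ∃ θ : (Fin 2 → K) ≃ₗ[F] (Fin 3 ⊕ Fin 3 → F), Nf θ A := by
  have h : Cx ((ac F).comp (A.subtype.comp e.symm.toMonoidHom)) (bf F) :=
    ⟨hK, by simp, ac_inj.comp (Subtype.val_injective.comp e.symm.injective), bf_alt, bf_nd, fun _ => bf_ac _⟩
  obtain ⟨σ, θ, h1, h2⟩ := h.nf
  refine ⟨θ, h2, fun g => ⟨fun hg => ⟨SpecialLinearGroup.map σ.symm.toRingHom (e ⟨g, hg⟩), fun x => ?_⟩,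
    fun ⟨s, hs⟩ => ?_⟩⟩
  · rw [← h1, show SpecialLinearGroup.map σ.toRingHom (SpecialLinearGroup.map σ.symm.toRingHom (e ⟨g, hg⟩)) = e ⟨g, hg⟩
      from Subtype.ext (Matrix.ext fun i j => σ.apply_symm_apply _)]
    simp only [_root_.MulEquiv.toMonoidHom_eq_coe, _root_.MonoidHom.coe_comp, _root_.Subgroup.coe_subtype, _root_.MonoidHom.coe_coe, _root_.Function.comp_apply, _root_.MulEquiv.symm_apply_apply]
  · rw [ac_inj (a₁ := g) (a₂ := e.symm (SpecialLinearGroup.map σ.toRingHom s)) (LinearMap.ext fun v => by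
      obtain ⟨x, rfl⟩ := θ.surjective v
      exact (hs x).trans (h1 s x).symm)]
    exact Subtype.prop _

variable {θ θ' : (Fin 2 → K) ≃ₗ[F] (Fin 3 ⊕ Fin 3 → F)} {A A' : Subgroup (symplecticGroup (Fin 3) F)}

theorem Nf.conj (h : Nf θ A) (h' : Nf θ' A') : ∃ c, (∀ x, ac F c (θ x) = θ' x) ∧ ∀ g, g ∈ A ↔ c * g * c⁻¹ ∈ A' := by
  obtain ⟨c, hc⟩ := exists_ac (g := (θ.symm.trans θ').toLinearMap) fun v w => by
    obtain ⟨x, rfl⟩ := θ.surjective v
    obtain ⟨y, rfl⟩ := θ.surjective w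
    simp [h.1, h'.1]
  have h1 : ∀ x, ac F c (θ x) = θ' x := fun x => by simp [hc]
  have h2 : ∀ v, ac F c⁻¹ (ac F c v) = v := fun v => by rw [← End.mul_apply, ← map_mul, inv_mul_cancel, map_one]; rfl
  refine ⟨c, h1, fun g => (h.2 g).trans (Iff.trans (exists_congr fun s => forall_congr' fun x => ?_) (h'.2 _).symm)⟩
  rw [map_mul, map_mul, End.mul_apply, End.mul_apply, ← h1, ← h1, h2]
  exact (Function.LeftInverse.injective h2).eq_iff.symm

/-- a field automorphism in both coordinates -/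
def tw (τ : K ≃ₐ[F] K) : (Fin 2 → K) ≃ₗ[F] (Fin 2 → K) := LinearEquiv.piCongrRight fun _ => τ.toLinearEquiv

theorem tw_apply (τ : K ≃ₐ[F] K) (x : Fin 2 → K) (i : Fin 2) : tw τ x i = τ (x i) := rfl

theorem tw_mulVec (τ : K ≃ₐ[F] K) (s : SL(2, K)) (x : Fin 2 → K) :
    tw τ (mx s *ᵥ x) = mx (SpecialLinearGroup.map τ.toRingEquiv.toRingHom s) *ᵥ tw τ x := by
  funext i
  (revert i; simp only [tw_apply, mulVec, dotProduct, _root_.Fin.forall_fin_succ, _root_.Matrix.mulVec_fin_two, _root_.Nat.succ_eq_add_one, Nat.reduceAdd, Fin.isValue, _root_.RingEquiv.toRingHom_eq_coe, _root_.AlgEquiv.toRingEquiv_toRingHom, _root_.Matrix.SpecialLinearGroup.map_apply_coe, _root_.RingHom.mapMatrix_apply, _root_.RingHom.coe_coe, _root_.Matrix.map_apply, _root_.Fin.sum_univ_two, _root_.Matrix.cons_val_zero, _root_.map_add, _root_.map_mul, _root_.Matrix.cons_val_succ, _root_.Matrix.cons_val_fin_one, _root_.Fin.succ_zero_eq_one, _root_.IsEmpty.forall_iff, _root_.and_self])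

theorem Nf.tw (h : Nf θ A) (τ : K ≃ₐ[F] K) : Nf ((tw τ).trans θ) A := by
  refine ⟨fun x y => ?_, fun g => (h.2 g).trans ⟨fun ⟨s, hs⟩ => ?_, fun ⟨s, hs⟩ => ?_⟩⟩
  · rw [LinearEquiv.trans_apply, LinearEquiv.trans_apply, h.1, ← Algebra.trace_eq_of_algEquiv τ (dt x y)]
    simp only [dt, tw_apply, _root_.Fin.isValue, _root_.map_add, _root_.map_mul]
  · refine ⟨SpecialLinearGroup.map τ.symm.toRingEquiv.toRingHom s, fun x => ?_⟩
    rw [LinearEquiv.trans_apply, LinearEquiv.trans_apply, hs, tw_mulVec]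
    congr 3
    exact Subtype.ext (Matrix.ext fun i j => (τ.apply_symm_apply _).symm)
  · refine ⟨SpecialLinearGroup.map τ.toRingEquiv.toRingHom s, fun x => ?_⟩
    obtain ⟨x, rfl⟩ := (S6.tw τ).surjective x
    exact (hs x).trans (by rw [LinearEquiv.trans_apply, tw_mulVec])

theorem Nf.three (h : Nf θ A) (hK : finrank F K = 3) :
    ∃ c ∈ Subgroup.normalizer (A : Set (symplecticGroup (Fin 3) F)), c ∉ A ∧ c ^ 3 = 1 := by
  have h1 : Nat.card (K ≃ₐ[F] K) = 3 := (IsGalois.card_aut_eq_finrank F K).trans hK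
  have : Nontrivial (K ≃ₐ[F] K) := Finite.one_lt_card_iff_nontrivial.1 (by omega)
  obtain ⟨τ, hτ⟩ := exists_ne (1 : K ≃ₐ[F] K)
  obtain ⟨c, h2, h3⟩ := h.conj (h.tw τ)
  refine ⟨c, h3, fun hc => hτ (AlgEquiv.ext fun a => ?_), ac_inj (LinearMap.ext fun v => ?_)⟩
  · obtain ⟨s, hs⟩ := (h.2 c).1 hc
    have h4 : ∀ a : K, τ a = mx s 0 0 * a := fun a => by
      simpa [tw_apply] using congrFun (θ.injective ((h2 (Pi.single 0 a)).symm.trans (hs _))) 0
    rw [h4, ← mul_one (mx s 0 0), ← h4, map_one, one_mul]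
    rfl
  · obtain ⟨x, rfl⟩ := θ.surjective v
    have h4 : τ ^ 3 = 1 := h1 ▸ pow_card_eq_one'
    have h5 : ∀ x, ac F c (θ x) = θ (S6.tw τ x) := h2
    rw [pow_three, map_mul, map_mul, End.mul_apply, End.mul_apply, h5, h5, h5, map_one]
    refine congrArg θ (funext fun i => ?_)
    rw [pow_three] at h4
    exact AlgEquiv.congr_fun h4 (x i)

end

theorem exists_alg (hK : Nat.card K = Nat.card F ^ 3) : ∃ _ : Algebra F K, finrank F K = 3 := by
  let _ := ZMod.algebra F 2
  let _ := ZMod.algebra K 2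
  have h1 := hK
  rw [Module.natCard_eq_pow_finrank (K := ZMod 2), Module.natCard_eq_pow_finrank (K := ZMod 2) (V := F), ← pow_mul] at h1
  obtain ⟨f⟩ := FiniteField.nonempty_algHom_of_finrank_dvd (F := ZMod 2) (K := F) (L := K)
    ⟨3, Nat.pow_right_injective Finite.one_lt_card h1⟩
  let _ := f.toRingHom.toAlgebra
  rw [Module.natCard_eq_pow_finrank (K := F)] at hK
  exact ⟨_, Nat.pow_right_injective Finite.one_lt_card hK⟩

variable {L : Type} [Group L] (e : L ≃* symplecticGroup (Fin 3) F) (hK : Nat.card K = Nat.card F ^ 3)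

theorem mem_im {A : Subgroup L} {g : L} : e g ∈ A.map (e : L →* symplecticGroup (Fin 3) F) ↔ g ∈ A :=
  Subgroup.mem_map_iff_mem (f := (e : L →* symplecticGroup (Fin 3) F)) e.injective

include e hK

/-- **One class.** -/
theorem conj {A A' : Subgroup L} (hA : Nonempty (A ≃* SL(2, K))) (hA' : Nonempty (A' ≃* SL(2, K))) :
    ∃ c : L, ∀ g, g ∈ A ↔ c * g * c⁻¹ ∈ A' := by
  obtain ⟨_, h1⟩ := exists_alg hK
  obtain ⟨θ, h2⟩ := exists_nf h1 ((e.subgroupMap A).symm.trans hA.some)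
  obtain ⟨θ', h3⟩ := exists_nf h1 ((e.subgroupMap A').symm.trans hA'.some)
  obtain ⟨c, -, hc⟩ := h2.conj h3
  obtain ⟨c, rfl⟩ := e.surjective c
  refine ⟨c, fun g => ?_⟩
  have h4 := hc (e g)
  rw [← map_inv, ← map_mul, ← map_mul] at h4
  exact (mem_im e).symm.trans (h4.trans (mem_im e))

/-- **The normaliser contains `A.3`.** -/
theorem three {A : Subgroup L} (hA : Nonempty (A ≃* SL(2, K))) :
    ∃ c ∈ Subgroup.normalizer (A : Set L), c ∉ A ∧ c ^ 3 = 1 := by
  obtain ⟨_, h1⟩ := exists_alg hK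
  obtain ⟨θ, h2⟩ := exists_nf h1 ((e.subgroupMap A).symm.trans hA.some)
  obtain ⟨c, h3, h4, h5⟩ := h2.three h1
  obtain ⟨c, rfl⟩ := e.surjective c
  refine ⟨c, fun g => ?_, fun h => h4 ⟨c, h, rfl⟩, e.injective (by rw [map_pow, h5, map_one])⟩
  have h6 := h3 (e g)
  rw [← map_inv, ← map_mul, ← map_mul] at h6
  exact (mem_im e).symm.trans (h6.trans (mem_im e))

end Cfsg.Agent.SM.S6
end

-- part: SM/F4/TT
section
/-!
# SM (S3570), the row `³D₄(q) < F₄(q)`: the subgroups `³D₄(q)` of long type form one class (helper37)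
-/

set_option autoImplicit false
set_option linter.unusedSectionVars false

namespace Cfsg.Agent.SM.F4

open Subgroup
open scoped commutatorElement MatrixGroups Pointwise

section tools

variable {G : Type} [Group G]

theorem card_mul_relIndex {H K : Subgroup G} (h : H ≤ K) : Nat.card H * H.relIndex K = Nat.card K := by
  rw [Subgroup.relIndex, ← Nat.card_congr (Subgroup.subgroupOfEquivOfLe h).toEquiv]
  exact Subgroup.card_mul_index _

theorem card_sup_mul {K H : Subgroup G} (h : H ≤ normalizer (K : Set G)) :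
    Nat.card (K ⊔ H : Subgroup G) * Nat.card (K ⊓ H : Subgroup G) = Nat.card K * Nat.card H := by
  have hKn : (K.subgroupOf (K ⊔ H)).Normal := normal_subgroupOf_of_le_normalizer (sup_le le_normalizer h)
  have h1 := relIndex_sup_left (H.subgroupOf (K ⊔ H)) (K.subgroupOf (K ⊔ H))
  rw [← Subgroup.subgroupOf_sup le_sup_left le_sup_right, Subgroup.subgroupOf_self,
    Subgroup.relIndex_subgroupOf le_sup_right, relIndex_top_right] at h1
  have h2 : Nat.card K * K.relIndex H = Nat.card (K ⊔ H : Subgroup G) := by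
    rw [← h1]
    exact card_mul_relIndex le_sup_left
  have h3 : Nat.card (K ⊓ H : Subgroup G) * K.relIndex H = Nat.card H := by
    rw [← Subgroup.inf_relIndex_right K H]
    exact card_mul_relIndex inf_le_right
  rw [← h2, ← h3]
  ring

theorem card_mul_card_le [Finite G] {A B S : Subgroup G} (hA : A ≤ S) (hB : B ≤ S) :
    Nat.card A * Nat.card B ≤ Nat.card S * Nat.card ↥(A ⊓ B) := by
  rw [inf_comm]
  have h1 : Nat.card ↥(B ⊓ A) * B.relIndex A = Nat.card A := by
    rw [← inf_relIndex_right]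
    exact card_mul_relIndex inf_le_right
  have h2 : Nat.card B * B.relIndex S = Nat.card S := card_mul_relIndex hB
  have h3 : B.relIndex A ≤ B.relIndex S := relIndex_le_of_le_right hA (B.subgroupOf S).index_ne_zero_of_finite
  calc Nat.card A * Nat.card B = Nat.card ↥(B ⊓ A) * B.relIndex A * Nat.card B := by rw [h1]
    _ ≤ Nat.card ↥(B ⊓ A) * B.relIndex S * Nat.card B := by gcongr
    _ = Nat.card S * Nat.card ↥(B ⊓ A) := by rw [← h2]; ring

theorem mem_norm [Finite G] {X : Subgroup G} {g : G} (h : ∀ x ∈ X, g * x * g⁻¹ ∈ X) : g ∈ normalizer (X : Set G) :=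
  mem_normalizer_fintype h

theorem conj_mem {X : Subgroup G} {g x : G} (h : g ∈ normalizer (X : Set G)) (hx : x ∈ X) : g * x * g⁻¹ ∈ X :=
  (mem_normalizer_iff.1 h x).1 hx

theorem mem_sup_norm {K H : Subgroup G} (h : H ≤ normalizer (K : Set G)) {x : G} (hx : x ∈ K ⊔ H) :
    ∃ k ∈ K, ∃ y ∈ H, x = k * y := by
  have h1 : ((K ⊔ H : Subgroup G) : Set G) = (K : Set G) * (H : Set G) := coe_mul_of_right_le_normalizer_left K H h
  have h2 : x ∈ ((K ⊔ H : Subgroup G) : Set G) := hx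
  rw [h1] at h2
  obtain ⟨k, hk, y, hy, e⟩ := h2
  exact ⟨k, hk, y, hy, e.symm⟩

theorem conj_sup {K H : Subgroup G} {g : G} (h1 : ∀ x ∈ K, g * x * g⁻¹ ∈ K) (h2 : ∀ x ∈ H, g * x * g⁻¹ ∈ H) :
    ∀ x ∈ K ⊔ H, g * x * g⁻¹ ∈ K ⊔ H := fun _ hx =>
  (sup_le (a := K) (b := H) (c := (K ⊔ H).comap (MulAut.conj g).toMonoidHom) (fun y hy => mem_sup_left (h1 y hy))
    fun y hy => mem_sup_right (h2 y hy)) hx

theorem conj_of_comm {g x : G} (h : g * x = x * g) : g * x * g⁻¹ = x := by rw [h, mul_inv_cancel_right]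

theorem pow_dvd_card [Finite G] {X : Subgroup G} (h : IsPGroup 2 X) {k : ℕ} (hk : 2 ^ k ≤ Nat.card X) :
    2 ^ k ∣ Nat.card X := by
  obtain ⟨n, hn⟩ := IsPGroup.iff_card.1 h
  rw [hn] at hk ⊢
  exact pow_dvd_pow _ ((Nat.pow_le_pow_iff_right (by norm_num)).1 hk)

theorem isP {X : Subgroup G} {a n : ℕ} (h : Nat.card X = (2 ^ a) ^ n) : IsPGroup 2 X :=
  IsPGroup.of_card (h.trans (pow_mul 2 a n).symm)

theorem card_map_eq {G' : Type} [Group G'] {f : G →* G'} (hf : Function.Injective f) (X : Subgroup G) :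
    Nat.card (X.map f) = Nat.card X := (Nat.card_congr (X.equivMapOfInjective f hf).toEquiv).symm

/-- a subgroup normalised by a simple group meets it trivially or contains it -/
theorem inf_or_le {A Y : Subgroup G} (hA : IsSimpleGroup A) (h : ∀ a ∈ A, ∀ y ∈ Y, a * y * a⁻¹ ∈ Y) :
    Y ⊓ A = ⊥ ∨ A ≤ Y := by
  have hn : (Y.subgroupOf A).Normal := ⟨fun y hy a => h a a.2 y hy⟩
  rcases hn.eq_bot_or_eq_top with e | e
  · exact Or.inl (disjoint_iff.1 (subgroupOf_eq_bot.1 e))
  · exact Or.inr (subgroupOf_eq_top.1 e)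

end tools

/-- the local data of a subgroup `T ≅ ³D₄(q)` -/
structure LT (K : Type) [Field K] (q : ℕ) {S : Type} [Group S] (T Z Zm Q A : Subgroup S) : Prop where
  cardZ : Nat.card Z = q
  cardQ : Nat.card Q = q ^ 9
  ZQ : Z ≤ Q
  comQ : ⁅Q, Q⁆ = Z
  cenQ : ∀ g ∈ Q, (∀ y ∈ Q, g * y = y * g) ↔ g ∈ Z
  sqZ : ∀ z ∈ Z, z * z = 1
  isoA : Nonempty (A ≃* SL(2, K))
  simA : IsSimpleGroup A
  cardA : Nat.card A = q ^ 3 * (q ^ 6 - 1)
  cenA : ∀ g, g ∈ A ↔ g ∈ T ∧ (∀ z ∈ Z, g * z = z * g) ∧ ∀ z ∈ Zm, g * z = z * g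
  nQ : ∀ a ∈ A, ∀ y ∈ Q, a * y * a⁻¹ ∈ Q
  irr : ∀ N : Subgroup S, Z ≤ N → N ≤ Q → (∀ a ∈ A, ∀ y ∈ N, a * y * a⁻¹ ∈ N) → N = Z ∨ N = Q
  gen : Q ⊔ Zm = T
  w : ∃ w, Z.map (MulAut.conj w).toMonoidHom = Zm
  nP : ¬ IsPGroup 2 ↥(Z ⊔ Zm)

theorem LT.map {K : Type} [Field K] {q : ℕ} {S S' : Type} [Group S] [Group S'] {T Z Zm Q A : Subgroup S}
    (t : LT K q T Z Zm Q A) {f : S →* S'} (hf : Function.Injective f) :
    LT K q (T.map f) (Z.map f) (Zm.map f) (Q.map f) (A.map f) where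
  cardZ := (card_map_eq hf Z).trans t.cardZ
  cardQ := (card_map_eq hf Q).trans t.cardQ
  ZQ := map_mono t.ZQ
  comQ := by rw [← map_commutator, t.comQ]
  cenQ := by
    rintro _ ⟨g, hg, rfl⟩
    rw [mem_map_iff_mem hf, ← t.cenQ g hg]
    exact ⟨fun h y hy => hf (by rw [map_mul, map_mul]; exact h _ ⟨y, hy, rfl⟩),
      fun h _ ⟨y, hy, e⟩ => by rw [← e, ← map_mul, ← map_mul, h y hy]⟩
  sqZ := by
    rintro _ ⟨z, hz, rfl⟩
    rw [← map_mul, t.sqZ z hz, map_one]
  isoA := ⟨(A.equivMapOfInjective f hf).symm.trans t.isoA.some⟩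
  simA := (A.equivMapOfInjective f hf).isSimpleGroup_congr.1 t.simA
  cardA := (card_map_eq hf A).trans t.cardA
  cenA := fun g => by
    constructor
    · rintro ⟨g, hg, rfl⟩
      obtain ⟨h1, h2, h3⟩ := (t.cenA g).1 hg
      exact ⟨⟨g, h1, rfl⟩, fun _ ⟨y, hy, e⟩ => by rw [← e, ← map_mul, ← map_mul, h2 y hy],
        fun _ ⟨y, hy, e⟩ => by rw [← e, ← map_mul, ← map_mul, h3 y hy]⟩
    · rintro ⟨⟨g, hg, rfl⟩, h2, h3⟩
      exact ⟨g, (t.cenA g).2 ⟨hg, fun y hy => hf (by rw [map_mul, map_mul]; exact h2 _ ⟨y, hy, rfl⟩),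
        fun y hy => hf (by rw [map_mul, map_mul]; exact h3 _ ⟨y, hy, rfl⟩)⟩, rfl⟩
  nQ := by
    rintro _ ⟨a, ha, rfl⟩ _ ⟨y, hy, rfl⟩
    exact ⟨_, t.nQ a ha y hy, by rw [map_mul, map_mul, map_inv]⟩
  irr := fun N h1 h2 h3 => by
    have h4 : (N.comap f).map f = N := map_comap_eq_self (h2.trans (map_le_range f Q))
    rcases t.irr (N.comap f) (map_le_iff_le_comap.1 h1) (fun y hy => (mem_map_iff_mem hf).1 (h2 hy))
      (fun a ha y hy => by
        rw [mem_comap, map_mul, map_mul, map_inv]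
        exact h3 _ ⟨a, ha, rfl⟩ _ hy) with e | e
    · exact Or.inl (by rw [← h4, e])
    · exact Or.inr (by rw [← h4, e])
  gen := by rw [← Subgroup.map_sup, t.gen]
  w := by
    obtain ⟨w, hw⟩ := t.w
    refine ⟨f w, ?_⟩
    rw [← hw, map_map, map_map]
    congr 1
    ext x
    simp only [_root_.MulEquiv.toMonoidHom_eq_coe, _root_.MonoidHom.coe_comp, _root_.MonoidHom.coe_coe, _root_.Function.comp_apply, _root_.MulAut.conj_apply, _root_.map_mul, _root_.map_inv]
  nP := fun h => t.nP (by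
    rw [← Subgroup.map_sup] at h
    exact h.of_equiv ((Z ⊔ Zm).equivMapOfInjective f hf).symm)

section

variable {F K : Type} [Field F] [Field K] {S : Type} [Group S] [Finite S] {a : ℕ} {Z Zm Q L : Subgroup S} {γ : MulAut S}
  {T Z' Zm' Q' A T₂ Q₂ A₂ : Subgroup S}

theorem exists_ne {q : ℕ} (hq : 2 ≤ q) (h : Nat.card Z = q) : ∃ z ∈ Z, z ≠ 1 := by
  by_contra hc
  push Not at hc
  rw [(eq_bot_iff_forall _).2 hc, card_bot] at h
  omega

theorem two_le (ha : 1 ≤ a) : 2 ≤ 2 ^ a := by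
  calc 2 = 2 ^ 1 := rfl
    _ ≤ 2 ^ a := Nat.pow_le_pow_right (by norm_num) ha

theorem LocL.cent (V : LocL F Z Zm Q L) {g : S} (hg : g ∈ Q ⊔ L) {z : S} (hz : z ∈ Z) : g * z = z * g := by
  by_cases h : z = 1
  · rw [h, mul_one, one_mul]
  · rw [← V.cz z hz h] at hg
    exact mem_centralizer_singleton_iff.1 hg

theorem LocL.normZ (V : LocL F Z Zm Q L) {g : S} (hg : g ∈ Q ⊔ L) : g ∈ normalizer (Z : Set S) :=
  mem_norm fun z hz => by rwa [conj_of_comm (V.cent hg hz)]

theorem LocL.mem (V : LocL F Z Zm Q L) {g z : S} (hz : z ∈ Z) (h1 : z ≠ 1) (h : g * z = z * g) : g ∈ Q ⊔ L := by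
  rw [← V.cz z hz h1]
  exact mem_centralizer_singleton_iff.2 h

/-- **`Q_T ≤ Q`** -/
theorem LT.le (ha : 1 ≤ a) (U : LocU (2 ^ a) Z Q) (V : LocL F Z Zm Q L) (hS : ¬ (2 ^ a) ^ 26 ∣ Nat.card S)
    (t : LT K (2 ^ a) T Z' Zm' Q' A) {z : S} (hz : z ∈ Z) (hz' : z ∈ Z') (h1 : z ≠ 1) : Q' ≤ Q := by
  have hZ : ∀ x ∈ Z', ∀ y ∈ Q', x * y = y * x := fun x hx => (t.cenQ x (t.ZQ hx)).2 hx
  have hQ : ∀ y ∈ Q', y ∈ normalizer (Q : Set S) := fun y hy =>
    mem_norm (U.nQ y (V.normZ (V.mem hz h1 (hZ z hz' y hy).symm)))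
  have hA : ∀ g ∈ A, ∀ y ∈ Q, g * y * g⁻¹ ∈ Q := fun g hg =>
    U.nQ g (V.normZ (V.mem hz h1 (((t.cenA g).1 hg).2.1 z hz')))
  have hAZ : ∀ g ∈ A, ∀ y ∈ Z', g * y * g⁻¹ ∈ Z' := fun g hg y hy => by
    rwa [conj_of_comm (((t.cenA g).1 hg).2.1 y hy)]
  rcases t.irr (Q' ⊓ (Q ⊔ Z')) (le_inf t.ZQ le_sup_right) inf_le_left
    (fun g hg y hy => ⟨t.nQ g hg y hy.1, conj_sup (hA g hg) (hAZ g hg) y hy.2⟩) with e | e
  · exfalso
    have h2 : Q ⊓ Q' ≤ Z' := fun y hy => e ▸ (⟨hy.2, mem_sup_left hy.1⟩ : y ∈ Q' ⊓ (Q ⊔ Z'))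
    have h3 := card_sup_mul (K := Q) (H := Q') hQ
    have h4 : Nat.card ↥(Q ⊓ Q') ≤ 2 ^ a := t.cardZ ▸ card_le_of_le h2
    have hP : IsPGroup 2 ↥(Q ⊔ Q') := by
      rw [sup_comm]
      exact IsPGroup.to_sup_of_normal_right' (isP t.cardQ) (isP U.cardQ) hQ
    have h5 : 2 ^ (a * 23) ≤ Nat.card ↥(Q ⊔ Q') := by
      rw [U.cardQ, t.cardQ] at h3
      refine Nat.le_of_mul_le_mul_right (c := 2 ^ a) ?_ (by positivity)
      calc 2 ^ (a * 23) * 2 ^ a = (2 ^ a) ^ 15 * (2 ^ a) ^ 9 := by rw [pow_mul]; ring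
        _ = _ := h3.symm
        _ ≤ _ := Nat.mul_le_mul_left _ h4
    have hAY : ∀ g ∈ A, ∀ y ∈ Q ⊔ Q', g * y * g⁻¹ ∈ Q ⊔ Q' := fun g hg => conj_sup (hA g hg) (t.nQ g hg)
    have h6 : (Q ⊔ Q') ⊓ A = ⊥ := (inf_or_le t.simA hAY).resolve_right fun k => by
      obtain ⟨n, hn⟩ := IsPGroup.iff_card.1 (hP.to_le k)
      have h7 : (2 ^ a) ^ 6 - 1 ∣ 2 ^ n := hn ▸ t.cardA ▸ dvd_mul_left _ _
      obtain ⟨m, -, hm⟩ := (Nat.dvd_prime_pow Nat.prime_two).1 h7
      have h8 : 2 ^ 6 ≤ (2 ^ a) ^ 6 := Nat.pow_le_pow_left (two_le ha) 6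
      have h9 : 2 ∣ (2 ^ a) ^ 6 := dvd_pow (dvd_pow_self 2 (by omega)) (by norm_num)
      rcases m with _ | m
      · omega
      · have : 2 ∣ 2 ^ (m + 1) := dvd_pow_self 2 (by omega)
        omega
    have h7 := card_sup_mul (K := Q ⊔ Q') (H := A) fun g hg => mem_norm (hAY g hg)
    rw [h6, card_bot, mul_one, t.cardA] at h7
    refine hS (Dvd.dvd.trans ?_ (card_subgroup_dvd_card (Q ⊔ Q' ⊔ A)))
    rw [h7, show (2 ^ a) ^ 26 = 2 ^ (a * 23) * (2 ^ a) ^ 3 by rw [pow_mul]; ring]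
    exact mul_dvd_mul (pow_dvd_card hP h5) (dvd_mul_right _ _)
  · have h2 : ∀ x ∈ Q', ∃ y ∈ Q, ∃ u ∈ Z', x = y * u := fun x hx =>
      mem_sup_norm (fun u hu => hQ u (t.ZQ hu)) (e.symm ▸ hx : x ∈ Q' ⊓ (Q ⊔ Z')).2
    have h3 : Z' ≤ Q := by
      rw [← t.comQ, commutator_le]
      intro x hx x' hx'
      obtain ⟨y, hy, u, hu, rfl⟩ := h2 x hx
      obtain ⟨y', hy', u', hu', rfl⟩ := h2 x' hx'
      have k1 : y ∈ Q' := (Q'.mul_mem_cancel_right (t.ZQ hu)).1 hx
      have k2 : y' ∈ Q' := (Q'.mul_mem_cancel_right (t.ZQ hu')).1 hx'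
      have k3 : ⁅y * u, y' * u'⁆ = ⁅y, y'⁆ := by
        have c1 := hZ u hu _ hx'
        have c2 := hZ u' hu' _ (Q'.inv_mem k1)
        calc ⁅y * u, y' * u'⁆ = y * (u * (y' * u') * u⁻¹) * y⁻¹ * (y' * u')⁻¹ := by
              rw [commutatorElement_def]; group
          _ = y * y' * (u' * y⁻¹ * u'⁻¹) * y'⁻¹ := by rw [conj_of_comm c1]; group
          _ = _ := by rw [conj_of_comm c2, commutatorElement_def]
      rw [k3, commutatorElement_def]
      exact Q.mul_mem (Q.mul_mem (Q.mul_mem hy hy') (Q.inv_mem hy)) (Q.inv_mem hy')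
    intro x hx
    obtain ⟨y, hy, u, hu, rfl⟩ := h2 x hx
    exact Q.mul_mem hy (h3 hu)

theorem LT.eqZ {q : ℕ} (U : LocU q Z Q) (t : LT K q T Z' Zm' Q' A) (h : Q' ≤ Q) : Z' = Z :=
  eq_of_le_of_card_ge (t.comQ ▸ (commutator_mono h h).trans U.comQ) (by rw [t.cardZ, U.cardZ])

theorem map_conj_eq {X : Subgroup S} {p : S} (h : p ∈ normalizer (X : Set S)) : X.map (MulAut.conj p).toMonoidHom = X :=
  eq_of_le_of_card_ge (by
    rintro _ ⟨x, hx, rfl⟩
    exact conj_mem h hx) (card_map_eq (MulAut.conj p).injective X).ge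

theorem map_conj_mul (X : Subgroup S) (p g : S) :
    (X.map (MulAut.conj g).toMonoidHom).map (MulAut.conj p).toMonoidHom = X.map (MulAut.conj (p * g)).toMonoidHom := by
  rw [map_map, map_mul]
  rfl

/-- a subgroup in standard position -/
def Std (K : Type) [Field K] (q : ℕ) {S : Type} [Group S] (Z Zm Q T : Subgroup S) : Prop :=
  ∃ Q' A, LT K q T Z Zm Q' A ∧ Q' ≤ Q

/-- **standard position** -/
theorem LT.std (ha : 1 ≤ a) (U : LocU (2 ^ a) Z Q) (V : LocL F Z Zm Q L) (W : LocF (2 ^ a) Z Zm Q L γ)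
    (hS : ¬ (2 ^ a) ^ 26 ∣ Nat.card S) (t : LT K (2 ^ a) T Z' Zm' Q' A) {z : S} (hz : z ∈ Z) (hz' : z ∈ Z') (h1 : z ≠ 1) :
    ∃ p, Std K (2 ^ a) Z Zm Q (T.map (MulAut.conj p).toMonoidHom) := by
  have h2 := t.le ha U V hS hz hz' h1
  obtain rfl := t.eqZ U h2
  obtain ⟨w, hw⟩ := t.w
  obtain ⟨p, hp, e⟩ := W.opp w (hw.symm ▸ t.nP)
  have t' := t.map (f := (MulAut.conj p).toMonoidHom) (MulAut.conj p).injective
  rw [map_conj_eq hp, ← hw, map_conj_mul, e] at t'
  refine ⟨p, _, _, t', ?_⟩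
  rintro _ ⟨y, hy, rfl⟩
  exact U.nQ p hp y (h2 hy)

theorem LT.AL {q : ℕ} (V : LocL F Z Zm Q L) (t : LT K q T Z Zm Q' A) : A ≤ L := fun g hg =>
  (V.cenL g).2 ((t.cenA g).1 hg).2

/-- **`T` is determined by `A`** -/
theorem LT.eq (ha : 1 ≤ a) (U : LocU (2 ^ a) Z Q) (t : LT K (2 ^ a) T Z Zm Q' A) (t₂ : LT K (2 ^ a) T₂ Z Zm Q₂ A)
    (h : Q' ≤ Q) (h₂ : Q₂ ≤ Q) : T = T₂ := by
  have h1 := card_mul_card_le h h₂
  rw [t.cardQ, t₂.cardQ, U.cardQ] at h1
  rcases t.irr (Q' ⊓ Q₂) (le_inf t.ZQ t₂.ZQ) inf_le_left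
    (fun g hg y hy => ⟨t.nQ g hg y hy.1, t₂.nQ g hg y hy.2⟩) with e | e
  · exfalso
    rw [e, U.cardZ, ← pow_add, ← pow_succ, Nat.pow_le_pow_iff_right (two_le ha)] at h1
    omega
  · rw [← t.gen, ← t₂.gen, eq_of_le_of_card_ge (inf_eq_left.1 e) (by rw [t.cardQ, t₂.cardQ])]

theorem LT.conjL {q : ℕ} (U : LocU q Z Q) (V : LocL F Z Zm Q L) (t : LT K q T Z Zm Q' A) (h : Q' ≤ Q) {c : S} (hc : c ∈ L) :
    LT K q (T.map (MulAut.conj c).toMonoidHom) Z Zm (Q'.map (MulAut.conj c).toMonoidHom)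
      (A.map (MulAut.conj c).toMonoidHom) ∧ Q'.map (MulAut.conj c).toMonoidHom ≤ Q := by
  have t' := t.map (f := (MulAut.conj c).toMonoidHom) (MulAut.conj c).injective
  have h1 := V.normZ (mem_sup_right hc)
  rw [map_conj_eq h1, map_conj_eq (X := Zm) (mem_norm fun z hz => by
    rwa [conj_of_comm (((V.cenL c).1 hc).2 z hz)])] at t'
  refine ⟨t', ?_⟩
  rintro _ ⟨y, hy, rfl⟩
  exact U.nQ c h1 y (h hy)

variable [Finite F] [CharP F 2] [Finite K] [CharP K 2]

/-- **one class** -/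
theorem Std.conj (ha : 1 ≤ a) (hK : Nat.card K = Nat.card F ^ 3) (U : LocU (2 ^ a) Z Q) (V : LocL F Z Zm Q L)
    (s : Std K (2 ^ a) Z Zm Q T) (s₂ : Std K (2 ^ a) Z Zm Q T₂) : ∃ c, T.map (MulAut.conj c).toMonoidHom = T₂ := by
  obtain ⟨Q', A, t, h⟩ := s
  obtain ⟨Q₂, A₂, t₂, h₂⟩ := s₂
  obtain ⟨c, hc⟩ := S6.conj V.isoL.some hK (A := A.subgroupOf L) (A' := A₂.subgroupOf L)
    ⟨(subgroupOfEquivOfLe (t.AL V)).trans t.isoA.some⟩ ⟨(subgroupOfEquivOfLe (t₂.AL V)).trans t₂.isoA.some⟩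
  obtain ⟨t', h'⟩ := t.conjL U V h c.2
  have e : A.map (MulAut.conj (c : S)).toMonoidHom = A₂ := eq_of_le_of_card_ge (by
    rintro _ ⟨x, hx, rfl⟩
    exact (hc ⟨x, t.AL V hx⟩).1 hx) (by rw [t'.cardA, t₂.cardA])
  rw [e] at t'
  exact ⟨c, t'.eq ha U t₂ h' h₂⟩

/-- **the normaliser contains `T.3`** -/
theorem Std.three (ha : 1 ≤ a) (hK : Nat.card K = Nat.card F ^ 3) (U : LocU (2 ^ a) Z Q) (V : LocL F Z Zm Q L)
    (s : Std K (2 ^ a) Z Zm Q T) : 3 * Nat.card T ≤ Nat.card (normalizer (T : Set S)) := by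
  obtain ⟨Q', A, t, h⟩ := s
  obtain ⟨c, hc, h1, h3⟩ := S6.three V.isoL.some hK (A := A.subgroupOf L)
    ⟨(subgroupOfEquivOfLe (t.AL V)).trans t.isoA.some⟩
  obtain ⟨t', h'⟩ := t.conjL U V h c.2
  have e : A.map (MulAut.conj (c : S)).toMonoidHom = A := eq_of_le_of_card_ge (by
    rintro _ ⟨x, hx, rfl⟩
    exact conj_mem (X := A.subgroupOf L) (x := ⟨x, t.AL V hx⟩) hc hx) (by rw [t'.cardA, t.cardA])
  rw [e] at t'
  have h4 := t'.eq ha U t h' h
  have h5 : (c : S) ∈ normalizer (T : Set S) := mem_norm fun x hx => h4 ▸ ⟨x, hx, rfl⟩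
  have h6 : (c : S) ∉ T := fun k => h1 ((t.cenA c).2 ⟨k, (V.cenL c).1 c.2⟩)
  have h7 : (c : S) ^ 3 = 1 := congrArg Subtype.val h3
  have h8 : orderOf (c : S) = 3 := orderOf_eq_prime h7 fun k => h6 (k ▸ T.one_mem)
  have h9 : T ⊓ zpowers (c : S) = ⊥ := by
    have k1 : Nat.card ↥(T ⊓ zpowers (c : S)) ∣ 3 := by
      rw [← h8, ← Nat.card_zpowers]
      exact card_dvd_of_le inf_le_right
    rcases (Nat.dvd_prime Nat.prime_three).1 k1 with k | k
    · exact card_eq_one.1 k
    · exact absurd ((eq_of_le_of_card_ge (inf_le_right : T ⊓ zpowers (c : S) ≤ _) (by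
        rw [k, Nat.card_zpowers, h8])).ge (mem_zpowers (c : S))).1 h6
  have h10 := card_sup_mul (K := T) (H := zpowers (c : S)) (zpowers_le.2 h5)
  rw [h9, card_bot, mul_one, Nat.card_zpowers, h8, mul_comm] at h10
  rw [← h10]
  exact card_le_of_le (sup_le le_normalizer (zpowers_le.2 h5))

end

end Cfsg.Agent.SM.F4
end

-- part: SM/F4/Obj
section
/-!
# SM (S3570), the row `³D₄(q) < F₄(q)`, `q` even: the concrete subgroups of `F₄(F)` (helper37)
-/

set_option autoImplicit false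

namespace Cfsg.Agent.SM.F4

open Cfsg Cfsg.Lie Subgroup Cfsg.Agent.H70.ChevFix

/-- the group `F₄(F)` -/
abbrev SS (F : Type) [Field F] : Type := ↥(chevF4.group F)

/-- the root group of the highest root -/
abbrev Z0 (F : Type) [Field F] : Subgroup (SS F) := XX chevF4 F 47

/-- the root group of the lowest root -/
abbrev Zm0 (F : Type) [Field F] : Subgroup (SS F) := XX chevF4 F 0

/-- the roots `r` with `(r, θ) > 0` -/
def rQ : List ℕ := [24, 26, 29, 31, 32, 36, 38, 39, 40, 42, 43, 44, 45, 46, 47]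

/-- the roots orthogonal to `θ` -/
def rL : List ℕ := [6, 10, 12, 13, 14, 17, 19, 20, 22, 25, 27, 28, 30, 33, 34, 35, 37, 41]

/-- the subgroup generated by the root groups of a list -/
def gen (F : Type) [Field F] (l : List ℕ) : Subgroup (SS F) :=
  _root_.Subgroup.closure {g | ∃ r ∈ l, ∃ t : F, g = xe H95.DG.F4.hD r t}

/-- the unipotent radical -/
abbrev Q0 (F : Type) [Field F] : Subgroup (SS F) := gen F rQ

/-- the centraliser of the two root groups -/
def L0 (F : Type) [Field F] : Subgroup (SS F) := centralizer (Z0 F : Set (SS F)) ⊓ centralizer (Zm0 F : Set (SS F))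

theorem xe_mem_gen {F : Type} [Field F] {l : List ℕ} {r : ℕ} (hr : r ∈ l) (t : F) : xe H95.DG.F4.hD r t ∈ gen F l :=
  subset_closure ⟨r, hr, t, rfl⟩

theorem gen_le {F : Type} [Field F] {l : List ℕ} {Y : Subgroup (SS F)} (h : ∀ r ∈ l, ∀ t : F, xe H95.DG.F4.hD r t ∈ Y) :
    gen F l ≤ Y := (closure_le _).2 (by
  rintro _ ⟨r, hr, t, rfl⟩
  exact h r hr t)

theorem mem_L0 {F : Type} [Field F] (g : SS F) :
    g ∈ L0 F ↔ (∀ z ∈ Z0 F, g * z = z * g) ∧ ∀ z ∈ Zm0 F, g * z = z * g :=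
  ⟨fun h => ⟨fun z hz => (h.1 z hz).symm, fun z hz => (h.2 z hz).symm⟩,
    fun h => ⟨fun z hz => (h.1 z hz).symm, fun z hz => (h.2 z hz).symm⟩⟩

/-- the three boxes of the concrete side -/
def BoxU : Prop := ∀ (F : Type) [Field F] [Fintype F] [CharP F 2], LocU (Fintype.card F) (Z0 F) (Q0 F)

/-- the Levi part -/
def BoxL : Prop := ∀ (F : Type) [Field F] [Fintype F] [CharP F 2], LocL F (Z0 F) (Zm0 F) (Q0 F) (L0 F)

/-- the fusion part -/
def BoxF : Prop := ∀ (F : Type) [Field F] [Fintype F] [CharP F 2] (γ : MulAut (SS F)), H95.DG.F4.IsGraph γ →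
  LocF (Fintype.card F) (Z0 F) (Zm0 F) (Q0 F) (L0 F) γ

end Cfsg.Agent.SM.F4
end

private theorem dce_f08eba2ed8b7 : _root_.True := by
  try have : _root_.True := by simp only [_root_.Cfsg.Agent.SM.S6.nn.congr_simp]
  try have : _root_.True := by simp only [_root_.Cfsg.Agent.SM.S6.ps.eq_1]
  try have : _root_.True := by simp only [_root_.Cfsg.Agent.SM.S6.ps.congr_simp]
  try have : _root_.True := by simp only [_root_.Cfsg.Agent.SM.S6.bf.eq_1]
  try have : _root_.True := by simp only [_root_.Cfsg.Agent.SM.S6.dt.eq_1]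
  exact _root_.True.intro
end
end
end
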