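import Cfsg.Agent.H924.D5L
import Cfsg.Agent.SM.Ti.Dm_m3
import Cfsg.Agent.H650.Ppd.Psp_m3
import Cfsg.Agent.H909.PpdReeB_m3
import Cfsg.Agent.H650.Ppd.Psl_m3
import Cfsg.Agent.H965.XZ.Walk
import Cfsg.Agent.H948.Ppd.Podd
import Cfsg.Agent.H982.EP.Trans_m3
import Cfsg.Agent.H762.Ppd.Psu
import Cfsg.Agent.H69.Ppd.Psu6Aux
import Cfsg.Agent.H315.TwF.Main
import Cfsg.Agent.H762.Ppd.PsuAux_m3
import Cfsg.Agent.H948.Ppd.NdMinus
import Cfsg.Agent.H965.XZ.IdxD
import Cfsg.Agent.H948.Ppd.TypeB_m3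
import Cfsg.Agent.H115.HC.TwoGTwo
import Cfsg.Agent.H924.D5F_m3
import Cfsg.Agent.H2.Ppd.Exc
import Cfsg.Agent.H218.SdFin
import Cfsg.Agent.FastGrp
import Cfsg.Agent.Prune
set_option linter.all false

section
prune_inst 0x7f00000000000000000000000000000000000000000000000000000000000000000000000000000000000000000000000000000000000000000000000000000000000000000000000000000000000000003fffffffffffffffffffffffffffbeffbdffffffff

section
prune_inst 0xfffffebbfc7ddfffff7e7fa6b9cffc39921fffe6dff943ffecebff0bdf139e09e5abad0de030fe0ef7601410b87853fbffceffe26bdc7ffffd1ff45ffbee5ff5f7bd0851978c340fbc0fff83f0778e7f000000000000000000000000000000000200000000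

-- part: SM/O8/MinA
section
prune_inst 0x1000282200000818001040001c669a000002004b80000040030206800c6025052e21b470011008b0004400380040000000000020000000008000011800800402000281080000060006000080000000000000000000000000000000000000000000000
set_option linter.all false
open scoped Cfsg.Agent.FastGrp

/-!
# SM (S3570), socle `PΩ⁺₈(q)`, box Min: the spin modules of `Ω⁻₈(q₀)` (helper37)

`U0` is the standard Sylow `p`-subgroup of `Ω⁻₈(q₀)` and `L0 ≅ SL₃(q₀)` the Levi factor of the first two nodes.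

* `keep` : in a module of dimension at most `12` which is not the natural one, the points fixed by `U0` are fixed by `L0`;
* `exists_ord` : `L0` contains an element of order `t` for a prime `t ∣ q₀³ - 1`, `t ∤ q₀ - 1`.
-/

set_option autoImplicit false
set_option linter.unusedSectionVars false

namespace Cfsg.Agent.SM.O8.Mi

open QuadraticMap
open CoxeterSystem Cfsg.Agent.ChevalleyStructure.CoxeterGeom Cfsg.Agent.Tits.Roots
open Cfsg.Agent.LieClassical Cfsg.Agent.LieClassical.OrthCore Cfsg.Agent.LieClassical.OrthTrans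
open Cfsg.Agent.LieClassical.OrthForms
open Cfsg.Agent.TitsThree Cfsg.Agent.TitsThree.KSideO
open Cfsg.Agent.Nodes Cfsg.Agent.Nodes.WittInst Cfsg.Agent.TitsThree.Siegel Cfsg.Agent.TitsThree.WittFrame
  Cfsg.Agent.TitsThree.WBridge Cfsg.Agent.Nodes.BNOf Cfsg.Agent.Nodes.RGDLib Cfsg.Agent.Nodes.RGDLift
open Cfsg.Agent.H915.LD Cfsg.Agent.H905.Md Cfsg.Agent.H925.Nat Cfsg.Agent.H924.D5
open Cfsg Cfsg.Geo
open scoped MatrixGroups Matrix

section frame

variable {K V : Type} [Field K] [AddCommGroup V] [Module K V] {H : HForm K V} (Fr : Frame H (Fin 3))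

/-- the vectors of the totally singular 3-space -/
def wv (c : Fin 3 → K) : V := ∑ i, c i • Fr.b (i, true)

theorem wv_add (c d : Fin 3 → K) : wv Fr (c + d) = wv Fr c + wv Fr d := by
  simp only [wv, Pi.add_apply, add_smul, Finset.sum_add_distrib]

theorem wv_single (i : Fin 3) (s : K) : wv Fr (Pi.single i s) = s • Fr.b (i, true) := by
  rw [wv, Finset.sum_eq_single i, Pi.single_eq_same]
  · intro j _ hj
    rw [Pi.single_eq_of_ne hj, zero_smul]
  · intro h
    exact absurd (Finset.mem_univ i) h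

theorem h_wv (c : Fin 3 → K) (j : Fin 3) : H.h (wv Fr c) (Fr.b (j, false)) = c j := by
  rw [wv, Fin.sum_univ_three, H.add_left, H.add_left, H.smul_left, H.smul_left, H.smul_left, Fr.hb, Fr.hb, Fr.hb]
  fin_cases j <;> simp

theorem wv_injective : Function.Injective (wv Fr) := fun c d e => funext fun j => by
  rw [← h_wv Fr c j, e, h_wv]

theorem X_wv {i j : Fin 3} (h : i ≠ j) (t : K) (c : Fin 3 → K) :
    Fr.X (i, true) (j, false) t (wv Fr c) = wv Fr (c + Pi.single i (c j * t)) := by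
  have h1 : ∀ k, Fr.X (i, true) (j, false) t (Fr.b (k, true)) =
      Fr.b (k, true) + (if k = j then t else 0) • Fr.b (i, true) := by
    intro k
    by_cases hk : k = j
    · subst hk
      rw [if_pos rfl]
      exact WittWeyl.X_apply_neg Fr (x := (i, true)) (y := (k, false)) h t
    · rw [if_neg hk, zero_smul, add_zero]
      refine WittWeyl.X_apply_of_ne Fr (x := (i, true)) (y := (j, false)) h ?_ ?_ t
      · intro e
        exact absurd (congrArg Prod.snd e) (by simp [neg])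
      · intro e
        exact hk (congrArg Prod.fst e)
  rw [wv_add, wv_single, wv, map_sum]
  simp only [map_smul, h1, smul_add, Finset.sum_add_distrib, smul_ite, smul_zero, ite_smul, zero_smul,
    Finset.sum_ite_eq', Finset.mem_univ, if_true, mul_smul]

/-- the group generated by the four root groups is transitive on the non-zero vectors -/
theorem dvd_card [Finite K] [Finite V] {L : Subgroup (V ≃ₗ[K] V)}
    (hL : L = WittRoot.rg Fr (sr 0) ⊔ WittRoot.rg Fr (-sr 0) ⊔ WittRoot.rg Fr (sr 1) ⊔ WittRoot.rg Fr (-sr 1)) :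
    Nat.card K ^ 3 - 1 ∣ Nat.card L := by
  have r0 : WittRoot.rg Fr (sr 0) = WittRoot.XG Fr (0, true) (1, false) :=
    (WittRGD.rg_sr (Fr := Fr) 0).trans (WittRoot.PG_ne Fr (by decide))
  have r1 : WittRoot.rg Fr (sr 1) = WittRoot.XG Fr (1, true) (2, false) :=
    (WittRGD.rg_sr (Fr := Fr) 1).trans (WittRoot.PG_ne Fr (by decide))
  have r2 : WittRoot.rg Fr (-sr 0) = WittRoot.XG Fr (1, true) (0, false) :=
    ((WittRGD.rg_neg_sr (Fr := Fr) 0).trans (WittRoot.PG_ne Fr (by decide))).trans (WittRoot.XG_swap Fr (by decide))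
  have r3 : WittRoot.rg Fr (-sr 1) = WittRoot.XG Fr (2, true) (1, false) :=
    ((WittRGD.rg_neg_sr (Fr := Fr) 1).trans (WittRoot.PG_ne Fr (by decide))).trans (WittRoot.XG_swap Fr (by decide))
  rw [r0, r1, r2, r3] at hL
  let S : Set V := wv Fr '' {c | c ≠ 0}
  let Z : Subgroup (V ≃ₗ[K] V) :=
    { carrier := {g | ∀ v, v ∈ S ↔ g v ∈ S}
      one_mem' := fun v => Iff.rfl
      mul_mem' := fun {g k} hg hk v => (hk v).trans (hg (k v))
      inv_mem' := fun {g} hg v => by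
        have h1 := hg (g⁻¹ v)
        rw [show g (g⁻¹ v) = v from g.apply_symm_apply v] at h1
        exact h1.symm }
  have hS : ∀ {i j : Fin 3}, i ≠ j → ∀ t, ∀ v ∈ S, Fr.X (i, true) (j, false) t v ∈ S := by
    rintro i j h t _ ⟨c, hc, rfl⟩
    refine ⟨_, fun e => hc ?_, (X_wv Fr h t c).symm⟩
    have h1 : Fr.X (i, true) (j, false) t (wv Fr c) = Fr.X (i, true) (j, false) t (wv Fr 0) := by
      rw [X_wv Fr h, e, X_wv Fr h]
      simp
    exact wv_injective Fr ((Fr.X (i, true) (j, false) t).injective h1)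
  have hZ : ∀ {i j : Fin 3}, i ≠ j → WittRoot.XG Fr (i, true) (j, false) ≤ Z := by
    rintro i j h _ ⟨t, rfl⟩ v
    refine ⟨hS h t v, fun hv => ?_⟩
    have h1 := hS h (-t) _ hv
    rwa [Fr.X_neg, show (Fr.X (i, true) (j, false) t)⁻¹ (Fr.X (i, true) (j, false) t v) = v from
      LinearEquiv.symm_apply_apply _ v] at h1
  have hLZ : L ≤ Z := by
    rw [hL]
    exact sup_le (sup_le (sup_le (hZ (by decide)) (hZ (by decide))) (hZ (by decide))) (hZ (by decide))
  have m01 : ∀ t, Fr.X (0, true) (1, false) t ∈ L := fun t =>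
    hL ▸ Subgroup.mem_sup_left (Subgroup.mem_sup_left (Subgroup.mem_sup_left ⟨t, rfl⟩))
  have m10 : ∀ t, Fr.X (1, true) (0, false) t ∈ L := fun t =>
    hL ▸ Subgroup.mem_sup_left (Subgroup.mem_sup_left (Subgroup.mem_sup_right ⟨t, rfl⟩))
  have m12 : ∀ t, Fr.X (1, true) (2, false) t ∈ L := fun t =>
    hL ▸ Subgroup.mem_sup_left (Subgroup.mem_sup_right ⟨t, rfl⟩)
  have m21 : ∀ t, Fr.X (2, true) (1, false) t ∈ L := fun t => hL ▸ Subgroup.mem_sup_right ⟨t, rfl⟩
  let e : V := wv Fr ![1, 0, 0]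
  have back : ∀ {g : V ≃ₗ[K] V} (_ : g ∈ L) {v : V}, g v ∈ MulAction.orbit L e → v ∈ MulAction.orbit L e := by
    rintro g hg v ⟨k, hk⟩
    refine ⟨(⟨g, hg⟩ : L)⁻¹ * k, ?_⟩
    have hk' : (k : V ≃ₗ[K] V) e = g v := hk
    change g⁻¹ ((k : V ≃ₗ[K] V) e) = v
    rw [hk']
    exact g.symm_apply_apply v
  have s1 : ∀ y : K, wv Fr ![1, y, 0] ∈ MulAction.orbit L e := fun y => by
    refine back (m10 (-y)) ?_
    rw [X_wv Fr (by decide), show ![1, y, 0] + Pi.single (1 : Fin 3) (![1, y, 0] 0 * -y) = ![1, 0, 0] by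
      funext i
      fin_cases i <;> simp]
    exact MulAction.mem_orbit_self _
  have s2 : ∀ x y z : K, y ≠ 0 → wv Fr ![x, y, z] ∈ MulAction.orbit L e := fun x y z hy => by
    refine back (m01 (y⁻¹ * (1 - x))) (back (m21 (y⁻¹ * -z)) ?_)
    rw [X_wv Fr (by decide), X_wv Fr (by decide)]
    convert s1 y using 2
    funext i
    simp only [Pi.add_apply]
    fin_cases i <;> simp [hy]
  have s3 : MulAction.orbit L e = S := by
    ext v
    constructor
    · rintro ⟨g, rfl⟩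
      refine (hLZ g.2 e).1 ⟨_, fun h => ?_, rfl⟩
      simpa using congrFun h 0
    · rintro ⟨c, hc, rfl⟩
      have ec : c = ![c 0, c 1, c 2] := by
        funext i
        fin_cases i <;> rfl
      by_cases h1 : c 1 = 0
      · by_cases h0 : c 0 = 0
        · have h2 : c 2 ≠ 0 := fun h2 => hc (by
            rw [ec, h0, h1, h2]
            funext i
            fin_cases i <;> rfl)
          refine back (m12 1) ?_
          rw [X_wv Fr (by decide)]
          convert s2 (c 0) (c 2) (c 2) h2 using 2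
          funext i
          fin_cases i <;> simp [h1]
        · refine back (m10 1) ?_
          rw [X_wv Fr (by decide)]
          convert s2 (c 0) (c 0) (c 2) h0 using 2
          funext i
          fin_cases i <;> simp [h1]
      · rw [ec]
        exact s2 _ _ _ h1
  have s4 : S.ncard = Nat.card K ^ 3 - 1 := by
    rw [Set.ncard_image_of_injective _ (wv_injective Fr), show {c : Fin 3 → K | c ≠ 0} = Set.univ \ {0} by
      ext c
      simp, Set.ncard_sdiff_singleton_of_mem (Set.mem_univ _), Set.ncard_univ, Nat.card_fun, Nat.card_eq_fintype_card (α := Fin 3),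
      Fintype.card_fin]
  rw [← s4, ← s3, ← MulAction.index_stabilizer]
  exact Subgroup.index_dvd_card _

end frame

section std

variable {K : Type} [Field K] [Finite K] {a b : K}
  (hab : ∀ z₁ z₂ : K, z₁ ^ 2 + a * z₁ * z₂ + b * z₂ ^ 2 = 0 → z₁ = 0 ∧ z₂ = 0)

/-- the root groups -/
def X0 (x : Fin 3 → ℤ) : Subgroup (E (minusForm 3 K a b)) :=
  (WittRoot.rg (toFrame (wminus 3 K a b hab)) x).subgroupOf _

/-- the Sylow subgroup -/
def U0 : Subgroup (E (minusForm 3 K a b)) :=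
  RGD.Sup (X0 hab) (RGD.Pos (CoxeterMatrix.B 3).toCoxeterSystem (TypeC.isCartan 3))

/-- the Levi factor -/
def L0 : Subgroup (E (minusForm 3 K a b)) := X0 hab (sr 0) ⊔ X0 hab (-sr 0) ⊔ X0 hab (sr 1) ⊔ X0 hab (-sr 1)

/-- the projection -/
noncomputable def f0 : E (minusForm 3 K a b) →* POmega K ⇑(minusForm 3 K a b) := toPOmega (good_minus le_rfl hab)

theorem U0_pgroup (p : ℕ) [Fact p.Prime] [CharP K p] : IsPGroup p (U0 hab) := by
  have hWf : Finite (CoxeterMatrix.B 3).Group := TypeC.finite_W (CoxeterMatrix.B 3).toCoxeterSystem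
  exact (rgdM (ambT_minus (p := p) le_rfl hab) (minus_c_ne 3 hab)).isPGroup_Upos

theorem exists_ord (p : ℕ) [Fact p.Prime] [CharP K p] {t : ℕ} (ht : t.Prime) (h3 : t ∣ Nat.card K ^ 3 - 1)
    (h1 : ¬ t ∣ Nat.card K - 1) : ∃ z ∈ L0 hab, orderOf (f0 hab z) = t := by
  have := Fact.mk ht
  have hfin : Finite ((((Fin 3 ⊕ Fin 3) ⊕ Fin 2) → K) ≃ₗ[K] (((Fin 3 ⊕ Fin 3) ⊕ Fin 2) → K)) :=
    Finite.of_injective (fun g : (((Fin 3 ⊕ Fin 3) ⊕ Fin 2) → K) ≃ₗ[K] (((Fin 3 ⊕ Fin 3) ⊕ Fin 2) → K) =>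
      (g : (((Fin 3 ⊕ Fin 3) ⊕ Fin 2) → K) → (((Fin 3 ⊕ Fin 3) ⊕ Fin 2) → K))) DFunLike.coe_injective
  have hle := (ambT_minus (p := p) le_rfl hab).rg_le
  have h4 := dvd_card (toFrame (wminus 3 K a b hab)) (L := (L0 hab).map (E (minusForm 3 K a b)).subtype) (by
    simp only [L0, X0, Subgroup.map_sup, Subgroup.subgroupOf_map_subtype, inf_eq_left.2 (hle _)])
  rw [Subgroup.card_map_of_injective (E (minusForm 3 K a b)).subtype_injective] at h4
  obtain ⟨z, hz⟩ := exists_prime_orderOf_dvd_card' t (h3.trans h4)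
  rw [← Subgroup.orderOf_coe] at hz
  refine ⟨z, z.2, orderOf_eq_prime (by simp only [← map_pow, ← hz, pow_orderOf_eq_one, map_one]) fun h => ?_⟩
  obtain ⟨c, hc⟩ := scalar_of_center (good_minus le_rfl hab) (center_of_toPOmega (good_minus le_rfl hab) h)
  obtain ⟨v, hv⟩ := exists_ne (0 : ((Fin 3 ⊕ Fin 3) ⊕ Fin 2) → K)
  have h5 : ∀ n : ℕ, ((z : E (minusForm 3 K a b)) ^ n).1 v = c ^ n • v := by
    intro n
    induction n with
    | zero => rw [pow_zero, pow_zero, one_smul]; rfl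
    | succ n ih =>
      rw [pow_succ', pow_succ', mul_smul, ← ih]
      exact hc _
  have h6 : c ^ t = 1 := by
    have h7 := h5 t
    rw [← hz, pow_orderOf_eq_one, hz] at h7
    exact smul_left_injective K hv (h7.symm.trans (one_smul K v).symm)
  have h7 : c ≠ 0 := fun h0 => by
    rw [h0, zero_pow ht.ne_zero] at h6
    exact zero_ne_one h6
  have h8 : c ^ (Nat.card K - 1) = 1 := by
    have := Fintype.ofFinite K
    rw [Nat.card_eq_fintype_card]
    exact FiniteField.pow_card_sub_one_eq_one c h7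
  have h9 : c = 1 := by
    rw [← pow_gcd_eq_one.2 ⟨h6, h8⟩, (ht.coprime_iff_not_dvd.2 h1).gcd_eq_one, pow_one]
  have h10 : (z : E (minusForm 3 K a b)) = 1 := Subtype.ext (LinearEquiv.ext fun w => by rw [hc, h9, one_smul]; rfl)
  rw [h10, orderOf_one] at hz
  exact ht.one_lt.ne hz

variable {F : Type} [Field F] [Finite F] {ι : Type} [Fintype ι] [DecidableEq ι] {P : Subgroup (GL ι F)}

/-- **the points fixed by `U0` are fixed by `L0`** -/
theorem keep (p : ℕ) [Fact p.Prime] [CharP F p] [CharP K p] (hC : Core P) (hι : Fintype.card ι ≤ 12)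
    (hne : IsEmpty (K ≃+* F)) (e : Soc P ≃* POmega K ⇑(minusForm 3 K a b)) {v : ι → F}
    (hv : ∀ g : P, (∃ u ∈ U0 hab, prj e g = f0 hab u) → ∃ c : F, ((g : GL ι F) : Matrix ι ι F) *ᵥ v = c • v) :
    ∀ x ∈ L0 hab, ∃ g : P, prj e g = f0 hab x ∧ ((g : GL ι F) : Matrix ι ι F) *ᵥ v = v := by
  obtain ⟨Y, hY1, hY2, C, hC'⟩ := exists_cvMinus (p := p) hC (m := 3) le_rfl hab e
  have hWf : Finite (CoxeterMatrix.B 3).Group := TypeC.finite_W (CoxeterMatrix.B 3).toCoxeterSystem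
  have R0 := rgdM (ambT_minus (p := p) le_rfl hab) (minus_c_ne 3 hab)
  have hne' := hC.nonempty
  have hirr := cov_irr (T := (WittRGD.Tor (toFrame (wminus 3 K a b hab)) (E (minusForm 3 K a b))).subgroupOf _ |>.comap C.f)
    hC C.surj_g C.gen
  obtain ⟨i, hi⟩ := exists_notMem_J hC C.surj_g C.rgd C.gen
  have hV : Module.finrank F (ι → F) ≤ 12 := by rw [Module.finrank_fintype_fun_eq_card]; exact hι
  have hJ : ∀ j, j ≠ 2 → j ∈ C.J := by
    rcases B.cases C.rgd hirr hV hi with hJ | ⟨hJ, -⟩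
    · obtain ⟨τ, -⟩ := po_minus_three hC hι hab C (fun j => by
        have := hJ j
        unfold Cv.J
        tauto)
      exact hne.elim τ
    · intro j hj
      by_contra h
      exact hj ((hJ j).1 h)
  have hD : v ∈ D (CoxeterMatrix.B 3).toCoxeterSystem (TypeC.isCartan 3) (fun x => lft p C.f (X0 hab x))
      (H911.lin ((matP P).comp C.g)) := by
    intro y hy
    obtain ⟨c, hc⟩ := hv (C.g y) ⟨C.f y, map_Sup_lft_le C.f _ (Subgroup.mem_map_of_mem _ hy), hC' y⟩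
    rw [← linP_apply] at hc
    by_cases h0 : v = 0
    · rw [h0, map_zero]
    obtain ⟨k, hk⟩ := C.rgd.isPGroup_Upos ⟨y, hy⟩
    have hk' : y ^ p ^ k = 1 := congrArg Subtype.val hk
    have h5 : ∀ n : ℕ, H911.lin ((matP P).comp C.g) (y ^ n) v = c ^ n • v := by
      intro n
      induction n with
      | zero => rw [pow_zero, pow_zero, one_smul, map_one, Module.End.one_apply]
      | succ n ih => rw [pow_succ', map_mul, Module.End.mul_apply, ih, map_smul, hc, smul_smul, pow_succ]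
    have h6 := h5 (p ^ k)
    rw [hk', map_one, Module.End.one_apply] at h6
    have h7 : c ^ p ^ k = 1 := smul_left_injective F h0 (h6.symm.trans (one_smul F v).symm)
    have h8 : c = 1 := by
      have h9 : (c - 1) ^ p ^ k = 0 := by rw [sub_pow_char_pow, h7, one_pow, sub_self]
      exact sub_eq_zero.1 (eq_zero_of_pow_eq_zero h9)
    rw [hc, h8, one_smul]
  let Z : Subgroup (E (minusForm 3 K a b)) :=
    { carrier := {x | ∃ g : P, prj e g = f0 hab x ∧ ((g : GL ι F) : Matrix ι ι F) *ᵥ v = v}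
      one_mem' := ⟨1, by rw [map_one, map_one], Matrix.one_mulVec v⟩
      mul_mem' := by
        rintro x y ⟨g, hg, hg'⟩ ⟨k, hk, hk'⟩
        refine ⟨g * k, by simp only [map_mul, map_mul, hg, hk], ?_⟩
        rw [Subgroup.coe_mul, Units.val_mul, ← Matrix.mulVec_mulVec, hk', hg']
      inv_mem' := by
        rintro x ⟨g, hg, hg'⟩
        refine ⟨g⁻¹, by simp only [map_inv, map_inv, hg], ?_⟩
        conv_lhs => rw [← hg']
        rw [Matrix.mulVec_mulVec, ← Units.val_mul, ← Subgroup.coe_mul, inv_mul_cancel]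
        exact Matrix.one_mulVec v }
  have key : ∀ x, IsRoot (CoxeterMatrix.B 3).toCoxeterSystem (TypeC.isCartan 3) x →
      (∀ y ∈ lft p C.f (X0 hab x), H911.lin ((matP P).comp C.g) y v = v) → X0 hab x ≤ Z := by
    intro x hx h u hu
    have h1 : u ∈ (lft p C.f (X0 hab x)).map C.f := (map_lft C.ker C.cop C.surj_f (R0.pgrp' hx)).ge hu
    obtain ⟨y, hy, rfl⟩ := h1
    exact ⟨C.g y, hC' y, (linP_apply y v).symm.trans (h y hy)⟩
  have pos : ∀ i, X0 hab (sr i) ≤ Z := fun i => key _ (isRoot_sr _ _ i) fun y hy =>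
    hD y (RGD.le_Sup (X := fun x => lft p C.f (X0 hab x))
      (S := RGD.Pos (CoxeterMatrix.B 3).toCoxeterSystem (TypeC.isCartan 3)) (z := sr i) ⟨isRoot_sr _ _ i, sr_nonneg i⟩ hy)
  have neg : ∀ i, i ≠ 2 → X0 hab (-sr i) ≤ Z := fun i hi => key _ (isRoot_sr _ _ i).neg fun y hy => hJ i hi y hy v hD
  exact sup_le (sup_le (sup_le (pos 0) (neg 0 (by decide))) (pos 1)) (neg 1 (by decide))

end std

end Cfsg.Agent.SM.O8.Mi

private theorem dce_fb3ed8f56cc3 : _root_.True := by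
  try have : _root_.True := by simp only [_root_.Cfsg.Agent.SM.O8.Mi.L0.eq_1]
  try have : _root_.True := by simp only [_root_.Cfsg.Agent.SM.O8.Mi.wv.eq_1]
  try have : _root_.True := by simp only [_root_.Cfsg.Agent.SM.O8.Mi.X0.eq_1]
  try have : _root_.True := by simp only [_root_.Cfsg.Agent.TitsThree.KSideO.wminus.congr_simp]
  exact _root_.True.intro
end

-- part: SM/Ti/LoA
section
set_option linter.all false
open scoped Cfsg.Agent.FastGrp

/-!
# S3570, tight cores below the borderline: linear and symplectic socles (helper69; the proofs are those of `H650/Ppd`)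
-/

set_option autoImplicit false
set_option linter.unusedSectionVars false
set_option linter.style.haveILetI false

namespace Cfsg.Agent.SM.Ti.Lo

universe u

section psl

open Matrix CoxeterSystem Cfsg.Agent.ChevalleyStructure.CoxeterGeom Cfsg.Agent.Tits.Roots Cfsg.Agent.Tits.Core
  Cfsg.Agent.Tits.Exchange Cfsg.Agent.Nodes.Reps Cfsg.Agent.Nodes.BNOf Cfsg.Agent.Nodes.StabComb
  Cfsg.Agent.Nodes.Bruhat Cfsg.Agent.Nodes.OppDec Cfsg.Agent.Nodes.LeviDec Cfsg.Agent.KFacts.RgdOpp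
  Cfsg.Agent.Omega.CR Cfsg.Agent.Omega.FOne.Lift.Sd Cfsg.Agent.H905.Md Cfsg.Agent.Nodes.RootsA
open Cfsg Cfsg.Geo
open Cfsg.Agent.H911 (lin)
open Cfsg.Agent.H911.Ad (bk bk_U bk_Lo bk_hh_mem)
open Cfsg.Agent.LieRecognition.BNCox (cA)
open Cfsg.Agent.Nodes.RGDTypeA (X_sr X_neg_sr mem_XX)
open Cfsg.Agent.H915.LD (Core Soc)
open Cfsg.Agent.H100.Ppd (Nat')
open Cfsg.Agent.H650.Ppd

variable {n : ℕ} {F : Type u} [Field F] [Finite F] {m : ℕ} {P : Subgroup (GL (Fin n) F)}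
  {K : Type} [Field K] [Fintype K] (p : ℕ) [hp : Fact p.Prime] [hFp : CharP F p] [hKp : CharP K p]
include hp hFp hKp

theorem nat_psl (h : Tc m P) {N : ℕ} (hN : 2 ≤ N) (h4 : N = 2 → 4 ≤ Fintype.card K)
    (hlt : Nat.card F ^ m < Fintype.card K ^ N) (e : Soc P ≃* Matrix.ProjectiveSpecialLinearGroup (Fin N) K) : Nat' P := by
  have hC := h.core
  obtain ⟨l, rfl⟩ : ∃ l, N = l + 1 := ⟨N - 1, by omega⟩
  have hK4 : l = 1 → 4 ≤ Nat.card K := fun hl => by
    rw [Nat.card_eq_fintype_card]; exact h4 (by omega)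
  obtain ⟨j, hj, hjK⟩ := psl_card p hC.absIrred hC.perfect (by omega) hK4 e hC.no_subfield
  have hn10 := h.ge
  have hnlt : n < 2 * (j * (l + 1)) := h.lt_of (hjK.trans Nat.card_eq_fintype_card) hlt
  rcases Nat.lt_or_ge l 2 with hl | hl
  · -- `N = 2`
    exfalso
    obtain rfl : l = 1 := by omega
    have := Fintype.ofFinite F
    obtain ⟨s, d, hs0, hs, hd2, hd⟩ := H875.Psl2.exists_pow p hC e
    rw [Fintype.card_fin] at hd
    have hsj : s = j := by
      rw [Nat.card_eq_fintype_card, Nat.card_eq_fintype_card, hs] at hjK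
      exact (Nat.pow_right_injective (Fintype.one_lt_card (α := F)) hjK).symm
    subst hsj
    have h5 : 2 ^ s ≤ d ^ s := Nat.pow_le_pow_left hd2 s
    rcases Nat.lt_or_ge s 4 with h6 | h6
    · interval_cases s
      · omega
      · omega
      · rcases Nat.lt_or_ge d 3 with h7 | h7
        · obtain rfl : d = 2 := by omega
          omega
        · have := Nat.pow_le_pow_left h7 3
          omega
    · have := four_lt_two_pow h6
      omega
  · have hjK' : Nat.card K = Nat.card F ^ j := hjK.symm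
    rcases Nat.lt_or_ge j 2 with hj1 | hj2
    · obtain rfl : j = 1 := by omega
      have hl5 : 5 ≤ l := by omega
      have h5 : n < (l + 1).choose 2 := by
        have h6 : (l + 1).choose 2 * 2 = (l + 1) * l := by
          rw [Nat.choose_two_right, Nat.add_sub_cancel, Nat.div_mul_cancel]
          rw [mul_comm]
          exact (Nat.even_mul_succ_self l).two_dvd
        nlinarith
      have h6 := psl_dim p hC.absIrred hC.perfect (by omega) hK4 e hl (Or.inl (by rwa [Fintype.card_fin]))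
      rw [Fintype.card_fin] at h6
      obtain ⟨-, h7⟩ := psl_eq p hC.absIrred hC.perfect (by omega) hK4 e hC.no_subfield h6
      exact Or.inl h7.ge
    · exfalso
      have h5 := card_ge_A p hC hl e hjK'
      rw [Fintype.card_fin] at h5
      rcases Nat.lt_or_ge l 3 with hl3 | hl3
      · obtain rfl : l = 2 := by omega
        have h6 : (2 + 1).choose 2 = 3 := rfl
        rw [h6] at h5
        rcases Nat.lt_or_ge j 3 with hj3 | hj3
        · obtain rfl : j = 2 := by omega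
          have h7 := H887.DS.dim3 p hC e (by rw [Fintype.card_fin]; omega)
          rw [Fintype.card_fin] at h7
          have h8 := card_eq_of_ten p hC e (by rw [Fintype.card_fin]; omega)
          rw [hjK'] at h8
          have h9 : 1 < Nat.card F := Finite.one_lt_card
          nlinarith
        · have := two_pow_bound' hj3
          omega
      · have := arith_A (N := l + 1) (j := j) (by omega) hj2
        omega

end psl

section psp

open CoxeterSystem Cfsg.Agent.ChevalleyStructure.CoxeterGeom Cfsg.Agent.Tits.Roots Cfsg.Agent.Tits.Core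
  Cfsg.Agent.Nodes.Reps Cfsg.Agent.Nodes.BNOf Cfsg.Agent.Nodes.Bruhat Cfsg.Agent.Nodes.RGDLib
open Cfsg.Agent.Nodes Cfsg.Agent.Nodes.WittRoot Cfsg.Agent.Nodes.WittRGD Cfsg.Agent.Nodes.WittAll
open Cfsg.Agent.Nodes.TypeC (isCartan)
open Cfsg.Agent.TitsThree Cfsg.Agent.TitsThree.Siegel Cfsg.Agent.TitsThree.WittFrame Cfsg.Agent.TitsThree.FrameCN
open Cfsg.Agent.H915.LD Cfsg.Agent.H911 Cfsg.Agent.H905.Md Cfsg.Agent.H925.Nat Cfsg.Agent.Nodes.RGDLift
open Cfsg.Agent.H156.Ppd (Cov lrep)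
open Cfsg.Agent.H948.Ppd (TB XB NB exists_covB identify_B lift_nd lift_comm_pow)
open Cfsg.Agent.Omega.CR Cfsg.Agent.Omega.FOne.Lift.Sd
open Cfsg Cfsg.Geo
open Cfsg.Agent.H100.Ppd (Nat')
open scoped MatrixGroups Matrix
open Cfsg.Agent.H650.Ppd

variable {n : ℕ} {F : Type u} [Field F] [Finite F] {m : ℕ} {P : Subgroup (GL (Fin n) F)}
  {K : Type} [Field K] [Fintype K] (p : ℕ) [hp : Fact p.Prime] [hFp : CharP F p] [hKp : CharP K p]
include hp hFp hKp

theorem nat_psp (h : Tc m P) {l : ℕ} (hl : 2 ≤ l) (h3 : l = 2 → 3 ≤ Fintype.card K)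
    (hlt : Nat.card F ^ m < Fintype.card K ^ (2 * l)) (e : Soc P ≃* PSp l K) : Nat' P := by
  have hC := h.core
  have hK : 3 ≤ l ∨ (l = 2 ∧ 3 ≤ Nat.card K) ∨ 4 ≤ Nat.card K := by
    rcases Nat.lt_or_ge l 3 with h1 | h1
    · exact Or.inr (Or.inl ⟨by omega, by rw [Nat.card_eq_fintype_card]; exact h3 (by omega)⟩)
    · exact Or.inl h1
  obtain ⟨j, hj, hjK⟩ := exists_card p hC (by omega) hK e
  have hn10 : 10 ≤ n := le_trans (by norm_num) h.ge
  have hnlt : n < 2 * (j * (2 * l)) := h.lt_of (hjK.trans Nat.card_eq_fintype_card) hlt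
  have h4 : 2 * (j * (2 * l)) = 4 * (l * j) := by ring
  rw [h4] at hnlt
  rcases Nat.lt_or_ge l 3 with h1 | h1
  · exfalso
    obtain rfl : l = 2 := by omega
    have h5 := le_card_psp4 p hC e (e := j) (by omega) hjK.symm
    rw [Fintype.card_fin] at h5
    omega
  · have h5 := cjOf_sp p hC h1 e hj hjK.symm (by rw [Fintype.card_fin]; exact hn10)
      (by rw [Fintype.card_fin]; exact hnlt)
    obtain ⟨f, hf, h6⟩ := h5.sp_form
    refine Or.inr (Or.inl ⟨f, hf, fun x hx => (h6 x).2 fun u v => hx _ rfl u v⟩)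

end psp

end Cfsg.Agent.SM.Ti.Lo
end

-- part: SM/Ti/LoG
section
prune_inst 0x1440382200000000059443003c66de000190002b800121000b420e800f6185002720bc90130089eeb2a450784040030000d9420000000e003000411a00a0800352060334ac04360007809884000000000000000000000000000000000004000000000
set_option linter.all false
open scoped Cfsg.Agent.FastGrp

/-!
# S3570, tight cores: socles `G₂` (below the borderline) and `³D₄` (helper69; set-ups from `H744/Ppd`)
-/

set_option autoImplicit false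
set_option linter.unusedSectionVars false
set_option linter.style.haveILetI false

namespace Cfsg.Agent.SM.Ti.Lo

universe u

section g2

open Matrix (SpecialLinearGroup)
open Cfsg Cfsg.Geo
open Cfsg.Agent.H911 (lin)
open Cfsg.Agent.H911.SLTwo Cfsg.Agent.H875.Fn
open CoxeterSystem Cfsg.Agent.ChevalleyStructure.CoxeterGeom Cfsg.Agent.Tits.Roots Cfsg.Agent.Tits.Core
  Cfsg.Agent.Tits.Exchange Cfsg.Agent.Nodes.Reps Cfsg.Agent.Nodes.BNOf Cfsg.Agent.Nodes.StabComb
  Cfsg.Agent.Nodes.Bruhat Cfsg.Agent.Nodes.OppDec Cfsg.Agent.Nodes.LeviDec Cfsg.Agent.KFacts.RgdOpp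
  Cfsg.Agent.Omega.CR Cfsg.Agent.Omega.FOne.Lift.Sd Cfsg.Agent.H905.Md Cfsg.Agent.H650.Ppd
open Cfsg.Lie Cfsg.Agent.ChevalleyStructure Cfsg.Agent.ChevalleyStructure.CoxeterGeomTypes
  Cfsg.Agent.Nodes.RGDChev
open Cfsg.Agent.H744.Ppd Cfsg.Agent.H744.Ppd.G2
open Cfsg.Agent.H927.G2 (GG2 fr_g2 rgd2 T2_comm)
open Cfsg.Agent.H915.LD

variable {n : ℕ} {F : Type u} [Field F] [Finite F] {m : ℕ} {P : Subgroup (Matrix.GeneralLinearGroup (Fin n) F)}
  {K : Type} [Field K] [Fintype K] (p : ℕ) [hp : Fact p.Prime] [hFp : CharP F p] [hKp : CharP K p]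
include hp hFp hKp

theorem not_g2 (h : Tc m P) (h3 : 3 ≤ Fintype.card K) (hlt : Nat.card F ^ m < Fintype.card K ^ 6)
    (e : Soc P ≃* Lie.chevG2.group K) : False := by
  have hC := h.core
  have hn10 := h.ge
  obtain ⟨f⟩ := Cfsg.Agent.H48.DsChev.g2_equiv p hC h3 e
  have hfr := fr_g2 p hC f
  obtain ⟨aK, -, haK⟩ := FiniteField.card K p
  have hcK : Nat.card K = p ^ (aK : ℕ) := by rw [Nat.card_eq_fintype_card, haK]
  obtain ⟨j, hj1, hj⟩ := card_pow_eq p aK.ne_zero (fun x => pow_eq_of_no_subfield hC.absIrred hC.no_subfield p aK (fun g hg => by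
    rw [← hcK]; exact hfr g hg) x)
  have hKF : Nat.card K = Nat.card F ^ j := by rw [hcK, hj]
  have hne : Nonempty (Fin n) := hC.nonempty
  have h2 : 2 ≤ Fintype.card (Fin n) := by rw [Fintype.card_fin]; omega
  have hφ : (P.subtype.comp f.symm.toMonoidHom).range = P := by
    rw [MonoidHom.range_comp, MonoidHom.range_eq_top.2 f.symm.surjective, ← MonoidHom.range_eq_map,
      Subgroup.range_subtype]
  have h4 := ge_pow p hφ hC.absIrred h2 hKF
  rw [Fintype.card_fin] at h4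
  have hk := Tc.lt_of' (hKF.symm.trans Nat.card_eq_fintype_card) hlt
  have hkn := h.hi
  have hm6 := h.six
  have hj3 : j < 3 := by
    by_contra hcon
    have h5 : ∀ j : ℕ, 3 ≤ j → 2 * j + 1 ≤ 2 ^ j := by
      intro j hj
      induction j, hj using Nat.le_induction with
      | base => norm_num
      | succ j hj ih => rw [pow_succ]; omega
    have h6 := h5 j (by omega)
    omega
  have hj2 : j = 1 ∨ j = 2 := by omega
  rcases hj2 with rfl | rfl
  · omega
  · have hq := Finite.one_lt_card (α := F)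
    rcases (show Nat.card F = 2 ∨ 3 ≤ Nat.card F by omega) with h5 | h5
    · have hp2 : p = 2 := by
        obtain ⟨a, ha, hF⟩ := exists_exp F p
        exact (Nat.prime_dvd_prime_iff_eq hp.out Nat.prime_two).1 (by rw [← h5, hF]; exact dvd_pow_self _ ha.ne')
      subst hp2
      obtain ⟨r, hr, h6, h7, -, h8⟩ := h.top (a := 1) hp.out h5
      have : Finite CoxeterMatrix.G₂.Group := Cfsg.Agent.Nodes.RGDChev.finite_W ht CoxeterMatrix.G₂.toCoxeterSystem
      have hfin : Finite (chevG2.group K) := Finite.of_equiv _ f.toEquiv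
      have h9 := h6.trans (h.dvd_soc (rgd2 (K := K) 2) GG2 T2_comm hφ)
      rw [Nat.card_congr e.toEquiv, Cfsg.Agent.S1059.result rfl, ← Nat.card_eq_fintype_card, hKF, h5, ← pow_mul, ← pow_mul,
        hr.dvd_mul, hr.dvd_mul, h7, h7, one_mul] at h9
      have h10 := (h.seven (by rw [h5]; exact even_two)).1
      rcases h9 with (h9 | h9) | h9
      · exact h8 (hr.dvd_of_dvd_pow h9)
      · have := Nat.le_of_dvd (by norm_num) h9
        omega
      · have h11 : m < 12 := by omega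
        interval_cases m <;> omega
    · have h6 := ge_24 p hφ hC.absIrred h2 h5 hKF
      rw [Fintype.card_fin] at h6
      omega

end g2

section d4

open Matrix (SpecialLinearGroup)
open Cfsg Cfsg.Geo
open Cfsg.Agent.H911 (lin)
open Cfsg.Agent.H911.SLTwo Cfsg.Agent.H875.Fn
open CoxeterSystem Cfsg.Agent.ChevalleyStructure.CoxeterGeom Cfsg.Agent.Tits.Roots Cfsg.Agent.Tits.Core
  Cfsg.Agent.Tits.Exchange Cfsg.Agent.Nodes.Reps Cfsg.Agent.Nodes.BNOf Cfsg.Agent.Nodes.StabComb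
  Cfsg.Agent.Nodes.Bruhat Cfsg.Agent.Nodes.OppDec Cfsg.Agent.Nodes.LeviDec Cfsg.Agent.KFacts.RgdOpp
  Cfsg.Agent.Omega.CR Cfsg.Agent.Omega.FOne.Lift.Sd Cfsg.Agent.H905.Md Cfsg.Agent.H650.Ppd
open Cfsg.Lie Cfsg.Agent.ChevalleyStructure Cfsg.Agent.ChevalleyStructure.CoxeterGeomTypes
open Cfsg.Agent.Nodes.RGDTwD4 (isCartan)
open Cfsg.Agent.Nodes.RGDFoldSL (Fx mem_Fx)
open Cfsg.Agent.H744.Ppd Cfsg.Agent.H744.Ppd.D4
open Cfsg.Agent.H915.LD

variable {n : ℕ} {F : Type u} [Field F] [Finite F] {m : ℕ} {P : Subgroup (Matrix.GeneralLinearGroup (Fin n) F)}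
  {K : Type} [Field K] [Fintype K] (p : ℕ) [hp : Fact p.Prime] [hFp : CharP F p] [hKp : CharP K p]
include hp hFp hKp

theorem not_3d4 (h : Tc m P) {q₀ : ℕ} (hq : IsPrimePow q₀) (hK : Fintype.card K = q₀ ^ 3)
    (e : Soc P ≃* Lie.twistedD4 K q₀) : False := by
  have hC := h.core
  have hn10 := h.ge
  have hnlt := h.hi
  obtain ⟨f⟩ := Cfsg.Agent.H48.DsChev.d4_equiv hC hq hK e
  obtain ⟨φ, hφ⟩ := D4Fixed.exists_frob hq hK
  have hq1 : 1 < q₀ := hq.one_lt
  obtain ⟨aK, -, haK⟩ := FiniteField.card K p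
  have hne : Nonempty (Fin n) := hC.nonempty
  have h2 : 2 ≤ Fintype.card (Fin n) := by rw [Fintype.card_fin]; omega
  have hθ : (P.subtype.comp f.symm.toMonoidHom).range = P := by
    rw [MonoidHom.range_comp, MonoidHom.range_eq_top.2 f.symm.surjective, ← MonoidHom.range_eq_map,
      Subgroup.range_subtype]
  have : Finite CoxeterMatrix.G₂.Group := Cfsg.Agent.H249.PPTwD4.finiteW CoxeterMatrix.G₂.toCoxeterSystem
  obtain ⟨j, hj1, hj⟩ := card_pow_eq p aK.ne_zero (fun x => pow_eq_of_no_subfield hC.absIrred hC.no_subfield p aK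
    (fun g hg => trace_pow (Nodes.RGDTwD4.rgd CoxeterMatrix.G₂.toCoxeterSystem hK hφ p) (GG4 hK hφ)
      Cfsg.Agent.H249.PPTwD4.T_comm hθ hC.absIrred (fun t ht => by rw [← haK]; exact T_pow t ht) hg) x)
  have hjq : Nat.card F ^ j = q₀ ^ 3 := by rw [hj, ← haK, hK]
  obtain ⟨a, ha0, ha⟩ : ∃ a : ℕ, a ≠ 0 ∧ Nat.card F = p ^ a := by
    have := Fintype.ofFinite F
    obtain ⟨a, -, ha⟩ := FiniteField.card F p
    exact ⟨a, a.ne_zero, by rw [Nat.card_eq_fintype_card, ha]⟩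
  obtain ⟨g, -, hgq⟩ := (Nat.dvd_prime_pow hp.out).1 (show q₀ ∣ p ^ (aK : ℕ) by
    rw [← haK, hK]; exact dvd_pow_self q₀ (by norm_num))
  have hag : a * j = 3 * g := by
    have h3 : p ^ (a * j) = p ^ (3 * g) := by
      rw [pow_mul, ← ha, hjq, hgq, ← pow_mul, mul_comm]
    exact Nat.pow_right_injective hp.out.two_le h3
  -- the numbers
  have hm6 := h.six
  have hg0 : 0 < g := Nat.pos_of_ne_zero (by rintro rfl; simp at hgq; omega)
  have hfin : Finite (Lie.twistedD4 K q₀) := Finite.of_equiv _ f.toEquiv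
  have hth := h.dvd_soc (Nodes.RGDTwD4.rgd CoxeterMatrix.G₂.toCoxeterSystem hK hφ p) (GG4 hK hφ)
    Cfsg.Agent.H249.PPTwD4.T_comm hθ
  rw [Nat.card_congr e.toEquiv, Cfsg.Agent.S1067.result hq hK, hgq, ← pow_mul, ← pow_mul, ← pow_mul] at hth
  have hk : m ∣ 4 * j := by
    obtain ⟨r, hr, h6, h7, -, h8⟩ := h.top hp.out ha
    have h9 := h6.trans hth
    rw [hr.dvd_mul, hr.dvd_mul, hr.dvd_mul, h7, h7] at h9
    refine Nat.dvd_of_mul_dvd_mul_left (Nat.pos_of_ne_zero ha0) ?_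
    rw [show a * (4 * j) = g * 12 by rw [mul_left_comm, hag]; ring]
    rcases h9 with ((h9 | h9) | h9) | h9
    · exact absurd (hr.dvd_of_dvd_pow h9) h8
    · exact h9.trans (Nat.mul_dvd_mul_left _ (by norm_num))
    · exact h9.trans (Nat.mul_dvd_mul_left _ (by norm_num))
    · have h10 := tri_dvd ((p ^ g) ^ 4)
      rw [← pow_mul (p ^ g), ← pow_mul (p ^ g)] at h10
      rw [← h7, pow_mul]
      exact h9.trans h10
  have hk' : m ≤ 2 * j := by
    obtain ⟨x, hx⟩ := hk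
    by_contra h5
    have hx1 : x = 1 := by
      rcases Nat.lt_or_ge x 2 with h6 | h6
      · interval_cases x <;> omega
      · have := Nat.mul_le_mul_left m h6
        omega
    rw [hx1, mul_one] at hx
    have ham : a * m = g * 4 * 3 := by rw [← hx, mul_left_comm, hag]; ring
    obtain ⟨r, hr, h6, h7, h8, h9⟩ := h.ppd (k := g * 4) hp.out ha (by omega) (by omega) ⟨3, ham⟩ fun h6 => by
      have h7 := Nat.mul_le_mul (Nat.le_of_dvd (Nat.pos_of_ne_zero ha0) h6) hm6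
      omega
    have h10 := h6.trans hth
    rw [hr.dvd_mul, hr.dvd_mul, hr.dvd_mul, h7, h7, Nat.mul_dvd_mul_iff_left hg0, Nat.mul_dvd_mul_iff_left hg0] at h10
    have h11 := Nat.le_of_dvd (by have := hr.two_le; omega) h8
    rcases h10 with ((h10 | h10) | h10) | h10
    · exact h9 (hr.dvd_of_dvd_pow h10)
    · omega
    · omega
    · have h12 : 1 ≡ (p ^ g) ^ 4 [MOD r] := by
        rw [Nat.modEq_iff_dvd' (Nat.one_le_pow _ _ (pow_pos hp.out.pos _)), ← pow_mul, h7]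
      have h13 := ((h12.pow 2).add h12).add_right 1
      rw [← pow_mul (p ^ g)] at h13
      have h14 := Nat.le_of_dvd (by norm_num) ((Nat.modEq_zero_iff_dvd).1 (h13.trans ((Nat.modEq_zero_iff_dvd).2 h10)))
      have := hr.two_le
      omega
  have hnode := exists_node p hK hφ hθ hC.absIrred h2
  by_cases h3 : 3 ∣ j
  · obtain ⟨j', rfl⟩ := h3
    have hj' : 1 ≤ j' := by omega
    have hg' : g = a * j' := by
      have : a * (3 * j') = 3 * (a * j') := by ring
      omega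
    rcases hnode with h1 | ⟨h1, h0⟩
    · have h4 := short_ge p hK hφ hθ hC.absIrred h1 ha (f := a * (3 * j')) (by rw [hag, hgq, ← pow_mul, mul_comm])
        (s := 3 * j') (by rw [Nat.gcd_eq_left (Dvd.intro (3 * j') rfl), mul_comm])
      rw [Fintype.card_fin, pow_mul] at h4
      have h5 := pow86 j' hj'
      norm_num at h4
      omega
    · obtain ⟨h4, h5⟩ := long_ge' p hK hφ hθ hC.absIrred hq1 h1 h0 ha0 (j := j') (by omega) ha (by rw [hgq, hg'])
      rw [Fintype.card_fin] at h4 h5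
      rcases hj'.eq_or_lt with h6 | h6
      · have h7 : Odd (Nat.card F) := h.odd (by omega)
        have h8 := Finite.one_lt_card (α := F)
        have h9 := h5 h6.symm (by obtain ⟨x, hx⟩ := h7; omega)
        omega
      · have h7 := pow8 j' h6
        omega
  · have h4 : 3 ∣ a := by
      have h5 : 3 ∣ a * j := ⟨g, hag⟩
      exact (Nat.prime_three.dvd_mul.1 h5).resolve_right h3
    obtain ⟨a', rfl⟩ := h4
    have hg' : g = a' * j := by
      have : 3 * a' * j = 3 * (a' * j) := by ring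
      omega
    have hj2 : 2 ≤ j := by
      by_contra hcon
      have : j = 1 := by omega
      subst this
      omega
    have h5 : 6 * 2 ^ j ≤ Fintype.card (Fin n) + 6 := by
      rcases hnode with h1 | ⟨-, h0⟩
      · exact short_ge p hK hφ hθ hC.absIrred h1 ha (f := 3 * a' * j) (by rw [hag, hgq, ← pow_mul, mul_comm])
          (s := j) (by rw [Nat.gcd_eq_left (Dvd.intro j rfl), mul_comm])
      · refine long_ge p hK hφ hθ hC.absIrred hq1 h0 ha (f := a' * j) (by rw [hgq, hg']) (s := j) ?_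
        have h6 : Nat.gcd (3 * a') (a' * j) = a' := by
          rw [mul_comm 3 a', Nat.gcd_mul_left, show Nat.gcd 3 j = 1 from (Nat.Prime.coprime_iff_not_dvd Nat.prime_three).2 h3, mul_one]
        rw [h6, mul_comm]
    rw [Fintype.card_fin] at h5
    have h6 := pow2 j hj2
    omega

end d4

end Cfsg.Agent.SM.Ti.Lo
end

-- part: SM/Ti/Cell
section
set_option linter.all false
open scoped Cfsg.Agent.FastGrp

/-!
# S3570, the big cell on a polar space (helper69)

**`cell`** : the fixed point `⟨v⟩` of `U` is singular, its stabiliser is `P_J`, and the points of its orbit which are not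
perpendicular to it form one orbit of `U`.
-/

set_option autoImplicit false
set_option linter.unusedSectionVars false

namespace Cfsg.Agent.SM.Ti

open CoxeterSystem Cfsg.Agent.ChevalleyStructure.CoxeterGeom Cfsg.Agent.Tits.Roots Cfsg.Agent.Tits.Core
  Cfsg.Agent.Tits.Exchange Cfsg.Agent.Nodes.Reps Cfsg.Agent.Nodes.BNOf Cfsg.Agent.Nodes.StabComb
  Cfsg.Agent.Nodes.Bruhat Cfsg.Agent.Nodes.OppDec Cfsg.Agent.Nodes.LeviDec Cfsg.Agent.KFacts.RgdOpp
  Cfsg.Agent.Omega.CR Cfsg.Agent.Omega.FOne.Lift.Sd Cfsg.Agent.H911 Cfsg.Agent.H905.Md Cfsg.Agent.H156.Ppd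
open Cfsg Cfsg.Geo Projectivization
open Cfsg.Agent.H915.LD Cfsg.Agent.H100.Ppd
open scoped MatrixGroups Matrix LinearAlgebra.Projectivization Pointwise

universe u

variable {I W Y : Type*} [Fintype I] [DecidableEq I] [Group W] [Group Y] {M : CoxeterMatrix I}
  {cs : CoxeterSystem M W} {A : I → I → ℤ} {hA : IsCartan M A} {p : ℕ} {T : Subgroup Y} {nn : I → Y}
  {X : (I → ℤ) → Subgroup Y} {n : ℕ} {F : Type u} [Field F] [Finite F] {m : ℕ} {P : Subgroup (GL (Fin n) F)}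

/-- **The big cell.** -/
theorem cell {B : (Fin n → F) → (Fin n → F) → F} {Sg : (Fin n → F) → Prop} {G : Subgroup (GL (Fin n) F)} (hC : Core P)
    (hB : Pol B Sg G) (hS : Sing Sg G) (hPG : P ≤ G) (R : RGD cs hA p T nn X) [Finite Y] [Finite W] [hp : Fact p.Prime]
    [CharP F p] (hG : GG cs hA T X = ⊤) (hT : ∀ s ∈ T, ∀ t ∈ T, s * t = t * s) {φ : Y →* GL (Fin n) F} (hφ : φ.range = P) :
    ∃ (v : Fin n → F) (k : Y), v ≠ 0 ∧ Sg v ∧ v ∈ D cs hA X (lrep φ) ∧ (∀ x ∈ D cs hA X (lrep φ), ∃ c : F, x = c • v) ∧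
      Rp cs R.nsys (w0 cs) k ∧ B (ap (φ k⁻¹) v) v ≠ 0 ∧
      (∀ g : Y, g ∈ PJ cs hA T X (Jx cs hA X (lrep φ)) ↔ ∃ c : F, c • v = ap (φ g) v) ∧
      (∀ g : Y, B (ap (φ g) v) v ≠ 0 ↔
        ∃ u ∈ RGD.Sup X (RGD.Pos cs hA), ∃ c : F, c ≠ 0 ∧ ap (φ g) v = c • ap (φ u) (ap (φ k⁻¹) v)) ∧
      ∀ (w : W) (g : Y), Rp cs R.nsys w g → B (ap (φ g) v) v ≠ 0 → w0 cs * w ∈ WJ cs (Jx cs hA X (lrep φ)) := by
  have hne : Nonempty (Fin n) := hC.nonempty
  have hirr := H69.Ppd.lrep_irr (T := T) (X := X) (h := hA) (cs := cs) hG hφ hC.absIrred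
  set ρ := lrep φ with hρ
  set J := Jx cs hA X ρ with hJ
  set U := RGD.Sup X (RGD.Pos cs hA) with hU
  have hρa : ∀ y v, ρ y v = ap (φ y) v := fun y v => H69.Ppd.lrep_apply φ y v
  have hP : ∀ y, φ y ∈ P := fun y => hφ ▸ ⟨y, rfl⟩
  have hfix : ∀ y a b, B (ρ y a) (ρ y b) = B a b := fun y a b => by
    rw [hρa, hρa]
    exact hB.fix _ (hPG (hP y)) a b
  -- the fixed vector
  have hUp : IsPGroup p U := R.isPGroup_Upos
  obtain ⟨v, hv0, hvS, hvU⟩ := hS p (U.map φ) hp.out (CharP.cast_eq_zero F p)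
    (by rintro _ ⟨y, -, rfl⟩; exact hPG (hP y)) (hUp.map φ)
  have hvD : v ∈ D cs hA X ρ := fun u hu => by
    rw [hρa]
    exact hvU _ ⟨u, hu, rfl⟩
  have hD : ∀ x ∈ D cs hA X ρ, ∃ c : F, x = c • v := by
    obtain ⟨w, -, hw, -⟩ := H69.Ppd.exists_w R hG hT hφ hC.absIrred
    intro x hx
    rw [hw] at hx hvD
    obtain ⟨c, rfl⟩ := Submodule.mem_span_singleton.1 hx
    obtain ⟨d, rfl⟩ := Submodule.mem_span_singleton.1 hvD
    have hd : d ≠ 0 := fun e => hv0 (by rw [e, zero_smul])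
    exact ⟨c / d, by rw [smul_smul, div_mul_cancel₀ _ hd]⟩
  have hρ0 : ∀ y {x : Fin n → F}, x ≠ 0 → ρ y x ≠ 0 := fun y x hx => by
    rw [hρa]
    exact ap_ne _ hx
  have hD' : ∀ y, ρ y v ∈ D cs hA X ρ → ∃ c : F, c ≠ 0 ∧ ρ y v = c • v := fun y hy => by
    obtain ⟨c, hc⟩ := hD _ hy
    exact ⟨c, fun e => hρ0 y hv0 (by rw [hc, e, zero_smul]), hc⟩
  have hBv : ∀ b ∈ RGD.B cs hA T X, ∃ c : F, c ≠ 0 ∧ ρ b v = c • v := by
    intro b hb
    obtain ⟨t, ht, u, hu, rfl⟩ := R.mem_B.1 hb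
    refine hD' _ ?_
    rw [rho_mul, hvD u hu]
    exact D_ivt R hirr t ht v hvD
  -- the functional
  obtain ⟨k, hk⟩ := exists_rp cs R.nsys (w0 cs)
  have hψ : hB.fn (ρ k v) ∈ fx (dualRep ρ) (UN cs hA X) := by
    rw [mem_fx_dual]
    intro u hu x
    rw [← cj_U R hk, mem_cj] at hu
    rw [hB.fn_apply, hB.fn_apply, ← hfix u x (ρ k v)]
    congr 1
    have e : u * k = k * (k⁻¹ * u * k) := by group
    rw [← rho_mul, e, rho_mul, hvD _ hu]
  have hcell : ∀ {w : W} {g : Y}, Rp cs R.nsys w g → B (ρ g v) v ≠ 0 → w0 cs * w ∈ WJ cs J := by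
    intro w g hg h0
    refine mem_WJ_of_pair R hirr hψ (hk.mul hg) hvD ?_
    rwa [hB.fn_apply, rho_mul, hfix]
  have hnp : ∀ g : Y, B (ρ g v) v ≠ 0 → ∃ u ∈ U, ∃ c : F, c ≠ 0 ∧ ρ g v = c • ρ u (ρ k⁻¹ v) := by
    intro g h0
    obtain ⟨w, b₁, hb₁, g', hg', b₂, hb₂, rfl⟩ := (mem_GG R).1 (show g ∈ GG cs hA T X by rw [hG]; trivial)
    obtain ⟨c₂, hc₂, e₂⟩ := hBv b₂ hb₂
    obtain ⟨c₁, hc₁, e₁⟩ := hBv b₁⁻¹ (inv_mem hb₁)
    have h1 : B (ρ g' v) v ≠ 0 := by
      intro h1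
      apply h0
      rw [← hfix b₁⁻¹, ← rho_mul, mul_assoc, inv_mul_cancel_left, rho_mul, e₂, map_smul, e₁, hB.eq_zero_iff hc₂ hc₁]
      exact h1
    obtain ⟨t, ht, u, hu, rfl⟩ := R.mem_B.1 hb₁
    have h2 : Rp cs R.nsys (w0 cs * w) (k * (t * g')) := by
      have h3 := hk.mul ((rp_of_mem (cs := cs) (hN := R.nsys) ht).mul hg')
      rwa [one_mul] at h3
    obtain ⟨c, hc, e⟩ := hD' _ (rp_D R hirr (hcell hg' h1) h2 hvD)
    refine ⟨t * u * t⁻¹, (Subgroup.mem_normalizer_iff.1 (R.T_le_normalizer_U ht) u).1 hu, c₂ * c, mul_ne_zero hc₂ hc, ?_⟩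
    have e' : t * u * g' * b₂ = t * u * t⁻¹ * (k⁻¹ * (k * (t * g'))) * b₂ := by group
    rw [e', rho_mul, e₂, map_smul, rho_mul ρ (t * u * t⁻¹), rho_mul ρ k⁻¹, e, map_smul, map_smul, smul_smul]
  have hUB : ∀ u ∈ U, ∀ x, B (ρ u x) v = B x v := fun u hu x => by
    conv_lhs => rw [← hvD u hu]
    exact hfix u x v
  have hk0 : B (ρ k⁻¹ v) v ≠ 0 := by
    intro h0
    obtain ⟨y, -, hy⟩ := hB.partner v hvS hv0
    have h1 := span_translates hirr hv0
    have h2 : Submodule.span F (Set.range fun g : GG cs hA T X => ρ g.1 v) ≤ LinearMap.ker (hB.fn v) := by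
      rw [Submodule.span_le]
      rintro _ ⟨g, rfl⟩
      by_contra h3
      obtain ⟨u, hu, c, -, e⟩ := hnp g h3
      apply h3
      show B (ρ g v) v = 0
      rw [e, hB.smul, hUB u hu, h0, mul_zero]
    rw [h1] at h2
    exact hy (h2 Submodule.mem_top)
  have hk1 : B v (ρ k v) ≠ 0 := by rwa [← hfix k⁻¹, rho_inv_rho]
  -- the stabiliser
  let x : ℙ F (Fin n → F) := Projectivization.mk F v hv0
  have hx : ∀ g : GL (Fin n) F, g • x = x ↔ ∃ c : F, c • v = ap g v := fun g => by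
    rw [smul_mk', mk_eq_mk_iff']
  have hst : (MulAction.stabilizer (GL (Fin n) F) x).comap φ = PJ cs hA T X J := by
    ext g
    rw [Subgroup.mem_comap, MulAction.mem_stabilizer_iff, hx, ← hρa]
    constructor
    · rintro ⟨c, hc⟩
      obtain ⟨w, hw⟩ := (mem_GG R).1 (show g ∈ GG cs hA T X by rw [hG]; trivial)
      rw [cell_mem_PJ_iff R hw]
      obtain ⟨b₁, hb₁, g', hg', b₂, hb₂, rfl⟩ := hw
      obtain ⟨c₂, hc₂, e₂⟩ := hBv b₂⁻¹ (inv_mem hb₂)
      obtain ⟨c₁, hc₁, e₁⟩ := hBv b₁⁻¹ (inv_mem hb₁)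
      have hc0 : c ≠ 0 := fun e => hρ0 _ hv0 (by rw [← hc, e, zero_smul])
      refine mem_WJ_of_pair R hirr hψ hg' hvD ?_
      have e' : g' = b₁⁻¹ * (b₁ * g' * b₂ * b₂⁻¹) := by group
      rw [hB.fn_apply, e', rho_mul, rho_mul, e₂, map_smul, ← hc, map_smul, map_smul, e₁, hB.smul, hB.smul, hB.smul]
      exact mul_ne_zero hc₂ (mul_ne_zero hc0 (mul_ne_zero hc₁ hk1))
    · intro hg
      obtain ⟨l, hl, u, hu, rfl⟩ := (mem_PJ R).1 hg
      rw [rho_mul, hvD u (VJ_le_U J hu)]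
      obtain ⟨c, hc⟩ := hD _ (LJ_D R hirr l hl v hvD)
      exact ⟨c, hc.symm⟩
  refine ⟨v, k, hv0, hvS, hvD, hD, hk, hk0, fun g => ?_, fun g => ⟨hnp g, ?_⟩, fun w g hg => hcell hg⟩
  · rw [← hst, Subgroup.mem_comap, MulAction.mem_stabilizer_iff, hx]
  · rintro ⟨u, hu, c, hc, e⟩
    rw [e, hB.smul]
    refine mul_ne_zero hc ?_
    have h1 := hUB u hu (ρ k⁻¹ v)
    rw [hρa, hρa] at h1
    rw [h1]
    exact hk0

end Cfsg.Agent.SM.Ti
end

-- part: SM/Ti/A
section
prune_inst 0x4003800000000000594410020244c000090002000002000094008000120854021010c801000084eb2801000000003000090420000000e003000000200208002120401340c04260001800084000000000000000000000000000000000004000000000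
set_option linter.all false
open scoped Cfsg.Agent.FastGrp

/-!
# S3570, tight cores: the row `PSL_N` (helper38)
-/

set_option autoImplicit false
set_option linter.style.haveILetI false

namespace Cfsg.Agent.SM.Ti.A

open Matrix CoxeterSystem Cfsg.Agent.ChevalleyStructure.CoxeterGeom Cfsg.Agent.Tits.Roots Cfsg.Agent.Tits.Core
  Cfsg.Agent.Tits.Exchange Cfsg.Agent.Nodes.Reps Cfsg.Agent.Nodes.BNOf Cfsg.Agent.Nodes.StabComb
  Cfsg.Agent.Nodes.Bruhat Cfsg.Agent.Nodes.OppDec Cfsg.Agent.Nodes.LeviDec Cfsg.Agent.KFacts.RgdOpp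
  Cfsg.Agent.Omega.CR Cfsg.Agent.Omega.FOne.Lift.Sd Cfsg.Agent.H905.Md Cfsg.Agent.Nodes.RootsA
open Cfsg Cfsg.Geo
open Cfsg.Agent.H911 (lin)
open Cfsg.Agent.LieRecognition.BNCox (cA)
open Cfsg.Agent.H915.LD (Core Soc)
open Cfsg.Agent.H650.Ppd Cfsg.Agent.H35.Poin

section index

variable {l p y : ℕ} {W Y : Type*} [Group W] [Group Y] [Finite W] [Finite Y] {cs : CoxeterSystem (cA l) W} {T : Subgroup Y}
  {nn : Fin l → Y} {X : (Fin l → ℤ) → Subgroup Y}

theorem card_interval (R : RGD cs (isCartan l) p T nn X) (hl : 0 < l) (hy : ∀ i, Nat.card (X (sr i)) = y) {J : Set (Fin l)}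
    {a b : ℕ} (hb : b ≤ l) (hJ : ∀ i, i ∈ J ↔ a ≤ i.1 ∧ i.1 < b) :
    Nat.card ↥(PJ cs (isCartan l) T X J) =
      (∏ i ∈ Finset.range (b - a), th y (i + 2)) * Nat.card ↥(PJ cs (isCartan l) T X ∅) := by
  rw [card_PJ_path R (c := fun t => ⟨min (a + t) (l - 1), by omega⟩) (m := b - a) (y := y) ⟨fun t ht => ?_, fun t ht => ?_,
    fun s t h1 h2 => ?_, fun j hj h t ht => ?_, fun s h1 t h2 e => ?_⟩ fun _ _ => hy _]
  · rw [Set.sdiff_eq_empty.2]
    · rfl
    · exact fun j hj => ⟨j - a, by have := (hJ j).1 hj; omega, Fin.ext (by have := (hJ j).1 hj; simp only; omega)⟩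
  · rw [hJ]; simp only; omega
  · simp only [AA, Fin.mk.injEq]
    constructor <;> rw [if_neg (by (clear * - hl hb ht; omega)), if_pos (by omega)]
  · simp only [AA, Fin.mk.injEq]
    constructor <;> rw [if_neg (by (clear * - hl hb h1 h2; omega)), if_neg (by omega)]
  · have := (hJ j).1 hj
    exact (h (j - a) (by omega) (Fin.ext (by simp only; omega))).elim
  · simp only [Fin.mk.injEq] at e
    omega

theorem index_cases (R : RGD cs (isCartan l) p T nn X) (hG : GG cs (isCartan l) T X = ⊤) (hl : 0 < l)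
    (hy : ∀ i, Nat.card (X (sr i)) = y) {J : Set (Fin l)} (hJ : ∀ i : Fin l, 0 < i.1 → i.1 + 1 < l → i ∈ J) :
    (PJ cs (isCartan l) T X J).index = 1 ∨ (PJ cs (isCartan l) T X J).index = th y (l + 1) ∨
      (2 ≤ l ∧ (PJ cs (isCartan l) T X J).index = th y l * th y (l + 1)) := by
  classical
  have h1 := card_interval R hl hy (J := Set.univ) (a := 0) le_rfl fun i => by simp
  rw [show PJ cs (isCartan l) T X Set.univ = ⊤ from top_le_iff.1 (by rw [← hG, ← LJ_univ]; exact LJ_le_PJ), Subgroup.card_top,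
    Nat.sub_zero] at h1
  obtain ⟨a, b, ha, hb, hb', h⟩ : ∃ a b, a ≤ 1 ∧ b ≤ l ∧ l ≤ b + 1 ∧ ∀ i, i ∈ J ↔ a ≤ i.1 ∧ i.1 < b := by
    refine ⟨if ⟨0, hl⟩ ∈ J then 0 else 1, if ⟨l - 1, by omega⟩ ∈ J then l else l - 1, by split_ifs <;> omega,
      by split_ifs <;> omega, by split_ifs <;> omega, fun i => ?_⟩
    have := i.2
    have e0 : i.1 = 0 → (i ∈ J ↔ ⟨0, hl⟩ ∈ J) := fun e => by rw [show i = ⟨0, hl⟩ from Fin.ext e]
    have e1 : i.1 = l - 1 → (i ∈ J ↔ ⟨l - 1, by omega⟩ ∈ J) := fun e => by rw [show i = ⟨l - 1, by omega⟩ from Fin.ext e]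
    have e2 := hJ i
    by_cases k : i ∈ J <;> split_ifs with k0 k1 k1 <;> simp only [k, k0, k1, iff_true, iff_false, true_iff, false_iff,
      not_true, not_false_iff, imp_false, implies_true] at * <;> (clear * - this hl e1 e0 e2; omega)
  have h2 := (PJ cs (isCartan l) T X J).card_mul_index
  rw [card_interval R hl hy hb h, h1, mul_right_comm] at h2
  have h3 := Nat.eq_of_mul_eq_mul_right Nat.card_pos h2
  have h4 : ∀ k, 0 < ∏ i ∈ Finset.range k, th y (i + 2) := fun k => Finset.prod_pos fun i _ => th_pos _ (by omega)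
  generalize hm : b - a = m at h3
  rcases show l = m ∨ l = m + 1 ∨ l = m + 2 by omega with rfl | rfl | rfl
  · exact .inl (Nat.eq_of_mul_eq_mul_left (h4 _) (h3.trans (mul_one _).symm))
  · rw [Finset.prod_range_succ] at h3
    exact .inr (.inl (Nat.eq_of_mul_eq_mul_left (h4 _) h3))
  · rw [Finset.prod_range_succ, Finset.prod_range_succ, mul_assoc] at h3
    exact .inr (.inr ⟨by omega, Nat.eq_of_mul_eq_mul_left (h4 _) h3⟩)

end index

theorem num {p Q s j l : ℕ} (hp : p.Prime) (hQ : p ∣ Q) (h : (1 + p ^ s) * th Q j = th (Q ^ j) l)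
    (hj : (j = 1 ∧ 3 ≤ l) ∨ (j = 2 ∧ (l = 2 ∨ l = 3))) (h2 : 2 ≤ Q) : False := by
  rcases hj with ⟨rfl, hl⟩ | ⟨rfl, rfl | rfl⟩
  · obtain ⟨k, rfl⟩ : ∃ k, l = k + 3 := ⟨l - 3, by omega⟩
    rw [pow_one, th_succ' Q (k + 2), show th Q 1 = 1 by simp [th], mul_one] at h
    obtain ⟨t, -, ht⟩ := (Nat.dvd_prime_pow hp).1 (Dvd.intro_left Q (show Q * th Q (k + 2) = p ^ s by omega))
    have h3 := th_coprime Q (k + 1)
    rcases Nat.eq_zero_or_pos t with rfl | h0
    · have := th_pos Q (Nat.succ_pos k)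
      rw [th_succ', pow_zero] at ht
      nlinarith only [h2, ht, this]
    · exact hp.one_lt.ne' (Nat.eq_one_of_dvd_coprimes h3 (ht ▸ dvd_pow_self p h0.ne') hQ)
  · have h1 : (Q + 1 : ℤ) ∣ 2 := ⟨1 + p ^ s - (Q - 1), by
      simp only [th, Finset.sum_range_succ, Finset.range_zero, Finset.sum_empty] at h
      zify at h
      linear_combination -h⟩
    have := Int.le_of_dvd (by norm_num) h1
    omega
  · simp only [th, Finset.sum_range_succ, Finset.range_zero, Finset.sum_empty] at h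
    have h1 : (Q + 1 : ℤ) ∣ 3 := ⟨1 + p ^ s - (Q - 1) * (Q ^ 2 + 2), by
      zify at h
      linear_combination -h⟩
    have := Int.le_of_dvd (by norm_num) h1
    obtain rfl : Q = 2 := by omega
    obtain rfl := (Nat.prime_dvd_prime_iff_eq hp Nat.prime_two).1 hQ
    have h3 : 3 ∣ 2 ^ s := ⟨2, by omega⟩
    have := Nat.prime_three.dvd_of_dvd_pow h3
    omega

theorem pow_ge {j : ℕ} (hj : 3 ≤ j) : 2 * j + 2 ≤ 2 ^ j := by
  induction j, hj using Nat.le_induction with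
  | base => norm_num
  | succ j _ ih => rw [pow_succ]; omega

theorem boxA : BoxA := fun n m p hp F _ _ _ K _ _ _ P h N hN h4 hm => ⟨fun e => by
  have hC := h.core
  obtain ⟨l, rfl⟩ : ∃ l, N = l + 1 := ⟨N - 1, by omega⟩
  have hK4 : l = 1 → 4 ≤ Nat.card K := fun hl => by rw [Nat.card_eq_fintype_card]; exact h4 (by omega)
  obtain ⟨j, hj, hjK⟩ := psl_card p hC.absIrred hC.perfect (by omega) hK4 e hC.no_subfield
  have hQ : 2 ≤ Nat.card F := Finite.one_lt_card
  rw [← Nat.card_eq_fintype_card, ← hjK, ← pow_mul] at hm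
  obtain rfl := Nat.pow_right_injective hQ hm
  obtain ⟨φ, hφ, -, -⟩ := psl_cover p hC.perfect (by omega) hK4 e
  have h6 := h.six
  have hn := h.hi
  have h13 := h.ge
  haveI : Nonempty (Fin n) := ⟨⟨0, by omega⟩⟩
  haveI : Finite (cA l).Group := finite_W (cA l).toCoxeterSystem (isCartan l)
  haveI hchar : CharP (AlgebraicClosure F) p := charP_of_injective_algebraMap (algebraMap F _).injective p
  have R := Nodes.RGDTypeA.rgd (cA l).toCoxeterSystem (isCartan l) (F := K) (p := p)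
  have hG := gg_eq_top (T := Nodes.RGDTypeA.T (Fin (l + 1)) K)
    (Nodes.RGDTypeA.G1_eq_top (F := K) (cA l).toCoxeterSystem (isCartan l))
  have hirr := ac_irr R hG slT_comm hφ hC.absIrred
  have hD := finrank_D R hirr slT_comm
  have hc : (l + 1).choose 2 * 2 = (l + 1) * l := by
    rw [Nat.choose_two_right, Nat.add_sub_cancel, Nat.div_mul_cancel]
    rw [mul_comm]
    exact (Nat.even_mul_succ_self l).two_dvd
  have hjl : 2 ≤ l → (j = 1 ∧ 5 ≤ l) ∨ (j = 2 ∧ (l = 2 ∨ l = 3)) := fun hl => by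
    have h5 := card_ge_A p hC hl e hjK.symm
    rw [Fintype.card_fin] at h5
    rcases lt_trichotomy j 2 with k | rfl | k
    · obtain rfl : j = 1 := by omega
      omega
    · norm_num at h5
      have : l < 4 := by nlinarith only [hc, hn, h5]
      omega
    · have h7 := Nat.mul_le_mul_left ((l + 1).choose 2) (show 2 * j ≤ 2 ^ j - 2 by have := pow_ge k; omega)
      nlinarith only [hn, hc, hl, h5, h7, Nat.mul_le_mul_left (j * (l + 1)) hl]
  obtain ⟨⟨s, -, hs⟩, -, -⟩ := h.big R hG slT_comm hφ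
  rw [th_mul_th, hjK, ← mul_assoc] at hs
  have h1 := th_pos (Nat.card K) (Nat.succ_pos l)
  have h2 : 2 ≤ (1 + p ^ s) * th (Nat.card F) j := by nlinarith only [th_pos (Nat.card F) hj, pow_pos hp.out.pos s]
  rcases index_cases R hG (by omega) (y := Nat.card K) (fun i => by
    rw [Nodes.RGDTypeA.X_sr]
    exact (Nat.card_congr (Equiv.ofInjective _ fun a b k => Nodes.RGDTypeA.tv_inj (Fin.castSucc_lt_succ).ne k)).symm)
    (J := Jx (cA l).toCoxeterSystem (isCartan l) (Nodes.RGDTypeA.X K) (lin (acRep φ))) (fun i k1 k2 => by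
      by_contra hi
      obtain ⟨d, hd2, hd⟩ := edge_pow_of_card R hG slT_comm hφ hC.absIrred (nd_A i) hi hjK.symm
      have h3 := dim_ge_A R hirr hi
      have h4 := finrank_Io R hirr i
      rw [hd, hD] at h4
      rw [hD, mul_one, Module.finrank_fintype_fun_eq_card, Fintype.card_fin] at h3
      have h5 : 2 ^ j ≤ d ^ j := Nat.pow_le_pow_left hd2 j
      have h7 := choose_two_le (m := l + 1) (k := i.val + 1) (by omega) (by omega)
      rcases hjl (by omega) with ⟨rfl, k⟩ | ⟨rfl, rfl | rfl⟩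
      · have := h7.trans (le_self_add.trans h3)
        nlinarith only [hc, k, hn, this]
      · omega
      · rw [show Nat.choose (3 + 1) 2 = 6 from rfl] at h3 h7
        omega) with k | k | ⟨hl, k⟩
  · rw [k] at hs
    nlinarith only [hs, h1, h2]
  · rw [k] at hs
    nlinarith only [hs, h1, h2]
  · rw [k, ← hjK] at hs
    obtain ⟨a, -, ha⟩ := @FiniteField.card F _ (Fintype.ofFinite F) p _
    exact num hp.out (by rw [@Nat.card_eq_fintype_card F (Fintype.ofFinite F), ha]; exact dvd_pow_self p a.ne_zero)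
      (Nat.eq_of_mul_eq_mul_right (hjK ▸ h1) hs).symm ((hjl hl).imp_left fun k => ⟨k.1, by omega⟩) hQ⟩

end Cfsg.Agent.SM.Ti.A

private theorem dce_4aff1688a30e : _root_.True := by
  try have : _root_.True := by simp only [_root_.Cfsg.Agent.Nodes.RootsA.AA.eq_1]
  try have : _root_.True := by simp only [_root_.Cfsg.Agent.Nodes.Bruhat.GG.congr_simp]
  exact _root_.True.intro
end

-- part: SM/Ti/LoB
section
prune_inst 0x14403822000000000594210020245c0000900020800121000a4002400340800009010ca011000066a2002000004003000010420000000e000000000200000002020400000100260006000084000000000000000000000000000000000000000000000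
set_option linter.all false
open scoped Cfsg.Agent.FastGrp

/-!
# S3570, tight cores below the borderline: orthogonal socles, odd dimension and minus type (helper69; the proofs are those of `H948/Ppd`)
-/

set_option autoImplicit false
set_option linter.unusedSectionVars false
set_option linter.style.haveILetI false

namespace Cfsg.Agent.SM.Ti.Lo

universe u

section podd

open CoxeterSystem Cfsg.Agent.ChevalleyStructure.CoxeterGeom Cfsg.Agent.Tits.Roots Cfsg.Agent.Tits.Core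
  Cfsg.Agent.Nodes.Reps Cfsg.Agent.Nodes.BNOf Cfsg.Agent.Nodes.Bruhat Cfsg.Agent.Nodes.RGDLib
open Cfsg.Agent.Nodes Cfsg.Agent.Nodes.WittRoot Cfsg.Agent.Nodes.WittRGD Cfsg.Agent.Nodes.WittAll Cfsg.Agent.Nodes.WittInst
open Cfsg.Agent.Nodes.TypeC (isCartan)
open Cfsg.Agent.TitsThree.Siegel Cfsg.Agent.TitsThree.SiegelGen Cfsg.Agent.TitsThree.WittFrame Cfsg.Agent.TitsThree.FrameCN
  Cfsg.Agent.TitsThree.WBridge Cfsg.Agent.TitsThree.KSideO Cfsg.Agent.TitsThree Cfsg.Agent.TitsThree.StdData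
open Cfsg.Agent.LieClassical Cfsg.Agent.LieClassical.OrthCore Cfsg.Agent.LieClassical.OrthTrans
open Cfsg.Agent.LieClassical.OrthSimple Cfsg.Agent.LieClassical.OrthFinite Cfsg.Agent.LieClassical.OrthForms
open Cfsg.Agent.H915.LD Cfsg.Agent.H911 Cfsg.Agent.H905.Md Cfsg.Agent.H925.Nat Cfsg.Agent.Nodes.RGDLift
open Cfsg.Agent.H156.Ppd (Cov lrep exists_cov)
open Cfsg.Agent.Omega.CR Cfsg.Agent.Omega.FOne.Lift.Sd
open Cfsg.Agent.H100.Ppd (Nat')
open Cfsg Cfsg.Geo QuadraticMap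
open scoped MatrixGroups Matrix
open Cfsg.Agent.H948.Ppd

variable {n : ℕ} {F : Type u} [Field F] [Finite F] {m : ℕ} {P : Subgroup (GL (Fin n) F)}
  {K : Type} [Field K] [Fintype K] (p : ℕ) [hp : Fact p.Prime] [hFp : CharP F p] [hKp : CharP K p]
include hp hFp hKp

theorem nat_podd (h : Tc m P) {l : ℕ} (hl : 3 ≤ l) (hodd : Odd (Fintype.card K))
    (hlt : Nat.card F ^ m < Fintype.card K ^ (2 * l)) (e : Soc P ≃* POmega K (quadFormOdd l K)) : Nat' P := by
  have hC := h.core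
  have h2 : (2 : K) ≠ 0 := by
    intro h20
    have h3 : CharP K 2 := CharTwo.of_one_ne_zero_of_two_eq_zero one_ne_zero h20
    have h4 := FiniteField.even_card_of_char_two (CharP.ringChar_of_prime_eq_zero Nat.prime_two (by exact_mod_cast h20) :
      ringChar K = 2)
    have := Nat.odd_iff.1 hodd
    omega
  have hcoe := coe_oddForm (m := l) (F := K)
  have hG : _root_.Cfsg.Agent.LieClassical.OrthTrans.Good (oddForm l K) := by
    apply good_of_finite (nondeg_oddForm l K h2)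
    rw [Module.finrank_fintype_fun_eq_card, Fintype.card_sum, Fintype.card_sum, Fintype.card_fin,
      Fintype.card_unit]
    omega
  have hp0 : ((embOdd l K).ngt ⟨1, -1 ^ 2, rfl⟩).c ≠ 0 := by
    change (1 : K)⁻¹ * (-1 ^ 2) ≠ 0
    simp
  have e' := e
  rw [← coe_oddForm] at e'
  have hWf : Finite (CoxeterMatrix.B l).Group := TypeC.finite_W (CoxeterMatrix.B l).toCoxeterSystem
  set M := model (wodd l K) hG ⟨_, hp0⟩ with hM
  have hA : AmbT (toFrame (wodd l K)) p M.I := AmbT.of_amb (amb_O_of_two _ h2) p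
  have hperf : commutator ↥M.I = ⊤ := H911.Five.commutator_top hG.E_perfect
  obtain ⟨Y, _, _, f, φ, n₁, C⟩ := exists_covB hC hA hp0 (by omega) hperf e'
  -- the nodes
  have hNd : ∀ i, ∃ σ' : SL(2, K) →* M.I, Nd (TB M) (XB M) i σ' := by
    intro i
    by_cases hi : (i : ℕ) + 1 < l
    · exact nd_long hA.rg_le hi
    · exact nd_last_odd h2 (H48.OMult.span_odd K l) hA.rg_le hi
  have hT' : ∀ s ∈ TB M, ∀ t ∈ TB M, s * t = t * s := by
    intro s hs t ht
    exact Subtype.ext (torus_comm hA.V0 (kd_odd h2 l) (hA.iso _ s.2) (hA.iso _ t.2) hs.2 ht.2)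
  obtain ⟨hT, hpow⟩ := lift_comm_pow C hp0 hT' (N₀ := Nat.card K) fun i => by
    obtain ⟨σ', N⟩ := hNd i
    exact ⟨K, inferInstance, inferInstance, inferInstance, σ', N, fun x => by
      rw [Nat.card_eq_fintype_card]; exact FiniteField.pow_card x⟩
  -- the order of the field
  obtain ⟨a, -, ha⟩ := FiniteField.card K p
  rw [← Nat.card_eq_fintype_card] at ha
  obtain ⟨j, hj, hjK⟩ := C.exists_j hC hT (a := a) a.ne_zero (by rw [← ha]; exact hpow)
  rw [← ha] at hjK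
  have hn10 := h.ge
  have hnlt : n < 4 * l * j := by
    have := h.lt_of (hjK.trans Nat.card_eq_fintype_card) hlt
    calc n < 2 * (j * (2 * l)) := this
      _ = 4 * l * j := by ring
  -- the edges
  have hedge : ∀ i, i ∉ JB M p f φ → ∃ m, 2 ≤ m ∧ dB M p f φ i = m ^ j := by
    intro i hi
    obtain ⟨σ', N'⟩ := hNd i
    obtain ⟨σ, -, N⟩ := lift_nd C hp0 N'
    exact edge_pow_B hC C hT hi N hjK.symm
  -- the nodes `≥ 1`
  have hJ : ∀ i, i ∉ JB M p f φ → (i : ℕ) = 0 := by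
    intro i hi
    by_contra hi0
    have hi1 : 1 ≤ (i : ℕ) := by omega
    have hd := hedge i hi
    rcases Nat.lt_or_ge 3 l with hl4 | hl3
    · have h3 := bound_four hC C hT (by omega) hi1 hi
      rw [Fintype.card_fin] at h3
      exact arith_mid (by omega) hj hnlt hd h3
    · obtain rfl : l = 3 := by omega
      by_cases hi2 : (i : ℕ) = 1
      · have h3 := bound_all hC C hT hi
        rw [Fintype.card_fin, hi2] at h3
        exact arith_mid (l := 3) (by omega) hj hnlt hd h3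
      · have hi3 : (i : ℕ) + 1 = 3 := by omega
        obtain ⟨ε, hε, h3⟩ := bound_last hC C hT hi3 hi
        rw [Fintype.card_fin] at h3
        have hj1 := arith_last hj hnlt hd hε h3
        subst hj1
        exact H924.D5.po7_big p hC (by rw [Fintype.card_fin]; omega) (by rw [Fintype.card_fin]; omega) h2 e
  -- the first node
  have ho : (⟨0, by omega⟩ : Fin l) ∉ JB M p f φ := by
    obtain ⟨i, hi⟩ := exists_node hC C hT
    have h3 : i = ⟨0, by omega⟩ := Fin.ext (hJ i hi)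
    rwa [← h3]
  obtain ⟨ε, hε, h3⟩ := bound_first hC C hT (by omega) rfl ho
  rw [Fintype.card_fin] at h3
  obtain ⟨hj1, hd2⟩ := arith_first hl hj hnlt (hedge _ ho) hε h3
  have hspan : Submodule.span K (Set.range (mt M.I)) = ⊤ :=
    span_E hG (by rw [Fintype.card_sum, Fintype.card_sum, Fintype.card_fin, Fintype.card_unit]; omega)
  obtain ⟨τ, θ, hθ⟩ := identify_B hC hA hp0 (by omega) hspan C hT (o := ⟨0, by omega⟩) rfl
    (fun i hi => Fin.ext (hJ i hi)) hd2
  have hcj : CjOf (omegaGL (quadFormOdd l F)) P := by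
    refine cjOf_of (mem_omega_iff'' hG) (map_omega_glm τ fun v => ?_) hθ
    rw [coe_oddForm]
    exact quadFormOdd_map τ v
  have h2F : (2 : F) ≠ 0 := by
    intro h20
    apply h2
    have h4 : τ (2 : K) = 2 := map_ofNat τ 2
    rw [h20] at h4
    exact (map_eq_zero τ).1 h4
  have hnd : IsNondegenerateQuadraticForm (quadFormOdd l F) := by
    rw [← coe_oddForm]
    exact H925.isND_of_nondeg (nondeg_oddForm l F h2F)
  obtain ⟨Q₁, hQ₁, hP, -⟩ := hcj.omega_form hnd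
  exact Or.inr (Or.inr (Or.inr ⟨Q₁, hQ₁, hP.ge⟩))

end podd

section pminus

open CoxeterSystem Cfsg.Agent.ChevalleyStructure.CoxeterGeom Cfsg.Agent.Tits.Roots Cfsg.Agent.Tits.Core
  Cfsg.Agent.Nodes.Reps Cfsg.Agent.Nodes.BNOf Cfsg.Agent.Nodes.Bruhat Cfsg.Agent.Nodes.RGDLib
open Cfsg.Agent.Nodes Cfsg.Agent.Nodes.WittRoot Cfsg.Agent.Nodes.WittRGD Cfsg.Agent.Nodes.WittAll Cfsg.Agent.Nodes.WittInst
open Cfsg.Agent.Nodes.TypeC (isCartan)
open Cfsg.Agent.TitsThree.Siegel Cfsg.Agent.TitsThree.SiegelGen Cfsg.Agent.TitsThree.WittFrame Cfsg.Agent.TitsThree.FrameCN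
  Cfsg.Agent.TitsThree.WBridge Cfsg.Agent.TitsThree.KSideO Cfsg.Agent.TitsThree Cfsg.Agent.TitsThree.StdData
open Cfsg.Agent.LieClassical Cfsg.Agent.LieClassical.OrthCore Cfsg.Agent.LieClassical.OrthTrans
open Cfsg.Agent.LieClassical.OrthSimple Cfsg.Agent.LieClassical.OrthFinite Cfsg.Agent.LieClassical.OrthForms
open Cfsg.Agent.H915.LD Cfsg.Agent.H911 Cfsg.Agent.H905.Md Cfsg.Agent.H925.Nat Cfsg.Agent.Nodes.RGDLift
open Cfsg.Agent.H156.Ppd (Cov lrep exists_cov)
open Cfsg.Agent.Omega.CR Cfsg.Agent.Omega.FOne.Lift.Sd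
open Cfsg.Agent.H100.Ppd (Nat')
open Cfsg Cfsg.Geo QuadraticMap
open scoped MatrixGroups Matrix
open Cfsg.Agent.H948.Ppd Cfsg.Agent.H948.Ppd.Minus

variable {n : ℕ} {F : Type u} [Field F] [Finite F] {m : ℕ} {P : Subgroup (GL (Fin n) F)}
  {K : Type} [Field K] [Fintype K] (p : ℕ) [hp : Fact p.Prime] [hFp : CharP F p] [hKp : CharP K p]
include hp hFp hKp

theorem nat_pminus (h : Tc m P) {l : ℕ} (hl : 4 ≤ l) (hlt : Nat.card F ^ m < Fintype.card K ^ (2 * l)) (a b : K)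
    (hab : ∀ z₁ z₂ : K, z₁ ^ 2 + a * z₁ * z₂ + b * z₂ ^ 2 = 0 → z₁ = 0 ∧ z₂ = 0)
    (e : Soc P ≃* POmega K (quadFormMinus (l - 1) K a b)) : Nat' P := by
  have hC := h.core
  obtain ⟨l, rfl⟩ : ∃ l', l = l' + 1 := ⟨l - 1, by omega⟩
  have hl3 : 3 ≤ l := by omega
  have e₁ : Soc P ≃* POmega K (quadFormMinus l K a b) := e
  have hG := _root_.Cfsg.Agent.H948.Ppd.Minus.good_minus (m := l) hab (by omega)
  have hA := _root_.Cfsg.Agent.H948.Ppd.Minus.ambT_minus hab p (by omega) hG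
  have hp0 := pc_ne (m := l) hab
  have e' := e₁
  rw [← coe_minusForm] at e'
  have hWf : Finite (CoxeterMatrix.B l).Group := TypeC.finite_W (CoxeterMatrix.B l).toCoxeterSystem
  have hperf : commutator ↥(MM hab hG).I = ⊤ := H911.Five.commutator_top hG.E_perfect
  obtain ⟨Y, _, _, f, φ, n₁, C⟩ := exists_covB hC hA hp0 (by omega) hperf e'
  have hT' := torus_comm_minus hab hG (by omega) hA
  obtain ⟨hT, hpow⟩ := lift_comm_pow C hp0 hT' (N₀ := Nat.card K ^ 2) fun i => nodes hab hG hA i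
  -- the fields
  obtain ⟨f₀, -, hf₀⟩ := FiniteField.card K p
  rw [← Nat.card_eq_fintype_card] at hf₀
  have := Fintype.ofFinite F
  obtain ⟨a₀, -, ha₀⟩ := FiniteField.card F p
  rw [← Nat.card_eq_fintype_card] at ha₀
  obtain ⟨j, hj, hjK⟩ := C.exists_j hC hT (a := (f₀ : ℕ) * 2) (Nat.mul_ne_zero f₀.ne_zero two_ne_zero)
    (by rw [pow_mul, ← hf₀]; exact hpow)
  rw [pow_mul, ← hf₀] at hjK
  have haj : (a₀ : ℕ) * j = f₀ * 2 := by
    have h1 : p ^ ((a₀ : ℕ) * j) = p ^ ((f₀ : ℕ) * 2) := by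
      rw [pow_mul, ← ha₀, hjK, hf₀, ← pow_mul]
    exact Nat.pow_right_injective hp.out.two_le h1
  have hn10 := h.ge
  have hnlt : n < 2 * (l + 1) * j := by
    rw [pow_mul, ← Nat.card_eq_fintype_card] at hlt
    have := h.lt_of hjK hlt
    calc n < 2 * (j * (l + 1)) := this
      _ = 2 * (l + 1) * j := by ring
  -- the last node
  have hlast : ∀ i : Fin l, (i : ℕ) + 1 = l → ∃ (E : Type) (_ : Field E) (_ : Finite E) (_ : CharP E p)
      (σ : SL(2, E) →* Y), Nat.card E = Nat.card F ^ j ∧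
        Nd ((TB (MM hab hG)).comap f) (fun x => lft p f (XB (MM hab hG) x)) i σ := by
    intro i hi
    obtain ⟨E, i1, i2, i3, σ', h1, -, N'⟩ := node_last hab hG hA hi
    obtain ⟨σ, -, N⟩ := lift_nd C hp0 N'
    exact ⟨E, i1, i2, i3, σ, by rw [h1, hjK], N⟩
  have hnl : ∀ i : Fin l, (i : ℕ) + 1 = l → i ∈ JB (MM hab hG) p f φ := by
    intro i hi
    by_contra hiJ
    obtain ⟨E, i1, i2, i3, σ, h1, N⟩ := hlast i hi
    obtain ⟨ε, hε, h3⟩ := bound_last hC C hT hi hiJ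
    rw [Fintype.card_fin] at h3
    exact arith_lastM hl3 hj hnlt (edge_pow_B hC C hT hiJ N h1) hε h3
  have hlong : ∀ i : Fin l, (i : ℕ) + 1 < l → ∃ σ : SL(2, K) →* Y,
        Nd ((TB (MM hab hG)).comap f) (fun x => lft p f (XB (MM hab hG) x)) i σ := by
    intro i hi
    obtain ⟨σ', -, N'⟩ := node_long hab hG hA hi
    obtain ⟨σ, -, N⟩ := lift_nd C hp0 N'
    exact ⟨σ, N⟩
  -- the identification
  have hid : (∀ i : Fin l, 1 ≤ (i : ℕ) → i ∈ JB (MM hab hG) p f φ) →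
      dB (MM hab hG) p f φ ⟨0, by omega⟩ ≤ 2 → Nonempty (K ≃+* F) ∧ Nat' P := by
    intro hJ hd2
    have hspan : Submodule.span K (Set.range (mt (MM hab hG).I)) = ⊤ :=
      span_E hG (by rw [Fintype.card_sum, Fintype.card_sum, Fintype.card_fin, Fintype.card_fin]; omega)
    obtain ⟨τ, θ, hθ⟩ := identify_B hC hA hp0 (by omega) hspan C hT (o := ⟨0, by omega⟩) rfl
      (fun i hi => by
        by_contra h0
        refine hi (hJ i ?_)
        by_contra h1
        exact h0 (Fin.ext (by simp only; omega))) hd2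
    have hcj : CjOf (omegaGL (quadFormMinus l F (τ a) (τ b))) P := by
      refine cjOf_of (mem_omega_iff'' hG) (map_omega_glm τ fun v => ?_) hθ
      rw [coe_minusForm]
      exact quadFormMinus_map τ a b v
    have hab' : ∀ z₁ z₂ : F, z₁ ^ 2 + τ a * z₁ * z₂ + τ b * z₂ ^ 2 = 0 → z₁ = 0 ∧ z₂ = 0 := by
      intro z₁ z₂ hz
      obtain ⟨z₁, rfl⟩ := τ.surjective z₁
      obtain ⟨z₂, rfl⟩ := τ.surjective z₂
      rw [← map_pow, ← map_pow, ← map_mul, ← map_mul, ← map_mul, ← map_add, ← map_add] at hz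
      obtain ⟨h1, h2⟩ := hab _ _ ((map_eq_zero τ).1 hz)
      rw [h1, h2, map_zero]
      exact ⟨rfl, rfl⟩
    have hnd : IsNondegenerateQuadraticForm (quadFormMinus l F (τ a) (τ b)) := by
      rw [← coe_minusForm]
      exact H925.isND_of_nondeg (nondeg_minusForm l F (τ a) (τ b) hab')
    obtain ⟨Q₁, hQ₁, hP, -⟩ := hcj.omega_form hnd
    exact ⟨⟨τ⟩, Or.inr (Or.inr (Or.inr ⟨Q₁, hQ₁, hP.ge⟩))⟩
  -- the first node
  have hfirst : (∀ i : Fin l, 1 ≤ (i : ℕ) → i ∈ JB (MM hab hG) p f φ) →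
      (⟨0, by omega⟩ : Fin l) ∉ JB (MM hab hG) p f φ := by
    intro hJ
    obtain ⟨i, hi⟩ := exists_node hC C hT
    have h3 : i = ⟨0, by omega⟩ := by
      by_contra h0
      refine hi (hJ i ?_)
      by_contra h1
      exact h0 (Fin.ext (by simp only; omega))
    rwa [← h3]
  rcases Nat.even_or_odd' j with ⟨j', hj' | hj'⟩
  · -- `|K| = |F| ^ j'`
    subst hj'
    have hj1 : 1 ≤ j' := by omega
    have hfa : (f₀ : ℕ) = a₀ * j' := by
      have h1 : (a₀ : ℕ) * (2 * j') = a₀ * j' * 2 := by ring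
      omega
    have hKF : Nat.card K = Nat.card F ^ j' := by rw [hf₀, ha₀, ← pow_mul, hfa]
    have hnlt' : n < 4 * (l + 1) * j' := by
      calc n < 2 * (l + 1) * (2 * j') := hnlt
        _ = 4 * (l + 1) * j' := by ring
    have hedge : ∀ i : Fin l, (i : ℕ) + 1 < l → i ∉ JB (MM hab hG) p f φ →
        ∃ m, 2 ≤ m ∧ dB (MM hab hG) p f φ i = m ^ j' := by
      intro i hi hiJ
      obtain ⟨σ, N⟩ := hlong i hi
      exact edge_pow_B hC C hT hiJ N hKF
    have hJ : ∀ i : Fin l, 1 ≤ (i : ℕ) → i ∈ JB (MM hab hG) p f φ := by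
      intro i hi1
      by_cases hi : (i : ℕ) + 1 < l
      · by_contra hiJ
        rcases Nat.lt_or_ge 3 l with hl4 | hl3'
        · have h3 := bound_all hC C hT hiJ
          rw [Fintype.card_fin] at h3
          exact arith_midA hj1 hnlt' (hedge i hi hiJ) (choose_four hl4 (by omega) hi) h3
        · obtain rfl : l = 3 := by omega
          obtain rfl : i = 1 := by
            apply Fin.ext
            change (i : ℕ) = 1
            omega
          obtain ⟨ε, hε, h3⟩ := bound_mid hC C hT hiJ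
          rw [Fintype.card_fin] at h3
          have h4 := arith_midB hj1 hnlt' (hedge 1 hi hiJ) hε h3
          subst h4
          obtain ⟨E, i1, i2, i3, σ, h1, N⟩ := hlast 2 rfl
          have h5 := bound_levi hC C hT hiJ N ha₀ h1
          rw [Fintype.card_fin] at h5
          omega
      · exact hnl i (by omega)
    have ho := hfirst hJ
    obtain ⟨ε, hε, h3⟩ := bound_first hC C hT (by omega) rfl ho
    rw [Fintype.card_fin] at h3
    rcases arith_firstA hl3 hj1 hnlt' (hedge _ (by simp only; omega) ho) hε h3 with ⟨-, hd2⟩ | ⟨h4, h5, h6⟩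
    · exact (hid hJ hd2).2
    · exfalso
      subst h4 h5
      have h7 := rank_minus hC hab hG (by norm_num) hA C hT (o := ⟨0, by omega⟩) rfl
        (fun i => ⟨fun hi => by
          by_contra h0
          refine hi (hJ i ?_)
          by_contra h1
          exact h0 (Fin.ext (by simp only; omega)), fun h0 => by rw [h0]; exact ho⟩) hKF h6
      rw [Fintype.card_fin] at h7
      omega
  · -- `|K| ^ 2 = |F| ^ j`, `j` odd
    obtain ⟨a₁, ha₁⟩ : ∃ a₁, (a₀ : ℕ) = 2 * a₁ := by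
      have h1 : Even ((a₀ : ℕ) * j) := by
        rw [haj, mul_comm]
        exact even_two_mul _
      rcases Nat.even_mul.1 h1 with ⟨x, hx⟩ | ⟨x, hx⟩
      · exact ⟨x, by omega⟩
      · omega
    have hf₁ : (f₀ : ℕ) = a₁ * j := by
      have h1 : 2 * (a₁ * j) = f₀ * 2 := by rw [← haj, ha₁]; ring
      omega
    have hgcd : j * Nat.gcd a₀ f₀ = f₀ := by
      have h1 : Nat.gcd 2 j = 1 := by
        rw [hj']
        exact (Nat.coprime_two_left).2 ⟨j', rfl⟩
      rw [ha₁, hf₁, mul_comm 2 a₁, Nat.gcd_mul_left, h1, mul_one, mul_comm]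
    have hedge : ∀ i : Fin l, (i : ℕ) + 1 < l → i ∉ JB (MM hab hG) p f φ →
        ∃ m, 2 ≤ m ∧ dB (MM hab hG) p f φ i = m ^ j := by
      intro i hi hiJ
      obtain ⟨σ, N⟩ := hlong i hi
      exact edge_pow_B' hC C hT hiJ N ha₀ hf₀ hgcd
    have hJ : ∀ i : Fin l, 1 ≤ (i : ℕ) → i ∈ JB (MM hab hG) p f φ := by
      intro i hi1
      by_cases hi : (i : ℕ) + 1 < l
      · by_contra hiJ
        rcases Nat.lt_or_ge 3 l with hl4 | hl3'
        · have h3 := bound_four hC C hT (by omega) hi1 hiJ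
          rw [Fintype.card_fin] at h3
          exact arith_midM hl3 hj hnlt (hedge i hi hiJ) h3
        · obtain rfl : l = 3 := by omega
          have hi' : (i : ℕ) = 1 := by omega
          have h3 := bound_all hC C hT hiJ
          rw [Fintype.card_fin, hi'] at h3
          exact arith_midM hl3 hj hnlt (hedge i hi hiJ) h3
      · exact hnl i (by omega)
    have ho := hfirst hJ
    obtain ⟨ε, hε, h3⟩ := bound_first hC C hT (by omega) rfl ho
    rw [Fintype.card_fin] at h3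
    obtain ⟨hj1, hd2⟩ := arith_firstM hl3 hj hnlt (hedge _ (by simp only; omega) ho) hε h3
    obtain ⟨⟨τ⟩, -⟩ := hid hJ hd2
    exfalso
    have h4 := Nat.card_congr τ.toEquiv
    rw [hj1, pow_one, ← h4] at hjK
    have h5 := Finite.one_lt_card (α := K)
    nlinarith only [hjK, h5]

end pminus

end Cfsg.Agent.SM.Ti.Lo
end
end

-- part: SM/Ti/B/Kill
section
set_option linter.all false
open scoped Cfsg.Agent.FastGrp

/-!
# S3570, tight cores, `PΩ_{2l+1}(K)`: the two kills (helper53, `notes/SM/ti.md`)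

* `triv` : a central involution acts trivially in odd dimension;
* `kill3`, `kill4` : `(l, k) = (3, 2)`, `n = 13` and `(l, k) = (4, 4)`, `n = 17`;
* `nd_last` : `SL₂` at the last node kills `-1`.
-/

set_option autoImplicit false
set_option linter.unusedSectionVars false

namespace Cfsg.Agent.SM.Ti.B

open CoxeterSystem Cfsg.Agent.ChevalleyStructure.CoxeterGeom Cfsg.Agent.Tits.Roots Cfsg.Agent.Tits.Core
  Cfsg.Agent.Tits.Exchange Cfsg.Agent.Nodes.Reps Cfsg.Agent.Nodes.BNOf Cfsg.Agent.Nodes.StabComb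
  Cfsg.Agent.Nodes.Bruhat Cfsg.Agent.Nodes.OppDec Cfsg.Agent.Nodes.LeviDec Cfsg.Agent.KFacts.RgdOpp
  Cfsg.Agent.Omega.CR Cfsg.Agent.Omega.FOne.Lift.Sd Cfsg.Agent.H911 Cfsg.Agent.H905.Md
open Cfsg Cfsg.Geo
open Cfsg.Agent.H915.LD
open Cfsg.Agent.H905.DC (co fire cf)
open Cfsg.Agent.H650.Ppd (Nd)
open Cfsg.Agent.H911.SLTwo (U Lo hh ww)
open Cfsg.Agent.H117.Levi (lrk one_le_lrk)
open Cfsg.Agent.Nodes.TypeC (isCartan A)
open scoped MatrixGroups Matrix

universe u

/-- a central involution acts trivially in odd dimension -/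
theorem triv {Y : Type*} [Group Y] {F : Type u} [Field F] {ι : Type} [Fintype ι] [DecidableEq ι] {P : Subgroup (GL ι F)}
    (hC : Core P) {φ : Y →* GL ι F} (hφ : φ.range = P) (hn : Odd (Fintype.card ι)) {z : Y} (hz : z ∈ Subgroup.center Y)
    (h2 : z * z = 1) : φ z = 1 := by
  obtain ⟨c, hc⟩ := hC.absIrred.2 (φ z : Matrix ι ι F) (by
    rintro _ ⟨g, hg, rfl⟩
    obtain ⟨y, rfl⟩ : g ∈ φ.range := hφ ▸ hg
    show (φ z : Matrix ι ι F) * (φ y : Matrix ι ι F) = (φ y : Matrix ι ι F) * (φ z : Matrix ι ι F)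
    rw [← Units.val_mul, ← Units.val_mul, ← map_mul, ← map_mul, Subgroup.mem_center_iff.1 hz])
  obtain ⟨i⟩ := hC.nonempty
  have h3 : c * c = 1 := by
    have h4 : (φ z : Matrix ι ι F) * (φ z : Matrix ι ι F) = 1 := by
      rw [← Units.val_mul, ← map_mul, h2, map_one, Units.val_one]
    rw [hc, smul_mul_smul_comm, one_mul] at h4
    simpa only [_root_.Matrix.smul_apply, _root_.Matrix.one_apply_eq, _root_.smul_eq_mul, _root_.mul_one] using congrFun (congrFun h4 i) i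
  have h4 : (φ z : Matrix ι ι F).det = 1 := congrArg Units.val (hC.det (g := φ z) (hφ ▸ ⟨z, rfl⟩))
  obtain ⟨k, hk⟩ := hn
  rw [hc, Matrix.det_smul, Matrix.det_one, mul_one, hk, pow_succ, pow_mul, pow_two, h3, one_pow, one_mul] at h4
  exact Units.ext (by rw [hc, h4, one_smul, Units.val_one])

theorem hh_sq {E : Type*} [Field E] : (hh (-1) * hh (-1) : SL(2, E)) = 1 := by
  refine Subtype.ext ?_
  rw [Matrix.SpecialLinearGroup.coe_mul]
  ext i j
  (revert i j; simp only [hh, Matrix.mul_apply, Fin.sum_univ_two, _root_.Fin.forall_fin_succ, _root_.Units.val_neg, _root_.Units.val_one, _root_.inv_neg, _root_.inv_one, _root_.Matrix.of_apply, _root_.Matrix.cons_val', _root_.Matrix.cons_val_fin_one, Fin.isValue, _root_.Matrix.cons_val_zero, _root_.Matrix.cons_val_one, _root_.Matrix.SpecialLinearGroup.coe_one, _root_.mul_neg, _root_.mul_one, _root_.MulZeroClass.mul_zero, _root_.add_zero, _root_.Matrix.cons_val_succ, _root_.zero_add,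 _root_.IsEmpty.forall_iff, _root_.and_true, _root_.neg_neg, _root_.Matrix.one_apply_eq, _root_.neg_zero, Nat.reduceAdd, _root_.Fin.succ_zero_eq_one, _root_.ne_eq, _root_.zero_ne_one, _root_.not_false_eq_true, _root_.Matrix.one_apply_ne, _root_.and_self, _root_.Fin.succ_ne_zero, _root_.true_and])

/-- the vertices of the spin module of `B₄` modulo the last node -/
def L4 : Fin 8 → List (Fin 4) :=
  ![[], [3, 2], [3, 2, 1], [3, 2, 1, 0], [3, 2, 1, 3, 2], [3, 2, 1, 0, 3, 2], [3, 2, 1, 0, 3, 2, 1], [3, 2, 1, 0, 3, 2, 1, 3, 2]]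

section

variable {l : ℕ} {W Y : Type*} [Group W] [Group Y] {cs : CoxeterSystem (CoxeterMatrix.B l) W} {p : ℕ} {T : Subgroup Y}
  {nn : Fin l → Y} {X : (Fin l → ℤ) → Subgroup Y} (R : RGD cs (isCartan l) p T nn X) [Finite Y] [Finite W]
  [hp : Fact p.Prime] {F : Type u} [Field F] [Finite F] [CharP F p] {ι : Type} [Fintype ι] [DecidableEq ι]
  {P : Subgroup (GL ι F)} (hC : Core P) (hG : GG cs (isCartan l) T X = ⊤) (hT : ∀ s ∈ T, ∀ t ∈ T, s * t = t * s)
  {φ : Y →* GL ι F} (hφ : φ.range = P) {E : Type} [Field E] [Fintype E] [CharP E p] {i : Fin l} {σ : SL(2, E) →* Y}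
  (N : Nd T X i σ) (hp2 : p ≠ 2) (hz : σ (hh (-1)) ∈ Subgroup.center Y) (hn : Odd (Fintype.card ι))
include R hC hG hT hφ N hp2 hz hn

theorem three {s : Fin l} (hs : s ∉ Jx cs (isCartan l) X (lin (acRep φ))) {ω : List (Fin l)}
    (h0 : ∀ m, 0 ≤ cf (A l) m ω i) (h1 : cf (A l) s ω i ≠ 0) {g : Y} (hg : Rp cs R.nsys (cs.wordProd ω)⁻¹ g) :
    3 ≤ lrk cs (isCartan l) T X (lin (acRep φ)) {i} g := by
  refine Tool.par R hC hG hT hφ N hp2 hg (Tool.min_word h0) (Tool.moved_word (isCartan l) hs h1) fun v _ => ?_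
  have h2 := triv hC hφ hn hz (by rw [← map_mul, hh_sq, map_one])
  rw [mul_assoc, ← Subgroup.mem_center_iff.1 hz, inv_mul_cancel_left, lin_apply, acRep_apply, h2, Units.val_one,
    Matrix.map_one _ (map_zero _) (map_one _), Matrix.one_mulVec]

end

section

variable {W Y : Type*} [Group W] [Group Y] {p : ℕ} {T : Subgroup Y} [Finite Y] [Finite W]
  [hp : Fact p.Prime] {F : Type u} [Field F] [Finite F] [CharP F p] {ι : Type} [Fintype ι] [DecidableEq ι]
  {P : Subgroup (GL ι F)} {φ : Y →* GL ι F} {E : Type} [Field E] [Fintype E] [CharP E p] {σ : SL(2, E) →* Y}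

theorem kill3 {cs : CoxeterSystem (CoxeterMatrix.B 3) W} {nn : Fin 3 → Y} {X : (Fin 3 → ℤ) → Subgroup Y}
    (R : RGD cs (isCartan 3) p T nn X) (hC : Core P) (hG : GG cs (isCartan 3) T X = ⊤)
    (hT : ∀ s ∈ T, ∀ t ∈ T, s * t = t * s) (hφ : φ.range = P) (N : Nd T X 2 σ) (hp2 : p ≠ 2)
    (hz : σ (hh (-1)) ∈ Subgroup.center Y) (hn : Odd (Fintype.card ι))
    (hs : 1 ∉ Jx cs (isCartan 3) X (lin (acRep φ))) : 16 ≤ Fintype.card ι := by
  have hne := hC.nonempty
  have hchar : CharP (AlgebraicClosure F) p := charP_of_injective_algebraMap (algebraMap F _).injective p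
  have hirr := ac_irr R hG hT hφ hC.absIrred
  choose g hg using fun a : Fin 8 => exists_rp (cs := cs) (hN := R.nsys) (cs.wordProd (H948.Ppd.LW a))⁻¹
  have h1 := Tool.levi_list R hC hG hT hφ 2 [1] (by simpa using hs) H948.Ppd.LW (by decide +kernel) (by decide +kernel) g hg
  have h2 : ∀ a : Fin 8, 4 ≤ a → 3 ≤ lrk cs (isCartan 3) T X (lin (acRep φ)) {2} (g a) := fun a ha =>
    three R hC hG hT hφ N hp2 hz hn hs (H948.Ppd.LW_nonneg a) (by revert a; decide) (hg a)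
  have h3 : ∀ a : Fin 8, 1 ≤ lrk cs (isCartan 3) T X (lin (acRep φ)) {2} (g a) := fun a => one_le_lrk R hirr _ _
  rw [Fin.sum_univ_eight] at h1
  have := h3 0
  have := h3 1
  have := h3 2
  have := h3 3
  have := h2 4 (by decide)
  have := h2 5 (by decide)
  have := h2 6 (by decide)
  have := h2 7 (by decide)
  omega

theorem kill4 {cs : CoxeterSystem (CoxeterMatrix.B 4) W} {nn : Fin 4 → Y} {X : (Fin 4 → ℤ) → Subgroup Y}
    (R : RGD cs (isCartan 4) p T nn X) (hC : Core P) (hG : GG cs (isCartan 4) T X = ⊤)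
    (hT : ∀ s ∈ T, ∀ t ∈ T, s * t = t * s) (hφ : φ.range = P) (N : Nd T X 3 σ) (hp2 : p ≠ 2)
    (hz : σ (hh (-1)) ∈ Subgroup.center Y) (hn : Odd (Fintype.card ι))
    (hs : 3 ∉ Jx cs (isCartan 4) X (lin (acRep φ))) : 24 ≤ Fintype.card ι := by
  choose g hg using fun a : Fin 8 => exists_rp (cs := cs) (hN := R.nsys) (cs.wordProd (L4 a))⁻¹
  have h1 := Tool.levi_list R hC hG hT hφ 3 [3] (by simpa using hs) L4 (by decide +kernel) (by decide +kernel) g hg
  have h2 : ∀ a : Fin 8, 3 ≤ lrk cs (isCartan 4) T X (lin (acRep φ)) {3} (g a) := fun a =>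
    three R hC hG hT hφ N hp2 hz hn hs (by revert a; decide +kernel) (by revert a; decide) (hg a)
  have h3 := Finset.sum_le_sum fun a (_ : a ∈ Finset.univ) => h2 a
  simp only [Finset.sum_const, Finset.card_univ, Fintype.card_fin, smul_eq_mul] at h3
  omega

end

section last

open QuadraticMap
open Cfsg.Agent.Nodes.Comb Cfsg.Agent.Nodes.WittRoot Cfsg.Agent.Nodes.WittRGD Cfsg.Agent.Nodes.RGDLib
  Cfsg.Agent.Nodes.WittAll Cfsg.Agent.Nodes
open Cfsg.Agent.LieClassical Cfsg.Agent.LieClassical.OrthCore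
open Cfsg.Agent.TitsThree Cfsg.Agent.TitsThree.Siegel Cfsg.Agent.TitsThree.SiegelGen Cfsg.Agent.TitsThree.WittFrame
open Cfsg.Agent.TitsThree.WBridge Cfsg.Agent.TitsThree.FrameCN Cfsg.Agent.TitsThree.KSideO
open Cfsg.Agent.H48.OCross

variable {ι : Type} [Fintype ι] [DecidableEq ι] {F : Type u} [Field F] {Q : QuadraticForm F (ι → F)} {m : ℕ}
  {W : WFrame (PO Q) m} {d : ι → F}

/-- **The last node, odd dimension** (`H948.Ppd.nd_last_odd` with `σ (-1) = 1`). -/
theorem nd_last (h2 : (2 : F) ≠ 0) (hd : Span W d) {G0 : Subgroup ((ι → F) ≃ₗ[F] (ι → F))}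
    (hle : ∀ x, WittRoot.rg (toFrame W) x ≤ G0) {i : Fin m} (hi : ¬ (i : ℕ) + 1 < m) :
    ∃ σ : SL(2, F) →* G0, σ (_root_.Cfsg.Agent.H911.SLTwo.hh (-1)) = 1 ∧ H948.Ppd.Nd ((Tor (toFrame W) G0).subgroupOf G0)
      (fun x => (WittRoot.rg (toFrame W) x).subgroupOf G0) i σ := by
  have hadm : ∀ t : F, ∃ p : (toFrame W).Adm, p.w = t • d := fun t =>
    ⟨⟨t • d, -Q (t • d), W.V0.smul_mem t hd.mem, rfl⟩, rfl⟩
  have hu : ∀ y, y ∈ WittRoot.rg (toFrame W) (sr i) ↔ ∃ t, phiO (hd.triple h2 i) (U t) = y := by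
    intro y
    rw [rg_sr, H61.SUNode.nx_of_not hi, PG_self]
    constructor
    · rintro ⟨p, rfl⟩
      obtain ⟨t, ht⟩ := hd.span p.w p.ok.1
      exact ⟨t, phiO_up h2 hd i t p ht⟩
    · rintro ⟨t, rfl⟩
      obtain ⟨p, hp⟩ := hadm t
      exact ⟨p, phiO_up h2 hd i t p hp⟩
  have hl : ∀ y, y ∈ WittRoot.rg (toFrame W) (-sr i) ↔ ∃ t, phiO (hd.triple h2 i) (Lo t) = y := by
    intro y
    rw [rg_neg_sr, H61.SUNode.nx_of_not hi, PG_self]
    constructor
    · rintro ⟨p, rfl⟩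
      obtain ⟨t, ht⟩ := hd.span p.w p.ok.1
      exact ⟨-t, phiO_lo h2 hd i (-t) p (by rw [_root_.neg_neg]; exact ht)⟩
    · rintro ⟨t, rfl⟩
      obtain ⟨p, hp⟩ := hadm (-t)
      exact ⟨p, phiO_lo h2 hd i t p hp⟩
  obtain ⟨σ, h1, hσ⟩ := H948.Ppd.exists_nd hle (phiO (hd.triple h2 i)) hu hl (H948.Ppd.phiO_hh h2 hd i)
  refine ⟨σ, Subtype.ext ((h1 _).trans (LinearEquiv.ext fun v => ?_)), hσ⟩
  rw [phiO_apply, linO_apply]
  simp only [H911.SLTwo.hh, _root_.Units.val_neg, _root_.Units.val_one, _root_.inv_neg, _root_.inv_one, _root_.Fin.isValue, _root_.Matrix.of_apply, _root_.Matrix.cons_val', _root_.Matrix.cons_val_zero, _root_.Matrix.cons_val_fin_one, _root_.Matrix.cons_val_one, _root_.mul_neg, _root_.mul_one, _root_.neg_neg, _root_.MulZeroClass.mul_zero, _root_.add_zero, _root_.sub_self, _root_.MulZeroClass.zero_mul, _root_.neg_zero, _root_.zero_smul, _root_.even_two, _root_.Even.neg_pow, _root_.one_pow, _root_.ne_eq, _root_.OfNat.ofNat_ne_zero,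 _root_.not_false_eq_true, _root_.zero_pow, _root_.OneMemClass.coe_one, _root_.LinearEquiv.coe_one, _root_.id_eq]

end last

end Cfsg.Agent.SM.Ti.B

private theorem dce_aab73c2176ba : _root_.True := by
  try have : _root_.True := by simp only [_root_.Cfsg.Agent.H911.SLTwo.hh.eq_1]
  try have : _root_.True := by simp only [_root_.Cfsg.Agent.H117.Levi.lrk.congr_simp]
  exact _root_.True.intro
end

section
prune_inst 0xfdfcf89bbc75dfdfff7e7faed8dffc39929fffe6dff9437fe0e1ff8bdf238809e5fb8d0de010fe0ef6601410b87853f9ffde7fe36bfc7ffffd5ff41ffbee0fe5f7b50811d68c340f3c2ff703f0778e7f000000000000000000000000000000000200000000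

-- part: SM/Ti/Dp
section
prune_inst 0x2030760438a2020000000512720020245400009200608801e1e0034009016360804229010e8011101866b2801040002002080000400000000a00340000070120808256009308010c24008f000084000000000000000000000000000000000000000000000
set_option linter.all false
open scoped Cfsg.Agent.FastGrp

/-!
# S3570, tight cores: the borderline case of `PΩ⁺_{2l}(K)` (helper39)
-/

set_option autoImplicit false
set_option linter.unusedSectionVars false
set_option linter.style.longLine false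

namespace Cfsg.Agent.SM.Ti.Dp

section abs

open CoxeterSystem Cfsg.Agent.ChevalleyStructure.CoxeterGeom Cfsg.Agent.Tits.Roots Cfsg.Agent.Tits.Core
  Cfsg.Agent.Tits.Exchange Cfsg.Agent.Nodes.Reps Cfsg.Agent.Nodes.BNOf Cfsg.Agent.Nodes.StabComb
  Cfsg.Agent.Nodes.Bruhat Cfsg.Agent.Nodes.OppDec Cfsg.Agent.Nodes.LeviDec Cfsg.Agent.KFacts.RgdOpp
  Cfsg.Agent.Omega.CR Cfsg.Agent.Omega.FOne.Lift.Sd Cfsg.Agent.H905.Md Cfsg.Agent.H905.DC Cfsg.Agent.Nodes.TypeD
  Cfsg.Agent.Nodes.RGDLib Cfsg.Agent.H650.Ppd Cfsg.Agent.H156.Ppd Cfsg.Agent.H156.Ppd.DSg Cfsg.Agent.H947.EPO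

/-- in type `D₅` the longest element interchanges the two half-spin nodes -/
theorem spin5 {W : Type*} [Group W] [Finite W] {cs : CoxeterSystem (Nodes.TypeD.M 3) W} {A : Fin 5 → Fin 5 → ℤ}
    (h : IsCartan (Nodes.TypeD.M 3) A) (hA : A = mAD5) {J : Set (Fin 5)}
    (hJ : ∀ w ∈ WJ cs J, w0 cs * w * w0 cs ∈ WJ cs J) : (3 : Fin 5) ∈ J ↔ (4 : Fin 5) ∈ J := by
  subst hA
  have key : ∀ (i m : Fin 5) (L : List (Fin 5 → ℤ)), (Pi.single i 1 : Fin 5 → ℤ) ∈ L → (∀ c ∈ L, ∀ j, fire mAD5 c j ∈ L) →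
      (∀ c ∈ L, (∀ k, c k ≤ 0) → c m ≠ 0) → m ∈ J → i ∈ J := fun i m L h0 hL h1 hm => by_contra fun hi =>
    h1 _ (co_mem (cs := cs) (h := h) h0 hL (w0 cs)) (Tool.sym_le i) (Tool.sym hJ hi hm)
  exact ⟨key 4 3 [![0, 0, 0, 0, 1], ![0, 0, 1, 0, -1], ![0, 1, -1, 1, 0], ![1, -1, 0, 1, 0], ![0, 1, 0, -1, 0], ![-1, 0, 0, 1, 0], ![1, -1, 1, -1, 0], ![-1, 0, 1, -1, 0], ![1, 0, -1, 0, 1], ![-1, 1, -1, 0, 1], ![1, 0, 0, 0, -1], ![0, -1, 0, 0, 1], ![-1, 1, 0, 0, -1], ![0, -1, 1, 0, -1], ![0, 0, -1, 1, 0], ![0, 0, 0, -1, 0]]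
      (by decide +kernel) (by decide +kernel) (by decide +kernel),
    key 3 4 [![0, 0, 0, 1, 0], ![0, 0, 1, -1, 0], ![0, 1, -1, 0, 1], ![1, -1, 0, 0, 1], ![0, 1, 0, 0, -1], ![-1, 0, 0, 0, 1], ![1, -1, 1, 0, -1], ![-1, 0, 1, 0, -1], ![1, 0, -1, 1, 0], ![-1, 1, -1, 1, 0], ![1, 0, 0, -1, 0], ![0, -1, 0, 1, 0], ![-1, 1, 0, -1, 0], ![0, -1, 1, -1, 0], ![0, 0, -1, 0, 1], ![0, 0, 0, 0, -1]]
      (by decide +kernel) (by decide +kernel) (by decide +kernel)⟩

theorem two_pow : ∀ n : ℕ, 4 ≤ n → 4 * (n + 1) + 2 ≤ 2 ^ (n + 1) := by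
  intro n hn
  induction n, hn using Nat.le_induction with
  | base => norm_num
  | succ n hn ih => rw [pow_succ]; omega

variable {W Y : Type*} [Group W] [Group Y] {p : ℕ} {T : Subgroup Y} {k V : Type*} [Field k] [AddCommGroup V] [Module k V]
  [Finite Y] [Finite W] [Fact p.Prime] [CharP k p] {ρ : Y →* Module.End k V} [FiniteDimensional k V] [Nontrivial V]

/-- **Type `D_l`, `l ≥ 5`.** -/
theorem dBord {n : ℕ} {cs : CoxeterSystem (Nodes.TypeD.M n) W} {m : Fin (n + 2) → Y} {X : (Fin (n + 2) → ℤ) → Subgroup Y}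
    (R : RGD cs (isCartan n) p T m X) (hirr : ∀ L : Submodule k V, Ivt ρ (GG cs (isCartan n) T X) L → L = ⊥ ∨ L = ⊤)
    (hn : 3 ≤ n) (hG : G1 cs (isCartan n) X = ⊤) (hnt : ∃ (g : Y) (v : V), ρ g v ≠ v)
    (hD : Module.finrank k (D cs (isCartan n) X ρ) = 1) {j : ℕ}
    (hIo : ∀ i, i ∉ Jx cs (isCartan n) X ρ → j ≤ Module.finrank k (Io cs (isCartan n) T X ρ i) + 1)
    (hlt : Module.finrank k V ≤ 4 * (n + 1) * j + 1)
    (hw : ∀ w ∈ WJ cs (Jx cs (isCartan n) X ρ), w0 cs * w * w0 cs ∈ WJ cs (Jx cs (isCartan n) X ρ)) :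
    (∀ i, i ∈ Jx cs (isCartan n) X ρ ↔ i ≠ 0) ∧ Module.finrank k (Le cs (isCartan n) T X ρ {0}) ≤ 2 := by
  have hC := two_mul_choose n
  obtain ⟨i0, hi0⟩ : ∃ i, i ∉ Jx cs (isCartan n) X ρ := by
    by_contra hcon
    push Not at hcon
    obtain ⟨g, v, hv⟩ := hnt
    exact hv (H925.Nat.triv_of_Jx_univ R hirr hG hcon g v)
  have hj : ∀ c, j ≤ c + 1 → Module.finrank k V ≤ 4 * (n + 1) * (c + 1) + 1 := fun c hc =>
    hlt.trans (Nat.add_le_add_right (Nat.mul_le_mul_left _ hc) 1)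
  have key : ∀ i, i ∉ Jx cs (isCartan n) X ρ → i = 0 ∧ Module.finrank k (Io cs (isCartan n) T X ρ i) = 0 := by
    intro i hi
    have h1 := hj _ (hIo i hi)
    rcases Nat.eq_zero_or_pos (i : ℕ) with h0 | h0
    · have h2 : i = 0 := Fin.ext h0
      subst h2
      refine ⟨rfl, ?_⟩
      have h3 := dim_O R hirr (by omega) hi
      rw [hD, mul_one, show (n + 2).choose 2 * 4 = 2 * ((n + 2).choose 2 * 2) by ring, hC] at h3
      set c := Module.finrank k (Io cs (isCartan n) T X ρ 0)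
      by_contra hc
      have hc' : 1 ≤ c := Nat.one_le_iff_ne_zero.2 hc
      linarith only [h1, h3, Nat.mul_le_mul_left (n + 1) hc', Nat.mul_le_mul hn (Nat.mul_le_mul_left (n + 1) hc')]
    · exfalso
      rcases Nat.lt_or_ge (i : ℕ) n with h2 | h2
      · have h3 := dim_V R hirr hi h0 h2
        have h4 := choose_two_le (m := n + 2) (k := (i : ℕ) + 1) (by omega) (by omega)
        rw [hD, mul_one, hC] at h3
        set c := Module.finrank k (Io cs (isCartan n) T X ρ i)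
        linarith only [hC, h4, h1, h3, Nat.mul_le_mul_left (n + 1) hn, Nat.mul_le_mul_right ((n + 1) * c) hn]
      · have h3 := dim_H R hirr (by omega) hi h2
        rw [hD, mul_one, hC] at h3
        set c := Module.finrank k (Io cs (isCartan n) T X ρ i)
        rcases hn.eq_or_lt with rfl | hn4
        · have h4 : Module.finrank k V ≤ 17 := by omega
          have h5 := spin5 (isCartan 3) mAD5_eq hw
          have h6 : i = (3 : Fin 5) ∨ i = (4 : Fin 5) := by
            have := i.2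
            rcases (show (i : ℕ) = 3 ∨ (i : ℕ) = 4 by omega) with h7 | h7
            exacts [Or.inl (Fin.ext h7), Or.inr (Fin.ext h7)]
          have h7 : (3 : Fin 5) ∉ Jx cs (isCartan 3) X ρ := by
            rcases h6 with rfl | rfl
            exacts [hi, fun h8 => hi (h5.1 h8)]
          have h8 := dFive_two mAD5_eq R hirr h7 fun h9 => h7 (h5.2 h9)
          omega
        · have h4 := two_pow n hn4
          nlinarith only [h1, h3, h4, Nat.mul_le_mul_right ((n + 1) * c) hn]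
  have h00 := (key i0 hi0).1
  subst h00
  refine ⟨fun i => ⟨fun h1 h2 => hi0 (h2 ▸ h1), fun h1 => by_contra fun h2 => h1 (key i h2).1⟩, ?_⟩
  have h1 := finrank_Io R hirr (ρ := ρ) (0 : Fin (n + 2))
  rw [(key 0 hi0).2, hD] at h1
  omega

/-- **Type `D₄`.** -/
theorem dBord4 {cs : CoxeterSystem (Nodes.TypeD.M 2) W} {m : Fin 4 → Y} {X : (Fin 4 → ℤ) → Subgroup Y}
    (R : RGD cs (isCartan 2) p T m X) (hirr : ∀ L : Submodule k V, Ivt ρ (GG cs (isCartan 2) T X) L → L = ⊥ ∨ L = ⊤)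
    (hG : G1 cs (isCartan 2) X = ⊤) (hnt : ∃ (g : Y) (v : V), ρ g v ≠ v)
    (hD : Module.finrank k (D cs (isCartan 2) X ρ) = 1) {j : ℕ}
    (hIo : ∀ i, i ∉ Jx cs (isCartan 2) X ρ → j ≤ Module.finrank k (Io cs (isCartan 2) T X ρ i) + 1)
    (hlt : Module.finrank k V ≤ 12 * j + 1) : Module.finrank k V ≤ 8 := by
  obtain ⟨i, hi⟩ : ∃ i, i ∉ Jx cs (isCartan 2) X ρ := by
    by_contra hcon
    push Not at hcon
    obtain ⟨g, v, hv⟩ := hnt
    exact hv (H925.Nat.triv_of_Jx_univ R hirr hG hcon g v)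
  have h1 := hIo i hi
  have h2 := dBigFour mAD4_eq R hirr hG hnt hD
  rcases dFour_one mAD4_eq R hirr hi with ⟨-, h3⟩ | ⟨-, h3⟩ <;> omega

end abs

open CoxeterSystem Cfsg.Agent.ChevalleyStructure.CoxeterGeom Cfsg.Agent.Tits.Roots Cfsg.Agent.Tits.Core
  Cfsg.Agent.Nodes.Reps Cfsg.Agent.Nodes.BNOf Cfsg.Agent.Nodes.Bruhat Cfsg.Agent.Nodes.RGDLib
open QuadraticMap
open Cfsg.Agent.LieClassical Cfsg.Agent.LieClassical.OrthCore Cfsg.Agent.LieClassical.OrthTrans
open Cfsg.Agent.LieClassical.OrthSimple Cfsg.Agent.LieClassical.OrthFinite Cfsg.Agent.LieClassical.OrthForms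
open Cfsg.Agent.TitsThree Cfsg.Agent.TitsThree.KSideO Cfsg.Agent.TitsThree.StdData
open Cfsg.Agent.Nodes Cfsg.Agent.Nodes.WittAll Cfsg.Agent.Nodes.WittInst Cfsg.Agent.Nodes.WittU
  Cfsg.Agent.TitsThree.Siegel Cfsg.Agent.TitsThree.SiegelGen
  Cfsg.Agent.TitsThree.WittFrame Cfsg.Agent.TitsThree.WBridge Cfsg.Agent.TitsThree.WittWeyl
  Cfsg.Agent.TitsThree.FrameCN
open Cfsg.Agent.H905.Md Cfsg.Agent.H915.LD Cfsg.Agent.H925.Nat Cfsg.Agent.H100.Ppd Cfsg.Agent.H911
open Cfsg.Agent.H67.Cross Cfsg.Agent.H156.Ppd Cfsg.Agent.H156.Ppd.PPlus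
open Cfsg.Agent.KFacts.MulOdd.Inst (Lv)
open Cfsg Cfsg.Geo
open scoped MatrixGroups Matrix

theorem row {n m p : ℕ} [hp : Fact p.Prime] {F : Type} [Field F] [Finite F] [CharP F p] {K : Type} [Field K] [Fintype K]
    [CharP K p] {P : Subgroup (GL (Fin n) F)} (h : Tc m P) {l : ℕ} (hl : 4 ≤ l)
    (hm : Nat.card F ^ m = Fintype.card K ^ (2 * l - 2)) (e : Soc P ≃* POmega K (quadFormPlus l K)) : False := by
  classical
  obtain ⟨d, rfl⟩ : ∃ d, l = d + 2 := ⟨l - 2, by omega⟩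
  have hC := h.core
  have hG : _root_.Cfsg.Agent.LieClassical.OrthTrans.Good (plusForm (d + 2) K) := by
    apply good_of_finite (nondeg_plusForm (d + 2) K)
    rw [Module.finrank_fintype_fun_eq_card, Fintype.card_sum, Fintype.card_fin]
    omega
  rw [← coe_plusForm] at e
  have hfin := hfin (K := K) d
  have hA := amb_plus (F := K) (d + 2)
  have h0 := adm_plus (F := K) (d + 2)
  have hWf : Finite (TypeD.M d).Group := TypeD.finite_W (TypeD.M d).toCoxeterSystem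
  have hR := rgd_restrict (rgdD hA h0 (TypeD.M d).toCoxeterSystem (p := p))
    (E (plusForm (d + 2) K)) (fun x _ => rgD_le _ hA x) (fun i => WittRGDD.nn_mem hA i)
  have hperf : commutator ↥(E (plusForm (d + 2) K)) = ⊤ := Five.commutator_top hG.E_perfect
  have hG1 : G1 (TypeD.M d).toCoxeterSystem (TypeD.isCartan d) (XX d K) = ⊤ := by
    have h1 := G1D_eq_top (wplus (d + 2) K) (MonoidHom.id (E (plusForm (d + 2) K))) Function.surjective_id h0
      (TypeD.M d).toCoxeterSystem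
    rw [← h1]
    congr 1
    funext x
    exact (Subgroup.map_id _).symm
  obtain ⟨Y, _, _, f, φ, n₁, C⟩ := H156.Ppd.exists_cov hC hR hG1 hperf (toPOmega_surjective hG) e
  have hpp : p.Prime := Fact.out
  have rk : ∀ i, ∀ r : ℕ, r.Prime → r ≠ p → NoCE p r ↥(Lv (XX d K) i) := fun i r hr hne => noCE hpp i hr hne
  have hT : ∀ s ∈ (TT d K).comap f, ∀ t ∈ (TT d K).comap f, s * t = t * s :=
    comap_comm C.ker C.cop C.surj hR rk C.gen TT_comm
  obtain ⟨a, ha⟩ : ∃ a : ℕ+, Fintype.card K = p ^ (a : ℕ) :=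
    ⟨(FiniteField.card K p).choose, (FiniteField.card K p).choose_spec.2⟩
  have hpow : ∀ t ∈ (TT d K).comap f, t ^ p ^ (a : ℕ) = t :=
    comap_pow C.ker C.cop C.surj hR rk C.gen TT_comm (TT_pow fun x => by rw [← ha]; exact FiniteField.pow_card x)
  have hD := C.finrank_D hC hT
  obtain ⟨j, hj1, hj⟩ := C.exists_j hC hT a.pos.ne' hpow
  rw [← ha] at hj
  have hmj : m = j * (2 * d + 2) := Tool.jm Finite.one_lt_card hj hm
  have hlo := h.lo
  have hhi := h.hi
  have hKc : Nat.card K = Nat.card F ^ j := by rw [hj, Nat.card_eq_fintype_card]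
  have hIo : ∀ i, i ∉ Jx (TypeD.M d).toCoxeterSystem (TypeD.isCartan d) (fun x => Nodes.RGDLift.lft p f (XX d K x)) (lrep φ) →
      j ≤ Module.finrank F (Io (TypeD.M d).toCoxeterSystem (TypeD.isCartan d) ((TT d K).comap f)
        (fun x => Nodes.RGDLift.lft p f (XX d K x)) (lrep φ) i) + 1 :=
    fun i hi => C.edge_Io hR hC hi hD (by rw [card_XX, hKc]) (ts i)
  have hnV := C.nontriv hC
  have hdim : Module.finrank F (Fin n → F) = n := by rw [Module.finrank_fintype_fun_eq_card, Fintype.card_fin]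
  by_cases hd4 : d = 2
  · subst hd4
    have h1 := dBord4 C.rgd (C.hirr hC) C.gen (C.hnt hC) hD hIo (by rw [hdim]; omega)
    rw [hdim] at h1
    have := h.ge
    omega
  · have hne := hC.nonempty
    have hw := (h.big C.rgd C.hGG hT C.range).2.2
    rw [H69.Ppd.Jx_eq C.rgd C.hGG hT C.range hC.absIrred] at hw
    obtain ⟨hJ, hL⟩ := dBord C.rgd (C.hirr hC) (by omega) C.gen (C.hnt hC) hD hIo (by rw [hdim]; linarith only [hmj, hhi]) hw
    obtain ⟨σ, θ, -⟩ := C.ident hC (ψ := _root_.Cfsg.Agent.H925.Nat.mt (E (plusForm (d + 2) K))) (o := (0 : Fin (d + 2)))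
      (span_E hG (by rw [Fintype.card_sum, Fintype.card_fin]; omega))
      (natAt_D hA (by omega) rfl (TypeD.M d).toCoxeterSystem)
      (fixD (by omega) rfl (TypeD.M d).toCoxeterSystem) (surjD hA rfl) hR hJ hD hL
    have h1 := θ.finrank_eq
    rw [hdim, Module.finrank_fintype_fun_eq_card, Fintype.card_sum, Fintype.card_fin] at h1
    have h2 : 1 * (2 * d + 2) ≤ j * (2 * d + 2) := Nat.mul_le_mul_right _ hj1
    omega

/-- **The row.** -/
theorem boxDp : BoxDp := fun _ _ p _ _ _ _ _ _ _ _ _ _ h _ hl hm => ⟨fun e => row (p := p) h hl hm e⟩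

end Cfsg.Agent.SM.Ti.Dp
end

-- part: SM/Ti/LoU_mg
section
prune_inst 0x40000820020000000500000000000000000000000000000000000100040000020000080000000020000000000000000000000000000000000000000001000000020010000000000008000080000000000000000000000000000000000000000000000
set_option linter.all false
open scoped Cfsg.Agent.FastGrp

-- part: SM/Ti/LoU
section
/-!
# S3570, tight cores: unitary socles (helper69; below the borderline the proofs are those of TEAM PPD)

**`nat_psu`**.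
-/

set_option autoImplicit false
set_option linter.unusedSectionVars false
set_option linter.style.haveILetI false

namespace Cfsg.Agent.SM.Ti.Lo

universe u

section aux

open CoxeterSystem Cfsg.Agent.ChevalleyStructure.CoxeterGeom Cfsg.Agent.Tits.Roots Cfsg.Agent.Tits.Core
  Cfsg.Agent.Nodes.Reps Cfsg.Agent.Nodes.BNOf Cfsg.Agent.Nodes.Bruhat Cfsg.Agent.Nodes.RGDLib
open Cfsg.Agent.Nodes Cfsg.Agent.Nodes.WittRoot Cfsg.Agent.Nodes.WittRGD Cfsg.Agent.Nodes.WittAll Cfsg.Agent.Nodes.WittU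
open Cfsg.Agent.Nodes.TypeC (isCartan)
open Cfsg.Agent.LieClassical.HermBasic Cfsg.Agent.LieClassical.HermSiegel
open Cfsg.Agent.TitsThree.Siegel Cfsg.Agent.TitsThree.SiegelGen Cfsg.Agent.TitsThree.WittFrame Cfsg.Agent.TitsThree.FrameCN
  Cfsg.Agent.TitsThree.WBridge Cfsg.Agent.TitsThree.KSideU Cfsg.Agent.TitsThree.KSideUDesc Cfsg.Agent.TitsThree
open Cfsg.Agent.H915.LD Cfsg.Agent.H911 Cfsg.Agent.H905.Md Cfsg.Agent.H925.Nat Cfsg.Agent.Nodes.RGDLift
open Cfsg.Agent.H156.Ppd (Cov lrep exists_cov)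
open Cfsg.Agent.Omega.CR Cfsg.Agent.Omega.FOne.Lift.Sd
open Cfsg.Agent.H948.Ppd
open Cfsg.Agent.H61.SUCross Cfsg.Agent.H48.NatSU
open Cfsg.Agent.H100.Ppd (Nat')
open Cfsg Cfsg.Geo
open scoped MatrixGroups Matrix
open Cfsg.Agent.H762.Ppd

variable {n : ℕ} {F : Type u} [Field F] [Finite F] {m : ℕ} {P : Subgroup (GL (Fin n) F)}
  {K : Type} [Field K] [Fintype K] {N q : ℕ} (p : ℕ) [hp : Fact p.Prime] [hFp : CharP F p] [hKp : CharP K p]
include hp hFp hKp

theorem nat_psu_aux (h : Tc m P) (hN : 6 ≤ N) (hK : Fintype.card K = q ^ 2) (e : Soc P ≃* PSU N K q)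
    (hlt : Nat.card F ^ m < Fintype.card K ^ (2 * ((N - 1) / 2) + 1))
    (hseven : ∀ (hN : 3 ≤ N) (W : WFrame (PU hK N) 3) (d : Fin N → K), N = 7 → hermForm N K q d d = 1 →
      W.V0 = Submodule.span K {d} → ∀ φ₀ : SU N K q →* GL (Fin n) F, φ₀.range = P → Nat.card F ^ 2 = q ^ 2 →
      (2 : Fin 3) ∉ Jx (CoxeterMatrix.B 3).toCoxeterSystem (isCartan 3) (WittModel.X (modelSU hK hN W)) (lrep φ₀) →
      56 ≤ n) : Nat' P := by
  have hC := h.core
  have hN3 : 3 ≤ N := by omega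
  obtain ⟨r, hr⟩ : ∃ r, N = 2 * r ∨ N = 2 * r + 1 := ⟨N / 2, by omega⟩
  have hr3 : 3 ≤ r := by omega
  have hNo : 2 * ((N - 1) / 2) + 1 = 2 * r - 1 ∨ 2 * ((N - 1) / 2) + 1 = 2 * r + 1 := by omega
  obtain ⟨W, hW, hW'⟩ : ∃ W : WFrame (PU hK N) r, Kind W ∧
      (N = 2 * r + 1 → ∃ d : Fin N → K, hermForm N K q d d = 1 ∧ W.V0 = Submodule.span K {d}) := by
    rcases hr with hr | hr
    · obtain ⟨W, hW⟩ := exists_wframe_even hK hr
      exact ⟨W, Or.inl hW, fun h => by omega⟩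
    · obtain ⟨W, d, hd, hW⟩ := exists_wframe_odd hK hr
      exact ⟨W, Or.inr ⟨d, hd, hW⟩, fun _ => ⟨d, hd, hW⟩⟩
  have hWf : Finite (CoxeterMatrix.B r).Group := TypeC.finite_W (CoxeterMatrix.B r).toCoxeterSystem
  have := finite_GL (K := K) (ν := Fin N)
  obtain ⟨p0, hp0, -⟩ := exists_adm hK W
  have hA : AmbT (toFrame W) p (modelSU hK hN3 W).I := AmbT.of_amb (amb_U hK W) p
  obtain ⟨φ₀, hφ₀, C⟩ := exists_covSU' (hN := hN3) (W := W) hC (by omega) (by omega) (hA := hA) hp0 e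
  have hT : ∀ s ∈ (TB (modelSU hK hN3 W)).comap (MonoidHom.id (modelSU hK hN3 W).I),
      ∀ t ∈ (TB (modelSU hK hN3 W)).comap (MonoidHom.id (modelSU hK hN3 W).I), s * t = t * s :=
    fun s hs t ht => comm_SU hW s hs t ht
  have hpow : ∀ t ∈ (TB (modelSU hK hN3 W)).comap (MonoidHom.id (modelSU hK hN3 W).I), t ^ Nat.card K = t :=
    fun t ht => pow_SU hW t ht
  -- the order of the field
  obtain ⟨c, -, hc⟩ := FiniteField.card K p
  rw [← Nat.card_eq_fintype_card] at hc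
  obtain ⟨j, hj, hjK⟩ := C.exists_j hC hT (a := c) c.ne_zero (by rw [← hc]; exact hpow)
  rw [← hc] at hjK
  have hjq : Nat.card F ^ j = q ^ 2 := by rw [hjK, Nat.card_eq_fintype_card, hK]
  have hnlt : n < 2 * (j * (2 * ((N - 1) / 2) + 1)) := h.lt_of (hjq.trans hK.symm) hlt
  have hnlt' : n < 2 * (j * (2 * r + 1)) := by
    refine hnlt.trans_le (Nat.mul_le_mul_left _ (Nat.mul_le_mul_left _ (by (clear * - hN hK hr3 hNo; omega))))
  obtain ⟨hirr, hD⟩ := irr_B hC C hT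
  have hne := hC.nonempty
  have hchar : CharP (AlgebraicClosure F) p := charP_of_injective_algebraMap (algebraMap F _).injective p
  -- the edges
  have hedge : ∀ i : Fin r, (i : ℕ) + 1 < r →
      i ∉ JB (modelSU hK hN3 W) p (MonoidHom.id (modelSU hK hN3 W).I) (φ₀.comp (modelSU hK hN3 W).φ) →
      ∃ m, 2 ≤ m ∧ dB (modelSU hK hN3 W) p (MonoidHom.id (modelSU hK hN3 W).I) (φ₀.comp (modelSU hK hN3 W).φ) i = m ^ j := by
    intro i hi hiJ
    obtain ⟨σ, -, N₁, -⟩ := exists_ndI hp0 C hi (by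
      intro e
      have := congrArg Fin.val e
      simp only at this
      omega)
    exact edge_pow_B hC C hT hiJ (⟨N₁.up, N₁.lo, N₁.tor⟩ : Nd _ _ i σ) hjK.symm
  by_cases hmid : ∃ i : Fin r, i ∉ JB (modelSU hK hN3 W) p (MonoidHom.id (modelSU hK hN3 W).I)
      (φ₀.comp (modelSU hK hN3 W).φ) ∧ 1 ≤ (i : ℕ) ∧ (i : ℕ) + 1 < r
  · exfalso
    obtain ⟨i, hi, hi1, hi2⟩ := hmid
    have hd := hedge i hi2 hi
    have hb := bound_all hC C hT hi
    rw [Fintype.card_fin] at hb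
    rcases Nat.lt_or_ge 3 r with hr4 | hr4
    · exact Ar.mid hr4 hj hnlt' hd hi1 hi2 hb
    · obtain rfl : r = 3 := by omega
      have hi1' : (i : ℕ) = 1 := by omega
      rw [hi1'] at hb
      have hb' : 12 * dB (modelSU hK hN3 W) p (MonoidHom.id (modelSU hK hN3 W).I) (φ₀.comp (modelSU hK hN3 W).φ) i ≤
          2 * n := by
        have e1 : Nat.choose 3 (1 + 1) * 2 ^ (1 + 1) = 12 := by decide
        rwa [e1] at hb
      rcases hr with hr | hr
      · have e2 : 2 * ((N - 1) / 2) + 1 = 5 := by omega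
        rw [e2] at hnlt
        exact Ar.mid_six hj hnlt hd hb'
      · have e2 : 2 * ((N - 1) / 2) + 1 = 7 := by omega
        rw [e2] at hnlt
        have h3 := Low.b3_mid C.rgd hirr rfl hi1' hi
        have h4 := finrank_Io C.rgd hirr i
        rw [hD, Module.finrank_fintype_fun_eq_card, Fintype.card_fin, mul_one] at h3
        rw [hD] at h4
        have hj1 := Ar.mid_seven hj hnlt hd hb' h4 h3
        subst hj1
        by_cases h0 : (0 : Fin 3) ∈ JB (modelSU hK hN3 W) p (MonoidHom.id (modelSU hK hN3 W).I)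
          (φ₀.comp (modelSU hK hN3 W).φ)
        · obtain rfl : i = 1 := Fin.ext hi1'
          obtain ⟨p', f, hp', hch, hqf, hf⟩ := LieClassical.HermBasic.exists_prime_pow hK
          obtain rfl : p' = p := CharP.eq K hch ‹_›
          have hF : Nat.card F = p' ^ (2 * f) := by
            rw [← pow_one (Nat.card F), hjq, hqf, ← pow_mul, mul_comm]
          have h5 := mid_bound_su hC hp0 C hT hi h0 hF hqf (Nat.gcd_eq_right (Dvd.intro_left 2 rfl))
          rw [Fintype.card_fin] at h5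
          omega
        · have h5 := Low.b3_01 C.rgd hirr rfl (i := 0) (j := i) rfl hi1' h0 hi
          rw [hD, Module.finrank_fintype_fun_eq_card, Fintype.card_fin] at h5
          omega
  have hends : ∀ i : Fin r, i ∉ JB (modelSU hK hN3 W) p (MonoidHom.id (modelSU hK hN3 W).I)
      (φ₀.comp (modelSU hK hN3 W).φ) → (i : ℕ) = 0 ∨ (i : ℕ) + 1 = r := by
    intro i hi
    by_contra hcon
    have := i.2
    exact hmid ⟨i, hi, by omega, by omega⟩
  by_cases h0 : (⟨0, by omega⟩ : Fin r) ∈ JB (modelSU hK hN3 W) p (MonoidHom.id (modelSU hK hN3 W).I)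
      (φ₀.comp (modelSU hK hN3 W).φ)
  · -- the last node
    exfalso
    have hJ : ∀ i, i ∉ JB (modelSU hK hN3 W) p (MonoidHom.id (modelSU hK hN3 W).I)
        (φ₀.comp (modelSU hK hN3 W).φ) → i = ⟨r - 1, by omega⟩ := by
      intro i hi
      rcases hends i hi with h1 | h1
      · exact absurd h0 (by
          have : i = ⟨0, by omega⟩ := Fin.ext h1
          rwa [this] at hi)
      · exact Fin.ext (by simp only; omega)
    obtain ⟨i, hi⟩ := exists_node hC C hT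
    have hi' := hJ i hi
    rw [hi'] at hi
    obtain ⟨p', f, hp', hch, hqf, hf⟩ := LieClassical.HermBasic.exists_prime_pow hK
    obtain rfl : p' = p := CharP.eq K hch ‹_›
    have := Fintype.ofFinite F
    obtain ⟨a, -, ha⟩ := FiniteField.card F p'
    rw [← Nat.card_eq_fintype_card] at ha
    have hs : f / Nat.gcd a f * Nat.gcd a f = f := Nat.div_mul_cancel (Nat.gcd_dvd_right _ _)
    set s := f / Nat.gcd a f with hsdef
    have haj : (a : ℕ) * j = 2 * f := by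
      have h1 : p' ^ ((a : ℕ) * j) = p' ^ (2 * f) := by
        rw [pow_mul, ← ha, hjq, hqf, ← pow_mul, mul_comm]
      exact Nat.pow_right_injective hp'.two_le h1
    have hjs : j ≤ 2 * s := by
      have h1 : Nat.gcd a f ≤ a := Nat.gcd_le_left _ a.pos
      have h2 : (a : ℕ) * j ≤ a * (2 * s) := by
        rw [haj]
        calc 2 * f = 2 * (s * Nat.gcd a f) := by rw [hs]
          _ ≤ 2 * (s * a) := Nat.mul_le_mul_left _ (Nat.mul_le_mul_left _ h1)
          _ = a * (2 * s) := by ring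
      exact Nat.le_of_mul_le_mul_left h2 a.pos
    have h5 := last_bound hC hp0 C hT hr3 (by simp only; omega) hi hJ ha hqf hs
    rw [Fintype.card_fin] at h5
    obtain ⟨h6, h7, h8⟩ := Ar.last hr3 hj hNo hnlt hjs h5
    subst h6
    obtain ⟨d, hd, hV0⟩ := hW' (by (clear * - h7 hr; omega))
    have h9 := hseven hN3 W d (by (clear * - h7 hr; omega)) hd hV0 φ₀ hφ₀ (by rw [h8] at hjq; exact hjq) (not_mem_witt hC hp0 C hT hi)
    rw [h7, h8] at hnlt
    omega
  · -- the first node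
    obtain ⟨ε, hε, h3⟩ := bound_first hC C hT (by omega) rfl h0
    rw [Fintype.card_fin] at h3
    obtain ⟨hj1, hd2⟩ := Ar.first hr3 hj hnlt' (hedge _ (by simp only; omega) h0) hε h3
    subst hj1
    by_cases hl : (⟨r - 1, by omega⟩ : Fin r) ∈ JB (modelSU hK hN3 W) p (MonoidHom.id (modelSU hK hN3 W).I)
      (φ₀.comp (modelSU hK hN3 W).φ)
    · obtain ⟨τ, θ, hθ⟩ := identify_B hC hA hp0 (by omega) (span_IU hK hN3) C hT (o := ⟨0, by omega⟩) rfl
        (fun i hi => by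
          rcases hends i hi with h1 | h1
          · exact Fin.ext h1
          · exact absurd hl (by
              have : i = ⟨r - 1, by omega⟩ := Fin.ext (by simp only; omega)
              rwa [this] at hi)) hd2
      exact nat_of_ident hK τ θ hθ
    · exfalso
      rcases Nat.lt_or_ge 4 r with hr5 | hr5
      · obtain ⟨ε', -, h4⟩ := bound_last hC C hT (i := ⟨r - 1, by omega⟩) (by simp only; omega) hl
        rw [Fintype.card_fin] at h4
        have h5 := Ar.pow_five hr5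
        omega
      · rcases Nat.lt_or_ge 3 r with hr4 | hr4
        · obtain rfl : r = 4 := by omega
          have h5 := Low.b4_03 C.rgd hirr rfl (i := ⟨0, by omega⟩) (j := ⟨4 - 1, by omega⟩) rfl rfl h0 hl
          rw [hD, Module.finrank_fintype_fun_eq_card, Fintype.card_fin] at h5
          omega
        · obtain rfl : r = 3 := by omega
          have h5 := Low.b3_02 C.rgd hirr rfl (i := ⟨0, by omega⟩) (j := ⟨3 - 1, by omega⟩) rfl rfl h0 hl
          rw [hD, Module.finrank_fintype_fun_eq_card, Fintype.card_fin] at h5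
          omega

end aux

section main

open Cfsg Cfsg.Geo Matrix
open Cfsg.Agent.H915.LD
open Cfsg.Agent.H100.Ppd (Nat')
open Cfsg.Agent.LieClassical.HermBasic (two_le)

variable {n : ℕ} {F : Type u} [Field F] [Finite F] {m : ℕ} {P : Subgroup (GL (Fin n) F)}
  {K : Type} [Field K] [Fintype K] {N q : ℕ} (p : ℕ) [hp : Fact p.Prime] [hFp : CharP F p] [hKp : CharP K p]
include hp hFp hKp

theorem not_psu3 (h : Tc m P) (hK : Fintype.card K = q ^ 2) (h2 : q ≠ 2) (e : Soc P ≃* PSU 3 K q)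
    (hlt : Nat.card F ^ m < Fintype.card K ^ 3) : False := by
  have hq2 := two_le hK
  obtain ⟨j, -, hj, hb⟩ := H525.Ppd.core_bound p h.core (by omega) hK e
  rw [Fintype.card_fin] at hb
  have h1 := Tc.lt_of' (hj.trans hK.symm) hlt
  have h3 := h.hi
  have h4 := h.six
  omega

theorem not_psu4 (h : Tc m P) (hK : Fintype.card K = q ^ 2) (e : Soc P ≃* PSU 4 K q)
    (hlt : Nat.card F ^ m < Fintype.card K ^ 3) : False := by
  have hten := h.ge
  have hne := h.core.nonempty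
  have hq2 := two_le hK
  obtain ⟨N, hN1, hN⟩ := H269.Ppd.exists_card_pow h.core p (M := 4) (by norm_num) (by omega) hK e
  have hb := H269.Ppd.core_bound4 p h.core hK e hN (by rw [Fintype.card_fin]; omega)
  rw [Fintype.card_fin] at hb
  have hk := h.lt_of (hN.trans hK.symm) hlt
  rcases hb with hb | ⟨s, hs1, hsN, h4, h25, h14⟩
  · have := H269.Ppd.bound_A N (by omega)
    omega
  · by_cases hs3 : 3 ≤ s
    · have := H269.Ppd.bound_B s hs3
      rcases hsN with h5 | h5 <;> omega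
    · have hs : s = 1 ∨ s = 2 := by omega
      rcases hs with rfl | rfl
      · have := h14 rfl
        rcases hsN with h5 | h5 <;> omega
      · have := h25 rfl
        rcases hsN with h5 | ⟨h5, h6⟩
        · omega
        · exact h6 (dvd_refl _)

theorem not_psu5 (h : Tc m P) (hK : Fintype.card K = q ^ 2) (e : Soc P ≃* PSU 5 K q)
    (hlt : Nat.card F ^ m < Fintype.card K ^ 5) : False := by
  obtain ⟨j, -, hj, hb⟩ := H69.Ppd.core_five p h.core hK e
  rw [Fintype.card_fin] at hb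
  have h1 := Tc.lt_of' (hj.trans hK.symm) hlt
  have h3 := h.hi
  have h4 := h.six
  omega

theorem nat_psu6 (h : Tc m P) (hN : 6 ≤ N) (hK : Fintype.card K = q ^ 2) (e : Soc P ≃* PSU N K q)
    (hlt : Nat.card F ^ m < Fintype.card K ^ (2 * ((N - 1) / 2) + 1)) : Nat' P := by
  refine nat_psu_aux p h hN hK e hlt ?_
  intro hN3 W d h7 hd hV0 φ₀ hφ₀ hj hJ
  subst h7
  have hne := h.core.nonempty
  have h1 := H69.Ppd.seven_last hN3 W (Or.inr ⟨d, hd, hV0⟩) hφ₀ h.core.absIrred (i := 2) (by decide) hd hV0 hJ hj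
  rwa [Fintype.card_fin] at h1

omit hp hFp hKp in
/-- a prime modulo which `q` has odd order `d > N / 2` does not divide the order of `PSU_N(q)` -/
theorem not_dvd_psu (hK : Fintype.card K = q ^ 2) (hN : 2 ≤ N) {r d : ℕ} (hr : r.Prime) (h2 : r ≠ 2) (hq : ¬ r ∣ q)
    (hd : Odd d) (hNd : N < 2 * d) (h : ∀ i, r ∣ q ^ i - 1 ↔ d ∣ i) : ¬ r ∣ Nat.card (PSU N K q) := by
  intro hd0
  have hq2 := two_le hK
  have h1 := S0280.result hK N hN
  have h3 : r ∣ Nat.gcd N (q + 1) * ((q + 1) * Nat.card (PSU N K q)) := (hd0.mul_left _).mul_left _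
  rw [h1] at h3
  rcases hr.dvd_mul.1 h3 with h4 | h4
  · exact hq (hr.dvd_of_dvd_pow h4)
  obtain ⟨i, hi, h5⟩ := (Prime.dvd_finsetProd_iff hr.prime _).1 h4
  rw [Finset.mem_range] at hi
  have hc : d.Coprime 2 := Nat.coprime_two_right.2 hd
  split_ifs at h5 with he
  · have h6 := (h _).2 (hc.dvd_of_dvd_mul_left ((h _).1 (h5.trans (add_dvd_sub q (i + 1)))))
    have h7 := Nat.dvd_sub h5 h6
    have h8 : 1 ≤ q ^ (i + 1) := Nat.one_le_pow _ _ (by omega)
    rw [show q ^ (i + 1) + 1 - (q ^ (i + 1) - 1) = 2 by omega] at h7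
    exact h2 ((Nat.prime_dvd_prime_iff_eq hr Nat.prime_two).1 h7)
  · have h6 : 2 ∣ i + 1 := by
      rw [Nat.not_even_iff_odd] at he
      exact he.add_one.two_dvd
    have h7 := Nat.le_of_dvd (by omega) (hc.mul_dvd_of_dvd_of_dvd ((h _).1 h5) h6)
    omega

/-- the borderline -/
theorem not_psu_eq (h : Tc m P) (hK : Fintype.card K = q ^ 2) (hN : 3 ≤ N) (h32 : ¬ (N = 3 ∧ q = 2))
    (e : Soc P ≃* PSU N K q) (heq : Nat.card F ^ m = Fintype.card K ^ (2 * ((N - 1) / 2) + 1)) : False := by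
  have hq2 := two_le hK
  obtain ⟨f, rfl⟩ := H525.Ppd.exists_exp (p := p) hK
  obtain ⟨a, ha, hF⟩ := exists_exp F p
  have hf : 0 < f := Nat.pos_of_ne_zero (by rintro rfl; simp at hq2)
  have hD := dg_psu (K := K) (N := N) (by omega) hK
  set d := 2 * ((N - 1) / 2) + 1 with hd
  have hd3 : 3 ≤ d := by omega
  have hdo : Odd d := ⟨_, hd⟩
  have h6 := h.six
  rw [hK, ← pow_mul] at hD
  rw [hK, hF, ← pow_mul, ← pow_mul, ← pow_mul] at heq
  have ham : a * m = f * (2 * d) := Nat.pow_right_injective hp.out.two_le heq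
  have key : ∀ r : ℕ, r.Prime → 7 ≤ r → ¬ r ∣ f → d < r → ¬ r ∣ p → r ∣ th (Nat.card F) m →
      (∀ i, r ∣ (p ^ f) ^ i - 1 ↔ d ∣ i) → False := fun r hr h7 h1 h2 h3 h4 h5 =>
    not_dvd_psu hK (by omega) hr (by omega) (fun h8 => h3 (hr.dvd_of_dvd_pow h8)) hdo (by omega) h5
      (h.dvd_card e hp.out (H462.Ppd.fd_psu p hK hN h32) hD hr h7 (fun h8 => (hr.dvd_mul.1 h8).elim h1 fun h9 => by
        have := Nat.le_of_dvd (by norm_num) h9
        omega) h2 h4)
  have h1 : 1 * d ≤ f * d := Nat.mul_le_mul_right _ hf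
  have h2 : f * 3 ≤ f * d := Nat.mul_le_mul_left _ hd3
  by_cases hex : p = 2 ∧ f * d = 6
  · obtain ⟨rfl, h3⟩ := hex
    have h4 : d = 3 ∧ f = 2 := by
      have h4 : f = 1 ∨ f = 2 := by omega
      rcases h4 with rfl | rfl <;> omega
    have h5 := (h.seven (by rw [hF]; exact (Nat.even_pow' ha.ne').2 even_two)).1
    rw [h4.1, h4.2] at ham
    have h7 : a = 1 := by
      by_contra h7
      have : 2 * m ≤ a * m := Nat.mul_le_mul_right _ (by omega)
      omega
    subst h7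
    obtain rfl : m = 12 := by omega
    refine key 7 (by norm_num) le_rfl (by rw [h4.2]; norm_num) (by omega) (by norm_num) (by rw [hF]; decide) fun i => ?_
    rw [h4.1, h4.2]
    have h8 : 1 ≤ (2 ^ 2) ^ i := Nat.one_le_pow _ _ (by norm_num)
    rw [← Nat.modEq_iff_dvd' h8, ← Nat.div_add_mod i 3, pow_add, pow_mul, Nat.dvd_add_right (Dvd.intro _ rfl)]
    have h9 : ((2 ^ 2) ^ 3) ^ (i / 3) * (2 ^ 2) ^ (i % 3) ≡ 1 ^ (i / 3) * (2 ^ 2) ^ (i % 3) [MOD 7] :=
      ((by decide : (2 ^ 2) ^ 3 ≡ 1 [MOD 7]).pow _).mul_right _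
    rw [one_pow, one_mul] at h9
    have h10 : i % 3 < 3 := Nat.mod_lt _ (by norm_num)
    refine ⟨fun h11 => ?_, fun h11 => ?_⟩
    · have h12 := h11.trans h9
      generalize i % 3 = x at h10 h12
      interval_cases x
      · exact dvd_zero _
      · exact absurd h12 (by decide)
      · exact absurd h12 (by decide)
    · rw [Nat.eq_zero_of_dvd_of_lt h11 h10] at h9 ⊢
      exact h9.symm
  · obtain ⟨r, hr, h3, h4, h5, h7⟩ := h.ppd (k := f * d) hp.out hF (by omega) hex ⟨2, by rw [ham]; ring⟩ fun h3 => by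
      have h4 := Nat.mul_le_mul_right m (Nat.le_of_dvd ha h3)
      have h5 : f * d * 6 ≤ f * d * m := Nat.mul_le_mul_left _ h6
      have h7 : f * (2 * d) = f * d * 2 := by ring
      omega
    have h8 := Nat.le_of_dvd (by have := hr.two_le; omega) h5
    have h9 := hr.two_le
    refine key r hr ?_ (fun h10 => by have := Nat.le_of_dvd hf h10; omega) (by omega) h7 h3 fun i => ?_
    · by_contra h10
      have h11 : d ∣ r - 1 := (Dvd.intro_left f rfl).trans h5
      have h12 : r = 4 ∨ r = 5 ∨ r = 6 := by omega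
      rcases h12 with rfl | rfl | rfl
      · exact absurd hr (by norm_num)
      · have h13 := Nat.le_of_dvd (by norm_num) h11
        have h14 : d = 3 := by omega
        rw [h14] at h11
        omega
      · exact absurd hr (by norm_num)
    · rw [← pow_mul, h4, Nat.mul_dvd_mul_iff_left hf]

/-- **Unitary socles.** -/
theorem nat_psu (h : Tc m P) (hK : Fintype.card K = q ^ 2) (hN : 3 ≤ N) (h32 : ¬ (N = 3 ∧ q = 2))
    (e : Soc P ≃* PSU N K q) : Nat' P := by
  have hle := h.le_of_dg e (H462.Ppd.fd_psu p hK hN h32) (Nat.card_eq_fintype_card (α := K) ▸ exists_exp K p) (by omega)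
    (dg_psu (by omega) hK)
  rcases hle.eq_or_lt with heq | hlt
  · exact (not_psu_eq p h hK hN h32 e heq).elim
  by_cases h6 : 6 ≤ N
  · exact nat_psu6 p h h6 hK e hlt
  have h3 : N = 3 ∨ N = 4 ∨ N = 5 := by omega
  rcases h3 with rfl | rfl | rfl
  · exact (not_psu3 p h hK (fun h => h32 ⟨rfl, h⟩) e hlt).elim
  · exact (not_psu4 p h hK e hlt).elim
  · exact (not_psu5 p h hK e hlt).elim

end main

end Cfsg.Agent.SM.Ti.Lo
end

-- part: SM/Ti/LoS
section
/-!
# S3570, tight cores: Suzuki and Ree socles (helper69; set-ups from `H909`, `H315/TwF`)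

`not_sz`, `not_ree`, `not_2f4`.
-/

set_option autoImplicit false
set_option linter.unusedSectionVars false
set_option linter.style.haveILetI false

namespace Cfsg.Agent.SM.Ti.Lo

universe u

section sz

open Cfsg Cfsg.Geo Matrix Cfsg.Agent.H915.LD Cfsg.Agent.H861.SzN Cfsg.Agent.H100.Ppd Cfsg.Agent.H905.Md
open Cfsg.Agent.H909.Ppd

variable {n : ℕ} {F : Type u} [Field F] [Finite F] {m : ℕ} {P : Subgroup (GL (Fin n) F)}
  {K : Type} [Field K] [Fintype K] {l : ℕ}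

theorem not_sz [CharP F 2] (h : Tc m P) (hl : 1 ≤ l) (hK : Fintype.card K = 2 ^ (2 * l + 1))
    (e : Soc P ≃* Cfsg.Lie.Sz K (2 ^ (l + 1))) : False := by
  classical
  have : Fact (Nat.Prime 2) := ⟨Nat.prime_two⟩
  have hC := h.core
  obtain ⟨j⟩ := exists_emb F hK
  obtain ⟨φ, S, hφ, hS, hcard, htr⟩ := sz_model hC hl hK e j
  rw [Fintype.card_fin] at hcard
  -- `|F| ^ s = |K|`
  obtain ⟨s, hs, hFs⟩ := card_pow_eq (F := F) 2 (a := 2 * l + 1) (by omega)
    (pow_eq_of_no_subfield hC.absIrred hC.no_subfield 2 _ fun g hg => by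
      rw [← hK]
      exact (sz_both hC.absIrred hC.perfect hl hK e hg).1)
  have := Fintype.ofFinite F
  obtain ⟨f, hf0, hf⟩ := FiniteField.card F 2
  have hfs : (f : ℕ) * s = 2 * l + 1 := by
    rw [Nat.card_eq_fintype_card, hf, ← pow_mul] at hFs
    exact Nat.pow_right_injective le_rfl hFs
  -- periodicity
  have hper : S.image (sh (f : ℕ)) = S := by
    refine image_eq j hK fun x => ?_
    obtain ⟨g, rfl⟩ := trace_surj hK x
    rw [← htr, ← map_pow, ← hf, FiniteField.pow_card]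
  have hle : s ≤ S.card := le_card hS hfs hper
  have h4 : 4 ^ s ≤ n := by
    rw [hcard]
    exact Nat.pow_le_pow_right (by norm_num) hle
  have hk2 : m ≤ s * 4 := Tc.le_of' (hFs.trans hK.symm)
    (h.le_of_dg e (H47.Fd.fd_sz hl hK) ⟨_, by omega, hK⟩ (by norm_num) (dg_sz hl hK))
  have hn := h.hi
  have hten := h.ge
  have hbad : ∀ s : ℕ, 3 ≤ s → 8 * s + 2 ≤ 4 ^ s := by
    intro s hs
    induction s, hs using Nat.le_induction with
    | base => norm_num
    | succ s hs ih => rw [pow_succ]; omega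
  by_cases hs2 : 3 ≤ s
  · have := hbad s hs2
    omega
  · obtain rfl : s = 2 := by omega
    omega

end sz

section ree

open Matrix
open Cfsg Cfsg.Geo Cfsg.Lie Cfsg.Agent.ChevalleyStructure.Ree Cfsg.Agent.ChevalleyStructure.Ree.Words
  Cfsg.Agent.ChevalleyStructure.Ree.Gens Cfsg.Agent.ChevalleyStructure.Ree.Normal
  Cfsg.Agent.ChevalleyStructure.Ree.Bruhat Cfsg.Agent.ChevalleyStructure.Ree.Blocks
  Cfsg.Agent.LieRecognition.ReeSylowThree Cfsg.Agent.FixBN.ReeSplit Cfsg.Agent.H905.Md Cfsg.Agent.H915.LD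
  Cfsg.Agent.H911 Cfsg.Agent.H100.Ppd Cfsg.Agent.H141.ReeK
open Cfsg.Agent.H909.Ppd Cfsg.Agent.H909.ReeKer

variable {n : ℕ} {F : Type u} [Field F] [Finite F] {m : ℕ} {P : Subgroup (GL (Fin n) F)}
  {K : Type} [Field K] [Fintype K] {l : ℕ}

theorem not_ree_lt [CharP F 3] (h : Tc m P) (hl : 1 ≤ l) (hK : Fintype.card K = 3 ^ (2 * l + 1))
    (hlt : Nat.card F ^ m < Fintype.card K ^ 6)
    (e : Soc P ≃* ↥(twistedG2 K (3 ^ l))) : False := by
  classical
  have h3p : Fact (Nat.Prime 3) := ⟨Nat.prime_three⟩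
  have hk : CharP (AlgebraicClosure F) 3 :=
    charP_of_injective_ringHom (algebraMap F (AlgebraicClosure F)).injective 3
  have hC := h.core
  have hten := h.ge
  -- `|F| ^ s = |K|`
  obtain ⟨s, hs, hFs⟩ := card_pow_eq (F := F) 3 (a := 2 * l + 1) (by omega)
    (pow_eq_of_no_subfield hC.absIrred hC.no_subfield 3 _ fun g hg => by
      rw [← hK]
      exact (ree_both hC.absIrred hC.perfect hl hK e hg).1)
  have hF := Fintype.ofFinite F
  obtain ⟨f, hf0, hf⟩ := FiniteField.card F 3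
  have hF3 : Nat.card F = 3 ^ (f : ℕ) := by rw [Nat.card_eq_fintype_card, hf]
  have hfs : (f : ℕ) * s = 2 * l + 1 := by
    rw [hF3, ← pow_mul] at hFs
    exact Nat.pow_right_injective (show 2 ≤ 3 by norm_num) hFs
  have hn := h.lt_of (hFs.trans hK.symm) hlt
  -- `s = 1`
  by_cases hs1 : s = 1
  · have h7 := Cfsg.Agent.H708.ReeSix.ree_eq_seven hC hl hK e (by rw [Fintype.card_fin]; omega)
    rw [Fintype.card_fin] at h7
    omega
  have hs3 : 3 ≤ s := by
    have hodd : Odd (f * s : ℕ) := ⟨l, by rw [hfs]⟩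
    have := (Nat.odd_mul.1 hodd).2
    obtain ⟨b, hb⟩ := this
    omega
  -- the coefficient
  obtain ⟨θ, c⟩ := exists_ctx hK
  obtain ⟨j⟩ := H141.ReeK.exists_emb F hK
  obtain ⟨φ, v, ψ, r, hφ, hinj, hr1, hr2, hψv, hU, hT, hψU, hψn, -, hker⟩ := core_coef hC hl hK e c j
  have hv : v ≠ 0 := by
    rintro rfl
    rw [map_zero] at hψv
    exact zero_ne_one hψv
  -- `r = t (1 + q + ...)`
  have hper := period hC hK c j hφ hv hU hT
  have hq3 : 3 ^ 1 ≤ 3 ^ (f : ℕ) := Nat.pow_le_pow_right (by norm_num) f.pos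
  have hGm := Gm_mul f s
  rw [hfs] at hGm
  obtain ⟨t, ht⟩ : Gm f s ∣ r := by
    rw [hK, hF3] at hper
    have h1 : 3 ^ (2 * l + 1) - 1 = Gm f s * (3 ^ (f : ℕ) - 1) := by omega
    rw [h1] at hper
    exact Nat.dvd_of_mul_dvd_mul_right (by omega) hper
  have ht1 : 1 ≤ t := by
    rcases Nat.eq_zero_or_pos t with rfl | h1
    · rw [mul_zero] at ht; omega
    · exact h1
  have ht2 : t ≤ 3 ^ (f : ℕ) - 1 := by
    have h1 : Gm f s * t ≤ Gm f s * (3 ^ (f : ℕ) - 1) := by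
      rw [← ht]
      rw [hK] at hr2
      omega
    exact Nat.le_of_mul_le_mul_left h1 (Gm_pos (by omega))
  rw [mul_comm] at ht
  have hfr : Module.finrank (AlgebraicClosure F) (Fin n → AlgebraicClosure F) = n := by
    rw [Module.finrank_fintype_fun_eq_card, Fintype.card_fin]
  rcases per_le (V := Fin n → AlgebraicClosure F) j hl hK hfs ht1 ht2
    (f := fun t u w => ψ.comp (lin (acRep φ) (Data.U K (3 ^ l) t u w)))
    (w := fun t u w => lin (acRep φ) (Data.N c * Data.U K (3 ^ l) t u w * Data.N c) v)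
    (by rw [← ht]; exact hker) with h4 | h4
  · rw [hfr] at h4
    have := four_mul_le hs3
    omega
  · rw [hfr, hK, ← hfs] at h4
    by_cases hs4 : 4 ≤ s
    · have h5 := three_mul_le hs4
      have h6 : 3 ^ s ≤ 3 ^ ((f : ℕ) * s) := Nat.pow_le_pow_right (by norm_num) (Nat.le_mul_of_pos_left _ f.pos)
      omega
    · have hs3' : s = 3 := by omega
      subst hs3'
      by_cases hf1 : (f : ℕ) = 1
      · -- `|K| = 27`
        rw [hf1] at hfs ht ht2
        have hl1 : l = 1 := by omega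
        subst hl1
        have hG13 : Gm 1 3 = 13 := by decide
        rw [hG13] at ht
        have h2k : (2 : AlgebraicClosure F) ≠ 0 := by
          intro h0
          have h1 : ((2 : ℕ) : AlgebraicClosure F) = 0 := by exact_mod_cast h0
          rw [CharP.cast_eq_zero_iff (AlgebraicClosure F) 3] at h1
          omega
        have hfin : Finite ↥(twistedG2 K (3 ^ 1)) := finite (Data.data c)
        have ht12 : t = 1 ∨ t = 2 := by
          norm_num at ht2
          omega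
        rcases ht12 with rfl | rfl
        · -- exponent 13
          rw [one_mul] at ht
          subst ht
          have h27 := ng_ge c j hK hT hker
          set z := Data.T c (-1) with hz
          have hzz : z * z = 1 := negone_sq c
          have hz1 : z ≠ 1 := by
            intro h1
            have h5 := hT (-1)
            rw [← hz, h1, map_one, Module.End.one_apply, dd_neg_one, map_neg, map_one] at h5
            have h6 : v = -v := by
              refine h5.trans ?_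
              norm_num
            have h7 : (2 : AlgebraicClosure F) • v = 0 := by
              rw [two_smul]
              nth_rewrite 2 [h6]
              exact add_neg_cancel v
            exact hv ((smul_eq_zero.1 h7).resolve_left h2k)
          have h2g : IsPGroup 2 (Subgroup.zpowers z) := by
            apply IsPGroup.of_card (n := 1)
            rw [Nat.card_zpowers, orderOf_eq_prime (p := 2) (by rw [pow_two, hzz]) hz1, pow_one]
          obtain ⟨S, hS⟩ := h2g.exists_le_sylow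
          have hzS : z ∈ (S : Subgroup ↥(twistedG2 K (3 ^ 1))) := hS (Subgroup.mem_zpowers z)
          obtain ⟨a, haH, ha1, ha2⟩ := Cfsg.Agent.S1157.exists_involution hK
          obtain ⟨h8, -⟩ := (Cfsg.Agent.S1152.result hK a haH ha1 ha2).2 S
          obtain ⟨g, hgS, hg7, hfix⟩ := Cfsg.Agent.H708.ReeSix.ree_data' (by norm_num) hK S
          have hz'S := hgS z hzS
          have hz'1 : g⁻¹ * z * g ≠ 1 := by
            intro h1
            apply hz1
            have h5 : z = g * (g⁻¹ * z * g) * g⁻¹ := by group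
            rw [h5, h1]
            group
          have hzz'1 : z * (g⁻¹ * z * g) ≠ 1 := by
            intro h1
            apply hz1
            apply hfix z hzS
            have h5 : z⁻¹ = z := inv_eq_of_mul_eq_one_left hzz
            have h6 : g⁻¹ * z * g = z⁻¹ := eq_inv_of_mul_eq_one_right h1
            rw [h6, h5]
          obtain ⟨x, hx⟩ := exists_conj h8 hgS hg7 hfix hzS hz1 (mul_mem hzS hz'S) hzz'1
          have h5 := ng_three (ρ := lin (acRep φ)) h2k (z := z) (z' := g⁻¹ * z * g) 27 h27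
            (h27.trans ng_conj_le) (by rw [hx]; exact h27.trans ng_conj_le)
          rw [hfr] at h5
          omega
        · -- exponent 26
          have hcard : Nat.card (uSub (Data.data c)) = 27 ^ 3 := by rw [card_uSub, hK]; norm_num
          have h5 := steinberg_le (ree_sp1 hK (Data.data c)) (ρ := lin (acRep φ)) (v := v) (ψ := ψ)
            (by rintro _ ⟨t, u, w, rfl⟩; exact hU t u w)
            (by
              rintro _ ⟨α, rfl⟩
              rw [hT, ht, ← map_pow]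
              have h6 : c.dd α ^ (2 * 13) = 1 := by
                have := FiniteField.pow_card_sub_one_eq_one _ (c.dd_ne α)
                rw [hK] at this
                norm_num only [] at this
                exact this
              rw [h6, map_one, one_smul])
            (by
              rintro _ ⟨t, u, w, rfl⟩ x
              rw [(Data.data c).n_inv]
              exact hψU t u w x) hψv hψn
          rw [hcard, hfr] at h5
          omega
      · have hf2 : 2 ≤ (f : ℕ) := by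
          have := f.pos
          omega
        have h6 : 3 ^ (2 * 3) ≤ 3 ^ ((f : ℕ) * 3) := Nat.pow_le_pow_right (by norm_num) (by omega)
        norm_num at h6
        omega

theorem not_ree [CharP F 3] (h : Tc m P) (hl : 1 ≤ l) (hK : Fintype.card K = 3 ^ (2 * l + 1))
    (e : Soc P ≃* ↥(twistedG2 K (3 ^ l))) : False := by
  have h3p : Fact (Nat.Prime 3) := ⟨Nat.prime_three⟩
  have hT := H47.Fd.fd_ree hl hK
  have hD := dg_ree hK
  rcases (h.le_of_dg e hT ⟨_, by omega, hK⟩ (by norm_num) hD).eq_or_lt with heq | hlt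
  swap
  · exact not_ree_lt h hl hK hlt e
  obtain ⟨a, ha, hF⟩ := Ti.exists_exp F 3
  rw [hK] at hD
  rw [hK, hF, ← pow_mul, ← pow_mul] at heq
  have ham : a * m = (2 * l + 1) * 6 := Nat.pow_right_injective (by norm_num : 2 ≤ 3) heq
  have h6 := h.six
  obtain ⟨r, hr, h3, h4, h5, h7⟩ := h.ppd (k := (2 * l + 1) * 3) Nat.prime_three hF (by omega) (by omega)
    ⟨2, by rw [ham]; ring⟩ fun h3 => by
      have h4 := Nat.mul_le_mul (Nat.le_of_dvd ha h3) h6
      omega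
  have h8 := Nat.le_of_dvd (by have := hr.two_le; omega) h5
  have h9 := hr.two_le
  have h10 := h.dvd_card e Nat.prime_three hT hD hr (by omega) (fun h10 => by have := Nat.le_of_dvd (by omega) h10; omega)
    (by omega) h3
  rw [Cfsg.Agent.LieRecognition.ReeFinal.card hK, hr.dvd_mul, hr.dvd_mul, h4] at h10
  rcases h10 with (h10 | h10) | h10
  · exact h7 (hr.dvd_of_dvd_pow (hr.dvd_of_dvd_pow h10))
  · have := Nat.le_of_dvd (by omega) h10
    omega
  · refine not_dvd_add hr (by omega) (Nat.one_le_pow _ _ (by positivity)) ?_ h10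
    rw [← pow_mul, h4]

end ree

section tf

open Cfsg Cfsg.Geo Matrix
open Cfsg.Agent.H915.LD Cfsg.Agent.H100.Ppd Cfsg.Agent.H905.Md
open Cfsg.Agent.H315.TwF

variable {n : ℕ} {F : Type u} [Field F] [Finite F] {m : ℕ} {P : Subgroup (GL (Fin n) F)}
  {K : Type} [Field K] [Fintype K] {l : ℕ}

theorem not_2f4_lt [CharP F 2] (h : Tc m P) (hl : 1 ≤ l) (hK : Fintype.card K = 2 ^ (2 * l + 1))
    (hlt : Nat.card F ^ m < Fintype.card K ^ 12) (e : Soc P ≃* ↥(Lie.twistedF4 K (2 ^ l))) : False := by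
  have hp2 : Fact (Nat.Prime 2) := ⟨Nat.prime_two⟩
  have hFin : Fintype F := Fintype.ofFinite F
  obtain ⟨φ, -, hker, -⟩ := exists_cover (p := 2) h.core.perfect e (Cfsg.Agent.S1112.result hK hl)
    (fun r hr hr2 => Cfsg.Agent.H67.TwFFourOdd.noPCov_odd hl hK hr hr2) (πG := MonoidHom.id _) Function.surjective_id
    (by rw [MonoidHom.ker_id]; exact bot_le)
  -- the numbers
  obtain ⟨d, -, hd⟩ := FiniteField.card F 2
  have hq : Nat.card F = 2 ^ (d : ℕ) := by rw [Nat.card_eq_fintype_card, hd]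
  set N := 4 * (2 * l + 1) with hN
  obtain ⟨r', hr', hprim, hr'N, hr'2⟩ := Cfsg.Agent.Lib.Zsigmondy.exists_primitive (a := 2) (n := N) le_rfl (by omega)
    (fun h => by omega) (by omega)
  have hr'ne : r' ≠ 2 := fun h => hr'2 (h ▸ dvd_rfl)
  obtain ⟨Q, hQ⟩ : ∃ Q, Q = 2 ^ (2 * l + 1) := ⟨_, rfl⟩
  have hQ1 : 1 ≤ Q := by rw [hQ]; exact Nat.one_le_two_pow
  have hr'Q : r' ∣ Nat.card K * Nat.card K + 1 := by
    have h1 : r' ∣ 2 ^ N - 1 := (hprim N).2 dvd_rfl
    have h2 : ¬ r' ∣ 2 ^ (2 * (2 * l + 1)) - 1 := fun h3 => by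
      have := Nat.le_of_dvd (by omega) ((hprim _).1 h3)
      omega
    rw [Nat.card_eq_fintype_card, hK, ← hQ]
    have h3 : 2 ^ N - 1 = (2 ^ (2 * (2 * l + 1)) - 1) * (Q * Q + 1) := by
      have e1 : 2 ^ N = Q * Q * (Q * Q) := by rw [hQ, hN, ← pow_add, ← pow_add]; congr 1; ring
      have e2 : 2 ^ (2 * (2 * l + 1)) = Q * Q := by rw [hQ, ← pow_add]; congr 1; ring
      rw [e1, e2]
      obtain ⟨c, hc⟩ : ∃ c, Q * Q = c + 1 := ⟨Q * Q - 1, by
        have : 1 ≤ Q * Q := Nat.one_le_iff_ne_zero.2 (by positivity)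
        omega⟩
      rw [hc, Nat.add_sub_cancel]
      apply Nat.sub_eq_of_eq_add
      ring
    rw [h3] at h1
    exact (hr'.dvd_mul.1 h1).resolve_left h2
  -- the bound
  set kk := AlgebraicClosure F with hkk
  have hch : CharP kk 2 := charP_of_injective_algebraMap (algebraMap F _).injective 2
  have hodd : ∀ a : ℕ, ¬ 2 ∣ a → (a : kk) ≠ 0 := fun a ha h0 => ha ((CharP.cast_eq_zero_iff kk 2 a).1 h0)
  have hbound : 6 * orderOf ((Nat.card F : ℕ) : ZMod r') ≤ n := by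
    have h1 := rep_bound (K := K) (m := l) (by exact_mod_cast hodd 5 (by norm_num)) hl hK
      (Cfsg.Agent.H911.lin (acRep φ)) (r := r') ?_ hr' hr'ne hr'Q (hodd r' (fun h => hr'ne
        ((Nat.prime_dvd_prime_iff_eq Nat.prime_two hr').1 h).symm)) (semi_frob φ) ?_
        (fun α h1 h2 => card_Or hr' h1 h2)
    · rwa [Module.finrank_pi, Fintype.card_fin] at h1
    · intro g hg
      have h6 : φ g = 1 := by
        apply Units.ext
        have h7 : acRep φ g = 1 := by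
          have := congrArg LinearMap.toMatrix' hg
          simpa only [Cfsg.Agent.H911.lin, _root_.Cfsg.Agent.H911.lin, _root_.MonoidHom.coe_mk, _root_.OneHom.coe_mk, _root_.LinearMap.toMatrix'_toLin', _root_.LinearMap.toMatrix'_one] using this
        rw [acRep_apply] at h7
        apply Matrix.map_injective (algebraMap F (AlgebraicClosure F)).injective
        refine h7.trans ?_
        ext i j
        simp [Matrix.one_apply, apply_ite (algebraMap F (AlgebraicClosure F))]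
      have h8 : g ∈ φ.ker := h6
      have h9 := hker h8
      rwa [MonoidHom.ker_id, Subgroup.mem_bot] at h9
    · intro α hα
      have h2 : (α - 1) ^ Nat.card F = 0 := by
        rw [hq, sub_pow_char_pow, one_pow, ← hq, hα, sub_self]
      exact sub_eq_zero.1 ((pow_eq_zero_iff (Nat.card_pos (α := F)).ne').1 h2)
  have h1 : N ∣ d * orderOf ((Nat.card F : ℕ) : ZMod r') := by
    rw [← hprim, pow_mul, ← hq, ← ZMod.natCast_eq_zero_iff, Nat.cast_sub (Nat.one_le_pow _ _ Nat.card_pos), Nat.cast_pow,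
      pow_orderOf_eq_one, Nat.cast_one, sub_self]
  have h3 : 0 < orderOf ((Nat.card F : ℕ) : ZMod r') := by
    have hfr : Fact r'.Prime := ⟨hr'⟩
    rw [orderOf_pos_iff, isOfFinOrder_iff_pow_eq_one]
    refine ⟨r' - 1, by have := hr'.one_lt; omega, ZMod.pow_card_sub_one_eq_one ?_⟩
    rw [Ne, ZMod.natCast_eq_zero_iff, hq]
    exact fun h => hr'2 (hr'.dvd_of_dvd_pow h)
  have h4 := Nat.le_of_dvd (Nat.mul_pos d.pos h3) h1
  set t := orderOf ((Nat.card F : ℕ) : ZMod r')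
  rw [hq, hK, ← pow_mul, ← pow_mul, Nat.pow_lt_pow_iff_right (by norm_num)] at hlt
  have h5 : m < 3 * t := by
    refine Nat.lt_of_mul_lt_mul_left (a := d) ?_
    rw [mul_left_comm]
    omega
  have h6 := h.hi
  omega

theorem not_2f4 [CharP F 2] (h : Tc m P) (hl : 1 ≤ l) (hK : Fintype.card K = 2 ^ (2 * l + 1))
    (e : Soc P ≃* ↥(Lie.twistedF4 K (2 ^ l))) : False := by
  have hp2 : Fact (Nat.Prime 2) := ⟨Nat.prime_two⟩
  have hT := H47.Fd.fd_2f4 hl hK
  have hD := dg_2f4 hK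
  rcases (h.le_of_dg e hT ⟨_, by omega, hK⟩ (by norm_num) hD).eq_or_lt with heq | hlt
  swap
  · exact not_2f4_lt h hl hK hlt e
  obtain ⟨a, ha, hF⟩ := Ti.exists_exp F 2
  rw [hK] at hD
  rw [hK, hF, ← pow_mul, ← pow_mul] at heq
  have ham : a * m = (2 * l + 1) * 12 := Nat.pow_right_injective le_rfl heq
  have h6 := h.six
  obtain ⟨r, hr, h3, h4, h5, h7⟩ := h.ppd (k := (2 * l + 1) * 3) Nat.prime_two hF (by omega) (by omega)
    ⟨4, by rw [ham]; ring⟩ fun h3 => by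
      have h4 := Nat.mul_le_mul (Nat.le_of_dvd ha h3) h6
      omega
  have h9 := hr.two_le
  have h8 : (2 * l + 1) * 3 * 2 ≤ r - 1 := by
    refine Nat.le_of_dvd (by omega) (Nat.Coprime.mul_dvd_of_dvd_of_dvd ?_ h5 ?_)
    · exact Nat.coprime_two_right.2 ⟨3 * l + 1, by ring⟩
    · obtain ⟨x, hx⟩ := hr.odd_of_ne_two fun e2 => h7 (e2 ▸ dvd_rfl)
      omega
  have h10 := h.dvd_card e Nat.prime_two hT hD hr (by omega) (fun h10 => by have := Nat.le_of_dvd (by omega) h10; omega)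
    (by omega) h3
  have key : ∀ i, r ∣ (2 ^ (2 * l + 1)) ^ i - 1 ↔ 3 ∣ i := fun i => by
    rw [← pow_mul, h4, Nat.mul_dvd_mul_iff_left (by omega)]
  rw [Cfsg.Agent.S1068.result hK, hr.dvd_mul, hr.dvd_mul, hr.dvd_mul, hr.dvd_mul, key, h4] at h10
  rcases h10 with (((h10 | h10) | h10) | h10) | h10
  · exact h7 (hr.dvd_of_dvd_pow (hr.dvd_of_dvd_pow h10))
  · have := Nat.le_of_dvd (by omega) h10
    omega
  · exact not_dvd_add hr (by omega) (Nat.one_le_pow _ _ (by positivity)) ((key 3).2 dvd_rfl) h10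
  · omega
  · exact not_dvd_add hr (by omega) (Nat.one_le_pow _ _ (by positivity)) ((key 6).2 (by norm_num)) h10

end tf

end Cfsg.Agent.SM.Ti.Lo
end

-- part: SM/Ti/BC/Bord
section
/-!
# S3570, tight cores: type `B_l` in the borderline case (helper35)

`R` a root group datum of type `B_l`, all nodes `SL_2(K)`, `|K| = |F| ^ j`, `|F| ^ m = |K| ^ (2 l)`.

* `card_nd` : the order of a root group;
* **`bord_B`** : `j = 1` and (`l = 3`, `n = 13`, `J^c = {1}`) or (`l = 4`, `n = 16, 17`, `J^c = {3}`, edges of dimension 2).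
-/

set_option autoImplicit false
set_option linter.unusedSectionVars false
set_option linter.style.haveILetI false

namespace Cfsg.Agent.SM.Ti.BC

open CoxeterSystem Cfsg.Agent.ChevalleyStructure.CoxeterGeom Cfsg.Agent.Tits.Roots Cfsg.Agent.Tits.Core
  Cfsg.Agent.Tits.Exchange Cfsg.Agent.Nodes.Reps Cfsg.Agent.Nodes.BNOf Cfsg.Agent.Nodes.StabComb
  Cfsg.Agent.Nodes.Bruhat Cfsg.Agent.Nodes.OppDec Cfsg.Agent.Nodes.LeviDec Cfsg.Agent.KFacts.RgdOpp
  Cfsg.Agent.Omega.CR Cfsg.Agent.Omega.FOne.Lift.Sd Cfsg.Agent.H905.Md Cfsg.Agent.Nodes.TypeC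
open Cfsg Cfsg.Geo
open Cfsg.Agent.H911 (lin)
open Cfsg.Agent.H650.Ppd (Nd edge_pow_of_card dim_ge_list_two two_mul_le_two_pow)
open Cfsg.Agent.H905.DC (cf)
open Cfsg.Agent.H965.XZ (gs index_B card_top_B)
open scoped MatrixGroups

universe u

/-! ### numbers -/

theorem gs_eq (q k : ℕ) : gs q k = th q k := rfl

theorem not_nat {p s Q j h N : ℕ} (hp : 0 < p) (_hj : 1 ≤ j) (hh : 0 < h) (h1 : N = (1 + p ^ s) * th Q (j * h))
    (h2 : N = th (Q ^ j) h) : False := by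
  rw [th_mul_th, h2, ← mul_assoc] at h1
  have h3 := th_pos (Q ^ j) hh
  have h4 : 1 = (1 + p ^ s) * th Q j := Nat.eq_of_mul_eq_mul_right h3 (by rw [one_mul]; exact h1)
  have h5 := Nat.dvd_one.1 (Dvd.intro _ h4.symm)
  have h6 : 0 < p ^ s := pow_pos hp s
  omega

theorem j_one {c Q j h e N : ℕ} (hQ : 2 ≤ Q) (hj : 1 ≤ j) (hh : 0 < h) (h1 : N = c * th Q (j * h))
    (h2 : N = th (Q ^ j) h * (1 + (Q ^ j) ^ e)) : j = 1 := by
  rw [th_mul_th, h2, ← mul_assoc, mul_comm (th (Q ^ j) h)] at h1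
  have h3 := th_pos (Q ^ j) hh
  have h4 : 1 + (Q ^ j) ^ e = c * th Q j := Nat.eq_of_mul_eq_mul_right h3 h1
  have h5 : th Q j ∣ (Q ^ j) ^ e - 1 := by
    refine (th_dvd (by omega) j).trans ?_
    simpa only [_root_.one_pow] using Nat.sub_dvd_pow_sub_pow (Q ^ j) 1 e
  have h6 : th Q j ∣ 1 + (Q ^ j) ^ e := Dvd.intro_left _ h4.symm
  have h7 : 1 ≤ (Q ^ j) ^ e := Nat.one_le_pow _ _ (by positivity)
  have h8 : th Q j ∣ 2 := by
    have h9 := Nat.dvd_sub h6 h5
    rwa [show 1 + (Q ^ j) ^ e - ((Q ^ j) ^ e - 1) = 2 by omega] at h9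
  by_contra hne
  obtain ⟨k, rfl⟩ : ∃ k, j = k + 1 + 1 := ⟨j - 2, by omega⟩
  have h9 := Nat.le_of_dvd two_pos h8
  rw [th_succ'] at h9
  have h10 := th_pos Q (show 0 < k + 1 by omega)
  have h11 : 2 * 1 ≤ Q * th Q (k + 1) := Nat.mul_le_mul hQ h10
  omega

theorem th_two_mul (q l : ℕ) : th q (2 * l) = th q l * (1 + q ^ l) := by
  rw [mul_comm 2 l, th_mul_th]
  congr 1
  simp [th, Finset.sum_range_succ]

/-- the nodes which are small enough -/
theorem small {l k : ℕ} (hl : 3 ≤ l) (h1 : 2 ≤ k) (h2 : k ≤ l) (h : l.choose k * 2 ^ k ≤ 4 * l + 1) :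
    l = 3 ∨ (l = 4 ∧ k = 4) := by
  rcases Nat.lt_or_ge l 4 with h3 | h3
  · left; omega
  right
  rcases Nat.lt_or_eq_of_le h2 with h4 | h4
  · exfalso
    rcases Nat.lt_or_ge k 3 with h5 | h5
    · obtain rfl : k = 2 := by omega
      rw [Nat.choose_two_right] at h
      have h6 : 2 * (l * (l - 1) / 2) = l * (l - 1) := Nat.mul_div_cancel' (Nat.even_mul_pred_self l).two_dvd
      have h7 : l * 3 ≤ l * (l - 1) := Nat.mul_le_mul_left _ (by omega)
      omega
    · have h6 := H948.Ppd.TypeB.le_choose (by omega : 1 ≤ k) h4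
      have h7 : 2 ^ 3 ≤ 2 ^ k := Nat.pow_le_pow_right (by norm_num) h5
      have h8 : l * 2 ^ 3 ≤ l.choose k * 2 ^ k := Nat.mul_le_mul h6 h7
      omega
  · subst h4
    rw [Nat.choose_self, one_mul] at h
    refine ⟨?_, ?_⟩ <;>
    · by_contra h5
      have h6 : ∀ t : ℕ, 5 ≤ t → 4 * t + 1 < 2 ^ t := by
        intro t ht
        induction t, ht using Nat.le_induction with
        | base => norm_num
        | succ t ht ih => rw [pow_succ]; omega
      have := h6 k (by omega)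
      omega

/-! ### lists -/

theorem n01 : (([[], [0], [1], [0, 1], [1, 0], [1, 2], [0, 1, 0], [0, 1, 2], [1, 0, 2], [1, 2, 1], [0, 1, 0, 2],
    [0, 1, 2, 1], [1, 0, 2, 1], [1, 2, 1, 0]] : List (List (Fin 3))).map
    fun ω => (cf (A 3) 0 ω, cf (A 3) 1 ω)).Nodup := by decide +kernel

theorem n02 : (([[], [0], [2], [0, 1], [0, 2], [2, 1], [0, 1, 2], [0, 2, 1], [2, 1, 0], [2, 1, 2], [0, 1, 2, 1],
    [0, 2, 1, 0], [0, 2, 1, 2], [2, 1, 0, 2]] : List (List (Fin 3))).map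
    fun ω => (cf (A 3) 0 ω, cf (A 3) 2 ω)).Nodup := by decide +kernel

theorem n12 : (([[], [1], [2], [1, 0], [1, 2], [2, 1], [1, 0, 2], [1, 2, 1], [2, 1, 0], [2, 1, 2], [1, 0, 2, 1],
    [1, 2, 1, 0], [1, 2, 1, 2], [2, 1, 0, 2]] : List (List (Fin 3))).map
    fun ω => (cf (A 3) 1 ω, cf (A 3) 2 ω)).Nodup := by decide +kernel

theorem n03 : (([[], [0], [3], [0, 1], [0, 3], [3, 2], [0, 1, 2], [0, 1, 3], [0, 3, 2], [3, 2, 1], [3, 2, 3],
    [0, 1, 2, 3], [0, 1, 3, 2], [0, 3, 2, 1], [0, 3, 2, 3], [3, 2, 1, 0], [3, 2, 1, 3], [0, 1, 2, 3, 2]] :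
    List (List (Fin 4))).map fun ω => (cf (A 4) 0 ω, cf (A 4) 3 ω)).Nodup := by decide +kernel

/-! ### root groups -/

/-- the order of the root group of a node -/
theorem card_nd {I W Y : Type*} [Fintype I] [DecidableEq I] [Group W] [Group Y] {M : CoxeterMatrix I}
    {cs : CoxeterSystem M W} {A : I → I → ℤ} {h : IsCartan M A} {p : ℕ} {T : Subgroup Y} {n : I → Y}
    {X : (I → ℤ) → Subgroup Y} [Finite W] (R : RGD cs h p T n X) {E : Type*} [Field E] {i : I} {σ : SL(2, E) →* Y}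
    (N : Nd T X i σ) : Nat.card (X (sr i)) = Nat.card E := by
  have N' : H948.Ppd.Nd T X i σ := ⟨N.up, N.lo, N.tor⟩
  refine (Nat.card_congr (Equiv.ofBijective (fun t : E => (⟨σ (H911.SLTwo.U t), (N.up _).2 ⟨t, rfl⟩⟩ : X (sr i)))
    ⟨fun a b e => N'.U_inj R (congrArg Subtype.val e), ?_⟩)).symm
  rintro ⟨x, hx⟩
  obtain ⟨t, rfl⟩ := (N.up x).1 hx
  exact ⟨t, rfl⟩

section

variable {l : ℕ} {W Y : Type*} [Group W] [Group Y] {cs : CoxeterSystem (CoxeterMatrix.B l) W} {p : ℕ}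
  {T : Subgroup Y} {nn : Fin l → Y} {X : (Fin l → ℤ) → Subgroup Y}
  {n m : ℕ} {F : Type u} [Field F] [Finite F] {P : Subgroup (GL (Fin n) F)} {K : Type*} [Field K] [Finite K]

/-- **Type `B_l`, the borderline case.** -/
theorem bord_B [Finite Y] [Finite W] [hp : Fact p.Prime] [hFp : CharP F p] [hKp : CharP K p] (h : Tc m P)
    (R : RGD cs (isCartan l) p T nn X) (hG : GG cs (isCartan l) T X = ⊤) (hT : ∀ s ∈ T, ∀ t ∈ T, s * t = t * s)
    {φ : Y →* GL (Fin n) F} (hφ : φ.range = P) (hN : ∀ i, ∃ σ : SL(2, K) →* Y, Nd T X i σ) (hl : 2 ≤ l)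
    {j : ℕ} (hj : 1 ≤ j) (hK : Nat.card K = Nat.card F ^ j) (hm : Nat.card F ^ m = Nat.card K ^ (2 * l)) :
    j = 1 ∧ ((l = 3 ∧ n = 13 ∧ ∀ i, i ∉ Jx cs (isCartan l) X (lin (acRep φ)) ↔ (i : ℕ) = 1) ∨
      (l = 4 ∧ (n = 16 ∨ n = 17) ∧ (∀ i, i ∉ Jx cs (isCartan l) X (lin (acRep φ)) ↔ (i : ℕ) = 3) ∧
        ∀ i : Fin l, (i : ℕ) = 3 →
          Module.finrank (AlgebraicClosure F) (Le cs (isCartan l) T X (lin (acRep φ)) {i}) = 2)) := by
  have hC := h.core
  have hP := hC.absIrred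
  have hne : Nonempty (Fin n) := hC.nonempty
  have hchar : CharP (AlgebraicClosure F) p := charP_of_injective_algebraMap (algebraMap F _).injective p
  have hirr := ac_irr R hG hT hφ hP
  have hD := finrank_D R hirr hT
  have hV : Module.finrank (AlgebraicClosure F) (Fin n → AlgebraicClosure F) = n := by
    rw [Module.finrank_fintype_fun_eq_card, Fintype.card_fin]
  have hQ : 2 ≤ Nat.card F := Finite.one_lt_card
  have hmj : m = j * (2 * l) := by
    rw [hK, ← pow_mul] at hm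
    exact Nat.pow_right_injective hQ hm
  have h6 := h.six
  have h13 := h.ge
  have hlo := h.lo
  have hhi := h.hi
  have hn : n ≤ 4 * (l * j) + 1 := by
    have : 2 * m = 4 * (l * j) := by rw [hmj]; ring
    omega
  have hX : ∀ i, Nat.card (X (sr i)) = Nat.card F ^ j := fun i => by
    obtain ⟨σ, N⟩ := hN i
    rw [card_nd R N, hK]
  obtain ⟨⟨s, -, hs⟩, -, -⟩ := h.big R hG hT hφ
  rw [hmj] at hs
  set J := Jx cs (isCartan l) X (lin (acRep φ)) with hJ
  set q := Nat.card F ^ j with hq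
  have hedge : ∀ i, i ∉ J →
      2 ^ j ≤ Module.finrank (AlgebraicClosure F) (Le cs (isCartan l) T X (lin (acRep φ)) {i}) := by
    intro i hi
    have := Fintype.ofFinite K
    obtain ⟨σ, hσ⟩ := hN i
    obtain ⟨d, hd, h1⟩ := edge_pow_of_card R hG hT hφ hP hσ hi hK
    rw [h1]
    exact Nat.pow_le_pow_left hd j
  have h2j := two_mul_le_two_pow hj
  have hIo : ∀ i, i ∉ J →
      2 * j ≤ Module.finrank (AlgebraicClosure F) (Io cs (isCartan l) T X (lin (acRep φ)) i) + 2 := by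
    intro i hi
    have h2 := finrank_Io R hirr (ρ := lin (acRep φ)) i
    have h3 := hedge i hi
    rw [hD] at h2
    omega
  -- the size of a node
  have hc : ∀ i, i ∉ J → l.choose (i + 1) * 2 ^ ((i : ℕ) + 1) ≤ 4 * l + 1 := by
    intro i hi
    have h1 := H948.Ppd.TypeB.choose_mul_Le_le R hirr hi
    rw [hV] at h1
    have h2 := Nat.mul_le_mul_left (l.choose (i + 1) * 2 ^ ((i : ℕ) + 1)) (h2j.trans (hedge i hi))
    by_contra h3
    have h4 : (4 * l + 2) * (2 * j) ≤ l.choose (i + 1) * 2 ^ ((i : ℕ) + 1) * (2 * j) :=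
      Nat.mul_le_mul_right _ (by omega)
    have h5 : (4 * l + 2) * (2 * j) = 8 * (l * j) + 4 * j := by ring
    omega
  -- one node
  have hone : ∀ i : Fin l, (∀ k, k ∉ J ↔ k = i) →
      (PJ cs (isCartan l) T X J).index * ∏ t ∈ Finset.range (i + 1), gs q (t + 1) =
      ∏ t ∈ Finset.range (i + 1), gs q (l - (i + 1) + t + 1) * (1 + q ^ (l - (i + 1) + t) * q) := by
    intro i hi
    have e : J = {k : Fin l | (k : ℕ) + 1 ≠ i + 1} := by
      ext k
      have h1 := hi k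
      rw [Fin.ext_iff] at h1
      change _ ↔ (k : ℕ) + 1 ≠ i + 1
      constructor
      · intro h2 h3
        exact h1.2 (by omega) h2
      · intro h2
        by_contra h3
        exact h2 (by rw [h1.1 h3])
    rw [e]
    exact index_B R hG (fun k _ => hX k) (fun k _ => hX k) (by omega) i.2
  have hq1 : 0 < q := by positivity
  have hfirst : ∀ i : Fin l, (i : ℕ) = 0 → ¬ ∀ k, k ∉ J ↔ k = i := by
    intro i h0 hi
    have h1 := hone i hi
    rw [h0] at h1
    simp only [zero_add, Finset.prod_range_one, add_zero] at h1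
    rw [show l - 1 + 1 = l by omega, ← pow_succ, show l - 1 + 1 = l by omega, gs_eq, gs_eq, ← th_two_mul,
      show th q 1 = 1 by simp [th], mul_one] at h1
    exact not_nat hp.out.pos hj (by omega) hs h1
  obtain ⟨i, hi⟩ := exists_not_mem R hirr (by rw [hD, hV]; omega)
  rcases Nat.lt_or_ge l 3 with hl3 | hl3
  · exfalso
    obtain rfl : l = 2 := by omega
    by_cases h0 : (0 : Fin 2) ∈ J
    · have hi1 : ∀ k, k ∉ J ↔ k = 1 := by
        have : i = 1 := by
          fin_cases i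
          · exact absurd h0 hi
          · rfl
        subst this
        intro k
        fin_cases k
        · exact iff_of_false (fun h1 => h1 h0) (by decide)
        · exact iff_of_true hi rfl
      have h1 := hone 1 hi1
      simp only [Fin.val_one, Finset.prod_range_succ, Finset.prod_range_zero, gs_eq] at h1
      refine not_nat hp.out.pos hj (by omega) hs (Nat.eq_of_mul_eq_mul_right (th_pos q (show 0 < 2 by omega)) ?_)
      simp only [th, Finset.sum_range_succ, Finset.sum_range_zero] at h1 ⊢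
      linear_combination h1
    · by_cases h1 : (1 : Fin 2) ∈ J
      · refine hfirst 0 rfl fun k => ?_
        fin_cases k
        · exact iff_of_true h0 rfl
        · exact iff_of_false (fun h2 => h2 h1) (by decide)
      · have e : J = ∅ := by
          ext k
          fin_cases k
          · exact iff_of_false h0 id
          · exact iff_of_false h1 id
        have h2 := card_top_B R hG (fun k _ => hX k) (fun k _ => hX k) (by omega)
        rw [← (RGD.B cs (isCartan 2) T X).index_mul_card] at h2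
        have h3 := Nat.eq_of_mul_eq_mul_right Nat.card_pos h2
        rw [e, H35.Poin.PJ_empty] at hs
        have h4 : j = 1 := by
          refine j_one (e := 1) hQ hj (by omega) hs ?_
          rw [h3]
          simp only [Finset.prod_range_succ, Finset.prod_range_zero, gs_eq, th, Finset.sum_range_succ,
            Finset.sum_range_zero, ← hq]
          ring
        omega
  -- `l ≥ 3`
  have hj0 : ∀ k : Fin l, (k : ℕ) = 0 → k ∉ J → j = 1 := by
    intro k h0 hk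
    have h1 := H948.Ppd.TypeB.dim_ge_first R hirr (by omega) h0 hk
    rw [hD, hV, mul_one] at h1
    have h2 := hIo k hk
    by_contra h3
    have h4 : 2 * l * 2 * j ≤ 2 * l * (l - 1) *
        Module.finrank (AlgebraicClosure F) (Io cs (isCartan l) T X (lin (acRep φ)) k) :=
      Nat.mul_le_mul (Nat.mul_le_mul_left _ (by omega)) (by omega)
    have h5 : 2 * l * 2 * j = 4 * (l * j) := by ring
    omega
  have hlast : ∀ k : Fin l, (k : ℕ) + 1 = l → k ∉ J → 2 ^ l + l * 2 ^ (l - 1) *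
      Module.finrank (AlgebraicClosure F) (Io cs (isCartan l) T X (lin (acRep φ)) k) ≤ n := by
    intro k h0 hk
    have h1 := H948.Ppd.TypeB.dim_ge_last R hirr h0 hk
    rwa [hD, hV, mul_one] at h1
  have htwo : ∀ (a b : Fin l) (L : List (List (Fin l))), a ∉ J → b ∉ J → a ≠ b →
      (L.map fun ω => (cf (A l) a ω, cf (A l) b ω)).Nodup → L.length ≤ n := by
    intro a b L ha hb hab hL
    have h1 := dim_ge_list_two R hirr ha hb hab L [] [] hL List.nodup_nil List.nodup_nil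
    rw [hD, hV] at h1
    simpa using h1
  have hsm : ∀ k : Fin l, k ∉ J → (k : ℕ) = 0 ∨ l = 3 ∨ (l = 4 ∧ (k : ℕ) = 3) := by
    intro k hk
    rcases Nat.eq_zero_or_pos k with h0 | h0
    · exact Or.inl h0
    · have h1 := small hl3 (k := k + 1) (by omega) k.2 (hc k hk)
      omega
  by_cases hl3' : l = 3
  · subst hl3'
    have hj2 : (2 : Fin 3) ∉ J → j = 1 := fun hk => by
      have h1 := hlast 2 rfl hk
      have h2 := hIo 2 hk
      norm_num at h1
      omega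
    have h01 : (0 : Fin 3) ∈ J ∨ (1 : Fin 3) ∈ J := by
      by_contra h1
      push Not at h1
      have h2 := htwo 0 1 _ h1.1 h1.2 (by decide) n01
      have h3 := hj0 0 rfl h1.1
      simp only [List.length_cons, List.length_nil] at h2
      omega
    have h02 : (0 : Fin 3) ∈ J ∨ (2 : Fin 3) ∈ J := by
      by_contra h1
      push Not at h1
      have h2 := htwo 0 2 _ h1.1 h1.2 (by decide) n02
      have h3 := hj0 0 rfl h1.1
      simp only [List.length_cons, List.length_nil] at h2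
      omega
    have h12 : (1 : Fin 3) ∈ J ∨ (2 : Fin 3) ∈ J := by
      by_contra h1
      push Not at h1
      have h2 := htwo 1 2 _ h1.1 h1.2 (by decide) n12
      have h3 := hj2 h1.2
      simp only [List.length_cons, List.length_nil] at h2
      omega
    have hik : ∀ k, k ∉ J ↔ k = i := by
      intro k
      refine ⟨fun hk => ?_, fun e => e ▸ hi⟩
      fin_cases i <;> fin_cases k <;> first | rfl | (exfalso; simp only [_root_.Fin.zero_eta, _root_.Fin.isValue, _root_.Fin.mk_one, _root_.Fin.reduceFinMk] at hi hk; (clear * - h01 hi hk h02 h12; tauto))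
    have h1 := hone i hik
    fin_cases i
    · exact absurd hik (hfirst _ rfl)
    · have h2 : j = 1 := by
        refine j_one (e := 2) hQ hj (by omega) hs (Nat.eq_of_mul_eq_mul_right (th_pos q (show 0 < 2 by omega)) ?_)
        simp only [Finset.prod_range_succ, Finset.prod_range_zero, gs_eq, th, Finset.sum_range_succ,
          Finset.sum_range_zero, ← hq] at h1 ⊢
        linear_combination h1
      refine ⟨h2, Or.inl ⟨rfl, by omega, fun k => ?_⟩⟩
      rw [hik, Fin.ext_iff]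
    · exfalso
      have h2 : (PJ cs (isCartan 3) T X J).index = (1 + q + q ^ 2 + q ^ 3) * (1 + q ^ 3) := by
        refine Nat.eq_of_mul_eq_mul_right (Nat.mul_pos (th_pos q (show 0 < 2 by omega)) (th_pos q (show 0 < 3 by omega))) ?_
        simp only [Finset.prod_range_succ, Finset.prod_range_zero, gs_eq, th, Finset.sum_range_succ,
          Finset.sum_range_zero] at h1 ⊢
        linear_combination h1
      rw [th_mul_th, ← hq, th_two_mul, h2, ← mul_assoc, ← mul_assoc] at hs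
      have h3 := Nat.eq_of_mul_eq_mul_right (show 0 < 1 + q ^ 3 by positivity) hs
      have h4 : th q 3 = 1 + q + q ^ 2 := by simp [th, Finset.sum_range_succ]
      have h5 : th q 3 ∣ q ^ 3 := by
        have h7 : th q 3 ∣ th q 3 + q ^ 3 := by
          rw [h4, h3, h4]
          exact Dvd.intro_left _ rfl
        exact (Nat.dvd_add_right dvd_rfl).1 h7
      have h7 : th q 3 = 1 := ((th_coprime q 2).pow_right 3).eq_one_of_dvd h5
      omega
  · have hik : ∀ k, k ∉ J ↔ k = i := by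
      intro k
      refine ⟨fun hk => ?_, fun e => e ▸ hi⟩
      by_contra hki
      have hki' : (k : ℕ) ≠ i := fun e => hki (Fin.ext e)
      have h1 := hsm k hk
      have h2 := hsm i hi
      obtain rfl : l = 4 := by (clear * - hl3' hki' h1 h2; omega)
      have h0 : (0 : Fin 4) ∉ J ∧ (3 : Fin 4) ∉ J := by
        rcases Nat.eq_zero_or_pos k with h3 | h3
        · exact ⟨(Fin.ext h3 : k = 0) ▸ hk, (Fin.ext (by change _ = 3; omega) : i = 3) ▸ hi⟩
        · exact ⟨(Fin.ext (by change _ = 0; omega) : i = 0) ▸ hi, (Fin.ext (by change _ = 3; omega) : k = 3) ▸ hk⟩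
      have h3 := htwo 0 3 _ h0.1 h0.2 (by decide) n03
      have h4 := hj0 0 rfl h0.1
      simp only [List.length_cons, List.length_nil] at h3
      omega
    have h2 := hsm i hi
    have h3 : (i : ℕ) ≠ 0 := fun e => hfirst i e hik
    obtain rfl : l = 4 := by omega
    obtain rfl : i = 3 := Fin.ext (by change _ = 3; omega)
    have h4 := hlast 3 rfl hi
    have h5 := hIo 3 hi
    have h7 := hedge 3 hi
    have h8 := finrank_Io R hirr (ρ := lin (acRep φ)) 3
    rw [hD] at h8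
    norm_num at h4
    have h9 : j = 1 := by omega
    subst h9
    refine ⟨rfl, Or.inr ⟨rfl, by omega, fun k => ?_, fun k hk => ?_⟩⟩
    · rw [hik, Fin.ext_iff]
      rfl
    · obtain rfl : k = 3 := Fin.ext hk
      omega

end

end Cfsg.Agent.SM.Ti.BC
end

-- part: SM/Ti/BC/Spin
section
/-!
# S3570, tight cores: the spin module of type `B_4` (helper35)

* `fr8_four` : type `B_4`, `J^c = {3}`, `dim V ≤ 16` : a frame of vertices;
* `fixQ_of_fr8` : a frame of vertices, `p = 2` : an invariant symplectic form gives an invariant quadratic form;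
* **`fixQ_spin`**.
-/

set_option autoImplicit false
set_option linter.unusedSectionVars false
set_option linter.style.haveILetI false
set_option linter.style.longLine false

namespace Cfsg.Agent.SM.Ti.BC

open CoxeterSystem Cfsg.Agent.ChevalleyStructure.CoxeterGeom Cfsg.Agent.Tits.Roots Cfsg.Agent.Tits.Core
  Cfsg.Agent.Tits.Exchange Cfsg.Agent.Nodes.Reps Cfsg.Agent.Nodes.BNOf Cfsg.Agent.Nodes.StabComb
  Cfsg.Agent.Nodes.Bruhat Cfsg.Agent.Nodes.OppDec Cfsg.Agent.Nodes.LeviDec Cfsg.Agent.KFacts.RgdOpp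
  Cfsg.Agent.Omega.CR Cfsg.Agent.Omega.FOne.Lift.Sd Cfsg.Agent.H905.Md Cfsg.Agent.H905 Cfsg.Agent.H924.D5
open Cfsg.Agent.Nodes.TypeC (A isCartan)
open Cfsg.Agent.H156.Ppd (lrep)
open Cfsg.Agent.H911 (lin)
open Cfsg Cfsg.Geo Matrix

universe u

/-! ### lists -/

/-- the vertices -/
def l16 : List (List (Fin 4)) := [[], [3], [2, 3], [1, 2, 3], [3, 2, 3], [0, 1, 2, 3], [3, 1, 2, 3], [3, 0, 1, 2, 3], [2, 3, 1, 2, 3], [2, 3, 0, 1, 2, 3], [3, 2, 3, 1, 2, 3], [1, 2, 3, 0, 1, 2, 3], [3, 2, 3, 0, 1, 2, 3], [3, 1, 2, 3, 0, 1, 2, 3], [2, 3, 1, 2, 3, 0, 1, 2, 3], [3, 2, 3, 1, 2, 3, 0, 1, 2, 3]]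

/-- the roots -/
def rl : List (List (Fin 4) × Fin 4) := [([], 0), ([], 1), ([], 2), ([], 3), ([0], 0), ([1], 0), ([1], 1), ([2], 1), ([2], 2), ([3], 2), ([2], 3), ([3], 3), ([1, 0], 0), ([2, 1], 0), ([2, 1], 1), ([3, 2], 1), ([3, 2], 2), ([1, 2], 3), ([2, 3], 3), ([2, 1, 0], 0), ([3, 2, 1], 0), ([3, 2, 1], 1), ([2, 3, 2], 1), ([0, 1, 2], 3), ([1, 2, 3], 3), ([3, 2, 1, 0], 0), ([2, 3, 2, 1], 0), ([2, 3, 2, 1], 1), ([0, 1, 2, 3], 3), ([2, 3, 2, 1, 0], 0), ([1, 2, 3, 2, 1], 0), ([1, 2, 3, 2, 1, 0], 0)]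

/-- the vector of a root word -/
def rv (q : List (Fin 4) × Fin 4) : Fin 4 → ℤ := rww (A 4) q.1 (Pi.single q.2 1)

/-- the root `e₃ + e₄` -/
def gm : Fin 4 → ℤ := rww (A 4) [3] (Pi.single 2 1)

/-- the root `2 e₁` -/
def z1 : Fin 4 → ℤ := ![2, 2, 2, 1]

/-- the root `2 e₂` -/
def z2 : Fin 4 → ℤ := ![0, 2, 2, 1]

theorem nl16 : (l16.map (lbw (A 4) 3)).Nodup := by decide +kernel

theorem cl16 : ∀ j, ∀ ω ∈ l16, ∃ ω' ∈ l16, DC.fire (A 4) (lbw (A 4) 3 ω) j = lbw (A 4) 3 ω' := by decide +kernel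

theorem crl : ∀ j, ∀ q ∈ rl, ∃ q' ∈ rl, rf (A 4) j (rv q) = rv q' := by decide +kernel

theorem rl0 : ∀ i, ∃ q ∈ rl, (Pi.single i 1 : Fin 4 → ℤ) = rv q := by decide +kernel

theorem w0four : ∀ m : Fin 4, rww (A 4) [0, 1, 2, 3, 0, 1, 2, 3, 0, 1, 2, 3, 0, 1, 2, 3] (Pi.single m 1) = -(Pi.single m 1) := by
  decide +kernel

theorem move : ∀ q ∈ rl, (∀ l, 0 ≤ rv q l) → 0 < rv q 3 →
    ∃ ω ∈ [[], [2], [1], [1, 2], [0, 1], [2, 1], [0, 1, 2], [2, 0, 1], [1, 2, 0, 1]], (∀ j ∈ ω, j ≠ 3) ∧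
      (rww (A 4) ω.reverse (rv q) = Pi.single 3 1 ∨ rww (A 4) ω.reverse (rv q) = gm) := by decide +kernel

theorem gam : gm 0 = 0 ∧ gm 1 = 0 ∧ (∀ l, 0 ≤ gm l) ∧ lbw (A 4) 3 [3, 2, 3] ≠ Pi.single 3 1 := by decide +kernel

theorem lab : ∀ ω ∈ l16, pr (lbw (A 4) 3 ω) (-gm) ≤ 0 ∨ lbw (A 4) 3 ω = lbw (A 4) 3 [3, 2, 3] ∨
    pr (lbw (A 4) 3 ω) z1 ≠ 1 ∨ pr (lbw (A 4) 3 ω) z2 ≠ 1 := by decide +kernel

theorem zfix : ∀ j : Fin 4, j ≠ 0 → j ≠ 1 → rf (A 4) j z1 = z1 ∧ rf (A 4) j z2 = z2 := by decide +kernel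

theorem mem_rl {W : Type*} [Group W] {cs : CoxeterSystem (CoxeterMatrix.B 4) W} {x : Fin 4 → ℤ}
    (hx : IsRoot cs (isCartan 4) x) : ∃ q ∈ rl, x = rv q := by
  have h1 := root_of_closed (cs := cs) (h := isCartan 4) (rl.map rv) (fun i => by
    obtain ⟨q, hq, e⟩ := rl0 i
    rw [e]
    exact List.mem_map_of_mem hq) (fun j x hx => by
    obtain ⟨q, hq, rfl⟩ := List.mem_map.1 hx
    obtain ⟨q', hq', e⟩ := crl j q hq
    rw [e]
    exact List.mem_map_of_mem hq') hx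
  obtain ⟨q, hq, e⟩ := List.mem_map.1 h1
  exact ⟨q, hq, e.symm⟩

theorem orb16 {W : Type*} [Group W] {cs : CoxeterSystem (CoxeterMatrix.B 4) W} (w : W) :
    ∃ ω ∈ l16, lb cs (isCartan 4) 3 w = lbw (A 4) 3 ω :=
  orbit_of_closed (cs := cs) (h := isCartan 4) 3 l16 ⟨[], by decide, rfl⟩ cl16 w

theorem face_fix {W : Type*} [Group W] {cs : CoxeterSystem (CoxeterMatrix.B 4) W} {u : W}
    (hu : u ∈ WJ cs ({j | j ≠ 0 ∧ j ≠ 1} : Set (Fin 4))) :
    rep cs (isCartan 4) u z1 = z1 ∧ rep cs (isCartan 4) u z2 = z2 :=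
  ⟨rep_fix_of_mem (fun j hj => by rw [rep_simple_rf]; exact (zfix j hj.1 hj.2).1) hu,
    rep_fix_of_mem (fun j hj => by rw [rep_simple_rf]; exact (zfix j hj.1 hj.2).2) hu⟩

theorem not_opp {W : Type*} [Group W] {cs : CoxeterSystem (CoxeterMatrix.B 4) W} (w : W) {u : W}
    (hu : u ∈ WJ cs ({j | j ≠ 0 ∧ j ≠ 1} : Set (Fin 4))) :
    lb cs (isCartan 4) 3 (w * u) ≠ -lb cs (isCartan 4) 3 w := by
  intro he
  have h1 := lb_eq_neg he z1
  rw [_root_.mul_inv_rev, inv_mul_cancel_right, (face_fix (inv_mem hu)).1] at h1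
  revert h1
  decide

section frame

variable {W Y : Type*} [Group W] [Group Y] {cs : CoxeterSystem (CoxeterMatrix.B 4) W} {p : ℕ} {T : Subgroup Y}
  {n : Fin 4 → Y} {X : (Fin 4 → ℤ) → Subgroup Y} {k V : Type*} [Field k] [AddCommGroup V] [Module k V]

variable (R : RGD cs (isCartan 4) p T n X) [Finite Y] [Finite W] [Fact p.Prime] [CharP k p]
  {ρ : Y →* Module.End k V} [FiniteDimensional k V]
  (hirr : ∀ L : Submodule k V, Ivt ρ (GG cs (isCartan 4) T X) L → L = ⊥ ∨ L = ⊤)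
include R hirr

/-- **The frame of the spin module.** -/
theorem fr8_four [Nontrivial V] (hJ : ∀ j, j ∉ Jx cs (isCartan 4) X ρ ↔ j = 3) (hV : Module.finrank k V ≤ 16) :
    Fr8 R ρ 3 := by
  have hi : (3 : Fin 4) ∉ Jx cs (isCartan 4) X ρ := (hJ 3).2 rfl
  have hD : 0 < Module.finrank k (D cs (isCartan 4) X ρ) :=
    Module.finrank_pos_iff.2 ((Submodule.nontrivial_iff_ne_bot).2 (simp_fx R ρ hirr).ne)
  have h16 := H948.Ppd.TypeB.dim_ge_last R hirr (i := 3) rfl hi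
  have hIo := finrank_Io R hirr (ρ := ρ) 3
  norm_num at h16
  have hd : Module.finrank k (D cs (isCartan 4) X ρ) = 1 := by omega
  have hLe : Module.finrank k (Le cs (isCartan 4) T X ρ {3}) ≤ 2 * Module.finrank k (D cs (isCartan 4) X ρ) := by omega
  have hK : Kv cs (isCartan 4) R.nsys X ρ = ⊥ := by
    have h2 := Kv_bound R hirr [3] (by simpa using hi) l16 (by
      rw [show (fun ω => List.map (fun i => lbw (A 4) i ω) [(3 : Fin 4)]) = (fun x => [x]) ∘ lbw (A 4) 3 from rfl,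
        ← List.map_map]
      exact nl16.map fun a b hab => by simpa using hab)
    rw [hd, show l16.length = 16 from rfl] at h2
    exact Submodule.finrank_eq_zero.1 (by omega)
  obtain ⟨γ0, γ1, γpos, γ2⟩ := gam
  have hs3 : cs.simple 3 ∈ WJ cs ({j | j ≠ 0 ∧ j ≠ 1} : Set (Fin 4)) := by
    rw [← cs.wordProd_singleton]
    exact word_mem_WJ (by decide)
  refine ⟨hJ, hK, hd, hLe, ?_, ⟨_, neg_of_words _ w0four⟩, ?_⟩
  · intro w g hg x hx b hb v hv
    have hyr : IsRoot cs (isCartan 4) (rep cs (isCartan 4) w⁻¹ x) := hx.act _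
    rcases le_or_gt 0 (pr (lb cs (isCartan 4) 3 w) x) with h0 | h0
    · refine ⟨w, g, hg, ?_, ?_⟩
      · have h1 := not_opp (cs := cs) w (one_mem _)
        rwa [mul_one] at h1
      · rw [fixv R hirr hJ hg hx h0 hb hv]
        exact Submodule.mem_sup_left hv
    · rw [← rep_inv_coord'] at h0
      have hny : 0 < (-rep cs (isCartan 4) w⁻¹ x) 3 := by rw [Pi.neg_apply]; omega
      have hny0 : (0 : Fin 4 → ℤ) ≤ -rep cs (isCartan 4) w⁻¹ x := nonneg_of_pos_apply hyr.neg hny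
      obtain ⟨q, hq, e⟩ := mem_rl hyr.neg
      rw [e] at hny hny0
      obtain ⟨ω, -, hωJ, hω⟩ := move q hq hny0 hny
      rw [← e, ← rep_wordProd_inv (cs := cs) (h := isCartan 4), map_neg] at hω
      have hu : cs.wordProd ω ∈ WJ cs (Jx cs (isCartan 4) X ρ) := word_mem_WJ fun j hj => by
        by_contra hj'
        rw [hJ] at hj'
        exact hωJ j hj hj'
      obtain ⟨a, ha⟩ := exists_rp cs R.nsys (cs.wordProd ω)
      set w1 := w * cs.wordProd ω with hw1
      have hg1 : Rp cs R.nsys w1 (g * a) := hg.mul ha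
      have hlb1 : lb cs (isCartan 4) 3 w = lb cs (isCartan 4) 3 w1 :=
        (mem_WJ_iff_lb hJ).1 (by rw [hw1, inv_mul_cancel_left]; exact hu)
      have hV1 := map_eq_of_lb R hirr hJ hg hg1 hlb1
      rw [hV1] at hv ⊢
      have hx1 : rep cs (isCartan 4) w1⁻¹ x = rep cs (isCartan 4) (cs.wordProd ω)⁻¹ (rep cs (isCartan 4) w⁻¹ x) := by
        rw [hw1, _root_.mul_inv_rev, rep_mul_apply]
      rw [← hx1] at hω
      rcases hω with hω | hω
      · have hx2 : rep cs (isCartan 4) w1⁻¹ x = -sr 3 := by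
          change -rep cs (isCartan 4) w1⁻¹ x = sr 3 at hω
          rw [← hω, neg_neg]
        refine ⟨w1 * cs.simple 3, g * a * n 3, hg1.mul (rp_simple cs R.nsys 3), ?_, ?_⟩
        · rw [hlb1]
          exact not_opp w1 hs3
        · obtain ⟨v, hv, rfl⟩ := hv
          exact edge_move R hirr hi hLe hg1 hx hx2 hb hv
      · have hx2 : rep cs (isCartan 4) w1⁻¹ x = -gm := by
          rw [← hω, neg_neg]
        obtain ⟨c, hc⟩ := exists_rp cs R.nsys (cs.wordProd [3, 2, 3])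
        refine ⟨w1 * cs.wordProd [3, 2, 3], g * a * c, hg1.mul hc, ?_, ?_⟩
        · rw [hlb1]
          exact not_opp w1 (word_mem_WJ (by decide))
        · obtain ⟨v, hv, rfl⟩ := hv
          have h3 := R.conj_mem' hg1 hx hb
          rw [hx2] at h3
          set b' := (g * a)⁻¹ * b * (g * a) with hb'
          have hbe : ρ b (ρ (g * a) v) = ρ (g * a) (ρ b' v) := by
            rw [← rho_mul, ← rho_mul]
            congr 2
            rw [hb']
            group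
          have hγr : IsRoot cs (isCartan 4) gm := isRoot_word [3] 2
          have hγJ : gm ∈ PosJ cs (isCartan 4) ({j | j ≠ 0 ∧ j ≠ 1} : Set (Fin 4)) :=
            ⟨hγr, γpos, fun l hl => by
              by_cases hl0 : l = 0
              · rw [hl0]; exact γ0
              · by_cases hl1 : l = 1
                · rw [hl1]; exact γ1
                · exact absurd ⟨hl0, hl1⟩ hl⟩
          have hm : ρ b' v ∈ Le cs (isCartan 4) T X ρ {j | j ≠ 0 ∧ j ≠ 1} :=
            Ivt_Le R _ b' (X_le_LJ (RootsJ.neg (PosJ_subset _ hγJ)) h3) v (D_le_Le R _ hv)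
          have hv1 : v ∈ (D cs (isCartan 4) X ρ).map (ρ 1) := by rw [map_one]; exact ⟨v, hv, rfl⟩
          have key : ρ b' v ∈ (D cs (isCartan 4) X ρ).map (ρ 1) ⊔ (D cs (isCartan 4) X ρ).map (ρ c) := by
            refine mem_vertex2 R hirr hJ hK (rp_one (cs := cs) (hN := R.nsys)) hc ?_ ?_
            · rw [lb_one, lb_wordProd]
              exact γ2.symm
            · intro w' g' hg' hne1 hne2 φ hφ
              by_contra hφ0
              obtain ⟨ω', hω', he⟩ := orb16 (cs := cs) w'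
              rcases lab ω' hω' with h4 | h4 | h4
              · rw [fixd_apply R hirr hJ hg' hγr.neg (by rw [he]; exact h4) h3 hφ,
                  pair_zero R hirr hJ hg' (rp_one (cs := cs) (hN := R.nsys)) hne1 hφ hv1] at hφ0
                exact hφ0 rfl
              · exact hne2 (by rw [he, h4, lb_wordProd])
              · obtain ⟨ψ, hψ, rfl⟩ := hφ
                obtain ⟨u', hu', hu'J⟩ := vertex_face R hirr hg' hψ hm hφ0
                rw [← he, ← (mem_WJ_iff_lb hJ).1 hu'J, ← rep_inv_coord', ← rep_inv_coord',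
                  (face_fix (inv_mem hu')).1, (face_fix (inv_mem hu')).2] at h4
                revert h4
                decide
          rw [hbe]
          obtain ⟨α, hα, β, hβ, e2⟩ := Submodule.mem_sup.1 key
          rw [← e2, map_add]
          refine Submodule.add_mem_sup ?_ ?_
          · obtain ⟨α', hα', rfl⟩ := hα
            rw [rho_one]
            exact ⟨α', hα', rfl⟩
          · obtain ⟨β', hβ', rfl⟩ := hβ
            exact ⟨β', hβ', rho_mul ρ _ _ _⟩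
  · have h1 := not_opp (cs := cs) 1 hs3
    rwa [one_mul] at h1

end frame

section form

variable {F : Type u} [Field F] [Finite F] {ι : Type} [Fintype ι] [DecidableEq ι] {P : Subgroup (GL ι F)}
  [Fact (Nat.Prime 2)] [CharP F 2] {Y : Type*} [Group Y] [Finite Y] {φ : Y →* GL ι F}

/-- **A frame of vertices gives a quadratic form.** -/
theorem fixQ_of_fr8 (hφ : φ.range = P) {I W : Type*} [Fintype I] [DecidableEq I] [Group W] [Finite W]
    {M : CoxeterMatrix I} {cs : CoxeterSystem M W} {A : I → I → ℤ} {h : IsCartan M A} {T : Subgroup Y} {n : I → Y}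
    {X : (I → ℤ) → Subgroup Y} [Nonempty ι] {R : RGD cs h 2 T n X} (hG : GG cs h T X = ⊤)
    (hirr : ∀ L : Submodule F (ι → F), Ivt (lrep φ) (GG cs h T X) L → L = ⊥ ∨ L = ⊤)
    {i : I} (fr : Fr8 R (lrep φ) i) (L : List (List I)) (hL : (L.map (lbw A i)).Nodup)
    (hL' : ∀ w, ∃ ω ∈ L, lb cs h i w = lbw A i ω) (hA : H915.LD.FixA P) : H915.LD.FixQ P := by
  set ρ := lrep φ with hρ
  have hρa : ∀ y v, ρ y v = (φ y : Matrix ι ι F) *ᵥ v := fun y v => H69.Ppd.lrep_apply φ y v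
  have hP : ∀ y, φ y ∈ P := fun y => hφ ▸ ⟨y, rfl⟩
  obtain ⟨f, hf, hfP⟩ := hA
  have h2 : (2 : F) = 0 := by exact_mod_cast CharP.cast_eq_zero F 2
  choose g hg using fun w => exists_rp cs R.nsys w
  obtain ⟨b, hb⟩ := fr.exists_basis hirr L hL hL' hg
  obtain ⟨Q, hQ, hQb⟩ := H919.Q2.exists_qp_basis h2 hf b 0
  have hQv : ∀ w g', Rp cs R.nsys w g' → ∀ v ∈ (D cs h X ρ).map (ρ g'), Q v = 0 := by
    intro w g' hg' v hv
    obtain ⟨ω, hω, e⟩ := hL' w
    obtain ⟨a, ha⟩ := List.mem_iff_get.1 hω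
    rw [map_eq_of_lb R hirr fr.hJ hg' (hg (cs.wordProd (L.get a))) (by rw [e, ha, lb_wordProd])] at hv
    obtain ⟨r, hr⟩ := fr.exists_smul (hb a) (b.ne_zero a) hv
    rw [← hr, hQ.smul, hQb, Pi.zero_apply, mul_zero]
  let Lf : (ι → F) → Module.Dual F (ι → F) := fun v =>
    { toFun := fun w => f v w
      map_add' := fun x y => hf.bilinear.add_right v x y
      map_smul' := fun a x => hf.bilinear.smul_right a v x }
  have hLf : ∀ (g : Y) c v, Lf (ρ g c) (ρ g v) = Lf c v := by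
    intro g c v
    rw [hρa, hρa]
    exact hfP _ ⟨φ g, hP g, rfl⟩ c v
  have hstab : ∀ x : Y, (∀ a, Q (ρ x (b a)) = 0) → ∀ v, Q (ρ x v) = Q v := by
    intro x hx v
    have h3 : (fun v => Q ((φ x : Matrix ι ι F) *ᵥ v)) = Q := by
      apply H919.Q2.qp_ext_span (hQ.comp (fun v w => hfP _ ⟨φ x, hP x, rfl⟩ v w)) hQ (S := Set.range b) b.span_eq
      rintro _ ⟨a, rfl⟩
      have h4 := hx a
      rw [hρa] at h4
      change Q ((φ x : Matrix ι ι F) *ᵥ (b a)) = Q (b a)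
      rw [h4, hQb, Pi.zero_apply]
    rw [hρa]
    exact congrFun h3 v
  let K : Subgroup Y :=
    { carrier := {g | ∀ v, Q (ρ g v) = Q v}
      one_mem' := fun v => by rw [rho_one]
      mul_mem' := fun {a b} ha hb v => by rw [rho_mul, ha, hb]
      inv_mem' := fun {a} ha v => by rw [← ha (ρ a⁻¹ v), rho_rho_inv] }
  have hK : GG cs h T X ≤ K := by
    unfold GG
    refine sup_le ?_ (RGD.Sup_le fun x hx => ?_)
    · intro t ht
      refine hstab t fun a => ?_
      obtain ⟨c, hc, e⟩ := hb a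
      rw [← e, ← rho_mul]
      have h3 : Rp cs R.nsys (cs.wordProd (L.get a)) (t * g (cs.wordProd (L.get a))) := by
        have := (rp_of_mem (cs := cs) (hN := R.nsys) ht).mul (hg (cs.wordProd (L.get a)))
        rwa [one_mul] at this
      exact hQv _ _ h3 _ ⟨c, hc, rfl⟩
    · intro y hy
      refine hstab y fun a => ?_
      obtain ⟨w', g', hg', hne, hm⟩ := fr.mv _ _ (hg _) x hx y hy _ (hb a)
      obtain ⟨v1, hv1, v2, hv2, e⟩ := Submodule.mem_sup.1 hm
      rw [← e, hQ.add, hQv _ _ (hg _) v1 hv1, hQv _ _ hg' v2 hv2]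
      have h4 : Lf v1 v2 = 0 := fr.form_zero hirr hLf (hg _) hg' hne hv1 hv2
      change 0 + 0 + Lf v1 v2 = 0
      rw [h4]
      ring
  refine H919.Q2.fixQ_of hf hQ ?_
  intro x hx v
  rw [← hφ] at hx
  obtain ⟨y, rfl⟩ := hx
  have h5 : y ∈ K := hK (by rw [hG]; trivial)
  have h6 := h5 v
  rwa [hρa] at h6

/-- **The spin module of type `B_4` in characteristic two.** -/
theorem fixQ_spin (hC : H915.LD.Core P) (hφ : φ.range = P) {W : Type*} [Group W] [Finite W]
    {cs : CoxeterSystem (CoxeterMatrix.B 4) W} {T : Subgroup Y} {n : Fin 4 → Y} {X : (Fin 4 → ℤ) → Subgroup Y}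
    (R : RGD cs (isCartan 4) 2 T n X) (hG : GG cs (isCartan 4) T X = ⊤) (hT : ∀ s ∈ T, ∀ t ∈ T, s * t = t * s)
    (hJ : ∀ j, j ∉ Jx cs (isCartan 4) X (lin (acRep φ)) ↔ j = 3) (hι : Fintype.card ι ≤ 16) (hA : H915.LD.FixA P) :
    H915.LD.FixQ P := by
  have hne := hC.nonempty
  rw [H69.Ppd.Jx_eq R hG hT hφ hC.absIrred] at hJ
  have hirr := H69.Ppd.lrep_irr (T := T) (X := X) (h := isCartan 4) (cs := cs) hG hφ hC.absIrred
  exact fixQ_of_fr8 hφ hG hirr (fr8_four R hirr hJ (by rw [Module.finrank_fintype_fun_eq_card]; exact hι)) l16 nl16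
    orb16 hA

end form

end Cfsg.Agent.SM.Ti.BC
end

-- part: SM/Ti/G
section
/-!
# S3570, tight cores: the row `G₂` (helper30)

* `fourteen_full` : simple modules of `G₂(K)` with highest weight moved by both simple reflections have dimension at
  least 14 (the argument of `H927.G2.thirteen_full`, doubled by the longest element of the Weyl group);
* **`boxG`**.
-/

set_option autoImplicit false
set_option linter.unusedSectionVars false
set_option linter.style.haveILetI false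
set_option linter.unusedSimpArgs false
set_option maxHeartbeats 200000

namespace Cfsg.Agent.SM.Ti.G

section full

open Cfsg.Agent.H927.LD Cfsg.Agent.H927.G2
open Module Cfsg.Lie

variable {K : Type} [Field K] [Finite K]

/-- the longest element -/
noncomputable def g0 (K : Type) [Field K] : GK K :=
  n2 K 1 * (n2 K 0 * (n2 K 1 * (n2 K 0 * (n2 K 1 * n2 K 0))))

theorem a8_g0 (x : Fin 8 → K) : a8 K (g0 K) x = ![x 7, -x 4, -x 5, -x 6, -x 1, -x 2, -x 3, x 0] := by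
  simp only [g0, a8_mul, a8_n0, a8_n1]
  ext i
  (revert i; simp [_root_.Fin.forall_fin_succ])

theorem a8_g0_inv (x : Fin 8 → K) : a8 K (g0 K)⁻¹ x = a8 K (g0 K) x := by
  have h : a8 K (g0 K) (a8 K (g0 K) x) = x := by
    rw [a8_g0, a8_g0]
    ext i
    (revert i; simp only [_root_.Fin.forall_fin_succ, _root_.Nat.succ_eq_add_one, Nat.reduceAdd, Fin.isValue, _root_.Matrix.cons_val, _root_.neg_neg, _root_.Matrix.cons_val_one, _root_.Matrix.cons_val_zero, _root_.Matrix.cons_val_succ, _root_.Fin.succ_zero_eq_one, _root_.Fin.succ_one_eq_two, Fin.reduceSucc, _root_.Matrix.cons_val_fin_one, _root_.IsEmpty.forall_iff, _root_.and_self])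
  conv_lhs => rw [← h, ← a8_mul, inv_mul_cancel, map_one]
  rfl

theorem a8_E (a : Fin 12) : a8 K (g0 K) (E8 K (iw a)) = -E8 K (iw (a + 6)) := by
  rw [a8_g0]
  ext i
  (revert a i; simp only [E8, iw, _root_.Fin.forall_fin_succ, _root_.Nat.succ_eq_add_one, Nat.reduceAdd, Fin.isValue, _root_.Pi.neg_apply, _root_.Matrix.cons_val_zero, _root_.Matrix.cons_val_succ, _root_.Fin.succ_zero_eq_one, _root_.neg_inj, _root_.Fin.succ_one_eq_two, Fin.reduceSucc, _root_.Matrix.cons_val_fin_one, _root_.IsEmpty.forall_iff, _root_.and_true, _root_.ne_eq, Fin.reduceEq, _root_.not_false_eq_true, _root_.Pi.single_eq_of_ne, _root_.zero_add, _root_.Matrix.cons_val, Fin.reduceAdd, _root_.neg_zero, _root_.Pi.single_eq_same, _root_.and_self, _root_.zero_ne_one, _root_.Matrix.cons_val_one, _root_.zero_eq_neg])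

theorem a8_L (a : Fin 12) (x : Fin 8 → K) : a8 K (g0 K) x (iw a) = -x (iw (a + 6)) := by
  rw [a8_g0]
  (revert a; simp only [iw, _root_.Fin.forall_fin_succ, _root_.Nat.succ_eq_add_one, Nat.reduceAdd, Fin.isValue, _root_.Matrix.cons_val_zero, _root_.Matrix.cons_val, _root_.zero_add, _root_.Matrix.cons_val_succ, _root_.Fin.succ_zero_eq_one, Fin.reduceAdd, _root_.Matrix.cons_val_one, _root_.Fin.succ_one_eq_two, Fin.reduceSucc, _root_.Matrix.cons_val_fin_one, _root_.neg_inj, _root_.IsEmpty.forall_iff, _root_.and_self])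

theorem a14_e (a : Fin 12) : a14 K (g0 K) (e (rw_ a)) = -e (rw_ (a + 6)) := by
  have h : ∀ r : Fin 12, r = 11 ∨ r = 10 ∨ r = 6 ∨ r = 5 ∨ r = 1 ∨ r = 0 →
      a14 K (g0 K) (e (rv r)) = -e (rv (11 - r)) := by
    rintro r (rfl | rfl | rfl | rfl | rfl | rfl) <;>
    · simp only [g0, a14_mul, map_smul, NC0_11, NC0_10, NC0_5, NC0_0, NC0_1, NC0_6, NC1_11, NC1_10, NC1_5, NC1_0,
        NC1_1, NC1_6, one_smul, neg_smul, neg_neg, map_neg]
      rfl
  fin_cases a
  exacts [h 11 (by simp), h 11 (by simp), h 10 (by simp), h 6 (by simp), h 5 (by simp), h 1 (by simp), h 0 (by simp),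
    h 0 (by simp), h 1 (by simp), h 5 (by simp), h 6 (by simp), h 10 (by simp)]

theorem a14_e_inv (a : Fin 12) : a14 K (g0 K)⁻¹ (e (rw_ a)) = -e (rw_ (a + 6)) := by
  have h := a14_e (K := K) (a + 6)
  rw [add_assoc, show (6 + 6 : Fin 12) = 0 from rfl, add_zero, eq_comm, neg_eq_iff_eq_neg] at h
  rw [h, map_neg, ← a14_mul, inv_mul_cancel, map_one]
  rfl

theorem a14_l (a : Fin 12) (y : chevG2.Idx → K) : a14 K (g0 K) y (rw_ a) = -y (rw_ (a + 6)) := by
  have t : ∀ {r s : chevG2.Idx} {g : GK K} {c : K}, l r ∘ₗ a14 K g = c • l s → ∀ y, a14 K g y r = c * y s :=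
    fun h y => LinearMap.congr_fun h y
  have h : ∀ r : Fin 12, r = 11 ∨ r = 10 ∨ r = 6 ∨ r = 5 ∨ r = 1 ∨ r = 0 →
      a14 K (g0 K) y (rv r) = -y (rv (11 - r)) := by
    rintro r (rfl | rfl | rfl | rfl | rfl | rfl) <;>
    · simp only [g0, a14_mul, t NR0_11, t NR0_10, t NR0_5, t NR0_0, t NR0_1, t NR0_6, t NR1_11, t NR1_10, t NR1_5,
        t NR1_0, t NR1_1, t NR1_6, one_mul, neg_mul, neg_neg]
      rfl
  fin_cases a
  exacts [h 11 (by simp), h 11 (by simp), h 10 (by simp), h 6 (by simp), h 5 (by simp), h 1 (by simp), h 0 (by simp),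
    h 0 (by simp), h 1 (by simp), h 5 (by simp), h 6 (by simp), h 10 (by simp)]

theorem opp0 {s : Fin 8} (hs : s = 2 ∨ s = 4 ∨ s = 5) {z : Fin 8 → K} (hz : ∀ i, i ≠ 6 → i ≠ s → z i = 0) :
    a8 K (g0 K) z 6 = 0 ∧ a8 K (g0 K) z s = 0 := by
  rw [a8_g0]
  rcases hs with rfl | rfl | rfl
  · exact ⟨neg_eq_zero.2 (hz 3 (by decide) (by decide)), neg_eq_zero.2 (hz 5 (by decide) (by decide))⟩
  · exact ⟨neg_eq_zero.2 (hz 3 (by decide) (by decide)), neg_eq_zero.2 (hz 1 (by decide) (by decide))⟩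
  · exact ⟨neg_eq_zero.2 (hz 3 (by decide) (by decide)), neg_eq_zero.2 (hz 2 (by decide) (by decide))⟩

variable {k V : Type*} [Field k] [AddCommGroup V] [Module k V] [FiniteDimensional k V]
  {Fa Fb : K →*₀ k} {ρ : GK K →* Module.End k V} {φ₀ : Dual k V} {v₀ : V}

/-- **the identity** -/
theorem ident (hb : Col2 Fa Fb ρ φ₀ (e8 K) (e14 K) v₀) (hn : ¬ 14 ≤ finrank k V)
    {x : Fin 8 → K} {y : chevG2.Idx → K} {u : V} (hu : Col2 Fa Fb ρ φ₀ x y u)
    {ℓ : (Fin 8 → K) →ₗ[K] K} {m : (chevG2.Idx → K) →ₗ[K] K} {ψ : Dual k V} (hψ : Row2 Fa Fb ρ φ₀ ℓ m ψ)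
    (s : Fin 8) (hs : s = 2 ∨ s = 4 ∨ s = 5) (hl : ∀ z : Fin 8 → K, z 6 = 0 → z s = 0 → ℓ z = 0)
    (hx : ∀ i, i ≠ 6 → i ≠ s → x i = 0) :
    Fa (ℓ x) * Fb (m y) = ∑ a, Fa (ℓ (E8 K (iw a)) * x (iw a)) * Fb (m (e (rw_ a)) * y (rw_ a)) := by
  by_contra hne
  apply hn
  have hc : ∀ a, ∃ v : V, Col2 Fa Fb ρ φ₀ (E8 K (iw a)) (e (rw_ a)) v := by
    intro a
    obtain ⟨g, c, d, h0, h1, h2, h3⟩ := FC_all (K := K) a
    have h4 := (hb.move g).smul c⁻¹ d⁻¹
    rw [h2, h3, smul_smul, smul_smul, inv_mul_cancel₀ h0, inv_mul_cancel₀ h1, one_smul, one_smul] at h4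
    exact ⟨_, h4⟩
  have hr : ∀ a, ∃ ψ : Dual k V, Row2 Fa Fb ρ φ₀ (L8 K (iw a)) (l (rw_ a)) ψ := by
    intro a
    obtain ⟨g, c, d, h0, h1, h2, h3⟩ := FR_all (K := K) a
    have h4 := ((Row2.base (Fa := Fa) (Fb := Fb) (ρ := ρ) (φ₀ := φ₀)).comp g).smul c⁻¹ d⁻¹
    rw [h2, h3, smul_smul, smul_smul, inv_mul_cancel₀ h0, inv_mul_cancel₀ h1, one_smul, one_smul] at h4
    exact ⟨_, h4⟩
  choose v hv using hc
  choose φ hφ using hr
  have sm : ∀ {x y u ℓ m ψ}, Col2 Fa Fb ρ φ₀ x y u → Row2 Fa Fb ρ φ₀ ℓ m ψ → ∑ a, ψ (v a) * φ a u =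
      ∑ a, Fa (ℓ (E8 K (iw a)) * x (iw a)) * Fb (m (e (rw_ a)) * y (rw_ a)) := by
    intro x y u ℓ m ψ hu hψ
    refine Finset.sum_congr rfl fun a _ => ?_
    rw [hψ _ _ _ (hv a), hφ a _ _ _ hu, map_mul, map_mul]
    change _ * (Fa (x (iw a)) * Fb (y (rw_ a))) = _
    ring
  have hu' := hu.move (g0 K)
  have hψ' := hψ.comp (g0 K)⁻¹
  have hx' := opp0 hs hx
  have h := schur_le (α := Fin 12) (β := Bool) v (fun b => cond b u (ρ (g0 K) u)) φ
    (fun b => cond b ψ (ψ ∘ₗ ρ (g0 K)⁻¹)) (fun a b => by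
    rw [hφ a _ _ _ (hv b), L8_E8, l_e]
    by_cases hab : a = b
    · subst hab
      rw [if_pos rfl, if_pos rfl, if_pos rfl, map_one, map_one, one_mul]
    · rw [if_neg hab]
      by_cases h1 : iw a = iw b
      · have h2 : rw_ a ≠ rw_ b := fun h => hab (flag_inj a b h1 h)
        rw [if_neg h2, map_zero, mul_zero]
      · rw [if_neg h1, map_zero, zero_mul]) (by
    rintro (_ | _) (_ | _) h
    · exact absurd rfl h
    · simp only [cond_true, cond_false]
      rw [sm hu hψ', hψ' _ _ _ hu, LinearMap.comp_apply, a8_g0_inv, hl _ hx'.1 hx'.2, map_zero, zero_mul]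
      refine (Finset.sum_eq_zero fun a _ => ?_).symm
      by_cases h1 : iw a ≠ 6 ∧ iw a ≠ s
      · rw [hx _ h1.1 h1.2, mul_zero, map_zero, zero_mul]
      · have h2 := opp0 hs (z := E8 K (iw a)) fun i h3 h4 =>
          Pi.single_eq_of_ne (fun h5 : i = iw a => h1 (by rw [← h5]; exact ⟨h3, h4⟩)) _
        rw [LinearMap.comp_apply, a8_g0_inv, hl _ h2.1 h2.2, zero_mul, map_zero, zero_mul]
    · simp only [cond_true, cond_false]
      rw [sm hu' hψ, hψ _ _ _ hu', hl _ hx'.1 hx'.2, map_zero, zero_mul]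
      refine (Finset.sum_eq_zero fun a _ => ?_).symm
      by_cases h1 : iw a = 6
      · rw [h1, hx'.1, mul_zero, map_zero, zero_mul]
      by_cases h2 : iw a = s
      · rw [h2, hx'.2, mul_zero, map_zero, zero_mul]
      · rw [hl (E8 K (iw a)) (Pi.single_eq_of_ne (Ne.symm h1) _) (Pi.single_eq_of_ne (Ne.symm h2) _), zero_mul,
          map_zero, zero_mul]
    · exact absurd rfl h) (by
    rintro (_ | _)
    · simp only [cond_false]
      rw [sm hu' hψ', hψ' _ _ _ hu', LinearMap.comp_apply, LinearMap.comp_apply, ← a8_mul, ← a14_mul, inv_mul_cancel,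
        map_one, map_one]
      intro h
      apply hne
      refine h.trans ((Finset.sum_congr rfl fun a _ => ?_).trans (Equiv.sum_comp (Equiv.addRight (6 : Fin 12))
        fun a => Fa (ℓ (E8 K (iw a)) * x (iw a)) * Fb (m (e (rw_ a)) * y (rw_ a))))
      rw [LinearMap.comp_apply, LinearMap.comp_apply, a8_g0_inv, a8_E, a8_L, a14_e_inv, a14_l, map_neg, map_neg,
        neg_mul_neg, neg_mul_neg]
      rfl
    · simp only [cond_true]
      rw [sm hu hψ, hψ _ _ _ hu]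
      exact hne)
  simpa using h

/-- the sum with two terms -/
theorem ident_two (hb : Col2 Fa Fb ρ φ₀ (e8 K) (e14 K) v₀) (hn : ¬ 14 ≤ finrank k V)
    {x : Fin 8 → K} {y : chevG2.Idx → K} {u : V} (hu : Col2 Fa Fb ρ φ₀ x y u)
    {ℓ : (Fin 8 → K) →ₗ[K] K} {m : (chevG2.Idx → K) →ₗ[K] K} {ψ : Dual k V} (hψ : Row2 Fa Fb ρ φ₀ ℓ m ψ)
    (s : Fin 8) (hs : s = 2 ∨ s = 4 ∨ s = 5) (hl : ∀ z : Fin 8 → K, z 6 = 0 → z s = 0 → ℓ z = 0)
    (hx : ∀ i, i ≠ 6 → i ≠ s → x i = 0) (j : Fin 12)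
    (hj : j ≠ 0) (h0 : ∀ a, a ≠ 0 → a ≠ j → x (iw a) = 0 ∨ m (e (rw_ a)) = 0) :
    Fa (ℓ x) * Fb (m y) = Fa (ℓ (E8 K 6) * x 6) * Fb (m (e (rv 11)) * y (rv 11)) +
      Fa (ℓ (E8 K (iw j)) * x (iw j)) * Fb (m (e (rw_ j)) * y (rw_ j)) := by
  rw [ident hb hn hu hψ s hs hl hx, Finset.sum_eq_add (0 : Fin 12) j hj.symm]
  · rfl
  · rintro a _ ⟨h1, h2⟩
    rcases h0 a h1 h2 with h | h
    · rw [h, mul_zero, map_zero, zero_mul]
    · rw [h, zero_mul, map_zero, mul_zero]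
  · intro h
    exact absurd (Finset.mem_univ _) h
  · intro h
    exact absurd (Finset.mem_univ _) h

theorem add_a (hb : Col2 Fa Fb ρ φ₀ (e8 K) (e14 K) v₀) (hn : ¬ 14 ≤ finrank k V) (c : K) : Fa (1 + c) = 1 + Fa c := by
  have hu := col2_of hb (xg 4 c) (x := E8 K 6 - c • E8 K 2) (y := e (rv 11)) (by
    rw [a8_4]; ext i; (revert i; simp only [e8, E8, _root_.Fin.forall_fin_succ, _root_.Nat.succ_eq_add_one, Nat.reduceAdd, Fin.isValue, _root_.ne_eq, Fin.reduceEq, _root_.not_false_eq_true, _root_.Pi.single_eq_of_ne, _root_.MulZeroClass.mul_zero, _root_.sub_self, _root_.Pi.single_eq_same, _root_.mul_one, _root_.zero_sub, _root_.add_zero, _root_.Pi.sub_apply, _root_.Pi.smul_apply, _root_.smul_eq_mul, _root_.Matrix.cons_val_zero, _root_.Matrix.cons_val_succ, _root_.Fin.succ_zero_eq_one, _root_.Fin.succ_one_eq_two, Fin.reduceSucc, _root_.sub_zero, _root_.Matrix.cons_val_fin_one, _root_.IsEmpty.forall_iff, _root_.and_self])) (a14_pos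 (by norm_num) (by norm_num) c)
  have hr := row2_of (Fa := Fa) (Fb := Fb) (ρ := ρ) (φ₀ := φ₀) (xg 7 1) (ℓ := L8 K 6 - L8 K 2) (m := l (rv 11)) (by
    refine LinearMap.ext fun x => ?_
    rw [LinearMap.comp_apply, a8_7]
    simp only [l8, L8, _root_.Cfsg.Agent.H927.G2.l8, _root_.Fin.isValue, _root_.Nat.succ_eq_add_one, _root_.Nat.reduceAdd, _root_.one_mul, _root_.one_pow, _root_.LinearMap.coe_proj, _root_.Function.eval, _root_.Matrix.cons_val, _root_.Cfsg.Agent.H927.G2.L8, _root_.LinearMap.sub_apply]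
    try ring) (LinearMap.ext fun x => a14_neg (by norm_num) (by norm_num) 1 x)
  have h := ident_two hb hn hu hr 2 (by decide) (fun z h1 h2 => by simp [L8, h1, h2]) (fun i h1 h2 => by simp [E8, h1, h2]) 1 (by decide) (by
    intro a h1 h2
    have h3 : ∀ a : Fin 12, a ≠ 0 → a ≠ 1 → (iw a ≠ 6 ∧ iw a ≠ 2) ∨ rv 11 ≠ rw_ a := by decide +kernel
    rcases h3 a h1 h2 with ⟨h4, h5⟩ | h4
    · left
      simp [E8, h4, h5]
    · right
      rw [l_e, if_neg h4])
  simp only [LinearMap.sub_apply, map_sub, map_smul, L8_E8, l_e] at h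
  simp only [E8, iw, rw_, e, ↓ _root_.reduceIte, _root_.Fin.isValue, _root_.Fin.reduceEq, _root_.sub_zero, _root_.zero_sub, _root_.smul_eq_mul, _root_.mul_neg, _root_.mul_one, _root_.sub_neg_eq_add, _root_.map_one, _root_.Cfsg.Agent.H927.G2.E8, _root_.Pi.sub_apply, _root_.Pi.single_eq_same, _root_.Pi.smul_apply, _root_.ne_eq, _root_.not_false_eq_true, _root_.Pi.single_eq_of_ne, _root_.MulZeroClass.mul_zero, _root_.Cfsg.Agent.H927.G2.e, _root_.Cfsg.Agent.H927.G2.iw, _root_.Matrix.cons_val_one, _root_.Matrix.cons_val_zero, _root_.neg_mul, _root_.one_mul, _root_.neg_neg, _root_.Cfsg.Agent.H927.G2.rw_] at h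
  exact h

theorem add_b (hb : Col2 Fa Fb ρ φ₀ (e8 K) (e14 K) v₀) (hn : ¬ 14 ≤ finrank k V) (c : K) : Fb (1 + c) = 1 + Fb c := by
  have hu := col2_of hb (xg 5 c) (x := E8 K 6) (y := e (rv 11) + c • e (rv 10)) (a8_pos (by norm_num) (by norm_num) c) (by
    unfold e14
    rw [C_5_11]; module)
  have hr := row2_of (Fa := Fa) (Fb := Fb) (ρ := ρ) (φ₀ := φ₀) (xg 6 1) (ℓ := L8 K 6) (m := l (rv 11) + l (rv 10))
    (LinearMap.ext fun x => a8_neg (by norm_num) 1 x) (by
    refine LinearMap.ext fun x => ?_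
    rw [LinearMap.comp_apply]
    unfold l14
    rw [R_6_11, LinearMap.add_apply]
    ring)
  have h := ident_two hb hn hu hr 2 (by decide) (fun z h1 _ => by simp [L8, h1]) (fun i h1 _ => by simp [E8, h1]) 11 (by decide) (by
    intro a h1 h2
    have h3 : ∀ a : Fin 12, a ≠ 0 → a ≠ 11 → (iw a ≠ 6) ∨ (rv 11 ≠ rw_ a ∧ rv 10 ≠ rw_ a) := by decide +kernel
    rcases h3 a h1 h2 with h4 | ⟨h4, h5⟩
    · left
      simp [E8, h4]
    · right
      rw [LinearMap.add_apply, l_e, l_e, if_neg h4, if_neg h5, add_zero])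
  have hne : (rv 11 : chevG2.Idx) ≠ rv 10 := by decide +kernel
  simp only [LinearMap.add_apply, map_add, map_smul, L8_E8, l_e, if_neg hne, if_neg hne.symm, if_true, smul_zero, smul_eq_mul,
    mul_one, add_zero, zero_add] at h
  simp only [E8, iw, rw_, e, hne, hne.symm, _root_.map_one, _root_.one_mul, _root_.Cfsg.Agent.H927.G2.E8, _root_.Fin.isValue, _root_.Pi.single_eq_same, _root_.mul_one, _root_.Cfsg.Agent.H927.G2.e, _root_.Pi.add_apply, _root_.Pi.smul_apply, _root_.ne_eq, _root_.not_false_eq_true, _root_.Pi.single_eq_of_ne, _root_.smul_eq_mul, _root_.MulZeroClass.mul_zero, _root_.add_zero, _root_.Cfsg.Agent.H927.G2.iw, _root_.Matrix.cons_val, ↓ _root_.reduceIte, _root_.Cfsg.Agent.H927.G2.rw_, _root_.zero_add] at h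
  exact h

theorem add_ab (hb : Col2 Fa Fb ρ φ₀ (e8 K) (e14 K) v₀) (hn : ¬ 14 ≤ finrank k V) (c : K) :
    Fa (1 + c) * Fb (1 + c) = 1 + Fa c * Fb c := by
  have hu := col2_of hb (xg 1 c) (x := E8 K 6 + c • E8 K 4) (y := e (rv 11) - c • e (rv 6)) (by
    rw [a8_1]; ext i; (revert i; simp only [e8, E8, _root_.Fin.forall_fin_succ, _root_.Nat.succ_eq_add_one, Nat.reduceAdd, Fin.isValue, _root_.ne_eq, Fin.reduceEq, _root_.not_false_eq_true, _root_.Pi.single_eq_of_ne, _root_.MulZeroClass.mul_zero, _root_.sub_self, _root_.Pi.single_eq_same, _root_.mul_one, _root_.zero_add, _root_.Pi.add_apply, _root_.Pi.smul_apply, _root_.smul_eq_mul, _root_.Matrix.cons_val_zero, _root_.add_zero, _root_.Matrix.cons_val_succ, _root_.Fin.succ_zero_eq_one, _root_.Fin.succ_one_eq_two, Fin.reduceSucc, _root_.Matrix.cons_val_fin_one, _root_.IsEmpty.forall_iff, _root_.and_self])) (by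
    unfold e14
    rw [C_1_11]; module)
  have hr := row2_of (Fa := Fa) (Fb := Fb) (ρ := ρ) (φ₀ := φ₀) (xg 10 1) (ℓ := L8 K 6 + L8 K 4) (m := l (rv 11) - l (rv 6)) (by
    refine LinearMap.ext fun x => ?_
    rw [LinearMap.comp_apply, a8_10]
    simp [l8, L8]) (by
    refine LinearMap.ext fun x => ?_
    rw [LinearMap.comp_apply]
    unfold l14
    rw [R_10_11, LinearMap.sub_apply]
    ring)
  have h := ident_two hb hn hu hr 4 (by decide) (fun z h1 h2 => by simp [L8, h1, h2]) (fun i h1 h2 => by simp [E8, h1, h2]) 3 (by decide) (by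
    intro a h1 h2
    have h3 : ∀ a : Fin 12, a ≠ 0 → a ≠ 3 → (iw a ≠ 6 ∧ iw a ≠ 4) ∨ (rv 11 ≠ rw_ a ∧ rv 6 ≠ rw_ a) := by decide +kernel
    rcases h3 a h1 h2 with ⟨h4, h5⟩ | ⟨h4, h5⟩
    · left
      simp [E8, h4, h5]
    · right
      rw [LinearMap.sub_apply, l_e, l_e, if_neg h4, if_neg h5, sub_zero])
  have hne : (rv 11 : chevG2.Idx) ≠ rv 6 := by decide +kernel
  simp only [LinearMap.add_apply, LinearMap.sub_apply, map_add, map_sub, map_smul, L8_E8, l_e, if_neg hne, if_neg hne.symm,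
    if_true, smul_zero, smul_eq_mul, mul_one, add_zero, zero_add] at h
  simp only [E8, iw, rw_, e, hne, hne.symm, _root_.Fin.isValue, _root_.Fin.reduceEq, ↓ _root_.reduceIte, _root_.add_zero, _root_.zero_add, _root_.mul_one, _root_.sub_zero, _root_.zero_sub, _root_.mul_neg, _root_.sub_neg_eq_add, _root_.Cfsg.Agent.H927.G2.E8, _root_.Pi.add_apply, _root_.Pi.single_eq_same, _root_.Pi.smul_apply, _root_.ne_eq, _root_.not_false_eq_true, _root_.Pi.single_eq_of_ne, _root_.smul_eq_mul, _root_.MulZeroClass.mul_zero, _root_.map_one, _root_.Cfsg.Agent.H927.G2.e, _root_.Pi.sub_apply, _root_.Cfsg.Agent.H927.G2.iw, _root_.Matrix.cons_val, _root_.one_mul, _root_.Cfsg.Agent.H927.G2.rw_, _root_.neg_mul, _root_.neg_neg] at h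
  exact h

theorem add_abb (hb : Col2 Fa Fb ρ φ₀ (e8 K) (e14 K) v₀) (hn : ¬ 14 ≤ finrank k V) (c : K) :
    Fa (1 + c) * Fb (1 + c) ^ 2 = 1 + Fa c * Fb c ^ 2 := by
  have hu := col2_of hb (xg 0 c) (x := E8 K 6 + c • E8 K 5) (y := e (rv 11) - c • e (hv 0) - (2 * c) • e (hv 1) - c ^ 2 • e (rv 0)) (by
    rw [a8_0]; ext i; (revert i; simp only [e8, E8, _root_.Fin.forall_fin_succ, _root_.Nat.succ_eq_add_one, Nat.reduceAdd, Fin.isValue, _root_.ne_eq, Fin.reduceEq, _root_.not_false_eq_true, _root_.Pi.single_eq_of_ne, _root_.MulZeroClass.mul_zero, _root_.sub_self, _root_.Pi.single_eq_same, _root_.mul_one, _root_.zero_add, _root_.Pi.add_apply, _root_.Pi.smul_apply, _root_.smul_eq_mul, _root_.Matrix.cons_val_zero, _root_.add_zero, _root_.Matrix.cons_val_succ, _root_.Fin.succ_zero_eq_one, _root_.Fin.succ_one_eq_two, Fin.reduceSucc, _root_.Matrix.cons_val_fin_one, _root_.IsEmpty.forall_iff, _root_.and_self])) (by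
    unfold e14
    rw [C_0_11]; module)
  have hr := row2_of (Fa := Fa) (Fb := Fb) (ρ := ρ) (φ₀ := φ₀) (xg 11 1) (ℓ := L8 K 6 + L8 K 5)
    (m := l (rv 11) - l (hv 1) - l (rv 0)) (by
    refine LinearMap.ext fun x => ?_
    rw [LinearMap.comp_apply, a8_11]
    simp [l8, L8]) (by
    refine LinearMap.ext fun x => ?_
    rw [LinearMap.comp_apply]
    unfold l14
    rw [R_11_11, LinearMap.sub_apply, LinearMap.sub_apply]
    ring)
  have h := ident_two hb hn hu hr 5 (by decide) (fun z h1 h2 => by simp [L8, h1, h2]) (fun i h1 h2 => by simp [E8, h1, h2]) 7 (by decide) (by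
    intro a h1 h2
    have h3 : ∀ a : Fin 12, a ≠ 0 → a ≠ 7 → (iw a ≠ 6 ∧ iw a ≠ 5) ∨ (rv 11 ≠ rw_ a ∧ hv 1 ≠ rw_ a ∧ rv 0 ≠ rw_ a) := by
      decide +kernel
    rcases h3 a h1 h2 with ⟨h4, h5⟩ | ⟨h4, h5, h6⟩
    · left
      simp [E8, h4, h5]
    · right
      rw [LinearMap.sub_apply, LinearMap.sub_apply, l_e, l_e, l_e, if_neg h4, if_neg h5, if_neg h6, sub_zero, sub_zero])
  have h1 : (rv 11 : chevG2.Idx) ≠ rv 0 := by decide +kernel
  have h2 : (rv 11 : chevG2.Idx) ≠ hv 0 := by decide +kernel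
  have h3 : (rv 11 : chevG2.Idx) ≠ hv 1 := by decide +kernel
  have h4 : (rv 0 : chevG2.Idx) ≠ hv 0 := by decide +kernel
  have h5 : (rv 0 : chevG2.Idx) ≠ hv 1 := by decide +kernel
  have h6 : (hv 0 : chevG2.Idx) ≠ hv 1 := by decide +kernel
  simp only [LinearMap.add_apply, LinearMap.sub_apply, map_add, map_sub, map_smul, L8_E8, l_e, if_neg h1, if_neg h1.symm,
    if_neg h2, if_neg h2.symm, if_neg h3, if_neg h3.symm, if_neg h4, if_neg h4.symm, if_neg h5, if_neg h5.symm, if_neg h6,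
    if_neg h6.symm, if_true, smul_zero, smul_eq_mul, mul_one, add_zero, zero_add] at h
  simp only [E8, iw, rw_, e, h1, h1.symm, h2, h2.symm, h3, h3.symm, h4, h4.symm, h5, h5.symm, _root_.Fin.isValue, _root_.Fin.reduceEq, ↓ _root_.reduceIte, _root_.add_zero, _root_.zero_add, _root_.mul_one, _root_.sub_zero, _root_.sub_self, _root_.MulZeroClass.mul_zero, _root_.zero_sub, _root_.mul_neg, _root_.sub_neg_eq_add, _root_.Cfsg.Agent.H927.G2.E8, _root_.Pi.add_apply, _root_.Pi.single_eq_same, _root_.Pi.smul_apply, _root_.ne_eq, _root_.not_false_eq_true, _root_.Pi.single_eq_of_ne, _root_.smul_eq_mul, _root_.map_one, _root_.Cfsg.Agent.H927.G2.e, _root_.Pi.sub_apply, _root_.Cfsg.Agent.H927.G2.iw, _root_.Matrix.cons_val, _root_.one_mul, _root_.Cfsg.Agent.H927.G2.rw_, _root_.neg_mul, _root_.neg_neg, _root_.map_pow] at h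
  rw [← map_pow, show (1 + c) ^ 2 = 1 + 2 * c + c ^ 2 by ring]
  exact h

/-- **both reflections move the highest weight** -/
theorem fourteen_full (hb : Col2 Fa Fb ρ φ₀ (e8 K) (e14 K) v₀) {c : K} (h0 : c ≠ 0) (h1 : c ≠ 1) : 14 ≤ finrank k V := by
  by_contra hn
  have A := add_a hb hn
  have B := add_b hb hn
  have AB := add_ab hb hn
  have ABB := add_abb hb hn
  have e1 : ∀ c, Fa c + Fb c = 0 := by
    intro c
    have h := AB c
    rw [A, B] at h
    linear_combination h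
  have e2 : (2 : k) = 0 := by
    have h := e1 1
    rw [map_one, map_one] at h
    linear_combination h
  have e3 : (1 + 1 : K) = 0 := by
    have h := A 1
    rw [map_one] at h
    have h' : Fa (1 + 1) = 0 := by rw [h]; linear_combination e2
    exact (map_eq_zero Fa).1 h'
  have e4 : Fa c * (1 + Fa c) = 0 := by
    have h := ABB c
    rw [A, B] at h
    have h5 : Fb c = Fa c := by linear_combination e1 c - Fa c * e2
    rw [h5] at h
    linear_combination h - (Fa c + Fa c ^ 2) * e2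
  rcases mul_eq_zero.1 e4 with h | h
  · exact h0 ((map_eq_zero Fa).1 h)
  · rw [← A] at h
    have h5 : 1 + c = 0 := (map_eq_zero Fa).1 h
    apply h1
    linear_combination h5 - e3

end full

section row

open Cfsg Cfsg.Geo Cfsg.Lie
open Cfsg.Agent.H911 (lin)
open CoxeterSystem Cfsg.Agent.ChevalleyStructure.CoxeterGeom Cfsg.Agent.Tits.Roots Cfsg.Agent.Tits.Core
  Cfsg.Agent.Tits.Exchange Cfsg.Agent.Nodes.Reps Cfsg.Agent.Nodes.BNOf Cfsg.Agent.Nodes.StabComb
  Cfsg.Agent.Nodes.Bruhat Cfsg.Agent.Nodes.OppDec Cfsg.Agent.Nodes.LeviDec Cfsg.Agent.KFacts.RgdOpp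
  Cfsg.Agent.Omega.CR Cfsg.Agent.Omega.FOne.Lift.Sd Cfsg.Agent.H905.Md Cfsg.Agent.H650.Ppd
open Cfsg.Agent.H927.G2 (cs2 hc2 T2 n2 X2 rgd2 GG2 T2_comm fr_g2 exists_coef exists_two)
open Cfsg.Agent.H744.Ppd Cfsg.Agent.H744.Ppd.G2 Cfsg.Agent.H915.LD Cfsg.Agent.H100.Ppd

theorem num_one {Q q m j t : ℕ} (hQ : 1 < Q) (hj : 1 ≤ j) (hq : q = Q ^ j) (hm : Q ^ m = q ^ 6) (ht : 1 ≤ t)
    (h : (q + 1) * (q ^ 4 + q ^ 2 + 1) = (1 + t) * th Q m) : False := by
  have h1 : Q ≤ q := hq ▸ Nat.le_self_pow (by omega) Q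
  have h2 := th_mul hQ.le m
  obtain ⟨x, rfl⟩ : ∃ x, Q = x + 2 := ⟨Q - 2, by omega⟩
  obtain ⟨y, rfl⟩ : ∃ y, q = x + 2 + y := ⟨q - (x + 2), by omega⟩
  rw [hm, show x + 2 - 1 = x + 1 from rfl] at h2
  have h3 : (x + 2 + y + 1) * ((x + 2 + y) ^ 4 + (x + 2 + y) ^ 2 + 1) * (x + 1 + y) + 1 = (x + 2 + y) ^ 6 := by ring
  rw [h, ← h2, add_left_inj] at h3
  have h4 : 0 < th (x + 2) m := by
    refine Nat.pos_of_ne_zero fun h0 => ?_
    rw [h0, mul_zero] at h
    exact absurd h (by (clear * -; positivity))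
  have h5 : (1 + t) * (x + 1 + y) = x + 1 := Nat.eq_of_mul_eq_mul_left h4 (by linear_combination h3)
  nlinarith only [ht, h5]

/-- **Ti-G** -/
theorem boxG : BoxG := by
  intro n m p hp F _ _ _ K _ _ _ P h h3 hm
  refine ⟨fun e => ?_⟩
  have hC := h.core
  have hn := h.ge
  have hi := h.hi
  obtain ⟨f⟩ := Cfsg.Agent.H48.DsChev.g2_equiv p hC h3 e
  have hfr := fr_g2 p hC f
  obtain ⟨aK, -, haK⟩ := FiniteField.card K p
  have hcK : Nat.card K = p ^ (aK : ℕ) := by rw [Nat.card_eq_fintype_card, haK]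
  obtain ⟨j, hj1, hj⟩ := card_pow_eq p aK.ne_zero (fun x => pow_eq_of_no_subfield hC.absIrred hC.no_subfield p aK
    (fun g hg => by rw [← hcK]; exact hfr g hg) x)
  have hKF : Nat.card K = Nat.card F ^ j := by rw [hcK, hj]
  have hne : Nonempty (Fin n) := hC.nonempty
  have h2 : 2 ≤ Fintype.card (Fin n) := by rw [Fintype.card_fin]; omega
  obtain ⟨φ, hφ⟩ : ∃ φ : chevG2.group K →* GL (Fin n) F, φ.range = P :=
    ⟨P.subtype.comp f.symm.toMonoidHom, by
      rw [MonoidHom.range_comp, MonoidHom.range_eq_top.2 f.symm.surjective, ← MonoidHom.range_eq_map,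
        Subgroup.range_subtype]⟩
  have hQ : 1 < Nat.card F := Finite.one_lt_card
  rw [← Nat.card_eq_fintype_card] at hm h3
  obtain ⟨⟨s, hs, hN⟩, -⟩ := h.big (rgd2 (K := K) p) GG2 T2_comm hφ
  have one : ∀ i : Fin 2, Jx cs2 hc2 (X2 K) (lin (acRep φ)) ≠ {i} := fun i hJ => by
    rw [hJ] at hN
    have h4 := Cfsg.Agent.H115.HC.GTwo.index_eq'' (K := K) i
    rw [← Nat.card_eq_fintype_card] at h4
    exact num_one hQ hj1 hKF hm (Nat.one_le_pow _ _ hp.out.pos) (h4.symm.trans hN)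
  have h0 : (0 : Fin 2) ∉ Jx cs2 hc2 (X2 K) (lin (acRep φ)) := fun h0 => one 0 (by
    ext i
    fin_cases i
    · simpa using h0
    · simpa using (exists_node p hφ hC.absIrred h2).resolve_left (not_not.2 h0))
  have h1 : (1 : Fin 2) ∉ Jx cs2 hc2 (X2 K) (lin (acRep φ)) := fun h1 => one 1 (by
    ext i
    fin_cases i
    · simpa using h0
    · simpa using h1)
  have hchar : CharP (AlgebraicClosure F) p := charP_of_injective_algebraMap (algebraMap F _).injective p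
  have hirr := ac_irr (rgd2 (K := K) p) GG2 T2_comm hφ hC.absIrred
  have hD := finrank_D (rgd2 (K := K) p) hirr T2_comm
  have hfin : Module.finrank (AlgebraicClosure F) (Fin n → AlgebraicClosure F) = n := Module.finrank_fin_fun _
  obtain ⟨m0, hm0, h4⟩ := edge_pow_of_card (rgd2 (K := K) p) GG2 T2_comm hφ hC.absIrred (sg_nd ht cs2 p 0) h0 hKF
  obtain ⟨m1, hm1, h5⟩ := edge_pow_of_card (rgd2 (K := K) p) GG2 T2_comm hφ hC.absIrred (sg_nd ht cs2 p 1) h1 hKF
  have h6 := ge_two (rgd2 (K := K) p) hirr h0 h1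
  have h7 := finrank_Io (rgd2 (K := K) p) hirr 0
  have h8 := finrank_Io (rgd2 (K := K) p) hirr 1
  rw [hD, hfin] at h6
  rw [hD, h4] at h7
  rw [hD, h5] at h8
  have h9 := Nat.pow_le_pow_left hm0 j
  have h10 := Nat.pow_le_pow_left hm1 j
  rw [hKF, ← pow_mul] at hm
  have h11 : m = j * 6 := Nat.pow_right_injective hQ hm
  have h12 : j = 1 := by
    by_contra hcon
    have h13 : ∀ j : ℕ, 2 ≤ j → j + 2 ≤ 2 ^ j := by
      intro j hj
      induction j, hj using Nat.le_induction with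
      | base => norm_num
      | succ j hj ih => rw [pow_succ]; omega
    have := h13 j (by omega)
    omega
  obtain ⟨v, -, ψ, -, -, G, -, hG0, hc, -⟩ := exists_coef hirr p
  obtain ⟨c, hc0, hc1⟩ := exists_two h3
  have h13 := fourteen_full (Fa := { G 0 with map_zero' := hG0 0 h0 }) (Fb := { G 1 with map_zero' := hG0 1 h1 })
    (fun g => hc g) hc0 hc1
  omega

end row

end Cfsg.Agent.SM.Ti.G
end

-- part: SM/Ti/F/Kill
section
/-!
# S3570, tight cores: a module is not the sum of its vertices if these are the roots of one length (helper88)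
-/

set_option autoImplicit false
set_option linter.unusedSectionVars false

namespace Cfsg.Agent.SM.Ti.F

open CoxeterSystem Cfsg.Agent.ChevalleyStructure.CoxeterGeom Cfsg.Agent.Tits.Roots Cfsg.Agent.Tits.Core
  Cfsg.Agent.Tits.Exchange Cfsg.Agent.Nodes.Reps Cfsg.Agent.Nodes.BNOf Cfsg.Agent.Nodes.StabComb
  Cfsg.Agent.Nodes.Bruhat Cfsg.Agent.Nodes.OppDec Cfsg.Agent.Nodes.LeviDec Cfsg.Agent.KFacts.RgdOpp
  Cfsg.Agent.Omega.CR Cfsg.Agent.Omega.FOne.Lift.Sd Cfsg.Agent.H905.Md Cfsg.Agent.H905 Cfsg.Agent.H924.D5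
open scoped commutatorElement

variable {I W Y : Type*} [Fintype I] [DecidableEq I] [Group W] [Group Y] {M : CoxeterMatrix I}
  {cs : CoxeterSystem M W} {A : I → I → ℤ} {h : IsCartan M A} {p : ℕ} {T : Subgroup Y} {n : I → Y}
  {X : (I → ℤ) → Subgroup Y} {k V : Type*} [Field k] [AddCommGroup V] [Module k V]
  (R : RGD cs h p T n X)

include R in
theorem comm_sr {i j : I} (hij : i ≠ j) {a b : Y} (ha : a ∈ X (sr i)) (hb : b ∈ X (-sr j)) : a * b = b * a := by
  have h1 := R.comm (sr i) (-sr j) (isRoot_sr cs h i) (isRoot_sr cs h j).neg (by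
    intro e
    have := congrFun e i
    rw [sr_self, Pi.neg_apply, sr_ne hij] at this
    omega) (by
    rw [neg_neg]
    intro e
    have := congrFun e i
    rw [sr_self, sr_ne hij] at this
    omega) a ha b hb
  have h2 : btw cs h X (sr i) (-sr j) = ⊥ := by
    unfold Nodes.Reps.btw
    rw [iSup_eq_bot]
    rintro ⟨z, hz, m, c, d, hm, hc, hd, he⟩
    exfalso
    have e1 := congrFun he i
    have e2 := congrFun he j
    simp only [Pi.smul_apply, Pi.add_apply, Pi.neg_apply, smul_eq_mul, sr_self, sr_ne hij, sr_ne hij.symm] at e1 e2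
    rcases hz.pos_or_neg with h3 | h3
    · have h4 : 0 ≤ m * z j := mul_nonneg hm.le (h3 j)
      linarith
    · have h4 : m * z i ≤ 0 := mul_nonpos_of_nonneg_of_nonpos hm.le (h3 i)
      linarith
  rwa [h2, Subgroup.mem_bot, commutatorElement_eq_one_iff_mul_comm] at h1

variable [Finite Y] [Finite W] [Fact p.Prime] [CharP k p] {ρ : Y →* Module.End k V} [FiniteDimensional k V] [Nontrivial V]
  (hirr : ∀ L : Submodule k V, Ivt ρ (GG cs h T X) L → L = ⊥ ∨ L = ⊤) {i : I} (hJ : ∀ j, j ∉ Jx cs h X ρ ↔ j = i)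
  (hd : Module.finrank k (Le cs h T X ρ {i}) ≤ 2 * Module.finrank k (D cs h X ρ)) (hK : Kv cs h R.nsys X ρ = ⊥)
include R hirr hJ hd hK

/-- a root element moves a vertex along an edge -/
theorem edge_ne {g g' : Y} (ω : List I) (hg : Rp cs R.nsys (cs.wordProd ω) g) (hg' : Rp cs R.nsys (cs.wordProd (ω ++ [i])) g')
    {x : I → ℤ} (hx : IsRoot cs h x) (h3 : rww A ω (Pi.single i 1) = -x) {b : Y} (hb : b ∈ X x) (hb1 : b ≠ 1) {v : V}
    (hv : v ∈ (D cs h X ρ).map (ρ g)) (hv0 : v ≠ 0) : ρ b v - v ∈ (D cs h X ρ).map (ρ g') ∧ ρ b v - v ≠ 0 := by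
  have h1 : rep cs h (cs.wordProd ω)⁻¹ x = -sr i := by
    rw [← neg_neg x, ← h3, ← rep_wordProd (cs := cs) (h := h), map_neg, ← rep_mul_apply, inv_mul_cancel, map_one]
    rfl
  constructor
  · refine mem_vertex R hirr hJ hK hg' fun w'' g'' hg'' hne φ hφ => ?_
    rw [map_sub, sub_eq_zero]
    by_cases e : lb cs h i w'' = lb cs h i (cs.wordProd ω)
    · refine fixd_apply R hirr hJ hg'' hx ?_ hb hφ v
      rw [e, ← rep_inv_coord', h1, Pi.neg_apply, sr_self]
      norm_num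
    · obtain ⟨v₁, h₁, v₂, h₂, e'⟩ := Submodule.mem_sup.1
        (edgev R hirr hJ hd hg hg' ω (lb_wordProd i ω) (lb_wordProd i _) hx h3 hb hv)
      rw [← e', map_add, pair_zero R hirr hJ hg'' hg e hφ h₁, pair_zero R hirr hJ hg'' hg' hne hφ h₂,
        pair_zero R hirr hJ hg'' hg e hφ hv, add_zero]
  · obtain ⟨c, hc, rfl⟩ := hv
    intro e
    refine (hJ i).2 rfl (mem_Jx_of_fix R hirr (h1 ▸ R.conj_mem' hg hx hb) (fun k => hb1 ?_) hc
      (fun k => hv0 (by rw [k, map_zero])) ?_)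
    · rw [show b = g * (g⁻¹ * b * g) * g⁻¹ by group, k]
      group
    · rw [rho_mul, rho_mul, sub_eq_zero.1 e, rho_inv_rho]

/-- **The zero weight.** -/
theorem kill (hD : D cs h X ρ ≠ ⊥) {a b : I} (hab : a ≠ b) (ω₁ ω₂ ω₃ : List I) (L : List (I → ℤ)) (E : List (List I))
    (h0 : Pi.single i 1 ∈ L) (hL : ∀ j, ∀ μ ∈ L, DC.fire A μ j ∈ L)
    (h1 : rww A ω₁ (Pi.single i 1) = -Pi.single a 1) (h2 : rww A ω₂ (Pi.single i 1) = - -Pi.single b 1)
    (h3 : lbw A i ω₂ = lbw A i (ω₁ ++ [i])) (h4 : 0 ≤ pr (lbw A i ω₃) (Pi.single a 1))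
    (h5 : ∀ μ ∈ L, μ = lbw A i ω₃ ∨ pr μ (-Pi.single b 1) ≤ 0 ∨ ∃ ω ∈ E, μ = lbw A i ω)
    (h6 : ∀ ω ∈ E, rww A ω (Pi.single i 1) = -Pi.single b 1 ∧ lbw A i ω ≠ lbw A i ω₁ ∧ lbw A i (ω ++ [i]) ≠ lbw A i ω₁) :
    False := by
  have hL' : ∀ w, lb cs h i w ∈ L := fun w => by
    induction w using cs.simple_induction_left with
    | one => rwa [lb_one]
    | mul_simple_left w j ih => 
      rw [lb_simple_mul]
      exact hL j _ ih
  choose g hg using fun ω : List I => exists_rp cs R.nsys (cs.wordProd ω)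
  have ra := isRoot_sr cs h a
  have rb := (isRoot_sr cs h b).neg
  obtain ⟨u, hu, u1⟩ := (X (sr a)).bot_or_exists_ne_one.resolve_left (X_ne_bot R ra)
  obtain ⟨z, hz, z1⟩ := (X (-sr b)).bot_or_exists_ne_one.resolve_left (X_ne_bot R rb)
  obtain ⟨c, hc, c0⟩ := (D cs h X ρ).ne_bot_iff.1 hD
  have hv : ρ (g ω₁) c ∈ (D cs h X ρ).map (ρ (g ω₁)) := ⟨c, hc, rfl⟩
  have v0 : ρ (g ω₁) c ≠ 0 := fun e => c0 (by rw [← rho_inv_rho ρ (g ω₁) c, e, map_zero])
  generalize ρ (g ω₁) c = v at hv v0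
  obtain ⟨k1, k2⟩ := edge_ne R hirr hJ hd hK ω₁ (hg _) (hg _) ra h1 hu u1 hv v0
  rw [← map_eq_of_lb R hirr hJ (hg ω₂) (hg _) (by rw [lb_wordProd, lb_wordProd, h3])] at k1
  refine (edge_ne R hirr hJ hd hK ω₂ (hg _) (hg _) rb h2 hz z1 k1 k2).2 ?_
  have k3 : ρ z v - v ∈ (D cs h X ρ).map (ρ (g ω₃)) := by
    refine mem_vertex R hirr hJ hK (hg ω₃) fun w g' hg' hne φ hφ => ?_
    rw [map_sub, sub_eq_zero]
    rcases h5 _ (hL' w) with e | e | ⟨ω, hω, e⟩
    · exact absurd (e.trans (lb_wordProd i _).symm) hne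
    · exact fixd_apply R hirr hJ hg' rb e hz hφ v
    · obtain ⟨e1, e2, e3⟩ := h6 ω hω
      have e4 : lb cs h i w ≠ lb cs h i (cs.wordProd ω₁) := by rwa [e, lb_wordProd]
      rw [pair_zero R hirr hJ hg' (hg ω₁) e4 hφ hv]
      exact edged_apply R hirr hJ hd hg' (hg (ω ++ [i])) (hg ω₁) ω e (lb_wordProd i _) rb e1 hz hφ hv e4
        (by rwa [lb_wordProd, lb_wordProd])
  have k4 := fixv R hirr hJ (hg ω₃) ra (by rwa [lb_wordProd]) hu k3
  rw [map_sub, ← rho_mul, comm_sr R hab hu hz, rho_mul] at k4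
  rw [map_sub, sub_eq_iff_eq_add.1 k4]
  abel

end Cfsg.Agent.SM.Ti.F
end

-- part: SM/Ti/F/Main
section
/-!
# S3570, tight cores: `F₄` (helper88)
-/

set_option autoImplicit false
set_option linter.unusedSectionVars false

namespace Cfsg.Agent.SM.Ti.F

open CoxeterSystem Cfsg.Agent.ChevalleyStructure.CoxeterGeom Cfsg.Agent.Tits.Roots Cfsg.Agent.Tits.Core
  Cfsg.Agent.Tits.Exchange Cfsg.Agent.Nodes.Reps Cfsg.Agent.Nodes.BNOf Cfsg.Agent.Nodes.StabComb
  Cfsg.Agent.Nodes.Bruhat Cfsg.Agent.Nodes.OppDec Cfsg.Agent.Nodes.LeviDec Cfsg.Agent.KFacts.RgdOpp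
  Cfsg.Agent.Omega.CR Cfsg.Agent.Omega.FOne.Lift.Sd Cfsg.Agent.H905.Md Cfsg.Agent.H905 Cfsg.Agent.H924.D5
open Cfsg Cfsg.Geo Cfsg.Lie Cfsg.Agent.H915.LD Cfsg.Agent.ChevalleyStructure.CoxeterGeomTypes
open Cfsg.Agent.H650.Ppd (mf dim_ge_list edge_pow)
open Cfsg.Agent.H911 (lin)

/-- the Cartan matrix -/
def AF : Fin 4 → Fin 4 → ℤ := ![![2, -1, 0, 0], ![-1, 2, -2, 0], ![0, -1, 2, -1], ![0, 0, -1, 2]]

theorem cartan_eq : cartanOf chevF4 4 = AF := by decide +kernel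

/-- vertices -/
def vs : Fin 4 → List (List (Fin 4)) := ![
  [[], [0], [0, 1], [0, 1, 2], [0, 1, 2, 1], [0, 1, 2, 3], [0, 1, 2, 1, 0], [0, 1, 2, 1, 3], [0, 1, 2, 1, 0, 3], [0, 1, 2,
  1, 3, 2], [0, 1, 2, 1, 0, 3, 2], [0, 1, 2, 1, 3, 2, 1], [0, 1, 2, 1, 0, 3, 2, 1], [0, 1, 2, 1, 3, 2, 1, 0], [0, 1, 2, 1,
  0, 3, 2, 1, 0], [0, 1, 2, 1, 0, 3, 2, 1, 2], [0, 1, 2, 1, 0, 3, 2, 1, 0, 2], [0, 1, 2, 1, 0, 3, 2, 1, 2, 3], [0, 1, 2, 1,
  0, 3, 2, 1, 0, 2, 1], [0, 1, 2, 1, 0, 3, 2, 1, 0, 2, 3], [0, 1, 2, 1, 0, 3, 2, 1, 0, 2, 1, 3], [0, 1, 2, 1, 0, 3, 2, 1, 0,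
  2, 1, 3, 2], [0, 1, 2, 1, 0, 3, 2, 1, 0, 2, 1, 3, 2, 1], [0, 1, 2, 1, 0, 3, 2, 1, 0, 2, 1, 3, 2, 1, 0]],
  [[], [1], [1, 0], [1, 2], [1, 0, 2], [1, 2, 1], [1, 2, 3], [1, 0, 2, 1], [1, 0, 2, 3], [1, 2, 1, 0], [1, 2, 1, 3], [1, 0,
  2, 1, 0], [1, 0, 2, 1, 2], [1, 0, 2, 1, 3], [1, 2, 1, 0, 3], [1, 2, 1, 3, 2], [1, 0, 2, 1, 0, 2], [1, 0, 2, 1, 0, 3], [1,
  0, 2, 1, 2, 3], [1, 0, 2, 1, 3, 2], [1, 2, 1, 0, 3, 2], [1, 2, 1, 3, 2, 1], [1, 0, 2, 1, 0, 2, 1], [1, 0, 2, 1, 0, 2, 3],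
  [1, 0, 2, 1, 0, 3, 2]],
  [[], [2], [2, 1], [2, 3], [2, 1, 0], [2, 1, 2], [2, 1, 3], [2, 1, 0, 2], [2, 1, 0, 3], [2, 1, 2, 3], [2, 1, 3, 2], [2, 1,
  0, 2, 1], [2, 1, 0, 2, 3], [2, 1, 0, 3, 2], [2, 1, 2, 3, 2], [2, 1, 3, 2, 1], [2, 1, 0, 2, 1, 2], [2, 1, 0, 2, 1, 3], [2,
  1, 0, 2, 3, 2], [2, 1, 0, 3, 2, 1], [2, 1, 2, 3, 2, 1], [2, 1, 3, 2, 1, 0], [2, 1, 0, 2, 1, 2, 3], [2, 1, 0, 2, 1, 3, 2],
  [2, 1, 0, 2, 3, 2, 1]],
  [[], [3], [3, 2], [3, 2, 1], [3, 2, 1, 0], [3, 2, 1, 2], [3, 2, 1, 0, 2], [3, 2, 1, 2, 3], [3, 2, 1, 0, 2, 1], [3, 2, 1,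
  0, 2, 3], [3, 2, 1, 0, 2, 1, 2], [3, 2, 1, 0, 2, 1, 3], [3, 2, 1, 0, 2, 1, 2, 3], [3, 2, 1, 0, 2, 1, 3, 2], [3, 2, 1, 0,
  2, 1, 2, 3, 2], [3, 2, 1, 0, 2, 1, 3, 2, 1], [3, 2, 1, 0, 2, 1, 2, 3, 2, 1], [3, 2, 1, 0, 2, 1, 3, 2, 1, 0], [3, 2, 1, 0,
  2, 1, 2, 3, 2, 1, 0], [3, 2, 1, 0, 2, 1, 2, 3, 2, 1, 2], [3, 2, 1, 0, 2, 1, 2, 3, 2, 1, 0, 2], [3, 2, 1, 0, 2, 1, 2, 3, 2,
  1, 0, 2, 1], [3, 2, 1, 0, 2, 1, 2, 3, 2, 1, 0, 2, 1, 2], [3, 2, 1, 0, 2, 1, 2, 3, 2, 1, 0, 2, 1, 2, 3]]]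

/-- edges -/
def es : Fin 4 → List (List (Fin 4)) := ![
  [[], [1], [1, 0], [1, 2], [1, 0, 2], [1, 2, 1], [1, 2, 3], [1, 0, 2, 1], [1, 0, 2, 3], [1, 2, 1, 0], [1, 2, 1, 3], [1, 0,
  2, 1, 0], [1, 0, 2, 1, 2]],
  [[], [0], [2], [0, 1], [0, 2], [2, 1], [2, 3], [0, 1, 2], [0, 2, 1], [0, 2, 3], [2, 1, 0], [2, 1, 2], [2, 1, 3]],
  [[], [1], [3], [1, 0], [1, 2], [1, 3], [3, 2], [1, 0, 2], [1, 0, 3], [1, 2, 1], [1, 2, 3], [1, 3, 2], [3, 2, 1]],
  [[], [2], [2, 1], [2, 3], [2, 1, 0], [2, 1, 2], [2, 1, 3], [2, 1, 0, 2], [2, 1, 0, 3], [2, 1, 2, 3], [2, 1, 3, 2], [2, 1,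
  0, 2, 1], [2, 1, 0, 2, 3]]]

/-- vertices, two nodes -/
def v03 : List (List (Fin 4)) :=
  [[], [0], [3], [1, 0], [3, 0], [2, 3], [2, 1, 0], [3, 1, 0], [2, 3, 0], [1, 2, 3], [1, 2, 1, 0], [3, 2, 1, 0], [2, 3, 1,
  0], [1, 2, 3, 0], [0, 1, 2, 3], [2, 1, 2, 3], [0, 1, 2, 1, 0], [3, 1, 2, 1, 0], [2, 3, 2, 1, 0], [1, 2, 3, 1, 0], [0, 1,
  2, 3, 0], [2, 1, 2, 3, 0], [2, 0, 1, 2, 3], [3, 2, 1, 2, 3], [3, 0, 1, 2, 1, 0]]

/-- labels -/
def l0 : List (Fin 4 → ℤ) :=
  [![1, 0, 0, 0], ![-1, 1, 0, 0], ![0, -1, 2, 0], ![0, 1, -2, 2], ![1, -1, 0, 2], ![0, 1, 0, -2], ![-1, 0, 0, 2], ![1, -1,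
  2, -2], ![-1, 0, 2, -2], ![1, 1, -2, 0], ![-1, 2, -2, 0], ![2, -1, 0, 0], ![1, -2, 2, 0], ![-2, 1, 0, 0], ![-1, -1, 2, 0],
  ![1, 0, -2, 2], ![-1, 1, -2, 2], ![1, 0, 0, -2], ![0, -1, 0, 2], ![-1, 1, 0, -2], ![0, -1, 2, -2], ![0, 1, -2, 0], ![1,
  -1, 0, 0], ![-1, 0, 0, 0]]

/-- dual edges -/
def e0 : List (List (Fin 4)) :=
  [[0, 1, 0], [2, 1, 2, 0, 1, 0], [3, 2, 1, 2, 0, 1, 0], [2, 1, 2, 3, 2, 1, 2, 0, 1, 0], [0, 1, 2, 3, 1, 2, 0, 1, 2, 0, 1,
  0], [2, 1, 2, 0, 1, 2, 3, 1, 2, 0, 1, 2, 0, 1, 0], [3, 2, 1, 2, 0, 1, 2, 3, 1, 2, 0, 1, 2, 0, 1, 0], [2, 1, 2, 3, 2, 1, 2,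
  0, 1, 2, 3, 1, 2, 0, 1, 2, 0, 1, 0]]

/-- vertices -/
def u0 : List (List (Fin 4)) :=
  [[], [0], [1, 0], [2, 1, 0], [1, 2, 1, 0], [3, 2, 1, 0], [0, 1, 2, 1, 0], [3, 1, 2, 1, 0], [3, 0, 1, 2, 1, 0], [2, 3, 1,
  2, 1, 0], [2, 3, 0, 1, 2, 1, 0], [1, 2, 3, 1, 2, 1, 0], [1, 2, 3, 0, 1, 2, 1, 0], [0, 1, 2, 3, 1, 2, 1, 0], [0, 1, 2, 3,
  0, 1, 2, 1, 0], [2, 1, 2, 3, 0, 1, 2, 1, 0], [2, 0, 1, 2, 3, 0, 1, 2, 1, 0], [3, 2, 1, 2, 3, 0, 1, 2, 1, 0], [1, 2, 0, 1,
  2, 3, 0, 1, 2, 1, 0], [3, 2, 0, 1, 2, 3, 0, 1, 2, 1, 0], [3, 1, 2, 0, 1, 2, 3, 0, 1, 2, 1, 0], [2, 3, 1, 2, 0, 1, 2, 3, 0,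
  1, 2, 1, 0], [1, 2, 3, 1, 2, 0, 1, 2, 3, 0, 1, 2, 1, 0], [0, 1, 2, 3, 1, 2, 0, 1, 2, 3, 0, 1, 2, 1, 0]]

/-- labels -/
def l3 : List (Fin 4 → ℤ) :=
  [![0, 0, 0, 1], ![0, 0, 1, -1], ![0, 1, -1, 0], ![1, -1, 1, 0], ![-1, 0, 1, 0], ![1, 0, -1, 1], ![-1, 1, -1, 1], ![1, 0,
  0, -1], ![0, -1, 1, 1], ![-1, 1, 0, -1], ![0, 0, -1, 2], ![0, -1, 2, -1], ![0, 0, 1, -2], ![0, 1, -2, 1], ![0, 1, -1, -1],
  ![1, -1, 0, 1], ![1, -1, 1, -1], ![-1, 0, 0, 1], ![-1, 0, 1, -1], ![1, 0, -1, 0], ![-1, 1, -1, 0], ![0, -1, 1, 0], ![0, 0,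
  -1, 1], ![0, 0, 0, -1]]

/-- dual edges -/
def e3 : List (List (Fin 4)) :=
  [[3], [3, 2, 1, 2, 3, 2, 1, 2], [3, 2, 0, 1, 2, 3, 2, 1, 2], [3, 1, 2, 0, 1, 2, 3, 2, 1, 2], [2, 3, 2, 1, 2, 0, 1, 2, 3,
  0, 1, 2], [1, 2, 3, 2, 1, 2, 0, 1, 2, 3, 0, 1, 2], [0, 1, 2, 3, 2, 1, 2, 0, 1, 2, 3, 0, 1, 2], [3, 2, 1, 2, 0, 1, 2, 3, 2,
  1, 2, 0, 1, 2, 3, 2, 1, 2, 0, 1, 2]]

/-- vertices -/
def u3 : List (List (Fin 4)) :=
  [[], [3], [2, 3], [1, 2, 3], [0, 1, 2, 3], [2, 1, 2, 3], [2, 0, 1, 2, 3], [3, 2, 1, 2, 3], [1, 2, 0, 1, 2, 3], [3, 2, 0,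
  1, 2, 3], [2, 1, 2, 0, 1, 2, 3], [3, 1, 2, 0, 1, 2, 3], [3, 2, 1, 2, 0, 1, 2, 3], [2, 3, 1, 2, 0, 1, 2, 3], [2, 3, 2, 1,
  2, 0, 1, 2, 3], [1, 2, 3, 1, 2, 0, 1, 2, 3], [1, 2, 3, 2, 1, 2, 0, 1, 2, 3], [0, 1, 2, 3, 1, 2, 0, 1, 2, 3], [0, 1, 2, 3,
  2, 1, 2, 0, 1, 2, 3], [2, 1, 2, 3, 2, 1, 2, 0, 1, 2, 3], [2, 0, 1, 2, 3, 2, 1, 2, 0, 1, 2, 3], [1, 2, 0, 1, 2, 3, 2, 1, 2,
  0, 1, 2, 3], [2, 1, 2, 0, 1, 2, 3, 2, 1, 2, 0, 1, 2, 3], [3, 2, 1, 2, 0, 1, 2, 3, 2, 1, 2, 0, 1, 2, 3]]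

theorem nd_vs : ∀ i, ((vs i).map (DC.cf AF i)).Nodup ∧ ((es i).map (mf AF i)).Nodup ∧ 24 ≤ (vs i).length ∧
    (es i).length = 13 ∧ (i = 1 ∨ i = 2 → (vs i).length = 25) := by decide +kernel

section dim

variable {W Y : Type*} [Group W] [Group Y] {M : CoxeterMatrix (Fin 4)} {cs : CoxeterSystem M W} {A : Fin 4 → Fin 4 → ℤ}
  {h : IsCartan M A} {p : ℕ} {T : Subgroup Y} {n : Fin 4 → Y} {X : (Fin 4 → ℤ) → Subgroup Y} {k V : Type*} [Field k]
  [AddCommGroup V] [Module k V] (R : RGD cs h p T n X) [Finite Y] [Finite W] [Fact p.Prime] [CharP k p]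
  {ρ : Y →* Module.End k V} [FiniteDimensional k V] [Nontrivial V]
  (hirr : ∀ L : Submodule k V, Ivt ρ (GG cs h T X) L → L = ⊥ ∨ L = ⊤) (hA : A = AF)
  (hD : Module.finrank k (D cs h X ρ) = 1) {i : Fin 4} (hi : i ∉ Jx cs h X ρ)
include R hirr hA hD hi

theorem dim_edge : (vs i).length + 13 * Module.finrank k (Le cs h T X ρ {i}) ≤ Module.finrank k V + 26 := by
  subst hA
  have h1 := dim_ge_list R hirr hi _ _ (nd_vs i).1 (nd_vs i).2.1
  have h2 := finrank_Io R hirr i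
  rw [hD, (nd_vs i).2.2.2.1] at h1
  omega

/-- **the least dimension** -/
theorem dim_ge (h2 : ∀ j, j ∉ Jx cs h X ρ → 2 ≤ Module.finrank k (Le cs h T X ρ {j})) : 25 ≤ Module.finrank k V := by
  by_contra hlt
  have h1 : ∀ j, j = 1 ∨ j = 2 → j ∈ Jx cs h X ρ := fun j hj => by_contra fun hj' => by
    have h3 := dim_edge R hirr hA hD hj'
    have h4 := h2 j hj'
    rw [(nd_vs j).2.2.2.2 hj] at h3
    omega
  have h3 := dim_edge R hirr hA hD hi
  have h4 := (nd_vs i).2.2.1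
  have hD0 : D cs h X ρ ≠ ⊥ := fun e => by
    rw [e, finrank_bot] at hD
    cases hD
  subst hA
  have h5 : 0 ∈ Jx cs h X ρ ∨ 3 ∈ Jx cs h X ρ := by
    by_contra h5
    have h6 := length_le R hirr [0, 3] (by simpa [not_or] using h5) v03 (by decide +kernel)
    rw [hD] at h6
    exact hlt h6
  have hJ : ∀ j, j ∉ Jx cs h X ρ ↔ j = i := fun j => ⟨fun hj => by
    have h6 := h1 i
    have h7 := h1 j
    fin_cases i <;> fin_cases j <;> simp_all only [_root_.not_le, _root_.Fin.isValue, _root_.forall_eq_or_imp, _root_.forall_eq, _root_.ne_eq, _root_.Fin.zero_eta, _root_.zero_ne_one, _root_.Fin.reduceEq, _root_.or_self, _root_.implies_true, _root_.not_false_eq_true, _root_.Fin.mk_one, _root_.not_true_eq_false, _root_.Fin.reduceFinMk], fun e => e ▸ hi⟩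
  have hK : ∀ L : List (List (Fin 4)), (L.map fun ω => [i].map fun i => lbw AF i ω).Nodup → L.length = 24 →
      Kv cs h R.nsys X ρ = ⊥ := fun L h6 h7 => by
    have h8 := Kv_bound R hirr [i] (by simpa using hi) L h6
    rw [hD, h7] at h8
    exact Submodule.finrank_eq_zero.1 (by omega)
  have h6 : i = 0 ∨ i = 3 := by
    have h6 := h1 i
    fin_cases i <;> simp_all only [_root_.not_le, _root_.Fin.zero_eta, _root_.Fin.isValue, _root_.forall_eq, _root_.forall_eq_or_imp, _root_.ne_eq, _root_.List.map_cons, _root_.List.map_nil, _root_.zero_ne_one, _root_.Fin.reduceEq, _root_.or_self, _root_.IsEmpty.forall_iff, _root_.or_false, _root_.Fin.mk_one, _root_.not_true_eq_false, _root_.Fin.reduceFinMk, _root_.or_true]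
  rcases h6 with rfl | rfl
  · exact kill R hirr hJ (by omega) (hK u0 (by decide +kernel) rfl) hD0 (a := 0) (b := 1) (by decide) [2, 3, 1, 2, 0, 1, 2, 0, 1, 0]
      [2, 1, 2, 3, 2, 1, 2, 0, 1] [1, 2, 3, 0, 1, 2, 1, 0] l0 e0 (by decide +kernel) (by decide +kernel) (by decide +kernel)
      (by decide +kernel) (by decide +kernel) (by decide +kernel) (by decide +kernel) (by decide +kernel)
  · exact kill R hirr hJ (by omega) (hK u3 (by decide +kernel) rfl) hD0 (a := 2) (b := 3) (by decide) [2, 1, 2, 0, 1, 2, 3, 0, 1, 2]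
      [1, 2, 0, 1, 2, 3, 2, 1, 2] [3, 2, 1, 2, 0, 1, 2, 3] l3 e3 (by decide +kernel) (by decide +kernel) (by decide +kernel)
      (by decide +kernel) (by decide +kernel) (by decide +kernel) (by decide +kernel) (by decide +kernel)

end dim

open Cfsg.Agent.H64.CrossChev (nd isType_F4) in
theorem boxF : BoxF := by
  intro n m p hp F _ _ _ K _ _ _ P h hm ⟨e⟩
  have := Fintype.ofFinite F
  obtain ⟨a, -, hF⟩ := FiniteField.card F p
  obtain ⟨b, -, hK⟩ := FiniteField.card K p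
  rw [← Nat.card_eq_fintype_card] at hF
  have : Finite CoxeterMatrix.F₄.Group := Nodes.RGDChev.finite_W isType_F4 CoxeterMatrix.F₄.toCoxeterSystem
  have hC := h.core
  obtain ⟨Y, _, _, φ, π, h88⟩ := Tool.lift hC
    (Nodes.RGDChev.rgd (K := K) isType_F4 CoxeterMatrix.F₄.toCoxeterSystem p)
    (Nodes.RGDChev.G1_eq_top isType_F4 CoxeterMatrix.F₄.toCoxeterSystem)
    (fun s hs t ht => Subtype.ext (H2.Ppd.diag_comm isType_F4.inList hs ht)) (E := fun _ => K)
    (nd isType_F4 KFacts.MulOdd.InstChev.parity_F4 K) e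
  revert h88; rintro ⟨n', θ', hφ, hφi, -, h88⟩
  revert h88; rintro ⟨-, -, -, R, hgen, h88⟩
  revert h88; rintro ⟨hG, hT, -, N⟩
  have hne : Nonempty (Fin n) := hC.nonempty
  have hchar : CharP (AlgebraicClosure F) p := charP_of_injective_algebraMap (algebraMap F _).injective p
  have hirr := acRep_irr hφ (H920.span_eq_top hC.absIrred) hG
  have hD := finrank_D R hirr hT
  obtain ⟨i, hi⟩ := (Set.ne_univ_iff_exists_notMem _).1 (H218.SdLift.Jx_ne_univ R hirr hgen (by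
    by_contra hcon
    push Not at hcon
    refine hC.nonabelian ⟨⟨fun x y => ?_⟩⟩
    obtain ⟨⟨x, hx⟩, rfl⟩ := QuotientGroup.mk_surjective x
    obtain ⟨⟨y, hy⟩, rfl⟩ := QuotientGroup.mk_surjective y
    rw [← hφ] at hx hy
    obtain ⟨x, rfl⟩ := hx
    obtain ⟨y, rfl⟩ := hy
    obtain rfl : x = y := (H218.SdLift.acRep_injective hφi (hcon x)).trans (H218.SdLift.acRep_injective hφi (hcon y)).symm
    rfl))
  obtain ⟨s, hs⟩ := Nat.gcd_dvd_right a b
  have hg : 0 < Nat.gcd a b := Nat.gcd_pos_of_pos_left _ a.pos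
  have hs0 : 0 < s := Nat.pos_of_mul_pos_left (hs ▸ b.pos)
  have h1 : ∀ j, j ∉ Jx _ isType_F4.isCartan _ (lin (acRep φ)) → 2 ^ s ≤ _ := fun j hj => by
    obtain ⟨d, hd, e⟩ := edge_pow R hG hT hφ hC.absIrred (N j) hj (s := s) hF (Nat.card_eq_fintype_card.trans hK)
      (by rw [mul_comm, ← hs])
    exact e ▸ Nat.pow_le_pow_left hd s
  have h2 := dim_edge R hirr cartan_eq hD hi
  have h3 := dim_ge R hirr cartan_eq hD hi fun j hj => (Nat.le_self_pow hs0.ne' 2).trans (h1 j hj)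
  have h4 := h1 i hi
  have h5 := (nd_vs i).2.2.1
  rw [Module.finrank_fintype_fun_eq_card, Fintype.card_fin] at h2 h3
  rw [hF, hK, ← pow_mul, ← pow_mul, Nat.pow_right_inj hp.out.one_lt] at hm
  have h6 : m ≤ 12 * s := by
    refine Nat.le_of_mul_le_mul_left ((Nat.mul_le_mul_right m (Nat.gcd_le_left b a.pos)).trans ?_) hg
    rw [hm]
    nth_rewrite 1 [hs]
    exact le_of_eq (by ring)
  have h7 := h.hi
  have h8 : s = 1 := by
    by_contra h8
    have h9 := H2.Ppd.two_mul_le_two_pow hs0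
    omega
  obtain rfl : m = 12 := by omega
  exact ⟨by rw [hK, hF, show (b : ℕ) = a by omega], by omega⟩

end Cfsg.Agent.SM.Ti.F
end

private theorem dce_fed35ec1dbdb : _root_.True := by
  try have : _root_.True := by simp only [_root_.Cfsg.Agent.H924.D5.Kv.congr_simp]
  try have : _root_.True := by simp only [_root_.Cfsg.Agent.SM.Ti.G.g0.eq_1]
  exact _root_.True.intro
end

-- part: SM/Ti/C
section
prune_inst 0x20301600308000000018051070001c66d6000002004b8800a1c0020004c10c40a0000e213eb001101022884400380060020800000000000000000400011d0080008016029008a008200080800084000000000000000000000000000000000000000000000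
set_option linter.all false
open scoped Cfsg.Agent.FastGrp

/-!
# S3570, tight cores: `PSp_2l(K)` in the borderline case (helper35)

* `twenty` : type `C_4`, `J^c = {3}`, `p` odd, `σ_2(-1)` commutes with a representative of `s_3` : the degree is at least `20`;
* `exists_pair` : the nodes `l - 2`, `l - 1` of the symplectic group;
* **`boxC`**.
-/

set_option autoImplicit false
set_option linter.unusedSectionVars false
set_option linter.style.haveILetI false

namespace Cfsg.Agent.SM.Ti.C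

open CoxeterSystem Cfsg.Agent.ChevalleyStructure.CoxeterGeom Cfsg.Agent.Tits.Roots Cfsg.Agent.Tits.Core
  Cfsg.Agent.Tits.Exchange Cfsg.Agent.Nodes.Reps Cfsg.Agent.Nodes.BNOf Cfsg.Agent.Nodes.StabComb
  Cfsg.Agent.Nodes.Bruhat Cfsg.Agent.Nodes.OppDec Cfsg.Agent.Nodes.LeviDec Cfsg.Agent.KFacts.RgdOpp
  Cfsg.Agent.Omega.CR Cfsg.Agent.Omega.FOne.Lift.Sd Cfsg.Agent.H905.Md
open Cfsg.Agent.Nodes.TypeC (A isCartan nx ng)
open Cfsg Cfsg.Geo
open Cfsg.Agent.H915.LD
open Cfsg.Agent.H911 (lin)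
open Cfsg.Agent.H650.Ppd (Nd)
open Cfsg.Agent.H905.DC (co cf fire co_wordProd)
open Cfsg.Agent.H911.SLTwo (U Lo hh ww)
open Cfsg.Agent.H117.Levi (lrk one_le_lrk)
open scoped MatrixGroups

universe u

/-! ### the parity argument -/

/-- the vertices: four moved by the node `2`, eight fixed -/
def L12 : Fin 12 → List (Fin 4) := ![[3], [3, 2, 1, 3], [3, 2, 1, 0, 3], [3, 2, 1, 0, 3, 2, 1, 3], [], [3, 2, 1], [3, 2, 3],
  [3, 2, 1, 0], [3, 2, 1, 3, 2, 3], [3, 2, 1, 0, 3, 2, 1], [3, 2, 1, 0, 3, 2, 3], [3, 2, 1, 0, 3, 2, 1, 3, 2, 3]]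

theorem L_min : ∀ a m, 0 ≤ cf (A 4) m (L12 a) 2 := by decide +kernel

theorem L_ne : ∀ a a', a ≠ a' →
    (([3] : List (Fin 4)).map fun s => cf (A 4) s (L12 a)) ≠ (([3] : List (Fin 4)).map fun s => cf (A 4) s (L12 a')) ∧
    (([3] : List (Fin 4)).map fun s => fire (A 4) (cf (A 4) s (L12 a)) 2) ≠
      ([3] : List (Fin 4)).map fun s => cf (A 4) s (L12 a') := by decide +kernel

theorem L_mv : ∀ a : Fin 12, (a : ℕ) < 4 → cf (A 4) 3 (L12 a) 2 ≠ 0 ∧ cf (A 4) 3 (L12 a ++ [3]) 2 = 0 := by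
  decide +kernel

section

variable {W Y : Type*} [Group W] [Group Y] {cs : CoxeterSystem (CoxeterMatrix.B 4) W} {p : ℕ} {T : Subgroup Y}
  {nn : Fin 4 → Y} {X : (Fin 4 → ℤ) → Subgroup Y}
  {F : Type u} [Field F] [Finite F] {ι : Type} [Fintype ι] [DecidableEq ι] {P : Subgroup (GL ι F)}
  {E : Type} [Field E] [Fintype E]

/-- **Type `C_4`, the last node, odd characteristic.** -/
theorem twenty [Finite Y] [Finite W] [hp : Fact p.Prime] [CharP F p] [CharP E p] (R : RGD cs (isCartan 4) p T nn X)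
    (hC : Core P) (hG : GG cs (isCartan 4) T X = ⊤) (hT : ∀ s ∈ T, ∀ t ∈ T, s * t = t * s) {φ : Y →* GL ι F}
    (hφ : φ.range = P) {σ : SL(2, E) →* Y} (N : Nd T X 2 σ) (hp2 : p ≠ 2) {k : Y}
    (hk : Rp cs R.nsys (cs.simple 3) k) (hc : σ (hh (-1)) * k = k * σ (hh (-1)))
    (hJ : ∀ j, j ∉ Jx cs (isCartan 4) X (lin (acRep φ)) ↔ j = 3) : 20 ≤ Fintype.card ι := by
  have hne := hC.nonempty
  have hchar : CharP (AlgebraicClosure F) p := charP_of_injective_algebraMap (algebraMap F _).injective p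
  have hirr := ac_irr R hG hT hφ hC.absIrred
  have hi : (3 : Fin 4) ∉ Jx cs (isCartan 4) X (lin (acRep φ)) := (hJ 3).2 rfl
  choose g hg using fun a : Fin 12 => exists_rp cs R.nsys (cs.wordProd (L12 a))⁻¹
  have h1 := Tool.levi_list R hC hG hT hφ 2 [3] (by simpa using hi) L12 L_min L_ne g hg
  have h2 : ∀ a : Fin 12, (if (a : ℕ) < 4 then 3 else 1) ≤ lrk cs (isCartan 4) T X (lin (acRep φ)) {2} (g a) := by
    intro a
    split_ifs with ha
    swap
    · exact one_le_lrk R hirr _ _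
    obtain ⟨m1, m2⟩ := L_mv a ha
    refine Tool.par R hC hG hT hφ N hp2 (hg a) (Tool.min_word (L_min a)) (Tool.moved_word (isCartan 4) hi m1) ?_
    intro v hv
    have hg' := hk.mul (hg a)
    have hr : rep cs (isCartan 4) (cs.simple 3 * (cs.wordProd (L12 a))⁻¹)⁻¹ (sr 2) ∈
        RootsJ cs (isCartan 4) (Jx cs (isCartan 4) X (lin (acRep φ))) := by
      refine ⟨(isRoot_sr cs (isCartan 4) 2).act _, fun j hj => ?_⟩
      rw [(hJ j).1 hj, _root_.mul_inv_rev, inv_inv, cs.inv_simple, ← cs.wordProd_singleton, ← cs.wordProd_append]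
      rw [← co_wordProd cs (isCartan 4)] at m2
      exact m2
    let H : Subgroup SL(2, E) := (H924.D5.stb (lin (acRep φ)) v).comap
      ((MulAut.conj (k * g a)⁻¹).toMonoidHom.comp σ)
    have hH : ∀ y, y ∈ H ↔ lin (acRep φ) ((k * g a)⁻¹ * σ y * (k * g a)) v = v := by
      intro y
      change lin (acRep φ) ((k * g a)⁻¹ * σ y * ((k * g a)⁻¹)⁻¹) v = v ↔ _
      rw [inv_inv]
    have h3 : hh (-1) ∈ H := by
      refine H650.Ppd.mem_of_UL (fun t => (hH _).2 ?_) (fun t => (hH _).2 ?_) _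
      · exact X_fix_J R hirr hr (R.conj_mem' hg' (isRoot_sr cs _ 2) ((N.up _).2 ⟨t, rfl⟩)) hv
      · have h4 := R.conj_mem' hg' (isRoot_sr cs _ 2).neg ((N.lo _).2 ⟨t, rfl⟩)
        rw [map_neg] at h4
        exact X_fix_J R hirr (RootsJ.neg hr) h4 hv
    rw [hH] at h3
    have e : (k * g a)⁻¹ * σ (hh (-1)) * (k * g a) = (g a)⁻¹ * σ (hh (-1)) * g a := by
      rw [_root_.mul_inv_rev, mul_assoc, ← mul_assoc (σ (hh (-1))), hc]
      group
    rwa [e] at h3
  have h3 := (Finset.sum_le_sum fun a (_ : a ∈ Finset.univ) => h2 a).trans h1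
  have h4 : ∑ a : Fin 12, (if (a : ℕ) < 4 then 3 else 1) = 20 := by decide +kernel
  rwa [h4] at h3

end

/-! ### the symplectic group -/

section sp

open Cfsg.Agent.Nodes Cfsg.Agent.Nodes.WittRoot Cfsg.Agent.Nodes.WittRGD Cfsg.Agent.Nodes.WittAll
open Cfsg.Agent.TitsThree Cfsg.Agent.TitsThree.Siegel Cfsg.Agent.TitsThree.WittFrame Cfsg.Agent.TitsThree.SpIdent
open Cfsg.Agent.H62.FrameSL

theorem lin_comm {F V : Type*} [Field F] [AddCommGroup V] [Module F V] {H : HForm F V} {n : ℕ} (Fr : Frame H (Fin n))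
    {i j : Fin n} (hij : i ≠ j) (g : SL(2, F)) :
    phiS Fr hij (hh (-1)) * phiL Fr j g = phiL Fr j g * phiS Fr hij (hh (-1)) := by
  have hε := H.ε_ne
  ext v
  rw [LinearEquiv.mul_apply, LinearEquiv.mul_apply, phiS_apply, phiL_apply, phiL_apply, phiS_apply, linL_apply Fr j _ v,
    linS_apply Fr i j _ v]
  simp only [linS_apply, linL_apply, H911.SLTwo.hh00, H911.SLTwo.hh01, H911.SLTwo.hh10, H911.SLTwo.hh11, H.add_left,
    H.smul_left, H62.FrameSL.ht, H62.FrameSL.hf, H62.FrameSL.hs, hn Fr hij, hn Fr hij.symm, mul_zero, mul_one, add_zero,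
    zero_add, inv_neg, inv_one, Units.val_neg, Units.val_one, map_neg, map_one, map_zero, neg_zero, zero_mul, sub_zero]
  match_scalars <;> field_simp <;> ring

variable {m : ℕ} {K : Type*} [Field K] {G0 : Subgroup ((Fin m ⊕ Fin m → K) ≃ₗ[K] (Fin m ⊕ Fin m → K))}

/-- the last two nodes -/
theorem exists_pair (hle : ∀ x, rg (frame m K) x ≤ G0) {i j : Fin m} (hij : (i : ℕ) + 1 = j) (hj : (j : ℕ) + 1 = m) :
    ∃ σ τ : SL(2, K) →* G0,
      Nd ((Tor (frame m K) G0).subgroupOf G0) (fun x => (rg (frame m K) x).subgroupOf G0) i σ ∧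
      Nd ((Tor (frame m K) G0).subgroupOf G0) (fun x => (rg (frame m K) x).subgroupOf G0) j τ ∧
      ∀ g, σ (hh (-1)) * τ g = τ g * σ (hh (-1)) := by
  have hi : (i : ℕ) + 1 < m := by omega
  obtain rfl : j = ⟨i + 1, hi⟩ := Fin.ext hij.symm
  have hne : i ≠ ⟨i + 1, hi⟩ := by
    intro e
    have := congrArg Fin.val e
    simp only at this
    omega
  have hu : ∀ y, y ∈ rg (frame m K) (sr i) ↔ ∃ t, phiS (frame m K) hne (U t) = y := by
    intro y
    rw [rg_sr, PG_ne (frame m K) (H61.SUNode.ne_nx hi), H61.SUNode.nx_of_lt hi, mem_XG]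
    exact exists_congr fun t => eq_comm.trans (iff_of_eq (congrArg (· = y) (phiS_up (frame m K) hne t).symm))
  have hl : ∀ y, y ∈ rg (frame m K) (-sr i) ↔ ∃ t, phiS (frame m K) hne (Lo t) = y := by
    intro y
    rw [rg_neg_sr, PG_ne (frame m K) (a := ng (i, true)) (b := ng (nx i)) (H61.SUNode.ne_nx hi),
      XG_swap (frame m K) (a := ng (i, true)) (b := ng (nx i)) (H61.SUNode.ne_nx hi), H61.SUNode.nx_of_lt hi, mem_XG]
    exact exists_congr fun t => eq_comm.trans (iff_of_eq (congrArg (· = y) (phiS_lo (frame m K) hne t).symm))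
  obtain ⟨σ, h1, h2⟩ := H948.Ppd.exists_nd hle (phiS (frame m K) hne) hu hl (H948.Ppd.phiS_hh hne)
  have hnx : nx (⟨i + 1, hi⟩ : Fin m) = (⟨i + 1, hi⟩, true) := by
    unfold nx
    rw [dif_neg (by omega)]
  obtain ⟨τ, h3, h4⟩ := H948.Ppd.exists_nd (Fr := frame m K) (G0 := G0) hle (i := ⟨i + 1, hi⟩)
    (phiL (frame m K) ⟨i + 1, hi⟩) (fun y => by
    rw [rg_sr, hnx, PG_self, H650.Ppd.mem_ZG]
    constructor
    · rintro ⟨t, e⟩
      exact ⟨-t, (phiL_up _ (-t)).trans (by rw [_root_.neg_neg, e])⟩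
    · rintro ⟨t, rfl⟩
      exact ⟨-t, phiL_up _ t⟩) (fun y => by
    rw [rg_neg_sr, hnx, PG_self, H650.Ppd.mem_ZG]
    constructor
    · rintro ⟨t, e⟩
      exact ⟨t, (phiL_lo _ t).trans e.symm⟩
    · rintro ⟨t, rfl⟩
      exact ⟨t, phiL_lo _ t⟩) (H650.Ppd.mono_phiL_hh _)
  refine ⟨σ, τ, Nd.ofH948 h2, Nd.ofH948 h4, fun g => Subtype.ext ?_⟩
  rw [Subgroup.coe_mul, Subgroup.coe_mul, h1, h3]
  exact lin_comm _ hne g

end sp

open Cfsg.Agent.Nodes Cfsg.Agent.Nodes.WittRoot Cfsg.Agent.Nodes.WittRGD Cfsg.Agent.Nodes.WittAll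
  Cfsg.Agent.TitsThree Cfsg.Agent.TitsThree.Siegel Cfsg.Agent.TitsThree.WittFrame Cfsg.Agent.TitsThree.FrameCN
  Cfsg.Agent.H925.Nat in
open Cfsg.Agent.H948.Ppd (TB XB NB rgdB) in
/-- **[Ti-C]** -/
theorem boxC : BoxC := by
  intro n m p hp F _ _ _ K _ _ _ P h l hl h3 hm ⟨e⟩
  have hC := h.core
  have hK : 3 ≤ l ∨ (l = 2 ∧ 3 ≤ Nat.card K) ∨ 4 ≤ Nat.card K := by
    rcases Nat.lt_or_ge l 3 with h1 | h1
    · exact Or.inr (Or.inl ⟨by omega, by rw [Nat.card_eq_fintype_card]; exact h3 (by omega)⟩)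
    · exact Or.inl h1
  obtain ⟨j, hj, hjK⟩ := H650.Ppd.exists_card p hC (by omega) hK e
  obtain ⟨φ₀, hφ₀, -, -⟩ := psp_cover p hC.perfect (by omega) hK e
  have hWf : Finite (CoxeterMatrix.B l).Group := TypeC.finite_W (CoxeterMatrix.B l).toCoxeterSystem
  have hfin := H948.Ppd.finite_GL (K := K) (ν := Fin l ⊕ Fin l)
  let M := H62.SpCross.model l K
  let φ : M.I →* GL (Fin n) F := φ₀.comp (H62.SpCross.isoSp l K).toMonoidHom
  have hφ : φ.range = P := by
    rw [← hφ₀]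
    ext y
    constructor
    · rintro ⟨x, rfl⟩
      exact ⟨_, rfl⟩
    · rintro ⟨x, rfl⟩
      obtain ⟨z, rfl⟩ := (H62.SpCross.isoSp l K).surjective x
      exact ⟨z, rfl⟩
  have hA : AmbT (SpIdent.frame l K) p M.I := AmbT.of_amb Nodes.WittU.amb_Sp p
  have hp0 : (SpIdent.adm (m := l) (1 : K)).c ≠ 0 := one_ne_zero
  have R := rgdB hA hp0 (CoxeterMatrix.B l).toCoxeterSystem
  have hG : GG (CoxeterMatrix.B l).toCoxeterSystem (isCartan l) (TB M) (XB M) = ⊤ := by
    have h1 := WittModel.G1_eq_top M (by omega) (CoxeterMatrix.B l).toCoxeterSystem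
    have h2 : WittModel.X M = XB M := funext fun x => Subgroup.map_id _
    rw [h2] at h1
    exact eq_top_iff.2 (h1.ge.trans le_sup_right)
  have hT : ∀ s ∈ TB M, ∀ t ∈ TB M, s * t = t * s := fun s hs t ht =>
    Subtype.ext (torus_comm hA.V0 (Or.inl rfl) (hA.iso _ s.2) (hA.iso _ t.2) hs.2 ht.2)
  have hN : ∀ i, ∃ σ : SL(2, K) →* M.I, Nd (TB M) (XB M) i σ := H650.Ppd.nd_Sp (G0 := M.I) hA.rg_le
  obtain ⟨rfl, h4⟩ := BC.bord_B h R hG hT hφ hN hl hj hjK.symm (by rw [hm, Nat.card_eq_fintype_card])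
  rw [pow_one, Nat.card_eq_fintype_card (α := K)] at hjK
  refine ⟨hjK.symm, ?_⟩
  rcases h4 with ⟨h5, h6, -⟩ | ⟨rfl, h6, h7, -⟩
  · exact Or.inl ⟨h5, h6⟩
  right
  have hJ : ∀ j, j ∉ Jx (CoxeterMatrix.B 4).toCoxeterSystem (isCartan 4) (XB M) (lin (acRep φ)) ↔ j = 3 := fun j => by
    rw [h7, Fin.ext_iff]
    rfl
  have hp2 : p = 2 := by
    by_contra hp2
    obtain ⟨σ, τ, N, N', hc⟩ := exists_pair (G0 := M.I) hA.rg_le (i := 2) (j := 3) rfl rfl
    have h8 := twenty R hC hG hT hφ N hp2 (H948.Ppd.Nd.rp_ww R ⟨N'.up, N'.lo, N'.tor⟩) (hc ww) hJ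
    rw [Fintype.card_fin] at h8
    omega
  subst hp2
  have h16 : n = 16 := by
    have := Fintype.ofFinite F
    obtain ⟨a, -, ha⟩ := FiniteField.card F 2
    have h8 := (h.seven (by rw [Nat.card_eq_fintype_card, ha]; exact (Nat.even_pow' a.ne_zero).2 even_two)).2
    omega
  exact ⟨rfl, h16, rfl, BC.fixQ_spin hC hφ R hG hT hJ (by rw [Fintype.card_fin]; omega)⟩

end Cfsg.Agent.SM.Ti.C
end

-- part: SM/Ti/B/Main
section
set_option linter.all false
open scoped Cfsg.Agent.FastGrp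

/-!
# S3570, tight cores, `PΩ_{2l+1}(K)`: the borderline case (helper53, `notes/SM/ti.md`)

* `boxB : BoxB`.
-/

set_option autoImplicit false
set_option linter.unusedSectionVars false
set_option linter.style.haveILetI false

namespace Cfsg.Agent.SM.Ti.B

open CoxeterSystem Cfsg.Agent.ChevalleyStructure.CoxeterGeom Cfsg.Agent.Tits.Roots Cfsg.Agent.Tits.Core
  Cfsg.Agent.Nodes.Reps Cfsg.Agent.Nodes.BNOf Cfsg.Agent.Nodes.Bruhat Cfsg.Agent.Nodes.RGDLib
open Cfsg.Agent.Nodes Cfsg.Agent.Nodes.WittRoot Cfsg.Agent.Nodes.WittRGD Cfsg.Agent.Nodes.WittAll Cfsg.Agent.Nodes.WittInst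
open Cfsg.Agent.Nodes.TypeC (isCartan)
open Cfsg.Agent.TitsThree.Siegel Cfsg.Agent.TitsThree.SiegelGen Cfsg.Agent.TitsThree.WittFrame Cfsg.Agent.TitsThree.FrameCN
  Cfsg.Agent.TitsThree.WBridge Cfsg.Agent.TitsThree.KSideO Cfsg.Agent.TitsThree Cfsg.Agent.TitsThree.StdData
open Cfsg.Agent.LieClassical Cfsg.Agent.LieClassical.OrthCore Cfsg.Agent.LieClassical.OrthTrans
open Cfsg.Agent.LieClassical.OrthSimple Cfsg.Agent.LieClassical.OrthFinite Cfsg.Agent.LieClassical.OrthForms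
open Cfsg.Agent.H915.LD Cfsg.Agent.H911 Cfsg.Agent.H905.Md Cfsg.Agent.H925.Nat Cfsg.Agent.Nodes.RGDLift
open Cfsg.Agent.H156.Ppd (Cov lrep exists_cov)
open Cfsg.Agent.H948.Ppd
open Cfsg.Agent.Omega.CR Cfsg.Agent.Omega.FOne.Lift.Sd
open Cfsg Cfsg.Geo QuadraticMap
open scoped MatrixGroups Matrix

theorem core {n m p : ℕ} [hp : Fact p.Prime] {F : Type} [Field F] [Finite F] [hFp : CharP F p] {K : Type} [Field K]
    [Fintype K] [hKp : CharP K p] {P : Subgroup (GL (Fin n) F)} (h : Tc m P) {l : ℕ} (hl : 3 ≤ l)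
    (hodd : Odd (Fintype.card K)) (hm : Nat.card F ^ m = Fintype.card K ^ (2 * l))
    (e : Soc P ≃* POmega K (quadFormOdd l K)) : Fintype.card K = Nat.card F ∧ l = 4 ∧ n = 16 := by
  have hC := h.core
  have h2 : (2 : K) ≠ 0 := Ring.two_ne_zero fun h3 => by
    have h4 := FiniteField.even_card_of_char_two h3
    have := Nat.odd_iff.1 hodd
    omega
  have hp2 : p ≠ 2 := by
    rintro rfl
    exact h2 (by exact_mod_cast CharP.cast_eq_zero K 2)
  have hG : Good (oddForm l K) := by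
    apply good_of_finite (nondeg_oddForm l K h2)
    rw [Module.finrank_fintype_fun_eq_card, Fintype.card_sum, Fintype.card_sum, Fintype.card_fin,
      Fintype.card_unit]
    omega
  have hp0 : ((embOdd l K).ngt ⟨1, -1 ^ 2, rfl⟩).c ≠ 0 := by
    change (1 : K)⁻¹ * (-1 ^ 2) ≠ 0
    simp
  have e' := e
  rw [← coe_oddForm] at e'
  have hWf : Finite (CoxeterMatrix.B l).Group := TypeC.finite_W (CoxeterMatrix.B l).toCoxeterSystem
  set M := model (wodd l K) hG ⟨_, hp0⟩ with hM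
  have hA : AmbT (toFrame (wodd l K)) p M.I := AmbT.of_amb (amb_O_of_two _ h2) p
  have hperf : commutator ↥M.I = ⊤ := H911.Five.commutator_top hG.E_perfect
  obtain ⟨Y, _, _, f, φ, n₁, C⟩ := exists_covB hC hA hp0 (by omega) hperf e'
  have hNd : ∀ i, ∃ σ' : SL(2, K) →* M.I, Nd (TB M) (XB M) i σ' := by
    intro i
    by_cases hi : (i : ℕ) + 1 < l
    · exact nd_long hA.rg_le hi
    · exact nd_last_odd h2 (H48.OMult.span_odd K l) hA.rg_le hi
  have hT' : ∀ s ∈ TB M, ∀ t ∈ TB M, s * t = t * s := by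
    intro s hs t ht
    exact Subtype.ext (torus_comm hA.V0 (kd_odd h2 l) (hA.iso _ s.2) (hA.iso _ t.2) hs.2 ht.2)
  obtain ⟨hT, hpow⟩ := lift_comm_pow C hp0 hT' (N₀ := Nat.card K) fun i => by
    obtain ⟨σ', N⟩ := hNd i
    exact ⟨K, inferInstance, inferInstance, inferInstance, σ', N, fun x => by
      rw [Nat.card_eq_fintype_card]; exact FiniteField.pow_card x⟩
  obtain ⟨a, -, ha⟩ := FiniteField.card K p
  rw [← Nat.card_eq_fintype_card] at ha
  obtain ⟨j, hj, hjK⟩ := C.exists_j hC hT (a := a) a.ne_zero (by rw [← ha]; exact hpow)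
  rw [← ha] at hjK
  have hGG := gg_eq_top (T := (TB M).comap f) C.gen
  obtain ⟨rfl, h3⟩ := BC.bord_B h C.rgd hGG hT C.range (fun i => by
    obtain ⟨σ', N'⟩ := hNd i
    obtain ⟨σ, -, N⟩ := lift_nd C hp0 N'
    exact ⟨σ, N.up, N.lo, N.tor⟩) (by omega) hj hjK.symm (by rw [hm, Nat.card_eq_fintype_card])
  rw [pow_one, Nat.card_eq_fintype_card (α := K)] at hjK
  have hlast : ∀ k : Fin l, ¬ (k : ℕ) + 1 < l → ∃ σ : SL(2, K) →* Y, σ (H911.SLTwo.hh (-1)) ∈ Subgroup.center Y ∧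
      H650.Ppd.Nd ((TB M).comap f) (fun x => lft p f (XB M x)) k σ := by
    intro k hk
    obtain ⟨σ', h1, N'⟩ := nd_last h2 (H48.OMult.span_odd K l) hA.rg_le hk
    obtain ⟨σ, h4, N⟩ := lift_nd C hp0 N'
    exact ⟨σ, C.ker ((h4 _).trans h1), N.up, N.lo, N.tor⟩
  rcases h3 with ⟨rfl, rfl, h3⟩ | ⟨rfl, h4, h3, -⟩
  · obtain ⟨σ, hz, N⟩ := hlast 2 (by decide)
    exact absurd (kill3 C.rgd hC hGG hT C.range N hp2 hz (by decide) ((h3 1).2 rfl)) (by decide)
  · obtain ⟨σ, hz, N⟩ := hlast 3 (by decide)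
    refine ⟨hjK.symm, rfl, h4.resolve_right ?_⟩
    rintro rfl
    exact absurd (kill4 C.rgd hC hGG hT C.range N hp2 hz (by decide) ((h3 3).2 rfl)) (by decide)

/-- **[Ti-B]** -/
theorem boxB : BoxB := fun _ _ p _ _ _ _ _ _ _ _ _ _ h _ hl hodd hm ⟨e⟩ => core (p := p) h hl hodd hm e

end Cfsg.Agent.SM.Ti.B
end

-- part: SM/Ti/KU
section
prune_inst 0x30360010a200000000000262001c42d0000000000888000000020005c00c600002202030200100180200000038006002080000400000000a000400000501000080140201000008000086000000000000000000000000000000000000000004000000000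
set_option linter.all false
open scoped Cfsg.Agent.FastGrp

/-!
# S3570, tight cores: the spin modules fix no unitary form (helper69, `notes/SM/ti.md`)

* `no_unit` : an edge of dimension two, `-1` inverts the torus modulo the centre: no invariant unitary form;
* `model` : the same for a tight core of degree `16` and type `B₄`;
* **`podd`**, **`psp`**.
-/

set_option autoImplicit false
set_option linter.unusedSectionVars false
set_option linter.style.haveILetI false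

namespace Cfsg.Agent.SM.Ti.KU

section abs

open CoxeterSystem Cfsg.Agent.ChevalleyStructure.CoxeterGeom Cfsg.Agent.Tits.Roots Cfsg.Agent.Tits.Core
  Cfsg.Agent.Tits.Exchange Cfsg.Agent.Nodes.Reps Cfsg.Agent.Nodes.BNOf Cfsg.Agent.Nodes.StabComb
  Cfsg.Agent.Nodes.Bruhat Cfsg.Agent.Nodes.OppDec Cfsg.Agent.Nodes.LeviDec Cfsg.Agent.KFacts.RgdOpp
  Cfsg.Agent.Omega.CR Cfsg.Agent.Omega.FOne.Lift.Sd Cfsg.Agent.H905.Md Cfsg.Agent.H905 Cfsg.Agent.H924.D5
open Cfsg.Agent.H911.SLTwo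
open Cfsg.Agent.H948.Ppd (Nd)
open scoped MatrixGroups

theorem ww_hh {E : Type*} [Field E] (s : Eˣ) : (ww : SL(2, E))⁻¹ * hh s * ww = (hh s)⁻¹ := by
  apply ext' <;> simp only [m00, m01, m10, m11, hh00, hh01, hh10, hh11, i00, i01, i10, i11, ww00, ww01, ww10, ww11] <;> ring

theorem hh_Lo {E : Type*} [Field E] (s : Eˣ) (y : E) : (hh s)⁻¹ * Lo y * hh s = Lo ((s : E) ^ 2 * y) := by
  have h1 := s.inv_mul
  apply ext' <;> simp only [m00, m01, m10, m11, hh00, hh01, hh10, hh11, i00, i01, i10, i11, Lo00, Lo01, Lo10, Lo11]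
  · linear_combination h1
  · ring
  · ring
  · linear_combination h1

theorem hh_pow {E : Type*} [Field E] (s : Eˣ) (k : ℕ) : hh s ^ k = hh (s ^ k) := by
  induction k with
  | zero => rw [pow_zero, pow_zero, hh_one]
  | succ k ih => rw [pow_succ, ih, hh_mul, pow_succ]

theorem inv_sq {Y : Type*} [Group Y] {w m t : Y} (hz : w⁻¹ * t⁻¹ * w * t⁻¹ ∈ Subgroup.center Y)
    (hm : m⁻¹ * t * m = t⁻¹) (hc : m⁻¹ * (w⁻¹ * m * w) * t = t * (m⁻¹ * (w⁻¹ * m * w))) :
    w⁻¹ * (t ^ 2)⁻¹ * w = t ^ 2 := by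
  obtain ⟨z, e1⟩ : ∃ z, w⁻¹ * t⁻¹ * w * t⁻¹ = z := ⟨_, rfl⟩
  obtain ⟨a, e2⟩ : ∃ a, m⁻¹ * (w⁻¹ * m * w) = a := ⟨_, rfl⟩
  rw [e1] at hz
  rw [e2] at hc
  have h1 := Subgroup.mem_center_iff.1 (inv_mem hz)
  have h2 : w⁻¹ * t⁻¹ * w = z * t := by rw [← e1]; group
  have h3 : m⁻¹ * t⁻¹ * m = t := by
    calc _ = (m⁻¹ * t * m)⁻¹ := by group
      _ = t := by rw [hm, inv_inv]
  have h4 : w⁻¹ * t⁻¹ * w = t * z⁻¹ := by
    calc _ = w⁻¹ * (m⁻¹ * t * m) * w := by rw [hm]
      _ = a⁻¹ * (m⁻¹ * (w⁻¹ * t⁻¹ * w)⁻¹ * (m * a)) := by rw [← e2]; group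
      _ = a⁻¹ * (m⁻¹ * t⁻¹ * (z⁻¹ * (m * a))) := by rw [h2]; group
      _ = a⁻¹ * (m⁻¹ * t⁻¹ * m * a) * z⁻¹ := by rw [← h1]; group
      _ = _ := by rw [h3, ← hc]; group
  calc _ = (w⁻¹ * t⁻¹ * w) * (w⁻¹ * t⁻¹ * w) := by rw [pow_two]; group
    _ = t * z⁻¹ * (z * t) := by rw [← h2, ← h4]
    _ = _ := by rw [pow_two]; group

variable {I W Y : Type*} [Fintype I] [DecidableEq I] [Group W] [Group Y] {M : CoxeterMatrix I}
  {cs : CoxeterSystem M W} {A : I → I → ℤ} {h : IsCartan M A} {p : ℕ} {T : Subgroup Y} {n : I → Y}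
  {X : (I → ℤ) → Subgroup Y} {k V : Type*} [Field k] [AddCommGroup V] [Module k V]

/-- **No invariant unitary form.** -/
theorem no_unit (R : RGD cs h p T n X) [Finite Y] [Finite W] [Fact p.Prime] [CharP k p]
    {ρ : Y →* Module.End k V} [FiniteDimensional k V] [Nontrivial V]
    (hirr : ∀ L : Submodule k V, Ivt ρ (GG cs h T X) L → L = ⊥ ∨ L = ⊤) (hT : ∀ s ∈ T, ∀ t ∈ T, s * t = t * s)
    {i : I} (hi : i ∉ Jx cs h X ρ) (hD : Module.finrank k (D cs h X ρ) = 1)
    (hE : Module.finrank k (Le cs h T X ρ {i}) ≤ 2) {E : Type*} [Field E] {σ : SL(2, E) →* Y} (N : Nd T X i σ)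
    {w0 : W} (hw0 : ∀ x, rep cs h w0 x = -x) {w : Y} (hw : Rp cs R.nsys w0 w)
    (hz : ∀ t ∈ T, w⁻¹ * t⁻¹ * w * t⁻¹ ∈ Subgroup.center Y) {d : ℕ} {s : Eˣ} (hs : ((s ^ d : Eˣ) : E) ^ 2 ≠ 1)
    {L : V → Module.Dual k V} (hL : ∀ g c v, L (ρ g c) (ρ g v) = L c v)
    (hLs : ∀ (a : k) c v, L (a • c) v = a ^ (d + 1) * L c v) (hL0 : ∀ c, c ≠ 0 → L c ≠ 0) : False := by
  obtain ⟨c, hc, hc0⟩ := (Submodule.ne_bot_iff _).1 (simp_fx R ρ hirr).ne
  have hspan : ∀ v ∈ D cs h X ρ, ∃ a : k, a • c = v := by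
    intro v hv
    obtain ⟨a, ha⟩ := (finrank_eq_one_iff_of_nonzero' (⟨c, hc⟩ : D cs h X ρ) fun e => hc0 (congrArg Subtype.val e)).1 hD
      ⟨v, hv⟩
    exact ⟨a, congrArg Subtype.val ha⟩
  choose! χ hχ using fun t (ht : t ∈ T) => hspan _ (D_ivt R hirr t ht c hc)
  have hmul : ∀ t ∈ T, ∀ t' ∈ T, χ (t * t') = χ t * χ t' := by
    intro t ht t' ht'
    have h1 := hχ _ (mul_mem ht ht')
    rw [rho_mul, ← hχ t' ht', map_smul, ← hχ t ht, smul_smul, mul_comm] at h1
    exact smul_left_injective k hc0 h1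
  have hone : χ 1 = 1 := by
    have h1 := hχ 1 (one_mem T)
    rw [rho_one] at h1
    exact smul_left_injective k hc0 (h1.trans (one_smul k c).symm)
  have hpow : ∀ t ∈ T, ∀ j : ℕ, χ (t ^ j) = χ t ^ j := by
    intro t ht j
    induction j with
    | zero => rw [pow_zero, pow_zero, hone]
    | succ j ih => rw [pow_succ, hmul _ (pow_mem ht j) _ ht, ih, pow_succ]
  have hinv : ∀ t ∈ T, χ t⁻¹ * χ t = 1 := fun t ht => by rw [← hmul _ (inv_mem ht) _ ht, inv_mul_cancel, hone]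
  -- the form pairs the highest and the lowest vector
  have hU : ∀ b ∈ RGD.Sup X (RGD.Pos cs h), dualRep ρ b (L c) = L c := by
    intro b hb
    ext v
    rw [dualRep_apply, ← hL b c (ρ b⁻¹ v), hc b hb, rho_rho_inv]
  have h1 : dualRep ρ w⁻¹ (L c) ∈ fx (dualRep ρ) (UN cs h X) := by
    refine mem_fx_Sup fun x hx b hb => ?_
    have h2 := R.conj_mem hw hx.1 hb
    rw [hw0] at h2
    have h3 := hU _ (RGD.le_Sup (S := RGD.Pos cs h) ⟨hx.1.neg, neg_nonneg.2 hx.2⟩ h2)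
    have e : dualRep ρ b (dualRep ρ w⁻¹ (L c)) = dualRep ρ w⁻¹ (dualRep ρ (w * b * w⁻¹) (L c)) := by
      rw [← rho_mul, ← rho_mul]
      congr 2
      group
    rw [e, h3]
  have h2 : L c (ρ w c) ≠ 0 := by
    obtain ⟨v, hv, h3⟩ := exists_pair_D' R hirr h1 (rho_ne_zero _ _ (hL0 c hc0))
    obtain ⟨a, rfl⟩ := hspan v hv
    rw [dualRep_apply, inv_inv, map_smul, map_smul, smul_eq_mul] at h3
    exact right_ne_zero_of_mul h3
  have hcj : ∀ {u : W} {g : Y}, Rp cs R.nsys u g → ∀ t ∈ T, g⁻¹ * t * g ∈ T := fun hg t ht =>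
    H218.SdAbs.conj_inv_mem_T R hg ht
  have h3 : ∀ t ∈ T, χ (w⁻¹ * t * w) * χ t ^ (d + 1) = 1 := by
    intro t ht
    have h4 := hL t c (ρ w c)
    have h5 : ρ t (ρ w c) = χ (w⁻¹ * t * w) • ρ w c := by
      rw [← map_smul, hχ _ (hcj hw t ht), ← rho_mul, ← rho_mul]
      congr 2
      group
    rw [h5, ← hχ t ht, map_smul, hLs, smul_eq_mul, ← mul_assoc] at h4
    exact mul_right_cancel₀ h2 (h4.trans (one_mul _).symm)
  -- `w` inverts the squares
  have hm := N.rp_ww R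
  have hmt : ∀ s : Eˣ, (σ ww)⁻¹ * σ (hh s) * σ ww = (σ (hh s))⁻¹ := fun s => by
    rw [← map_inv, ← map_mul, ← map_mul, ww_hh, map_inv]
  set t := σ (hh s) with ht
  have htT : t ∈ T := N.tor s
  have h4 : w⁻¹ * (t ^ 2)⁻¹ * w = t ^ 2 := by
    have hw1 : w0⁻¹ * cs.simple i * w0 = cs.simple i := by
      apply rep_injective cs h
      refine LinearMap.ext fun x => ?_
      rw [rep_mul_apply, rep_mul_apply, hw0, map_neg, ← hw0, rep_inv_apply]
    have h5 := (hw.inv.mul hm).mul hw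
    rw [hw1] at h5
    exact inv_sq (hz t htT) (hmt s) (hT _ (hm.unique h5) _ htT)
  -- an element of the torus which is a scalar on the edge
  have ht2 := pow_mem htT 2
  have h5 : χ (t ^ d)⁻¹ = χ (t ^ d) := by
    have h6 := h3 _ (inv_mem ht2)
    rw [h4] at h6
    have h7 := hinv _ ht2
    have h8 : χ (t ^ 2)⁻¹ ^ d = 1 := by
      rw [pow_succ' _ d, ← mul_assoc, mul_comm (χ (t ^ 2)), h7, one_mul] at h6
      exact h6
    have h9 : χ (t ^ 2) ^ d = 1 := by
      have h10 := congrArg (· ^ d) h7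
      simp only [mul_pow, h8, one_mul, one_pow] at h10
      exact h10
    have h10 := hinv _ (pow_mem htT d)
    rw [hpow t htT, ← pow_mul, mul_comm, pow_mul, ← hpow t htT, pow_two] at h9
    exact mul_right_cancel₀ (right_ne_zero_of_mul_eq_one h9) (h10.trans h9.symm)
  have htd : t ^ d = σ (hh (s ^ d)) := by rw [ht, ← map_pow, hh_pow]
  set u := t ^ d with hu
  have huT : u ∈ T := pow_mem htT d
  have hLv : ∀ y : SL(2, E), ∀ v ∈ Le cs h T X ρ {i}, ρ (σ y) v ∈ Le cs h T X ρ {i} := by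
    have hx : ∀ x, (x = sr i ∨ x = -sr i) → ∀ g ∈ X x, g ∈ LJ cs h T X {i} := by
      rintro x (rfl | rfl) g hg
      · exact X_le_LJ (sr_mem_Roots i) hg
      · exact X_le_LJ (RootsJ.neg (sr_mem_Roots i)) hg
    intro y
    refine Ivt_Le R {i} _ (H650.Ppd.mem_of_UL (H := (LJ cs h T X {i}).comap σ) (fun t => ?_) (fun t => ?_) y)
    · exact hx _ (Or.inl rfl) _ ((N.up _).2 ⟨t, rfl⟩)
    · exact hx _ (Or.inr rfl) _ ((N.lo _).2 ⟨t, rfl⟩)
  have hc1 : c ∈ Le cs h T X ρ {i} := D_le_Le R {i} hc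
  have h6 : ∀ v ∈ Le cs h T X ρ {i}, ρ u v = χ u • v := by
    obtain ⟨φ, hφ, hφc⟩ := exists_pair_D R hirr hc hc0
    have hφm : φ (ρ (σ ww) c) = 0 := by
      by_contra hne
      exact hi (_root_.Cfsg.Agent.H905.Md.simple_mem_WJ h (mem_WJ_of_pair R hirr hφ hm hc hne))
    have hli : LinearIndependent k ![c, ρ (σ ww) c] := by
      rw [LinearIndependent.pair_iff]
      intro x y hxy
      have h7 := congrArg φ hxy
      rw [map_add, map_smul, map_smul, hφm, smul_zero, add_zero, map_zero, smul_eq_mul] at h7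
      have h8 : x = 0 := (mul_eq_zero.1 h7).resolve_right hφc
      rw [h8, zero_smul, zero_add] at hxy
      exact ⟨h8, (smul_eq_zero.1 hxy).resolve_right (rho_ne_zero ρ _ hc0)⟩
    have h7 : Submodule.span k (Set.range ![c, ρ (σ ww) c]) = Le cs h T X ρ {i} := by
      refine Submodule.eq_of_le_of_finrank_le (Submodule.span_le.2 ?_) ?_
      · rintro _ ⟨a, rfl⟩
        fin_cases a
        · exact hc1
        · exact hLv _ c hc1
      · rw [finrank_span_eq_card hli, Fintype.card_fin]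
        exact hE
    have h8 : Submodule.span k (Set.range ![c, ρ (σ ww) c]) ≤ LinearMap.eqLocus (ρ u) (χ u • LinearMap.id) := by
      refine Submodule.span_le.2 ?_
      rintro _ ⟨a, rfl⟩
      fin_cases a
      · exact (hχ u huT).symm
      · change ρ u (ρ (σ ww) c) = χ u • ρ (σ ww) c
        rw [← h5, ← map_smul, hχ _ (inv_mem huT), ← rho_mul, ← rho_mul, htd, ← hmt]
        congr 2
        group
    intro v hv
    exact h8 (h7 ▸ hv)
  refine hi fun x hx v hv => ?_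
  obtain ⟨a, rfl⟩ := hspan v hv
  obtain ⟨y, rfl⟩ := (N.lo x).1 hx
  obtain ⟨y, rfl⟩ : ∃ y', y = -y' + ((s ^ d : Eˣ) : E) ^ 2 * y' :=
    ⟨(((s ^ d : Eˣ) : E) ^ 2 - 1)⁻¹ * y, by
      have h7 := sub_ne_zero.2 hs
      field_simp
      ring⟩
  have h7 : ρ (σ (Lo (((s ^ d : Eˣ) : E) ^ 2 * y))) c = ρ (σ (Lo y)) c := by
    rw [← hh_Lo, map_mul σ, map_mul σ, map_inv, ← htd, rho_mul, rho_mul, h6 c hc1, map_smul, map_smul, ← map_smul,
      ← h6 _ (hLv _ c hc1), rho_inv_rho]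
  rw [map_smul, ← Lo_mul, map_mul σ, rho_mul, h7, ← rho_mul, ← map_mul σ, Lo_mul, neg_add_cancel, Lo_zero, map_one, rho_one]

end abs

section model

open CoxeterSystem Cfsg.Agent.ChevalleyStructure.CoxeterGeom Cfsg.Agent.Tits.Roots Cfsg.Agent.Tits.Core
  Cfsg.Agent.Nodes.Reps Cfsg.Agent.Nodes.BNOf Cfsg.Agent.Nodes.Bruhat Cfsg.Agent.Nodes.RGDLib
open Cfsg.Agent.Nodes Cfsg.Agent.Nodes.WittRoot Cfsg.Agent.Nodes.WittRGD Cfsg.Agent.Nodes.WittAll
open Cfsg.Agent.Nodes.TypeC (isCartan)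
open Cfsg.Agent.TitsThree.Siegel Cfsg.Agent.TitsThree.SiegelGen Cfsg.Agent.TitsThree.WittFrame Cfsg.Agent.TitsThree.FrameCN
  Cfsg.Agent.TitsThree.WBridge Cfsg.Agent.TitsThree.KSideO Cfsg.Agent.TitsThree
open Cfsg.Agent.H915.LD Cfsg.Agent.H911 Cfsg.Agent.H905.Md Cfsg.Agent.H925.Nat Cfsg.Agent.Nodes.RGDLift
open Cfsg.Agent.H156.Ppd (Cov lrep exists_cov)
open Cfsg.Agent.H948.Ppd
open Cfsg.Agent.Omega.CR Cfsg.Agent.Omega.FOne.Lift.Sd
open Cfsg Cfsg.Geo
open scoped MatrixGroups Matrix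

variable {m p q : ℕ} [hp : Fact p.Prime] {F : Type} [Field F] [Finite F] [hFp : CharP F p] {K : Type} [Field K]
  [Fintype K] [hKp : CharP K p] {P : Subgroup (GL (Fin 16) F)} {f : (Fin 16 → F) → (Fin 16 → F) → F}

/-- an element whose `q - 1` st power is not `± 1` -/
theorem exists_unit (hK : Fintype.card K = q ^ 2) : ∃ (d : ℕ) (s : Kˣ), q = d + 1 ∧ ((s ^ d : Kˣ) : K) ^ 2 ≠ 1 := by
  have h1 : 1 < q ^ 2 := hK ▸ Fintype.one_lt_card
  obtain ⟨d, rfl⟩ : ∃ d, q = d + 2 := by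
    rcases q with _ | _ | d
    · simp at h1
    · simp at h1
    · exact ⟨d, rfl⟩
  obtain ⟨s, hs⟩ := IsCyclic.exists_ofOrder_eq_natCard (α := Kˣ)
  rw [Nat.card_units, Nat.card_eq_fintype_card, hK] at hs
  refine ⟨d + 1, s, rfl, fun h => ?_⟩
  rw [← Units.val_pow_eq_pow_val, Units.val_eq_one, ← pow_mul] at h
  have h2 := Nat.le_of_dvd (by omega) (orderOf_dvd_of_pow_eq_one h)
  rw [hs, show (d + 2) ^ 2 = d * d + 4 * d + 4 by ring] at h2
  omega

include hp hFp hKp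

theorem model (h : Tc m P) {ν : Type} [Fintype ν] [DecidableEq ν] {H : HForm K (ν → K)} {Fr : Frame H (Fin 4)}
    {T₀ : Type} [Group T₀] {M : Model Fr T₀} (hA : AmbT Fr p M.I) {p0 : Fr.Adm} (hp0 : p0.c ≠ 0)
    (hperf : commutator ↥M.I = ⊤) (hσ : ∀ a, H.σ a = a) (hk : Kd Fr)
    (hNd : ∀ i, ∃ σ' : SL(2, K) →* M.I, Nd (TB M) (XB M) i σ') (e : Soc P ≃* T₀) (hK : Fintype.card K = Nat.card F)
    (hq : Fintype.card K = q ^ 2) (hf : IsUnitaryFormPow q f)
    (hP : ∀ g ∈ P, ∀ u v, f ((g : Matrix _ _ F) *ᵥ u) ((g : Matrix _ _ F) *ᵥ v) = f u v) : False := by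
  have hC := h.core
  have hne := hC.nonempty
  have hWf : Finite (CoxeterMatrix.B 4).Group := TypeC.finite_W (CoxeterMatrix.B 4).toCoxeterSystem
  obtain ⟨Y, _, _, g, φ, n₁, C⟩ := exists_covB hC hA hp0 (by omega) hperf e
  have hT' : ∀ s ∈ TB M, ∀ t ∈ TB M, s * t = t * s := by
    intro s hs t ht
    exact Subtype.ext (torus_comm hA.V0 hk (hA.iso _ s.2) (hA.iso _ t.2) hs.2 ht.2)
  obtain ⟨hT, -⟩ := lift_comm_pow C hp0 hT' (N₀ := Nat.card K) fun i => by
    obtain ⟨σ', N⟩ := hNd i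
    exact ⟨K, inferInstance, inferInstance, inferInstance, σ', N, fun x => by
      rw [Nat.card_eq_fintype_card]; exact FiniteField.pow_card x⟩
  have hm : m = 8 := by
    have := h.lo
    have := h.hi
    omega
  have hN : ∀ i, ∃ σ : SL(2, K) →* Y, Nd ((TB M).comap g) (fun x => lft p g (XB M x)) i σ := fun i => by
    obtain ⟨σ', N'⟩ := hNd i
    obtain ⟨σ, -, N⟩ := lift_nd C hp0 N'
    exact ⟨σ, N⟩
  obtain ⟨-, h3⟩ := BC.bord_B h C.rgd C.hGG hT C.range (fun i => by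
    obtain ⟨σ, N⟩ := hN i
    exact ⟨σ, N.up, N.lo, N.tor⟩) (by omega) le_rfl (by rw [pow_one, Nat.card_eq_fintype_card, hK])
    (by rw [hm, Nat.card_eq_fintype_card (α := K), hK])
  obtain ⟨-, -, h3, -⟩ := h3.resolve_left fun h3 => absurd h3.1 (by decide)
  rw [H69.Ppd.Jx_eq C.rgd C.hGG hT C.range hC.absIrred] at h3
  have hirr := C.hirr hC
  have fr := BC.fr8_four C.rgd hirr (fun j => by rw [h3, Fin.ext_iff]; rfl)
    (by rw [Module.finrank_fintype_fun_eq_card, Fintype.card_fin])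
  have hE := fr.hLe
  rw [fr.hD] at hE
  have key : ∀ ω : List (Fin 4), ∃ y : Y, Rp (CoxeterMatrix.B 4).toCoxeterSystem C.rgd.nsys
      ((CoxeterMatrix.B 4).toCoxeterSystem.wordProd ω) y ∧ Mono Fr (g y).1 (H218.SdC.sw ω) := by
    intro ω
    induction ω with
    | nil => exact ⟨1, by rw [wordProd_nil]; exact rp_one, by rw [map_one]; exact Mono.one⟩
    | cons i ω ih =>
      obtain ⟨y, h1, h2⟩ := ih
      refine ⟨n₁ i * y, by rw [wordProd_cons]; exact (rp_simple _ C.rgd.nsys i).mul h1, ?_⟩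
      rw [map_mul, C.hn]
      exact (mono_nn hp0 i).mul h2
  obtain ⟨ω, hω⟩ := H218.SdC.exists_neg_word 4
  obtain ⟨w, hw, hw'⟩ := key ω
  obtain ⟨σ, N⟩ := hN 3
  obtain ⟨d, s, rfl, hs⟩ := exists_unit hq
  let L : (Fin 16 → F) → Module.Dual F (Fin 16 → F) := fun c =>
    { toFun := fun v => f v c
      map_add' := fun x y => hf.add_left x y c
      map_smul' := fun a x => hf.smul_left a x c }
  refine no_unit C.rgd hirr hT ((fr.hJ 3).2 rfl) fr.hD hE N (H218.SdC.rep_neg _ hω) hw (fun t ht => C.ker ?_) hs (L := L)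
    (fun y c v => ?_) (fun a c v => ?_) fun c hc h0 => ?_
  · have h1 := torus_inv (q := 1) hA.V0 hk (fun a => by rw [hσ, pow_one]) (hA.iso _ (g w).2) (hA.iso _ (g t).2)
      (hw'.congr hω) ht.2
    rw [pow_one] at h1
    rw [MonoidHom.mem_ker, map_mul, map_mul, map_mul, map_inv, map_inv, mul_inv_eq_one]
    exact Subtype.ext h1
  · rw [H69.Ppd.lrep_apply, H69.Ppd.lrep_apply]
    exact hP _ (C.mem y) v c
  · change f v (a • c) = a ^ (d + 1) * f v c
    rw [hf.herm, hf.smul_left, mul_pow, ← hf.herm]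
  · obtain ⟨x, hx⟩ := (hf.nondegenerate c hc).1
    exact hx (LinearMap.congr_fun h0 x)

theorem psp (h : Tc m P) (e : Soc P ≃* PSp 4 K) (hK : Fintype.card K = Nat.card F) (hq : Fintype.card K = q ^ 2)
    (hf : IsUnitaryFormPow q f)
    (hP : ∀ g ∈ P, ∀ u v, f ((g : Matrix _ _ F) *ᵥ u) ((g : Matrix _ _ F) *ᵥ v) = f u v) : False := by
  have hA : AmbT (SpIdent.frame 4 K) p (KInstSp.model 4 K).I := AmbT.of_amb Nodes.WittU.amb_Sp p
  refine model h hA (p0 := SpIdent.adm (m := 4) (1 : K)) one_ne_zero (commutator_isos (by norm_num)) (fun _ => rfl)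
    (Or.inl rfl) (fun i => ?_) e hK hq hf hP
  obtain ⟨σ, N⟩ := H650.Ppd.nd_Sp (G0 := (KInstSp.model 4 K).I) hA.rg_le i
  exact ⟨σ, N.up, N.lo, N.tor⟩

open Cfsg.Agent.Nodes.WittInst Cfsg.Agent.TitsThree.StdData Cfsg.Agent.LieClassical Cfsg.Agent.LieClassical.OrthCore
  Cfsg.Agent.LieClassical.OrthTrans Cfsg.Agent.LieClassical.OrthSimple Cfsg.Agent.LieClassical.OrthFinite
  Cfsg.Agent.LieClassical.OrthForms in
theorem podd (h : Tc m P) (hodd : Odd (Fintype.card K)) (e : Soc P ≃* POmega K (quadFormOdd 4 K))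
    (hK : Fintype.card K = Nat.card F) (hq : Fintype.card K = q ^ 2) (hf : IsUnitaryFormPow q f)
    (hP : ∀ g ∈ P, ∀ u v, f ((g : Matrix _ _ F) *ᵥ u) ((g : Matrix _ _ F) *ᵥ v) = f u v) : False := by
  have h2 : (2 : K) ≠ 0 := Ring.two_ne_zero fun h3 => by
    have h4 := FiniteField.even_card_of_char_two h3
    have := Nat.odd_iff.1 hodd
    omega
  have hG : _root_.Cfsg.Agent.LieClassical.OrthTrans.Good (oddForm 4 K) := by
    apply good_of_finite (nondeg_oddForm 4 K h2)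
    rw [Module.finrank_fintype_fun_eq_card, Fintype.card_sum, Fintype.card_sum, Fintype.card_fin,
      Fintype.card_unit]
    omega
  have hp0 : ((embOdd 4 K).ngt ⟨1, -1 ^ 2, rfl⟩).c ≠ 0 := by
    change (1 : K)⁻¹ * (-1 ^ 2) ≠ 0
    simp
  rw [← coe_oddForm] at e
  have hA : AmbT (toFrame (wodd 4 K)) p (KSideO.model (wodd 4 K) hG ⟨_, hp0⟩).I := AmbT.of_amb (amb_O_of_two _ h2) p
  refine model h hA hp0 (H911.Five.commutator_top hG.E_perfect) (fun _ => rfl) (kd_odd h2 4) (fun i => ?_) e hK hq hf hP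
  by_cases hi : (i : ℕ) + 1 < 4
  · exact nd_long hA.rg_le hi
  · exact nd_last_odd h2 (H48.OMult.span_odd K 4) hA.rg_le hi

end model

end Cfsg.Agent.SM.Ti.KU
end
end
end
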