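import Cfsg.Agent.SM.O8.Own_m3
import Cfsg.Agent.H823.O8S.Main
import Cfsg.Agent.H372.O8R.Ord_mg_m3
import Cfsg.Agent.H955.QM5
import Cfsg.Agent.H922.OddTensorTwo
import Cfsg.Agent.H788.Rl.Aut_m3
import Cfsg.Agent.SM.O8.MinA_m3
import Cfsg.Agent.Prune
set_option linter.all false

section
prune_inst 0x7f00000000000000000000000000000000000000000000000000000000000000000000000000000000000000000000000000000000000000000000000000000000000000000000000000000000000000003fffffffffffffffffffffffffffbeffbdffffffff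

-- part: SM/O8/GA
section
set_option linter.all false
open scoped Cfsg.Agent.FastGrp

/-!
# SM (S3570), `PΩ⁺₈(q)`: tools for the geometric classes (helper89)

* `mem_St`, `lift` : stabilisers, lifts of elements of odd order;
* `sr_of`, `sr_small`, `sr_ts`, `sr_iso`, `sr_J` : criteria for `SR`;
* `tens` : tensor products give `SR`.
-/

set_option autoImplicit false
set_option linter.unusedSectionVars false
set_option maxHeartbeats 200000

namespace Cfsg.Agent.SM.O8.G4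

open Module QuadraticMap Cfsg Cfsg.Geo Cfsg.Agent.LieClassical.OrthCore Cfsg.Agent.H955 Cfsg.Agent.H954.TSing
open Cfsg.Agent.LieClassical.OmegaReindex
open Cfsg.Agent.H951 (fx cm Inv)
open Cfsg.Agent.H884.El
open Cfsg.Agent.H708.O8 (I8 T8 RB)
open Cfsg.Agent.H823.O8S (SW tp RW Fld NJ mk8 gl8 mk8_eq mk8_eq_one mem_SW le_tp lin_mul_apply)
open Cfsg.Agent.H823.O8R (FixJ FixP)
open scoped MatrixGroups Matrix Kronecker

variable {F : Type} [Field F] [Fintype F] {r : ℕ} {R : Subgroup (T8 F)}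

theorem sw_of_inv {W : Submodule F (I8 → F)} {g : GL I8 F} (h : Inv (lin g) W) : g ∈ SW W := by
  rw [mem_SW]
  apply Submodule.eq_of_le_of_finrank_eq
  · rintro _ ⟨w, hw, rfl⟩
    exact h w hw
  · exact LinearEquiv.finrank_map_eq (LieClassical.OrthFinite.glEquiv I8 F g) W

theorem inv_of_sw {W : Submodule F (I8 → F)} {g : GL I8 F} (h : g ∈ SW W) : Inv (lin g) W := fun w hw => by
  have h1 : lin g w ∈ W.map (lin g) := Submodule.mem_map_of_mem hw
  rwa [mem_SW.1 h] at h1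

theorem mem_St {W : Submodule F (I8 → F)} {y : Omega F (quadFormPlus 4 F)} : mk8 F y ∈ St W ↔ Inv (lin (gl8 F y)) W := by
  refine ⟨?_, fun h => ⟨y, sw_of_inv h, rfl⟩⟩
  rintro ⟨z, hz, h⟩
  obtain ⟨e, he⟩ := mk8_eq (y := y) (y' := z) h.symm
  intro w hw
  rw [he]
  exact W.smul_mem e (inv_of_sw hz w hw)

theorem gl8_mem {y : Omega F (quadFormPlus 4 F)} : gl8 F y ∈ pre (quadFormPlus 4 F) R ↔ mk8 F y ∈ R := mem_pre

theorem Q_gl8 (y : Omega F (quadFormPlus 4 F)) (v : I8 → F) :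
    quadFormPlus 4 F (lin (gl8 F y) v) = quadFormPlus 4 F v := H886.O8R.Q_om y v

theorem qp (v : I8 → F) : quadPlus 4 F v = quadFormPlus 4 F v := congrFun (coe_quadPlus 4 F) v

theorem exists_ns (F : Type) [Field F] [Fintype F] : ∃ v : I8 → F, quadFormPlus 4 F v = 1 := by
  obtain ⟨a, -, -, -, h, -⟩ := H886.O8R.exists_copy (Q := H886.O8R.QF F) (U := ⊤)
    (nondeg_res_top H886.O8R.nd_QF) (by rw [finrank_top, H886.O8R.finrank_I8']; norm_num) 1 0 0
  exact ⟨a, by rw [← H886.O8R.coe_QF]; exact h⟩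

/-- lifts of elements of odd order -/
theorem lift (hr : Odd r) {x : T8 F} (hx : x ^ r = 1) : ∃ y, mk8 F y = x ∧ gl8 F y ^ r = 1 := by
  obtain ⟨y, rfl⟩ := QuotientGroup.mk'_surjective (Subgroup.center (Omega F (quadFormPlus 4 F))) x
  obtain ⟨e, he⟩ := mk8_eq_one (y := y ^ r) (by rw [map_pow]; exact hx)
  obtain ⟨v, hv⟩ := exists_ns F
  have h1 : e * e = 1 := by
    have h2 := Q_gl8 (y ^ r) v
    rw [he, ← coe_quadPlus, QuadraticMap.map_smul, coe_quadPlus, hv, smul_eq_mul, mul_one] at h2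
    exact h2
  have h2 : gl8 F (y ^ r) * gl8 F (y ^ r) = 1 := by
    apply lin_injective
    rw [lin_one]
    refine LinearMap.ext fun w => ?_
    rw [lin_mul_apply, he, he, smul_smul, h1, one_smul]
    rfl
  obtain ⟨k, rfl⟩ := hr
  refine ⟨y ^ (2 * k + 1 + 1), ?_, ?_⟩
  · simp only [map_pow (mk8 F) y (2 * k + 1 + 1), pow_succ ((mk8 F) y) (2 * k + 1)]
    change (mk8 F y) ^ (2 * k + 1) * mk8 F y = mk8 F y
    simp only [show (mk8 F y) ^ (2 * k + 1) = 1 from hx, one_mul]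
  · rw [map_pow, ← pow_mul, mul_comm, pow_mul, ← map_pow, show 2 * k + 1 + 1 = 2 * (k + 1) by ring, pow_mul, pow_two, h2,
      one_pow]

/-- the basic criterion -/
theorem sr_of (hr : PP (Nat.card F) 4 r) (α : MulAut (T8 F)) {W : Submodule F (I8 → F)} (h0 : W ≠ ⊥)
    (h3 : finrank F W ≤ 3) (h : ∀ x ∈ R, x ^ r = 1 → α x ∈ St W) : SR r R := by
  refine ⟨α, fun h1 => h0 (eq_bot_iff.2 ?_)⟩
  rw [← h1]
  refine le_iInf fun g => ?_
  obtain ⟨g, hg, hgr⟩ := g
  obtain ⟨y, rfl, x, hx, hxy⟩ := H823.O8S.exists_lift hg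
  have h2 : y ^ r = 1 := by
    apply (isometryGroup F (quadFormPlus 4 F)).subtype_injective.comp (Omega F (quadFormPlus 4 F)).subtype_injective
    change gl8 F (y ^ r) = gl8 F 1
    rw [map_pow, hgr, map_one]
  have h4 : x ^ r = 1 := by
    apply α.injective
    simp_rw [map_pow, map_one, show α x = mk8 F y from hxy, ← map_pow, h2, map_one]
  have h5 := h x hx h4
  rw [show α x = mk8 F y from hxy, mem_St] at h5
  have h6 : Iso (quadPlus 4 F) (lin (gl8 F y)) r := Iso.mk' hr (by norm_num) (by rw [← H251.GeoCard.toLin_pow, hgr]; exact lin_one)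
    (by rw [coe_quadPlus]; exact Q_gl8 y)
  exact h6.le_fx hr h5 (Nat.lt_succ_of_le h3)

theorem mem_of_inv (hr : PP (Nat.card F) 4 r) {W : Submodule F (I8 → F)}
    (h : ∀ g ∈ pre (quadFormPlus 4 F) R, g ^ r = 1 → Inv (lin g) W) : ∀ x ∈ R, x ^ r = 1 → x ∈ St W := by
  intro x hx hxr
  obtain ⟨y, rfl, hy⟩ := lift (hr.odd (by norm_num)) hxr
  exact mem_St.2 (h _ (gl8_mem.2 hx) hy)

theorem sr_small (hr : PP (Nat.card F) 4 r) {W : Submodule F (I8 → F)} (h0 : W ≠ ⊥) (h3 : finrank F W ≤ 3)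
    (h : ∀ g ∈ pre (quadFormPlus 4 F) R, g ^ r = 1 → Inv (lin g) W) : SR r R :=
  sr_of hr 1 h0 h3 (mem_of_inv hr h)

theorem sr_ts (hTW : BoxTW) (hr : PP (Nat.card F) 4 r) {W : Submodule F (I8 → F)} (h0 : W ≠ ⊥)
    (hs : ∀ w ∈ W, quadFormPlus 4 F w = 0) (h : ∀ g ∈ pre (quadFormPlus 4 F) R, g ^ r = 1 → Inv (lin g) W) :
    SR r R := by
  by_cases h3 : finrank F W ≤ 3
  · exact sr_small hr h0 h3 h
  have h1 := two_mul_finrank_le H886.O8R.nd_QF (U := W) (by rw [H886.O8R.coe_QF]; exact hs)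
  rw [H886.O8R.finrank_I8'] at h1
  have h2 : 2 * finrank F W ≤ 8 := h1
  obtain ⟨α, u, hu0, -, hα⟩ := hTW F W (by omega) hs
  refine sr_of hr α (W := Submodule.span F {u}) (by rw [Ne, Submodule.span_singleton_eq_bot]; exact hu0)
    (by rw [finrank_span_singleton hu0]; norm_num) fun x hx hxr => ?_
  change α x ∈ pt u
  rw [← hα]
  exact ⟨x, mem_of_inv hr h x hx hxr, rfl⟩

/-- a subspace on which the polar form vanishes -/
theorem sr_iso (hTW : BoxTW) (hr : PP (Nat.card F) 4 r) {W : Submodule F (I8 → F)} (h3 : 3 ≤ finrank F W)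
    (hs : ∀ u ∈ W, ∀ w ∈ W, polar (quadPlus 4 F) u w = 0)
    (h : ∀ g ∈ pre (quadFormPlus 4 F) R, g ^ r = 1 → Inv (lin g) W) : SR r R := by
  let W0 : Submodule F (I8 → F) :=
    { carrier := {w | w ∈ W ∧ quadPlus 4 F w = 0}
      add_mem' := fun {u w} hu hw => ⟨W.add_mem hu.1 hw.1, by rw [Q_add, hu.2, hw.2, hs u hu.1 w hw.1]; ring⟩
      zero_mem' := ⟨W.zero_mem, map_zero _⟩
      smul_mem' := fun c w hw => ⟨W.smul_mem c hw.1, by rw [QuadraticMap.map_smul, hw.2, smul_zero]⟩ }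
  obtain ⟨u, hu0, hu⟩ := exists_singular (res (quadPlus 4 F) W) h3
  refine sr_ts hTW hr (W := W0) (fun h0 => hu0 (Subtype.ext ?_)) (fun w hw => ?_) fun g hg hgr w hw => ⟨h g hg hgr w hw.1, ?_⟩
  · have h1 : (u : I8 → F) ∈ W0 := ⟨u.2, hu⟩
    rw [h0] at h1
    exact h1
  · rw [← coe_quadPlus]
    exact hw.2
  · obtain ⟨y, rfl, -⟩ := H823.O8S.exists_lift hg
    rw [qp, Q_gl8, ← qp]
    exact hw.2

theorem sr_J {p a : ℕ} (hF : Nat.card F = p ^ a) (hr : PP (Nat.card F) 4 r) {J : Module.End F (I8 → F)} {c d : F}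
    (hJ : Fld J c d) (h : ∀ g ∈ pre (quadFormPlus 4 F) R, g ^ r = 1 → g ∈ NJ J c) : SR r R := by
  have h1 : FixJ (tp (NJ J c)) := by
    refine ⟨J, c, d, hJ, fun g hg => ?_⟩
    obtain ⟨y, rfl, z, hz, hzy⟩ := H823.O8S.exists_lift hg
    obtain ⟨e, he⟩ := mk8_eq (y := y) (y' := z) hzy.symm
    rcases hz with hz | hz
    · refine Or.inl fun v => ?_
      simp only [he, he, map_smul]
      exact congrArg _ (hz v)
    · refine Or.inr fun v => ?_
      simp only [he, he, map_smul, smul_comm c e, ← smul_sub]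
      exact congrArg _ (hz v)
  obtain ⟨α, W, hW, -, hle⟩ := H708.Rg.tri_J hF h1
  refine sr_of hr α (W := W) (fun h0 => by rw [h0, finrank_bot] at hW; omega) (by omega) fun x hx hxr => ?_
  obtain ⟨y, rfl, hy⟩ := lift (hr.odd (by norm_num)) hxr
  exact le_tp hle ⟨mk8 F y, ⟨y, h _ (gl8_mem.2 hx) hy, rfl⟩, rfl⟩

/-! ### tensor products -/

theorem tens_core (hTW : BoxTW) {p n : ℕ} (hF : Nat.card F = p ^ n) (hr : PP (Nat.card F) 4 r) {U : Type} [AddCommGroup U]
    [Module F U] (hU : finrank F U = 4) (L : (U × U) ≃ₗ[F] (I8 → F)) (β : U →ₗ[F] U →ₗ[F] F) {a b b' c : F}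
    (hpol : ∀ x y : U × U, polar (quadPlus 4 F) (L x) (L y) =
      a * β x.1 y.1 + b * β x.1 y.2 + b' * β x.2 y.1 + c * β x.2 y.2) (hs : b' = b ∨ a = 0)
    (hel : ∀ g ∈ pre (quadFormPlus 4 F) R, g ^ r = 1 → ∃ B : U →ₗ[F] U, ∀ x, lin g (L x) = L (B x.1, B x.2)) :
    SR r R := by
  by_cases hiso : ∃ s t : F, (s ≠ 0 ∨ t ≠ 0) ∧ a * s ^ 2 + (b + b') * s * t + c * t ^ 2 = 0
  · obtain ⟨s, t, hst, h0⟩ := hiso
    let φ : U →ₗ[F] (I8 → F) := L.toLinearMap.comp ((s • LinearMap.id).prod (t • LinearMap.id))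
    have hφ : ∀ u, φ u = L (s • u, t • u) := fun _ => rfl
    have hinj : Function.Injective φ := by
      rw [injective_iff_map_eq_zero]
      intro u hu
      rw [hφ, LinearEquiv.map_eq_zero_iff, Prod.mk_eq_zero, smul_eq_zero, smul_eq_zero] at hu
      rcases hst with h | h
      · exact hu.1.resolve_left h
      · exact hu.2.resolve_left h
    refine sr_iso hTW hr (W := LinearMap.range φ) (by rw [LinearMap.finrank_range_of_inj hinj]; omega) ?_ ?_
    · rintro _ ⟨u, rfl⟩ _ ⟨w, rfl⟩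
      rw [hφ, hφ, hpol]
      simp only [map_smul, LinearMap.smul_apply, smul_eq_mul]
      linear_combination (β u w) * h0
    · rintro g hg hgr _ ⟨u, rfl⟩
      obtain ⟨B, hB⟩ := hel g hg hgr
      exact ⟨B u, by rw [hφ, hφ, hB, map_smul, map_smul]⟩
  push Not at hiso
  have ha : a ≠ 0 := fun h0 => hiso 1 0 (Or.inl one_ne_zero) (by rw [h0]; ring)
  obtain rfl : b' = b := hs.resolve_right ha
  have h2 : (2 : F) ≠ 0 := by
    intro h2
    have hchar : CharP F 2 := CharTwo.of_one_ne_zero_of_two_eq_zero one_ne_zero h2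
    obtain ⟨s, hs⟩ := FiniteField.isSquare_of_char_two (ringChar.eq F 2) (c / a)
    refine hiso s 1 (Or.inr one_ne_zero) ?_
    have h3 : a * (s * s) = c := by rw [← hs]; field_simp
    linear_combination h3 + (b' * s + c) * h2
  let T : U × U →ₗ[F] U × U :=
    ((-b') • LinearMap.fst F U U + (-c) • LinearMap.snd F U U).prod (a • LinearMap.fst F U U + b' • LinearMap.snd F U U)
  have hT : ∀ x : U × U, T x = ((-b') • x.1 + (-c) • x.2, a • x.1 + b' • x.2) := fun _ => rfl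
  let J : Module.End F (I8 → F) := L.toLinearMap.comp (T.comp L.symm.toLinearMap)
  have hJ : ∀ x, J (L x) = L (T x) := fun x => by
    change L (T (L.symm (L x))) = _
    rw [LinearEquiv.symm_apply_apply]
  refine sr_J hF hr (J := J) (c := 0) (d := a * c - b' ^ 2) ⟨?_, fun z hz => ?_, fun v => ?_⟩ fun g hg hgr => ?_
  · refine LinearMap.ext fun v => ?_
    obtain ⟨x, rfl⟩ := L.surjective v
    rw [Module.End.mul_apply, hJ, hJ, zero_smul, zero_sub, LinearMap.neg_apply, LinearMap.smul_apply,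
      Module.End.one_apply, ← map_smul, ← map_neg, hT, hT]
    congr 1
    refine Prod.ext ?_ ?_
    · change (-b') • ((-b') • x.1 + (-c) • x.2) + (-c) • (a • x.1 + b' • x.2) = -((a * c - b' ^ 2) • x.1)
      module
    · change a • ((-b') • x.1 + (-c) • x.2) + b' • (a • x.1 + b' • x.2) = -((a * c - b' ^ 2) • x.2)
      module
  · refine hiso (z - b') a (Or.inr ha) ?_
    linear_combination a * hz
  · obtain ⟨x, rfl⟩ := L.surjective v
    rw [hJ, ← coe_quadPlus]
    apply mul_left_cancel₀ h2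
    have h3 : ∀ w, 2 * quadPlus 4 F w = polar (quadPlus 4 F) w w := fun w => by
      rw [polar_self, two_nsmul, two_mul]
    rw [mul_left_comm, h3, h3, hpol, hpol, hT]
    simp only [map_add, map_smul, LinearMap.add_apply, LinearMap.smul_apply, smul_eq_mul]
    ring
  · obtain ⟨B, hB⟩ := hel g hg hgr
    refine Or.inl fun v => ?_
    obtain ⟨x, rfl⟩ := L.surjective v
    rw [hJ, hB, hB, hJ, hT, hT]
    simp only [map_add, map_smul]

theorem not_dvd_gl2 {d : ℕ} (ht : PP (Nat.card F) d r) (hd : 3 ≤ d) : ¬ r ∣ Nat.card (GL (Fin 2) F) := by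
  classical
  intro h
  have hq : 1 < Nat.card F := Finite.one_lt_card
  rw [Matrix.card_GL_field, Fin.prod_univ_two, ← Nat.card_eq_fintype_card] at h
  have h1 : ∀ i, 0 < i → i < 3 → ¬ r ∣ Nat.card F ^ i - 1 := by
    intro i hi hi3 h2
    have := Nat.le_of_dvd hi ((ht.dvd_iff hq.le i).1 h2)
    omega
  rcases ht.prime.dvd_mul.1 h with h2 | h2
  · exact h1 2 (by norm_num) (by norm_num) (by simpa using h2)
  · have h3 : Nat.card F ^ 2 - Nat.card F ^ 1 = Nat.card F * (Nat.card F ^ 1 - 1) := by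
      rw [pow_one, Nat.mul_sub, mul_one, pow_two]
    have h4 : r ∣ Nat.card F * (Nat.card F ^ 1 - 1) := by
      rw [← h3]
      simpa using h2
    rcases ht.prime.dvd_mul.1 h4 with h5 | h5
    · exact ht.not_dvd (by omega) h5
    · exact h1 1 (by norm_num) (by norm_num) h5

theorem tens24 (hTW : BoxTW) {p n : ℕ} (hF : Nat.card F = p ^ n) (hr : PP (Nat.card F) 4 r) (e : I8 ≃ Fin 2 × Fin 4)
    (P : GL I8 F) {ε : F} (hε : ε = 1 ∨ ε = -1) {f₁ : (Fin 2 → F) → (Fin 2 → F) → F} {f₂ : (Fin 4 → F) → (Fin 4 → F) → F}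
    (h₁ : H919.HermForm (RingEquiv.refl F) ε f₁) (hT : IsTensorFormStructure id (polar (quadPlus 4 F)) f₁ f₂ e P)
    (hR : pre (quadFormPlus 4 F) R ≤ tensorProductSubgroup 2 4 e P) : SR r R := by
  obtain ⟨c, -, hc⟩ := hT
  let L : ((Fin 4 → F) × (Fin 4 → F)) ≃ₗ[F] (I8 → F) :=
    (LinearEquiv.finTwoArrow F (Fin 4 → F)).symm ≪≫ₗ (LinearEquiv.curry F F (Fin 2) (Fin 4)).symm ≪≫ₗ
      LinearEquiv.funCongrLeft F F e ≪≫ₗ LieClassical.OrthFinite.glEquiv I8 F P
  have hL : ∀ x, L x = (P : Matrix I8 I8 F) *ᵥ ((fun i : Fin 2 × Fin 4 => ![x.1, x.2] i.1 i.2) ∘ e) := fun _ => rfl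
  have hh : ∀ i j, gramMatrix f₁ i j = ε * gramMatrix f₁ j i := fun i j => h₁.herm _ _
  refine tens_core hTW hF hr (finrank_fin_fun F) L (Matrix.toBilin' (gramMatrix f₂)) (a := c * gramMatrix f₁ 0 0)
    (b := c * gramMatrix f₁ 0 1) (b' := c * gramMatrix f₁ 1 0) (c := c * gramMatrix f₁ 1 1) (fun x y => ?_) ?_
    fun g hg hgr => ?_
  · rw [hL, hL, hc]
    simp only [formOfGram, Fintype.sum_prod_type, Fin.sum_univ_two, Matrix.toBilin'_apply, Matrix.kroneckerMap_apply, id,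
      Matrix.cons_val_zero, Matrix.cons_val_one, Finset.sum_add_distrib, Finset.mul_sum, mul_add]
    simp only [← Finset.sum_add_distrib]
    exact Finset.sum_congr rfl fun _ _ => Finset.sum_congr rfl fun _ _ => by ring
  · rcases hε with rfl | rfl
    · left
      rw [hh 1 0, one_mul]
    · by_cases h2 : (2 : F) = 0
      · left
        rw [hh 1 0]
        linear_combination (-c * gramMatrix f₁ 0 1) * h2
      · right
        have h3 : 2 * gramMatrix f₁ 0 0 = 0 := by linear_combination hh 0 0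
        rw [(mul_eq_zero.1 h3).resolve_left h2, mul_zero]
  · obtain ⟨⟨x, y⟩, rfl⟩ := mem_range_kronGL e P (hR hg)
    have hone : ((x ^ r : GL (Fin 2) F) : Matrix (Fin 2) (Fin 2) F) ⊗ₖ ((y ^ r : GL (Fin 4) F) : Matrix (Fin 4) (Fin 4) F) = 1 := by
      have h3 : kronGL e P (x ^ r, y ^ r) = 1 := by
        rw [← hgr, ← map_pow]
        rfl
      have h4 : kron 2 4 F (x ^ r, y ^ r) = 1 := by
        apply (glReindex e.symm).injective
        apply (MulAut.conj P).injective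
        rw [map_one, map_one]
        exact h3
      exact congrArg Units.val h4
    obtain ⟨c₁, hc₁⟩ := H683.O8R.kron_one hone
    obtain ⟨c₂, hc₂⟩ := H683.O8R.scalar_of_pow hr.prime (not_dvd_gl2 hr (by norm_num)) hc₁
    refine ⟨c₂ • Matrix.toLin' (y : Matrix (Fin 4) (Fin 4) F), fun v => ?_⟩
    have h1 : kronGL e P (x, y) * P = P * glReindex e.symm (kron 2 4 F (x, y)) := inv_mul_cancel_right _ _
    rw [hL, hL, lin, Matrix.toLin'_apply, Matrix.mulVec_mulVec, ← Units.val_mul, h1, Units.val_mul, ← Matrix.mulVec_mulVec,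
      H922.glReindex_mulVec]
    congr 2
    funext ⟨i, j⟩
    change ((x : Matrix (Fin 2) (Fin 2) F) ⊗ₖ (y : Matrix (Fin 4) (Fin 4) F) *ᵥ _) (i, j) = _
    rw [hc₂]
    fin_cases i <;>
      simp [Matrix.mulVec, dotProduct, Fintype.sum_prod_type, Matrix.one_apply, Finset.mul_sum, mul_assoc]

/-- **tensor products** -/
theorem tens (hTW : BoxTW) {p n : ℕ} (hF : Nat.card F = p ^ n) (hr : PP (Nat.card F) 4 r) {n₁ n₂ : ℕ}
    (e : I8 ≃ Fin n₁ × Fin n₂) (P : GL I8 F) {ε : F} (hε : ε = 1 ∨ ε = -1) {f₁ : (Fin n₁ → F) → (Fin n₁ → F) → F}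
    {f₂ : (Fin n₂ → F) → (Fin n₂ → F) → F} (h1 : 2 ≤ n₁) (h2 : 2 ≤ n₂) (h12 : n₁ * n₂ = 8)
    (h₁ : H919.HermForm (RingEquiv.refl F) ε f₁) (h₂ : H919.HermForm (RingEquiv.refl F) ε f₂)
    (hT : IsTensorFormStructure id (polar (quadPlus 4 F)) f₁ f₂ e P)
    (hR : pre (quadFormPlus 4 F) R ≤ tensorProductSubgroup n₁ n₂ e P) : SR r R := by
  have hcases : (n₁ = 2 ∧ n₂ = 4) ∨ (n₁ = 4 ∧ n₂ = 2) := by
    have h3 : n₁ ≤ 4 := by
      by_contra hcon
      push Not at hcon
      have := Nat.mul_le_mul hcon h2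
      omega
    interval_cases n₁ <;> omega
  rcases hcases with ⟨rfl, rfl⟩ | ⟨rfl, rfl⟩
  · exact tens24 hTW hF hr e P hε h₁ hT hR
  · exact tens24 hTW hF hr _ P hε h₂ (H912.isTensorFormStructure_swap hT)
      (by rw [H912.tensorProductSubgroup_swap]; exact hR)

end Cfsg.Agent.SM.O8.G4
end

section
prune_inst 0xffeffdfbbcffdfffff7e7ff6fdcffdf9ba3fffe6dff9fb7fe8f9ff8bdf5b8ccfe5fbaf6feb51fe2ef7ee3f10fc7bd3fbffeeffe36fdc7ffffd5ff45ffbffdfffffbd2c71d7be3e1ffc6ffffbf0f78e7f000000000000000000000000000000000200000000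

-- part: SM/O8/G34
section
prune_inst 0x10020043002000000000080010020605c00009000200800604002420a0121008040090002000100000000801000400001000080001000000000b0004002000004051802841c0e00380000000004000000000000000000000000000000000000000000000
set_option linter.all false
open scoped Cfsg.Agent.FastGrp

/-!
# SM (S3570), `PΩ⁺₈(q)`: the geometric classes, `boxG34` (helper89)

* `split` : Aschbacher's theorem for a group of order divisible by `r ^ b`;
* `boxG34`.
-/

set_option autoImplicit false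
set_option linter.unusedSectionVars false
set_option maxHeartbeats 400000

namespace Cfsg.Agent.SM.O8

open Module QuadraticMap Cfsg Cfsg.Geo Cfsg.Agent.LieClassical.OrthCore Cfsg.Agent.H955 Cfsg.Agent.H954.TSing
open Cfsg.Agent.LieClassical.OmegaReindex
open Cfsg.Agent.H951 (fx cm Inv)
open Cfsg.Agent.H884.El
open Cfsg.Agent.H708.O8 (I8 T8 RB kill_symp)
open Cfsg.Agent.H683.O8R (Sub2 inv_of_fix sub_two)
open scoped MatrixGroups Matrix

namespace G4

variable {F : Type} [Field F] [Fintype F] {p a r b : ℕ}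

/-- `H` keeps the pair `W`, `W^⊥` of nondegenerate 4-spaces -/
def N4 (H : Subgroup (GL I8 F)) : Prop :=
  ∃ W : Submodule F (I8 → F), Nondeg (res (quadPlus 4 F) W) ∧ finrank F W = 4 ∧
    (∀ g ∈ H, Inv (lin g) W ∨ ∀ w ∈ W, lin g w ∈ perp (quadPlus 4 F) W) ∧
    ∀ g ∈ H, ∀ m, Odd m → g ^ m = 1 → Inv (lin g) W

/-- `H` normalises a quadratic field -/
def F2 (H : Subgroup (GL I8 F)) : Prop :=
  ActsIrreducibly (matrixSet H) ∧ ∃ K : Subalgebra F (Matrix I8 I8 F), IsFieldSubalgebra 2 K ∧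
    IsAdjointClosedFor (polar (quadFormPlus 4 F)) K ∧ H ≤ subalgebraNormalizer K

/-- **the geometric classes** -/
theorem split (hTW : BoxTW) (hF : Nat.card F = p ^ a) (h : RB p a r b) (h4 : 4 ≤ p ^ a) {R : Subgroup (T8 F)}
    (hrb : r ^ b ∣ Nat.card R) : SR r R ∨ InOrthogonalResidualClass (pre (quadFormPlus 4 F) R) ∨
      Sub2 (pre (quadFormPlus 4 F) R) ∨ N4 (pre (quadFormPlus 4 F) R) ∨ F2 (pre (quadFormPlus 4 F) R) := by
  have hH : pre (quadFormPlus 4 F) R ≤ isometryGroup F (quadFormPlus 4 F) := pre_le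
  replace hrb : r ^ b ∣ Nat.card (pre (quadFormPlus 4 F) R) := hrb.trans card_dvd_pre
  have hsm := fun W => sr_small (R := R) (W := W) (h.ppF hF)
  have hts := fun W => sr_ts (R := R) (W := W) hTW (h.ppF hF)
  have hten := fun n₁ n₂ => tens (R := R) (n₁ := n₁) (n₂ := n₂) hTW hF (h.ppF hF)
  generalize pre (quadFormPlus 4 F) R = H at hH hrb hsm hts hten ⊢
  have hb1 : 1 ≤ b := h.b1
  have hr : r ∣ Nat.card H := (dvd_pow_self r (by omega)).trans hrb
  have hQ : Nondeg (quadPlus 4 F) := nondeg_iff.2 quadPlus_nondegenerate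
  have hcoe : ⇑(quadPlus 4 F) = quadFormPlus 4 F := coe_quadPlus 4 F
  have hn : Fintype.card (Fin 4 ⊕ Fin 4) = 8 := by simp
  have hH' := hH
  rw [← hcoe] at hH'
  have h5 := h.five
  have hP4 : PP (Nat.card F) 4 r := h.ppF hF
  have hq := one_lt_q F
  have hfinG : Finite (GL I8 F) := inferInstance
  have hrodd : Odd r := hP4.odd (by norm_num)
  have hcas : 13 ≤ r ∨ (r = 5 ∧ 2 ≤ b) := by
    rcases h.cases with ⟨h13, -⟩ | ⟨h1, hb2, -⟩ | ⟨-, -, hp23, ha1⟩
    · exact Or.inl h13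
    · exact Or.inr ⟨h1, hb2⟩
    · rw [ha1] at h4
      rcases hp23 with h0 | h0 <;> rw [h0] at h4 <;> norm_num at h4
  by_cases hirr : ActsIrreducibly (matrixSet H)
  · rcases Cfsg.Agent.H925.orth_irreducible_fine (by omega) (Cfsg.Agent.H884.OddForm.isNondegenerate_of_nondeg _ hQ) hH' hirr with
      ⟨t', k', D, htk, hD, hHD, -⟩ | ⟨k', D, hk', hD, hDs, hHD⟩ | ⟨s', K, hs', hsn, hK, hadj, hHK⟩ |
      ⟨n₁, n₂, e, P, ε, f₁, f₂, h1, h1', h12, hε, hf₁, hf₂, hT, hHT⟩ | ⟨F₁, s', B, ζ, -, hs', hcard, hζ, hrat, hHF⟩ |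
      ⟨s', m, E, hRH, -, hHR, habs, hR, hchar, hm, hsm, -, ht', -⟩ | ⟨k', t', e, P, E, hkt, hW⟩ | hS
    · have h2t := hD.decomp.decomp.two_le
      have hkpos := hD.decomp.decomp.pos
      rw [hn] at htk
      by_cases hk4 : k' < 4
      · exfalso
        have hrt := decomp_le hD.decomp.decomp hHD hP4 hk4 hr
        have hk1 : k' = 1 := by
          by_contra hcon
          have h3 : 2 ≤ k' := by omega
          have := Nat.mul_le_mul hrt h3
          omega
        subst hk1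
        obtain ⟨rfl, hb2⟩ := hcas.resolve_left (by omega)
        have h3 := H856.Om7.decomp_dvd hD.decomp.decomp hHD hP4.prime (fun h6 => by
          have := (hP4.dvd_iff hq.le 1).1 (by rwa [pow_one])
          omega) ((pow_dvd_pow 5 hb2).trans hrb)
        rw [show t' = 8 by omega] at h3
        revert h3
        decide
      · have ht2 : t' = 2 := by
          have h3 : t' < 3 := by
            by_contra hcon
            push Not at hcon
            have := Nat.mul_le_mul hcon (not_lt.1 hk4)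
            omega
          omega
        subst ht2
        obtain rfl : k' = 4 := by omega
        refine Or.inr (Or.inr (Or.inr (Or.inl ⟨D 0, nondeg_of_on (hD.decomp.nondegenerate 0),
          hD.decomp.decomp.finrank_eq 0, fun g hg => ?_, fun g hg m hm hgm => inv_of_fix hHD hg hm hgm 0⟩)))
        obtain ⟨σ, hσ⟩ := hHD hg
        have h3 : ∀ w ∈ D 0, lin g w ∈ D (σ 0) := fun w hw => by
          rw [← hσ]
          exact Submodule.mem_map_of_mem hw
        by_cases h0 : σ 0 = 0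
        · rw [h0] at h3
          exact Or.inl h3
        · exact Or.inr fun w hw u hu => hD.decomp.orthogonal 0 (σ 0) (Ne.symm h0) u hu _ (h3 w hw)
    · refine Or.inl (hts (D 0) (fun h0 => ?_) (fun w hw => (qp w).symm.trans (hDs 0 w hw))
        fun g hg hgr => inv_of_fix hHD hg hrodd hgr 0)
      have h3 := hD.finrank_eq 0
      have h6 := hD.pos
      rw [h0, finrank_bot] at h3
      omega
    · rw [hn] at hsn
      obtain rfl : s' = 2 := by
        have : s' ∣ 2 ^ 3 := hsn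
        exact (Nat.prime_dvd_prime_iff_eq hs' Nat.prime_two).1 (hs'.dvd_of_dvd_pow this)
      rw [hcoe] at hadj
      exact Or.inr (Or.inr (Or.inr (Or.inr ⟨hirr, K, hK, hadj, hHK⟩)))
    · exact Or.inl (hten n₁ n₂ e P hε h1 h1' (h12.trans hn) hf₁ hf₂ hT hHT)
    · obtain rfl := sub_two hF h hHF hs' hcard hr
      rw [hcoe] at hrat
      exact Or.inr (Or.inr (Or.inl ⟨hirr, F₁, B, ζ, hζ, hcard, hrat, hHF⟩))
    · exfalso
      rcases hcas with h13 | ⟨-, hb2⟩
      · have := symp_le hHR habs hR hm hsm ht' hP4 (by norm_num) hr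
        rw [hn] at this
        omega
      · exact kill_symp hF h hRH hHR habs hR hm hsm ht' ((pow_dvd_pow r hb2).trans hrb)
    · exfalso
      have h2k := hW.two_le_m
      have h2t := hW.two_le_t
      have hk3 : k' < 3 := by
        by_contra hcon
        push Not at hcon
        have h3 : 3 ^ 2 ≤ k' ^ t' := (Nat.pow_le_pow_left hcon 2).trans (Nat.pow_le_pow_right (by omega) h2t)
        omega
      have ht4 : t' < 4 := by
        by_contra hcon
        push Not at hcon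
        have h3 : 2 ^ 4 ≤ k' ^ t' := (Nat.pow_le_pow_left h2k 4).trans (Nat.pow_le_pow_right (by omega) hcon)
        omega
      rcases H251.GeoCard.wreath e P hP4.prime (hP4.not_dvd (by omega))
        (hr.trans (Subgroup.card_dvd_of_le hW.wreath)) with h | h
      · omega
      · have := le_of_div hP4 (one_lt_q F).le h
        omega
    · exact Or.inr (Or.inl hS)
  · rcases Cfsg.Agent.H925.reducible_cases (Cfsg.Agent.H884.OddForm.isNondegenerate_of_nondeg _ hQ) hH' hirr with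
      ⟨W, hW0, hWs, hHW⟩ | ⟨W, hW0, hWn, hd, hHW⟩ | ⟨-, v, hv, hHW⟩
    · exact Or.inl (hts W hW0 (fun w hw => (qp w).symm.trans (hWs w hw)) fun g hg _ => inv_of_mem (hHW hg))
    · rw [hn] at hd
      by_cases h3 : finrank F W ≤ 3
      · exact Or.inl (hsm W hW0 h3 fun g hg _ => inv_of_mem (hHW hg))
      · exact Or.inr (Or.inr (Or.inr (Or.inl ⟨W, nondeg_of_on hWn, (by omega : finrank F W = 4),
          fun g hg => Or.inl (inv_of_mem (hHW hg)), fun g hg _ _ _ => inv_of_mem (hHW hg)⟩)))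
    · have hv0 : v ≠ 0 := by
        rintro rfl
        exact hv (QuadraticMap.map_zero _)
      exact Or.inl (hsm _ (by rw [Ne, Submodule.span_singleton_eq_bot]; exact hv0)
        ((finrank_span_singleton (K := F) hv0).le.trans (by norm_num)) fun g hg _ => inv_of_mem (hHW hg))

/-- `r₃` kills the pairs of nondegenerate 4-spaces -/
theorem N4.kill {H : Subgroup (GL I8 F)} (hH : H ≤ isometryGroup F (quadFormPlus 4 F)) {t : ℕ}
    (hP3 : PP (Nat.card F) 3 t) (ht : t ∣ Nat.card H) (h : N4 H) : False := by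
  obtain ⟨W, hWn, hd, -, hW⟩ := h
  have hQ : Nondeg (quadPlus 4 F) := nondeg_iff.2 quadPlus_nondegenerate
  rw [← coe_quadPlus] at hH
  have hfin : finrank F (I8 → F) = 8 := H886.O8R.finrank_I8'
  obtain ⟨z, hzH, hziso, hzt, hz1⟩ := exists_elt hH hP3 (by omega) ht
  obtain ⟨hzcm, -, -⟩ := hziso.odd_case hQ (lin_ne_one hz1) hP3 (by decide) (hfin.le.trans_lt (by norm_num))
  have hzadd : finrank F (fx (lin z)) + finrank F (cm (lin z)) = 8 := hziso.finrank_add.trans hfin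
  have hW := hW z hzH t (hP3.odd (by norm_num)) hzt
  have h1 := hziso.even_inf hW hWn
  have h3 := hziso.dvd hP3 hW
  have h4 : finrank F ↥(W ⊓ cm (lin z)) ≤ 4 := (Submodule.finrank_mono (inf_le_left : W ⊓ cm (lin z) ≤ W)).trans hd.le
  have h5 : finrank F ↥(W ⊓ cm (lin z)) = 0 := by
    obtain ⟨k, hk⟩ := h1
    obtain ⟨l, hl⟩ := h3
    omega
  have h6 := (H951.finrank_inf_add hziso.ne0 hziso.pow hW).trans hd
  have h8 := Submodule.finrank_mono (inf_le_right : W ⊓ fx (lin z) ≤ fx (lin z))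
  omega

end G4

/-- **(7a)** -/
theorem boxG34 (hTW : BoxTW) : BoxG34 := by
  intro F _ _ p a r b s k t hF h R hrb ht
  have hP3 : PP (Nat.card F) 3 t := by rw [hF]; exact h.t
  replace ht : t ∣ Nat.card (pre (quadFormPlus 4 F) R) := ht.trans card_dvd_pre
  rcases G4.split hTW hF h.rb h.rw.four hrb with h1 | h1 | h1 | h1 | ⟨-, K, hK, -, hHK⟩
  · exact Or.inl h1
  · exact Or.inr (Or.inr h1)
  · exact Or.inr (Or.inl h1)
  · exact (h1.kill pre_le hP3 ht).elim
  · have hH : pre (quadFormPlus 4 F) R ≤ isometryGroup F (quadPlus 4 F) := by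
      have h1 : isometryGroup F (quadFormPlus 4 F) ≤ isometryGroup F (quadPlus 4 F) := by rw [coe_quadPlus]
      exact pre_le.trans h1
    exact (no_quadratic_field (nondeg_iff.2 quadPlus_nondegenerate) hH hP3 (by decide) le_rfl (by simp) ht hK hHK).elim

end Cfsg.Agent.SM.O8
end

-- part: SM/O8/GB
section
prune_inst 0x10000002000000000000080010000240000000000000000000002000201000000000800022011000004000000000040000000000000000000000000000000000000000000000000200000000080000000000000000000000000000000000000000000000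
set_option linter.all false
open scoped Cfsg.Agent.FastGrp

/-!
# SM (S3570), `PΩ⁺₈(q)`: groups transitive on an orbit of nonsingular points, `boxGB`, `numGB` (helper89)
-/

set_option autoImplicit false
set_option linter.unusedSectionVars false
set_option maxHeartbeats 200000

namespace Cfsg.Agent.SM.O8

open Module QuadraticMap Cfsg Cfsg.Geo Cfsg.Agent.LieClassical.OrthCore Cfsg.Agent.H955 Cfsg.Agent.H954.TSing
open Cfsg.Agent.LieClassical.OmegaReindex
open Cfsg.Agent.H951 (fx cm Inv)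
open Cfsg.Agent.H884.El
open Cfsg.Agent.H708.O8 (I8 T8 RB)
open Cfsg.Agent.H823.O8S (SW mk8 gl8 mk8_eq lin_mul_apply lin_inv_apply lin_apply_inv)
open Cfsg.Agent.H886.O8R (om Xw card_orbit card_stab exists_map exists_copy)
open Cfsg.Agent.SM.Ex78 (Pd)
open scoped MatrixGroups Matrix

namespace G4

variable {F : Type} [Field F] [Fintype F] {p a r b : ℕ} {v : I8 → F}

theorem pre_St (W : Submodule F (I8 → F)) : pre (quadFormPlus 4 F) (St W) ≤ SW W := fun g hg => by
  obtain ⟨y, rfl, hy⟩ := H823.O8S.exists_lift hg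
  exact sw_of_inv (mem_St.1 hy)

theorem sign (hv : quadFormPlus 4 F v ≠ 0) {x : Omega F (quadFormPlus 4 F)} (hx : mk8 F x ∈ pt v) :
    lin (gl8 F x) v = v ∨ lin (gl8 F x) v = -v := H886.O8R.fix_of_pre hv (pre_St _) hx

/-- **the index of the stabiliser of a nonsingular point** -/
theorem index_pt (hv : quadFormPlus 4 F v ≠ 0) :
    ∃ o, o ∣ Nat.gcd 2 (Nat.card F - 1) ∧ o * (pt v).index = Nat.card F ^ 3 * (Nat.card F ^ 4 - 1) := by
  classical
  have hfin : Finite (Omega F (quadFormPlus 4 F)) := inferInstance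
  set Z : Subgroup (Omega F (quadFormPlus 4 F)) := (pt v).comap (mk8 F) with hZ
  have h1 : Z.index = (pt v).index := Subgroup.index_comap_of_surjective _ (QuotientGroup.mk'_surjective _)
  have h2 : Nat.card {u : I8 → F // ∃ x ∈ Z, om F x v = u} ≤ Nat.gcd 2 (Fintype.card F - 1) := by
    have h3 : Nat.card {u : I8 → F // ∃ x ∈ Z, om F x v = u} ≤ Nat.card ({v, -v} : Finset (I8 → F)) := by
      refine Nat.card_le_card_of_injective (fun u => ⟨u.1, ?_⟩) fun a b hab => Subtype.ext (congrArg (fun z => z.1) hab)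
      obtain ⟨u, y, hy, rfl⟩ := u
      (rewrite [Finset.mem_insert]; (conv => enter [@2]; rw [Finset.mem_singleton]))
      exact sign hv hy
    refine h3.trans ?_
    rw [Nat.card_eq_fintype_card, Fintype.card_coe]
    by_cases h2F : (2 : F) = 0
    · have h4 : -v = v := by
        have h5 : v + v = 0 := by
          rw [← two_smul F v, h2F, zero_smul]
        exact neg_eq_of_add_eq_zero_left h5
      rw [h4, Finset.pair_eq_singleton, Finset.card_singleton]
      exact Nat.gcd_pos_of_pos_left _ (by norm_num)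
    · have h4 : Nat.gcd 2 (Fintype.card F - 1) = 2 := by
        have h5 : Fintype.card F % 2 = 1 := by
          rw [FiniteField.odd_card_of_char_ne_two]
          intro h6
          apply h2F
          have h7 := ringChar.spec F 2
          rw [h6] at h7
          exact_mod_cast h7.2 dvd_rfl
        exact Nat.gcd_eq_left (by omega)
      rw [h4]
      exact Finset.card_le_two
  have h3 := card_orbit Z v
  have h4 : Xw v ≤ Z := fun x hx => mem_St.2 fun w hw => by
    obtain ⟨c, rfl⟩ := Submodule.mem_span_singleton.1 hw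
    rw [map_smul, show lin (gl8 F x) v = v from hx]
    exact hw
  rw [inf_eq_right.2 h4] at h3
  have h5 := card_stab hv
  simp only [← Z.card_mul_index, ← h3, h1] at h5
  have h6 : 0 < Nat.card Z := Nat.card_pos
  rw [Nat.card_eq_fintype_card (α := F)]
  generalize Nat.card {u : I8 → F // ∃ x ∈ Z, om F x v = u} = o at h2 h3 h5
  refine ⟨o, ?_, ?_⟩
  · have h7 : Nat.gcd 2 (Fintype.card F - 1) ≤ 2 := Nat.gcd_le_left _ two_pos
    have h8 : o ≠ 0 := by
      rintro rfl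
      omega
    rcases (by omega : o = 1 ∨ o = Nat.gcd 2 (Fintype.card F - 1)) with h9 | h9
    · rw [h9]
      exact one_dvd _
    · exact h9.dvd
  · apply Nat.eq_of_mul_eq_mul_right (Nat.card_pos (α := Xw v))
    simp only [Nat.mul_sub, mul_one, ← pow_add, h5]
    ring

theorem tr_of_pd (hv : quadFormPlus 4 F v ≠ 0) {Y : Subgroup (T8 F)} (h : Pd (pt v) Y) :
    Tr (pre (quadFormPlus 4 F) Y) v := by
  intro u hu
  obtain ⟨g, hg⟩ := exists_map hv hu
  obtain ⟨y, hy, x, hx, e⟩ := h.symm (mk8 F g)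
  obtain ⟨x, rfl⟩ := QuotientGroup.mk'_surjective (Subgroup.center (Omega F (quadFormPlus 4 F))) x
  refine ⟨gl8 F (g * x⁻¹), gl8_mem.2 ?_, ?_⟩
  · simp only [map_mul, map_inv, e]
    change y * mk8 F x * (mk8 F x)⁻¹ ∈ Y
    rwa [mul_inv_cancel_right]
  · have h1 : lin (gl8 F g) v = u := hg
    rw [map_mul, lin_mul_apply]
    rcases sign hv (x := x⁻¹) ((pt v).inv_mem hx) with h2 | h2
    · rw [h2, h1]
      exact Or.inl rfl
    · rw [h2, map_neg, h1]
      exact Or.inr rfl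

theorem N4.not_tr {H : Subgroup (GL I8 F)} (h : N4 H) (hv : quadFormPlus 4 F v ≠ 0) : ¬ Tr H v := by
  intro ht
  obtain ⟨W, hWn, hd, hW, -⟩ := h
  have hQ : Nondeg (quadPlus 4 F) := nondeg_iff.2 quadPlus_nondegenerate
  have h1 : finrank F W + finrank F (perp (quadPlus 4 F) W) = 8 := (finrank_add_perp hQ W).trans H886.O8R.finrank_I8'
  obtain ⟨u, hu, -, -, hu1, -⟩ := exists_copy hWn hd.ge (quadFormPlus 4 F v) 0 0
  obtain ⟨w, hw, w', -, hw1, hw2, -⟩ := exists_copy (nondeg_perp hQ hWn) (by omega) 0 1 0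
  have h2 : quadPlus 4 F (u + w) = quadFormPlus 4 F v := by rw [Q_add, hu1, hw1, hw u hu]; ring
  obtain ⟨g, hg, hgu⟩ := ht u ((qp u).symm.trans hu1)
  obtain ⟨g', hg', hgw⟩ := ht (u + w) ((qp _).symm.trans h2)
  have h3 : lin g⁻¹ u = v ∨ lin g⁻¹ u = -v := by
    rcases hgu with h | h
    · exact Or.inl (by rw [← h, lin_inv_apply])
    · exact Or.inr (by rw [← neg_neg u, ← h, map_neg, lin_inv_apply])
  have h4 : ∀ U : Submodule F (I8 → F), lin (g' * g⁻¹) u ∈ U → u + w ∈ U := by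
    intro U hU
    rw [lin_mul_apply] at hU
    have h5 : lin g' v ∈ U := by
      rcases h3 with h | h
      · rwa [h] at hU
      · rwa [h, map_neg, U.neg_mem_iff] at hU
    rcases hgw with h | h
    · rwa [h] at h5
    · rwa [h, U.neg_mem_iff] at h5
  have h5 := (isCompl_perp hWn).disjoint
  rw [Submodule.disjoint_def] at h5
  rcases hW _ (H.mul_mem hg' (H.inv_mem hg)) with h | h
  · have h6 : w = 0 := h5 w ((W.add_mem_iff_right hu).1 (h4 W (h u hu))) hw
    rw [h6, polar_zero_left] at hw2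
    exact zero_ne_one hw2
  · have h6 : u = 0 := h5 u hu (((perp (quadPlus 4 F) W).add_mem_iff_left hw).1 (h4 _ (h u hu)))
    rw [h6, map_zero] at hu1
    exact hv hu1.symm

theorem sq_dvd (q : ℕ) : q ^ 2 + 1 ∣ q ^ 4 - 1 := by
  have h := Nat.sq_sub_sq (q ^ 2) 1
  rw [one_pow, ← pow_mul] at h
  exact ⟨_, h⟩

theorem rb_dvd (h : RB p a r b) {n : ℕ} (hn : (p ^ a) ^ 2 + 1 ∣ 2 * n) : r ^ b ∣ n := by
  have h1 : r ^ b ∣ 2 * n := by
    refine dvd_trans ?_ hn
    rw [← pow_mul, mul_comm]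
    exact h.dvd
  have h2 := h.five
  exact ((Nat.coprime_primes h.prim.prime Nat.prime_two).2 (by omega) |>.pow_left b).dvd_of_dvd_mul_left h1

theorem dvd_of_pd (hv : quadFormPlus 4 F v ≠ 0) {Y : Subgroup (T8 F)} (h : Pd (pt v) Y) :
    Nat.card F ^ 3 ∣ Nat.card Y ∧ Nat.card F ^ 2 + 1 ∣ 2 * Nat.card Y := by
  obtain ⟨o, ho, h1⟩ := index_pt hv
  have h2 := h.symm.index_dvd
  refine ⟨dvd_trans ?_ h2, ?_⟩
  · have h3 : Nat.card F ^ 3 ∣ o * (pt v).index := ⟨_, h1⟩
    have h4 : Nat.Coprime (Nat.card F) (Nat.card F - 1) := by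
      have h5 : 0 < Nat.card F := Nat.card_pos
      obtain ⟨m, hm⟩ : ∃ m, Nat.card F = m + 1 := ⟨_, (Nat.sub_add_cancel h5).symm⟩
      rw [hm, Nat.add_sub_cancel]
      simp
    exact ((h4.coprime_dvd_right (ho.trans (Nat.gcd_dvd_right _ _))).pow_left 3).dvd_of_dvd_mul_left h3
  · refine ((sq_dvd _).mul_left (Nat.card F ^ 3)).trans ?_
    rw [← h1]
    exact Nat.mul_dvd_mul (ho.trans (Nat.gcd_dvd_left _ _)) h2

end G4

open G4

/-- the order of a group transitive on an orbit of nonsingular points -/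
theorem numGB {F : Type} [Field F] [Fintype F] {v : I8 → F} (hv : quadFormPlus 4 F v ≠ 0) {Y : Subgroup (T8 F)}
    (h : Pd (pt v) Y) (hb : pt v ⊓ Y ≠ ⊥) : Num (Nat.card F) (Nat.card Y) := by
  have hfin : Finite (T8 F) := Quotient.finite _
  refine ⟨(dvd_of_pd hv h).1, (dvd_of_pd hv h).2, ?_⟩
  obtain ⟨o, ho, h1⟩ := index_pt hv
  have h2 := h.symm.card_left
  have h3 : 1 < Nat.card ↥(Y ⊓ pt v) := (Subgroup.one_lt_card_iff_ne_bot _).2 (by rwa [inf_comm])
  have h4 : 0 < (pt v).index := Nat.pos_of_ne_zero Subgroup.index_ne_zero_of_finite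
  have h5 : 0 < Nat.gcd 2 (Nat.card F - 1) := Nat.gcd_pos_of_pos_left _ two_pos
  rw [← h1, ← h2]
  refine lt_of_le_of_lt (Nat.mul_le_mul_right _ (Nat.le_of_dvd h5 ho)) ?_
  exact Nat.mul_lt_mul_of_pos_left ((Nat.lt_mul_iff_one_lt_left h4).2 h3) h5

theorem rbGB {F : Type} [Field F] [Fintype F] {p a r b : ℕ} (hF : Nat.card F = p ^ a) (hr : RB p a r b) {v : I8 → F}
    (hv : quadFormPlus 4 F v ≠ 0) {Y : Subgroup (T8 F)} (h : Pd (pt v) Y) : r ^ b ∣ Nat.card Y :=
  rb_dvd hr (hF ▸ (dvd_of_pd hv h).2)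

/-- **(6)** -/
theorem boxGB (hNT : BoxNT) (hTW : BoxTW) : BoxGB := by
  intro F _ _ p a r b s k t hF h v Y hv hpd
  have ht := tr_of_pd hv hpd
  have h4 := h.rw.four
  obtain ⟨n1, n2⟩ := hNT F (pre (quadFormPlus 4 F) Y) pre_le
  rcases G4.split hTW hF h.rb h4 (rbGB hF h.rb hv hpd) with h1 | h1 | h1 | h1 | ⟨hirr, K, hK, hadj, hHK⟩
  · exact Or.inl h1
  · exact Or.inr h1
  · exact ((n2 h1).1 v hv ht).elim
  · exact (h1.not_tr hv ht).elim
  · rcases n1 hirr K hK hadj hHK with ⟨J, c, d, hJ, hle⟩ | h1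
    · exact Or.inl (sr_J hF (h.rb.ppF hF) hJ fun g hg _ => hle hg)
    · exact (h1 (by omega) v hv ht).elim

end Cfsg.Agent.SM.O8
end

-- part: SM/O8/GP
section
prune_inst 0x2000000000010000000440c0000900060080140400140080021010000010000a01010010002a00000404001000009020000000a0000004000000000013082801c0c00100000008080000000000000000000000000000000000000000000000
set_option linter.all false
open scoped Cfsg.Agent.FastGrp

/-!
# SM (S3570), `PΩ⁺₈(q)`: groups transitive on the anisotropic planes, `boxGP` (helper89)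
-/

set_option autoImplicit false
set_option linter.unusedSectionVars false
set_option maxHeartbeats 200000

namespace Cfsg.Agent.SM.O8

open Module QuadraticMap Cfsg Cfsg.Geo Cfsg.Agent.LieClassical.OrthCore Cfsg.Agent.H955 Cfsg.Agent.H954.TSing
open Cfsg.Agent.H951 (fx cm Inv)
open Cfsg.Agent.H884.El
open Cfsg.Agent.H708.O8 (I8 T8 RB)
open Cfsg.Agent.H823.O8S (SW mk8 gl8 mk8_eq lin_mul_apply lin_inv_apply lin_apply_inv mem_SW)
open Cfsg.Agent.H372.O8R (Q8 coe_Q8 nd_Q8 dim_Q8 nondeg_W not_isPlus_W two_mul_dvd card_StO_dvd card_O_W card_O_perp)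
open Cfsg.Agent.SM.Ex78 (Pd)
open scoped MatrixGroups Matrix

namespace G4

variable {F : Type} [Field F] [Fintype F] {p a : ℕ} {U U' : Submodule F (I8 → F)}

/-- `Ω` is transitive on the anisotropic planes -/
theorem exists_plane (hU : finrank F U = 2) (h : An U) (hU' : finrank F U' = 2) (h' : An U') :
    ∃ g : Omega F (quadFormPlus 4 F), U.map (lin (gl8 F g)) = U' := by
  obtain ⟨c, d, hcd⟩ := exists_aniso_coeff F
  obtain ⟨e, he⟩ := exists_minus_equiv hcd 0 _ (nondeg_W hU h) hU (not_isPlus_W hU h)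
  obtain ⟨e', he'⟩ := exists_minus_equiv hcd 0 _ (nondeg_W hU' h') hU' (not_isPlus_W hU' h')
  let φ : U ≃ₗ[F] U' := e.trans e'.symm
  have hφ : ∀ u, res (Q8 F) U' (φ u) = res (Q8 F) U u := fun u => by
    rw [← he', ← he]
    exact congrArg _ (e'.apply_symm_apply _)
  let B := Module.finBasisOfFinrankEq F U hU
  have key : ∀ {W : Submodule F (I8 → F)} (C : Basis (Fin 2) F W), LinearIndependent F ![(C 0 : I8 → F), C 1] ∧
      Submodule.span F {(C 0 : I8 → F), (C 1 : I8 → F)} = W := by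
    intro W C
    have h1 : (![(C 0 : I8 → F), C 1] : Fin 2 → I8 → F) = W.subtype ∘ C := by
      funext i
      fin_cases i <;> rfl
    refine ⟨h1 ▸ C.linearIndependent.map' W.subtype W.ker_subtype, ?_⟩
    rw [← Matrix.range_cons_cons_empty _ _ ![], h1, Set.range_comp, ← Submodule.map_span, C.span_eq, Submodule.map_subtype_top]
  obtain ⟨l1, s1⟩ := key B
  obtain ⟨l2, s2⟩ := key (B.map φ)
  have hb : Q8 F (B 1) ≠ 0 := fun h0 => l1.ne_zero 1 (h _ (B 1).2 (by rw [← coe_Q8]; exact h0))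
  obtain ⟨g, hg, g1, g2⟩ := H886.O8R.trans_plane nd_Q8 (by rw [dim_Q8]; norm_num) (s1.symm ▸ nondeg_W hU h) l1
    (s2.symm ▸ nondeg_W hU' h') l2 (hφ (B 0)).symm (hφ (B 1)).symm (by
      have h1 := hφ (B 0 + B 1)
      rw [map_add] at h1
      change Q8 F (φ (B 0) + φ (B 1)) = Q8 F (B 0 + B 1) at h1
      have h2 : Q8 F (φ (B 0)) = Q8 F (B 0) := hφ (B 0)
      have h3 : Q8 F (φ (B 1)) = Q8 F (B 1) := hφ (B 1)
      rw [Q_add, Q_add, h2, h3] at h1
      exact (add_left_cancel h1).symm) hb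
  obtain ⟨x, rfl⟩ := H886.O8R.exists_omega hg
  refine ⟨x, ?_⟩
  rw [← s2, ← g1, ← g2]
  conv_lhs => rw [← s1]
  simp only [Submodule.map_span, Set.image_pair]
  rfl

theorem trP_of_pd (hU : finrank F U = 2) (h : An U) {X : Subgroup (T8 F)} (hpd : Pd X (St U)) :
    TrP (pre (quadFormPlus 4 F) X) := by
  have key : ∀ W : Submodule F (I8 → F), finrank F W = 2 → An W →
      ∃ g ∈ pre (quadFormPlus 4 F) X, U.map (lin g) = W := by
    intro W hW h'
    obtain ⟨g, hg⟩ := exists_plane hU h hW h'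
    obtain ⟨y, hy, x, hx, e⟩ := hpd (mk8 F g)
    obtain ⟨x, rfl⟩ := QuotientGroup.mk'_surjective (Subgroup.center (Omega F (quadFormPlus 4 F))) x
    refine ⟨gl8 F (g * x⁻¹), gl8_mem.2 ?_, ?_⟩
    · simp only [map_mul, map_inv, e]
      change y * mk8 F x * (mk8 F x)⁻¹ ∈ X
      rwa [mul_inv_cancel_right]
    · have h1 : U.map (lin (gl8 F x⁻¹)) = U := mem_SW.1 (sw_of_inv (mem_St.1 ((St U).inv_mem hx)))
      have h2 : lin (gl8 F (g * x⁻¹)) = (lin (gl8 F g)).comp (lin (gl8 F x⁻¹)) :=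
        LinearMap.ext fun v => by simp only [map_mul, lin_mul_apply]; rfl
      rw [h2, Submodule.map_comp, h1, hg]
  intro W W' hW h1 hW' h2
  obtain ⟨g, hg, e⟩ := key W hW h1
  obtain ⟨g', hg', e'⟩ := key W' hW' h2
  refine ⟨g' * g⁻¹, mul_mem hg' (inv_mem hg), ?_⟩
  have h3 : (lin (g' * g⁻¹)).comp (lin g) = lin g' :=
    LinearMap.ext fun v => by rw [LinearMap.comp_apply, lin_mul_apply, lin_inv_apply]
  rw [← e, ← Submodule.map_comp, h3, e']

/-- the index of the stabiliser of an anisotropic plane -/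
theorem index_plane (hF : Nat.card F = p ^ a) (hU : finrank F U = 2) (h : An U) :
    (p ^ a) ^ 6 * (((p ^ a) ^ 2 + 1) * ((p ^ a - 1) * ((p ^ a) ^ 3 - 1))) ∣ 8 * (St U).index := by
  have h1 : 2 * Nat.card (St U) ∣ 2 * (2 * ((p ^ a + 1) *
      ((p ^ a) ^ 6 * ((p ^ a) ^ 2 - 1) * ((p ^ a) ^ 3 + 1) * ((p ^ a) ^ 4 - 1)))) := by
    refine (mul_dvd_mul_left 2 card_dvd_pre).trans ((two_mul_dvd hU h (pre_St U)).trans
      ((card_StO_dvd nd_Q8 (nondeg_W hU h)).trans ?_))
    rw [card_O_W hF hU h, card_O_perp hF hU h]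
    exact dvd_of_eq (by ring)
  have h2 := Nat.dvd_of_mul_dvd_mul_left two_pos h1
  have h3 := S0293.result (F := F) (q := p ^ a) (by rw [← hF, Nat.card_eq_fintype_card]) 4 le_rfl
  rw [← (St U).card_mul_index] at h3
  simp only [Finset.prod_range_succ, Finset.prod_range_zero, show 4 - 1 = 3 from rfl] at h3
  have hq : 1 < p ^ a := hF ▸ Finite.one_lt_card
  generalize p ^ a = q at h2 h3 hq ⊢
  obtain ⟨m, rfl⟩ : ∃ m, q = m + 1 := ⟨q - 1, by omega⟩
  have e : ∀ k c, (m + 1) ^ k = c + 1 → (m + 1) ^ k - 1 = c := fun k c h => by rw [h, Nat.add_sub_cancel]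
  rw [e 2 (m * (m + 2)) (by ring), e 4 (m * (m + 2) * ((m + 1) ^ 2 + 1)) (by ring)] at h2
  simp only [e (2 * (0 + 1)) (m * (m + 2)) (by ring), e 4 (m * (m + 2) * ((m + 1) ^ 2 + 1)) (by ring),
    e (2 * (2 + 1)) (m * (m ^ 2 + 3 * m + 3) * ((m + 1) ^ 3 + 1)) (by ring)] at h3
  rw [Nat.add_sub_cancel, e 3 (m * (m ^ 2 + 3 * m + 3)) (by ring)]
  have h4 := Nat.mul_dvd_mul (Nat.gcd_dvd_left 4 (m * (m + 2) * ((m + 1) ^ 2 + 1))) (Nat.mul_dvd_mul_right h2 (St U).index)
  rw [h3] at h4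
  have h5 : 0 < (m + 1 + 1) * ((m + 1) ^ 6 * (m * (m + 2)) * ((m + 1) ^ 3 + 1) * (m * (m + 2) * ((m + 1) ^ 2 + 1))) := by
    have : 0 < m := by omega
    positivity
  apply Nat.dvd_of_mul_dvd_mul_left h5
  convert h4 using 1 <;> ring

theorem num_plane {q n : ℕ} (hq : 4 ≤ q) (hn : 0 < n) (h : q ^ 6 * ((q ^ 2 + 1) * ((q - 1) * (q ^ 3 - 1))) ∣ 8 * n) :
    Num q n := by
  have h8 : 0 < 8 := by norm_num
  have h0 : q ^ 3 ∣ n ∧ q ^ 2 + 1 ∣ 2 * n := by
    rcases Nat.even_or_odd' q with ⟨k, hk | hk⟩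
    · have h1 : 8 * (q ^ 3 * (q ^ 2 + 1)) ∣ 8 * n := by
        refine dvd_trans ⟨k ^ 3 * ((q - 1) * (q ^ 3 - 1)), ?_⟩ h
        rw [show q ^ 6 = q ^ 3 * q ^ 3 by ring]
        conv_lhs => rw [show q ^ 3 * q ^ 3 = q ^ 3 * (2 * k) ^ 3 by rw [← hk]]
        ring
      have h2 := Nat.dvd_of_mul_dvd_mul_left h8 h1
      exact ⟨(Dvd.intro _ rfl).trans h2, ((Dvd.intro_left _ rfl).trans h2).mul_left 2⟩
    · refine ⟨?_, ?_⟩
      · have h1 : Nat.Coprime (q ^ 3) (2 ^ 3) := Nat.Coprime.pow 3 3 (Nat.coprime_two_right.2 ⟨k, hk⟩)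
        refine h1.dvd_of_dvd_mul_left (dvd_trans ?_ h)
        exact (pow_dvd_pow q (by norm_num)).mul_right _
      · have h1 : q - 1 = 2 * k := by omega
        have h2 : q ^ 3 - 1 = 2 * (4 * k ^ 3 + 6 * k ^ 2 + 3 * k) := by
          rw [show q ^ 3 = 2 * (4 * k ^ 3 + 6 * k ^ 2 + 3 * k) + 1 by rw [hk]; ring, Nat.add_sub_cancel]
        rw [h1, h2] at h
        apply Nat.dvd_of_mul_dvd_mul_left (show 0 < 4 by norm_num)
        refine dvd_trans ⟨q ^ 6 * (k * (4 * k ^ 3 + 6 * k ^ 2 + 3 * k)), by ring⟩ (h.trans (dvd_of_eq (by ring)))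
  refine ⟨h0.1, h0.2, ?_⟩
  have h1 := Nat.le_of_dvd (by omega) h
  have h2 : 1 * n ≤ Nat.gcd 2 (q - 1) * n := Nat.mul_le_mul_right _ (Nat.gcd_pos_of_pos_left _ two_pos)
  have h3 : 4 ^ 3 ≤ q ^ 3 := Nat.pow_le_pow_left hq 3
  have h4 : q ^ 6 * (q ^ 2 * (3 * 63)) ≤ q ^ 6 * ((q ^ 2 + 1) * ((q - 1) * (q ^ 3 - 1))) :=
    Nat.mul_le_mul_left _ (Nat.mul_le_mul (by omega) (Nat.mul_le_mul (by omega) (by omega)))
  have h5 : q ^ 3 * (q ^ 4 - 1) ≤ q ^ 3 * q ^ 4 := Nat.mul_le_mul_left _ (Nat.sub_le _ _)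
  have h6 : q ^ 3 * q ^ 4 ≤ q ^ 6 * q ^ 2 := by
    rw [← pow_add, ← pow_add]
    exact Nat.pow_le_pow_right (by omega) (by norm_num)
  have h7 : 0 < q ^ 6 * q ^ 2 := by positivity
  rw [← mul_assoc] at h4
  omega

end G4

open G4

/-- **(7)** -/
theorem boxGP (hG : BoxG34) (hNT : BoxNT) : BoxGP := by
  intro F _ _ p a r b s k t hF h U X hU hA hpd
  have hfin : Finite (T8 F) := Quotient.finite _
  have h1 := (index_plane hF hU hA).trans (Nat.mul_dvd_mul_left 8 hpd.index_dvd)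
  have h4 := h.rw.four
  have h2 := num_plane h4 Nat.card_pos h1
  refine ⟨?_, h2⟩
  have h3 : t ∣ Nat.card X := by
    have h5 : t ∣ (p ^ a) ^ 3 - 1 := (h.t.dvd_iff (by omega) 3).2 dvd_rfl
    have h6 : Nat.Coprime t (2 ^ 3) := (Nat.coprime_two_right.2 (h.t.odd (by norm_num))).pow_right 3
    exact h6.dvd_of_dvd_mul_left ((((h5.mul_left _).mul_left _).mul_left _).trans h1)
  rcases hG F p a r b s k t hF h X (rb_dvd h.rb h2.2.1) h3 with h5 | h5 | h5
  · exact Or.inl h5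
  · exact (((hNT F _ pre_le).2 h5).2 (trP_of_pd hU hA hpd)).elim
  · exact Or.inr h5

end Cfsg.Agent.SM.O8
end

-- part: SM/O8/GP_mg
section

end
end
end
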