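import Cfsg.Agent.SM.Asm_m3
import Cfsg.Agent.SM.Base_m3
import Cfsg.Agent.H823.O8R.Over
import Cfsg.Agent.H683.O8R.Geo34_m3
import Cfsg.Agent.H198.TriInn
import Cfsg.Agent.H372.O8R.Ord_mg_m3
import Cfsg.Agent.H325.Cov.KE7_m3
import Cfsg.Agent.ClassicalGeometry.WittQuad
import Cfsg.Agent.H59.O8S.Num_m3
import Cfsg.Agent.H925.U52Form
import Cfsg.Agent.H666.TraceZero
import Cfsg.Agent.H781.Cov9.Res
import Cfsg.Agent.H946.ExcNum_m3
import Cfsg.Agent.H958.Bridge
import Cfsg.Agent.SM.O8.M1B_m3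
import Cfsg.Agent.H198.TriAut
import Cfsg.Agent.H198.TriBase
import Cfsg.Agent.H198.Classes
import Cfsg.Agent.H198.Carriers
import Cfsg.Agent.AutOrth.Main
import Cfsg.Agent.H884.ElRows_m3
import Cfsg.Agent.H386.Rg.AlphaA_m3
import Cfsg.Agent.SM.O8.MinA_m3
import Cfsg.Agent.H906.Cover_m3
import Cfsg.Agent.FastGrp
import Cfsg.Agent.Prune
set_option linter.all false

section
prune_inst 0x7f00000000000000000000000000000000000000000000000000000000000000000000000000000000000000000000000000000000000000000000000000000000000000000000000000000000000000003fffffffffffffffffffffffffffaeffbdffffffff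

section
prune_inst 0xffe9fdbbba7bffdfff7e77f6ddcffc3b921fffe6dff94bbfe029ef2bdf231409cd6bad0de030fe1ec3e23c10b87853fb7eeeffe26fd87ffffdbdf45ffbee4ff5f7bd0871968c340fbc0fff03f0778e7f000000000000000000000000000000000200000000

-- part: SM/O8/Defs
section
prune_inst 0x10000000000000
set_option linter.all false
open scoped Cfsg.Agent.FastGrp

/-!
# SM (S3570), socle `S = PΩ⁺₈(q)`: definitions, table and boxes (helper71, plan in `notes/SM/o8.md`)

Everything happens in `T8 F`.  `im α R` is the image of `R` under an automorphism (this is how the three modules are reached),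
`St W` the stabiliser of a subspace, `pt v` the stabiliser of the point `⟨v⟩`, `Nt β` says that `β` is induced by a
semisimilarity, `Fx r R` is the space of the vectors fixed by all elements of order `r` of the preimage of `R`.
-/

set_option autoImplicit false
set_option linter.unusedSectionVars false

namespace Cfsg.Agent.SM.O8

open Module QuadraticMap Cfsg Cfsg.Geo
open Cfsg.Agent.H951 (fx cm Inv)
open Cfsg.Agent.H884.El (pre lin PP)
open Cfsg.Agent.H708.O8 (I8 T8 RB)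
open Cfsg.Agent.H823.O8S (SW tp RW Fld NJ)
open Cfsg.Agent.H823.O8R (FixV FixP FixJ Sp6)
open Cfsg.Agent.H683.O8R (Sub2)
open Cfsg.Agent.H198.Carriers (plusQ good_plusQ)
open Cfsg.Agent.ClassicalGeometry.OrthSemi (Gam IsSS)
open Cfsg.Agent.SM.Ex78 (Pd)
open scoped MatrixGroups Matrix

/-! ### the family and its table -/

/-- `PΩ⁺₈(q)` -/
def f8q (q : ℕ) : Fam := fun S _ =>
  ∃ (F : Type) (_ : Field F) (_ : Fintype F), Fintype.card F = q ∧ Nonempty (S ≃* POmega F (quadFormPlus 4 F))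

/-- `PΩ⁺₈(q)`, any `q` -/
def f8 : Fam := fun S _ => ∃ (F : Type) (_ : Field F) (_ : Fintype F), Nonempty (S ≃* POmega F (quadFormPlus 4 F))

/-- `t = |Ω₇(q)|` -/
def O7 (q t : ℕ) : Prop := t * Nat.gcd 2 (q - 1) = q ^ 9 * ((q ^ 2 - 1) * (q ^ 4 - 1) * (q ^ 6 - 1))

/-- the rows for `q = 2`: `T = Sp₆(2)`, `T = A₉` -/
def R2 : Tab := fun t n k => (t = 1451520 ∧ k = 2) ∨ (t = 1451520 ∧ n = 960 ∧ k = 3) ∨ (t = 181440 ∧ n = 120 ∧ k = 3)

/-- the rows for `q = 3`: `T = Ω₇(3)`, `T = Ω⁺₈(2)`, `T = L₄(3)` -/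
def R3 : Tab := fun t n k => (t = 4585351680 ∧ k = 2) ∨ (t = 4585351680 ∧ n = 28431 ∧ k = 4) ∨
  (t = 174182400 ∧ n = 1120 ∧ k = 3) ∨ (t = 6065280 ∧ n = 1080 ∧ k = 3)

/-- **the table** -/
def R8 : Tab := fun t n k => (k = 2 ∧ ∃ p a : ℕ, p.Prime ∧ 1 ≤ a ∧ O7 (p ^ a) t) ∨
  (t = 1451520 ∧ n = 960 ∧ k = 3) ∨ (t = 181440 ∧ n = 120 ∧ k = 3) ∨ (t = 4585351680 ∧ n = 28431 ∧ k = 4) ∨
  (t = 174182400 ∧ n = 1120 ∧ k = 3) ∨ (t = 6065280 ∧ n = 1080 ∧ k = 3)

/-- the classification, as a hypothesis -/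
def Kn : Prop := ∀ (X : Type) [Group X] [Finite X] [IsSimpleGroup X], IsKnownSimple' X

/-! ### the objects -/

section defs

variable {F : Type} [Field F] [Fintype F]

/-- the stabiliser of a subspace -/
def St (W : Submodule F (I8 → F)) : Subgroup (T8 F) := tp (SW W)

/-- the stabiliser of a point -/
abbrev pt (v : I8 → F) : Subgroup (T8 F) := St (Submodule.span F {v})

/-- the image under an automorphism -/
abbrev im (α : MulAut (T8 F)) (R : Subgroup (T8 F)) : Subgroup (T8 F) := R.map α.toMonoidHom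

/-- the automorphism induced by a semisimilarity -/
noncomputable def ph (F : Type) [Field F] [Fintype F] : Gam (plusQ 4 F) →* MulAut (T8 F) :=
  H198.OrthFrame.Phi (good_plusQ (F := F) (m := 4) (by norm_num))

/-- induced by a semisimilarity -/
def Nt (β : MulAut (T8 F)) : Prop := β ∈ (ph F).range

/-- the vectors fixed by all elements of order dividing `r` -/
def Fx (r : ℕ) (R : Subgroup (T8 F)) : Submodule F (I8 → F) :=
  ⨅ g : {g : GL I8 F // g ∈ pre (quadFormPlus 4 F) R ∧ g ^ r = 1}, fx (lin g.1)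

/-- in one of the three modules the elements of order `r` have a common fixed vector -/
def SR (r : ℕ) (R : Subgroup (T8 F)) : Prop := ∃ α : MulAut (T8 F), Fx r (im α R) ≠ ⊥

/-- anisotropic -/
def An (U : Submodule F (I8 → F)) : Prop := ∀ w ∈ U, quadFormPlus 4 F w = 0 → w = 0

/-- transitive on the points of the type of `v` -/
def Tr (H : Subgroup (GL I8 F)) (v : I8 → F) : Prop :=
  ∀ u, quadFormPlus 4 F u = quadFormPlus 4 F v → ∃ g ∈ H, lin g v = u ∨ lin g v = -u

/-- transitive on the anisotropic planes -/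
def TrP (H : Subgroup (GL I8 F)) : Prop :=
  ∀ U U' : Submodule F (I8 → F), finrank F U = 2 → An U → finrank F U' = 2 → An U' → ∃ g ∈ H, U.map (lin g) = U'

/-- the socle `S` of a group `R` in the residual class, `P` the core -/
structure Rs (R : Subgroup (T8 F)) (S : Subgroup R) (P : Subgroup (GL I8 F)) : Prop where
  ne : R ≠ ⊤
  nrm : S.Normal
  simple : IsSimpleGroup S
  nab : ¬ IsMulCommutative S
  cen : Subgroup.centralizer (S : Set R) = ⊥
  core : IsResidualCore (pre (quadFormPlus 4 F) R) P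
  iso : Nonempty (S ≃* H915.LD.Soc P)

/-- in one of the modules `σ` is induced by a semilinear involution -/
def Sf (σ : MulAut (T8 F)) : Prop :=
  ∃ (γ : MulAut (T8 F)) (M : Gam (plusQ 4 F)) (τ : F ≃+* F) (c : F), τ ≠ RingEquiv.refl F ∧ IsSS (plusQ 4 F) τ c M.1 ∧
    M * M = 1 ∧ γ * σ * γ⁻¹ = ph F M

/-- `R` normalises a subgroup `N` of type `Ω⁻₈(q₀)`, `q₀² = q`, centralised by `σ` -/
structure Mn (R N : Subgroup (T8 F)) (σ : MulAut (T8 F)) : Prop where
  le : N ≤ R
  conj : ∀ g ∈ R, ∀ x ∈ N, g * x * g⁻¹ ∈ N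
  simple : IsSimpleGroup N
  nab : ¬ IsMulCommutative N
  cor : ∀ β : MulAut (T8 F), Nt β → (∀ x ∈ N, β x = x) → β = 1
  sf : Sf σ
  ne : σ ≠ 1
  sq : σ * σ = 1
  fix : ∀ x ∈ N, σ x = x
  card : Nat.card R ≤ Nat.card F ^ 18

end defs

/-- the numbers, `q = p ^ a ≥ 4`: `r = r₄`, `s = r₆`, `t = r₃` -/
structure Nb (p a r b s k t : ℕ) : Prop where
  rb : RB p a r b
  rw : RW p a s k
  sc : (13 ≤ s ∧ k = 1) ∨ (s = 7 ∧ k = 2) ∨ (p = 5 ∧ a = 1 ∧ s = 7 ∧ k = 1)
  t : PP (p ^ a) 3 t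

/-- the order of a group which is transitive, but not regular, on an orbit of nonsingular points or anisotropic planes -/
def Num (q n : ℕ) : Prop := q ^ 3 ∣ n ∧ q ^ 2 + 1 ∣ 2 * n ∧ q ^ 3 * (q ^ 4 - 1) < Nat.gcd 2 (q - 1) * n

/-- `PΩ⁻₈(q₀)`, `q₀² = q` -/
def Om8 (q : ℕ) (S : Type) [Group S] : Prop :=
  ∃ (K : Type) (_ : Field K) (_ : Fintype K) (c d : K), Fintype.card K ^ 2 = q ∧
    (∀ z₁ z₂ : K, z₁ ^ 2 + c * z₁ * z₂ + d * z₂ ^ 2 = 0 → z₁ = 0 ∧ z₂ = 0) ∧
    Nonempty (S ≃* POmega K (quadFormMinus 3 K c d))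

/-! ### the boxes -/

/-- (1) a normal subgroup `PSp₆(q)` or `Ω₇(q)` fixes a nonsingular point of one of the modules -/
def BoxSpin : Prop := ∀ (F : Type) [Field F] [Fintype F] (p a : ℕ), p.Prime → 4 ≤ p ^ a → Nat.card F = p ^ a →
  ∀ (R : Subgroup (T8 F)) (S : Subgroup R), S.Normal → Sp6 p a S → ∃ α : MulAut (T8 F), FixV (im α R)

/-- (2) residual class, own characteristic -/
def BoxOwn : Prop := ∀ (F : Type) [Field F] [Fintype F] (p a : ℕ), p.Prime → 4 ≤ p ^ a → Nat.card F = p ^ a →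
  ∀ (R : Subgroup (T8 F)) (S : Subgroup R) (P : Subgroup (GL I8 F)), Rs R S P → IsLieTypeChar p (H915.LD.Soc P) →
    Num (p ^ a) (Nat.card R) → Sp6 p a S ∨ Om8 (p ^ a) S

/-- (3) residual class, cross characteristic -/
def BoxCross : Prop := ∀ (F : Type) [Field F] [Fintype F] (p a r b s k t : ℕ), Nat.card F = p ^ a → Nb p a r b s k t →
  ∀ (R : Subgroup (T8 F)) (S : Subgroup R) (P : Subgroup (GL I8 F)), Rs R S P → ¬ IsLieTypeChar p (H915.LD.Soc P) →
    IsKnownSimple' (H915.LD.Soc P) →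
    ¬ p ^ (6 * a + 1) ∣ Nat.card R ∧
    (s ^ k ∣ Nat.card R → r ∣ Nat.card R → p ^ a = 5 ∧ Nat.card R ∣ 87360) ∧
    ¬ ((p ^ a) ^ 3 ∣ Nat.card R ∧ (p ^ a) ^ 2 + 1 ∣ 2 * Nat.card R)

/-- (4) triality: a totally singular 4-space is a point of another module (all `q`) -/
def BoxTW : Prop := ∀ (F : Type) [Field F] [Fintype F] (W : Submodule F (I8 → F)), finrank F W = 4 →
  (∀ w ∈ W, quadFormPlus 4 F w = 0) →
    ∃ (α : MulAut (T8 F)) (u : I8 → F), u ≠ 0 ∧ quadFormPlus 4 F u = 0 ∧ im α (St W) = pt u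

/-- (5) quadratic fields and subfields are not transitive -/
def BoxNT : Prop := ∀ (F : Type) [Field F] [Fintype F] (H : Subgroup (GL I8 F)), H ≤ isometryGroup F (quadFormPlus 4 F) →
  (ActsIrreducibly (matrixSet H) → ∀ K : Subalgebra F (Matrix I8 I8 F), IsFieldSubalgebra 2 K →
    IsAdjointClosedFor (polar (quadFormPlus 4 F)) K → H ≤ subalgebraNormalizer K →
      (∃ (J : Module.End F (I8 → F)) (c d : F), Fld J c d ∧ H ≤ NJ J c) ∨
        (3 ≤ Nat.card F → ∀ v, quadFormPlus 4 F v ≠ 0 → ¬ Tr H v)) ∧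
  (Sub2 H → (∀ v, quadFormPlus 4 F v ≠ 0 → ¬ Tr H v) ∧ ¬ TrP H)

/-- (6) the geometric classes for a group which is transitive on an orbit of nonsingular points -/
def BoxGB : Prop := ∀ (F : Type) [Field F] [Fintype F] (p a r b s k t : ℕ), Nat.card F = p ^ a → Nb p a r b s k t →
  ∀ (v : I8 → F) (Y : Subgroup (T8 F)), quadFormPlus 4 F v ≠ 0 → Pd (pt v) Y →
    SR r Y ∨ InOrthogonalResidualClass (pre (quadFormPlus 4 F) Y)

/-- (7a) the geometric classes for a group of order divisible by `r ^ b` and `t` -/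
def BoxG34 : Prop := ∀ (F : Type) [Field F] [Fintype F] (p a r b s k t : ℕ), Nat.card F = p ^ a → Nb p a r b s k t →
  ∀ R : Subgroup (T8 F), r ^ b ∣ Nat.card R → t ∣ Nat.card R →
    SR r R ∨ Sub2 (pre (quadFormPlus 4 F) R) ∨ InOrthogonalResidualClass (pre (quadFormPlus 4 F) R)

/-- (7) the geometric classes for a group which is transitive on the anisotropic planes -/
def BoxGP : Prop := ∀ (F : Type) [Field F] [Fintype F] (p a r b s k t : ℕ), Nat.card F = p ^ a → Nb p a r b s k t →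
  ∀ (U : Submodule F (I8 → F)) (X : Subgroup (T8 F)), finrank F U = 2 → An U → Pd X (St U) →
    (SR r X ∨ InOrthogonalResidualClass (pre (quadFormPlus 4 F) X)) ∧ Num (p ^ a) (Nat.card X)

/-- (8) `r` divides the order of both factors -/
def BoxA : Prop := ∀ (F : Type) [Field F] [Fintype F] (p a r b s k t : ℕ), Nat.card F = p ^ a → Nb p a r b s k t →
  ∀ X Y : Subgroup (T8 F), X ≠ ⊤ → Y ≠ ⊤ → Pd X Y → r ∣ Nat.card X

/-- (9) the factor which contains the Sylow `s`-subgroup -/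
def BoxG6 : Prop := ∀ (F : Type) [Field F] [Fintype F] (p a r b s k t : ℕ), Nat.card F = p ^ a → Nb p a r b s k t →
  ∀ X Y : Subgroup (T8 F), X ≠ ⊤ → Y ≠ ⊤ → Pd X Y → r ∣ Nat.card X → s ^ k ∣ Nat.card X → SR r X

/-- (10) `Ω⁻₈(q₀)` is a subfield subgroup in one of the modules -/
def BoxMin : Prop := ∀ (F : Type) [Field F] [Fintype F] (p a r b s k t : ℕ), Nat.card F = p ^ a → Nb p a r b s k t →
  ∀ (R : Subgroup (T8 F)) (S : Subgroup R) (P : Subgroup (GL I8 F)), Rs R S P → Om8 (p ^ a) S →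
    SR r R ∨ ∃ σ, Mn R (S.map R.subtype) σ

/-- (11) `Ω₇(q)` is not primitive on planes and 3-spaces of the spin module -/
def BoxKU : Prop := ∀ (F : Type) [Field F] [Fintype F], 4 ≤ Nat.card F →
  ∀ (v : I8 → F) (α : MulAut (T8 F)) (U : Submodule F (I8 → F)), quadFormPlus 4 F v ≠ 0 → ¬ Nt α → 2 ≤ finrank F U →
    finrank F U ≤ 3 → (∃ y ∈ U, quadFormPlus 4 F y ≠ 0) →
    ∃ D : Submodule F (I8 → F), pt v ⊓ (St U).comap α.toMonoidHom ≤ St D ∧ ¬ pt v ≤ St D ∧
      ¬ pt v ⊓ St D ≤ (St U).comap α.toMonoidHom ∧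
      ∀ M M' : Gam (plusQ 4 F), ph F M' = α * ph F M * α⁻¹ → M.1 v ∈ Submodule.span F {v} → (∀ u ∈ U, M'.1 u ∈ U) →
        ∀ d ∈ D, M.1 d ∈ D

/-- (12) `Ω⁻₈(q₀)` is not primitive on the nonsingular points and the anisotropic planes of the spin module -/
def BoxM1 : Prop := ∀ (F : Type) [Field F] [Fintype F] (σ : MulAut (T8 F)) (U : Submodule F (I8 → F))
  (X : Subgroup (T8 F)), Sf σ → ¬ Nt σ → (finrank F U = 1 ∨ finrank F U = 2) → An U → (∀ x ∈ X, σ x = x) → Pd X (St U) →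
    ∃ (α : MulAut (T8 F)) (D : Submodule F (I8 → F)), D ≠ ⊥ ∧ finrank F D ≤ 4 ∧
      X ⊓ St U ≤ (St D).comap α.toMonoidHom ∧ ¬ X ⊓ (St D).comap α.toMonoidHom ≤ St U ∧
      ∀ M : Gam (plusQ 4 F), ph F M * σ = σ * ph F M → (∀ u ∈ U, M.1 u ∈ U) →
        ∀ x ∈ (St D).comap α.toMonoidHom, ph F M x ∈ (St D).comap α.toMonoidHom

/-- (13) the stabiliser of a nonsingular point (all `q`) -/
def BoxExt : Prop := ∀ (F : Type) [Field F] [Fintype F] (v : I8 → F), quadFormPlus 4 F v ≠ 0 →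
  IsSimpleGroup (pt v) ∧ O7 (Nat.card F) (Nat.card (pt v)) ∧
    ∀ γ : MulAut (pt v), ∃ β : MulAut (T8 F), ∀ x : pt v, β x = γ x

/-- (14) `q = 2` -/
def Box2 : Prop := Bnd (f8q 2) R2

/-- (15) `q = 3` -/
def Box3 : Prop := Bnd (f8q 3) R3

end Cfsg.Agent.SM.O8
end

-- part: SM/O8/TW
section
prune_inst 0x602404080002000000800220003c42d2000092004b0400cd6108000cc0ac6309042e21b8300013418008a460388048110000190260000024208000011900a084035006932ca10426000f808800000000000000000000000000000000010000000000000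
set_option linter.all false
open scoped Cfsg.Agent.FastGrp

/-!
# SM (S3570), socle `PΩ⁺₈(q)`: box TW and the criteria for `SR` (helper30)

* `pre_St`, `pre_tp_NJ` : the preimages of `St W` and `tp (NJ J c)`;
* `boxTW`;
* `SR_of_small`, `SR_of_ts`, `SR_of_J` (also with an automorphism: `SR.of_im`).
-/

set_option autoImplicit false
set_option linter.unusedSectionVars false

namespace Cfsg.Agent.SM.O8

open Module QuadraticMap Cfsg Cfsg.Geo Cfsg.Agent.LieClassical.OrthCore Cfsg.Agent.LieClassical.OrthTrans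
  Cfsg.Agent.LieClassical.OrthSimple Cfsg.Agent.ClassicalGeometry.OrthAut1
  Cfsg.Agent.ClassicalGeometry.OrthSemi Cfsg.Agent.H198.Classes
  Cfsg.Agent.LieClassical.QuadForms
  Cfsg.Agent.ClassicalGeometry.TrialityOct Cfsg.Agent.ClassicalGeometry.Triality
  Cfsg.Agent.H198.TriBase Cfsg.Agent.H198.TriAut
open Cfsg.Agent.H951 (fx cm Inv)
open Cfsg.Agent.H884.El (pre lin PP mem_pre lin_one Iso Iso.mk')
open Cfsg.Agent.H708.O8 (I8 T8 RB OO pj vl lift_pow pj_surjective mem_pre8)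
open Cfsg.Agent.H823.O8S (SW tp Fld NJ mem_SW mem_NJ lin_mul_apply lin_pow)
open Cfsg.Agent.H823.O8R (FixV FixP FixJ)
open Cfsg.Agent.H708.Rg (toPO toPO_mk oe_lin iso_pre tri_J)
open Cfsg.Agent.H198.Carriers (plusQ good_plusQ plusQ_eq)
open Cfsg.Agent.AutOrth.Main (oe pe oe_apply pe_mk)
open scoped MatrixGroups Matrix

namespace TW

section gen

variable {F : Type} [Field F] [Fintype F] {Q : QuadraticForm F (Fin 4 ⊕ Fin 4 → F)}

/-- the image of a subgroup of `GL` in `PΩ(Q)` -/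
def tq (Q : QuadraticForm F (Fin 4 ⊕ Fin 4 → F)) (H : Subgroup (GL I8 F)) : Subgroup (POmega F ⇑Q) :=
  (H.comap ((isometryGroup F ⇑Q).subtype.comp (Omega F ⇑Q).subtype)).map
    (QuotientGroup.mk' (Subgroup.center (Omega F ⇑Q)))

theorem lin_oe (hG : Good Q) (x : Omega F ⇑Q) : lin ((x : isometryGroup F ⇑Q) : GL I8 F) =
    ((oe hG x : (I8 → F) ≃ₗ[F] (I8 → F)) : (I8 → F) →ₗ[F] (I8 → F)) :=
  LinearMap.ext fun v => (oe_lin hG x v).symm

/-- two elements of `Ω` with the same image differ by a scalar -/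
theorem scal (hG : Good Q) {x y : Omega F ⇑Q}
    (h : (QuotientGroup.mk x : POmega F ⇑Q) = QuotientGroup.mk y) :
    ∃ e : F, e ≠ 0 ∧ ∀ v, lin ((y : isometryGroup F ⇑Q) : GL I8 F) v = e • lin ((x : isometryGroup F ⇑Q) : GL I8 F) v := by
  have h1 : ((oe hG x : ↥(E Q)) : P Q) = ((oe hG y : ↥(E Q)) : P Q) := by
    ((conv => enter [@2]; rw [← pe_mk]); (conv => enter [@3]; rw [← pe_mk]); (conv => enter [@2, @6]; rw [h]))
  obtain ⟨e, he⟩ := center_scalar hG (QuotientGroup.eq.1 h1)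
  have h3 : ∀ v, (oe hG y : (I8 → F) ≃ₗ[F] (I8 → F)) v = e • (oe hG x : (I8 → F) ≃ₗ[F] (I8 → F)) v := by
    intro v
    have h4 := congrArg (oe hG x : (I8 → F) ≃ₗ[F] (I8 → F)) (he v)
    rw [map_smul] at h4
    have h5 : (oe hG x : (I8 → F) ≃ₗ[F] (I8 → F)) ((((oe hG x)⁻¹ * oe hG y : ↥(E Q)) : (I8 → F) ≃ₗ[F] (I8 → F)) v) =
        (oe hG y : (I8 → F) ≃ₗ[F] (I8 → F)) v := by
      change ((oe hG x : (I8 → F) ≃ₗ[F] (I8 → F)) * ((oe hG x : (I8 → F) ≃ₗ[F] (I8 → F))⁻¹ *
        (oe hG y : (I8 → F) ≃ₗ[F] (I8 → F)))) v = _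
      rw [mul_inv_cancel_left]
    rw [h5] at h4
    exact h4
  refine ⟨e, ?_, fun v => by rw [← oe_lin hG, ← oe_lin hG, h3]⟩
  rintro rfl
  have h6 := h3 (e8 F)
  rw [zero_smul] at h6
  exact e8_ne ((oe hG y : (I8 → F) ≃ₗ[F] (I8 → F)).map_eq_zero_iff.1 h6)

theorem mk_mem_tq (hG : Good Q) {W : Submodule F (I8 → F)} (x : Omega F ⇑Q) :
    (QuotientGroup.mk x : POmega F ⇑Q) ∈ tq Q (SW W) ↔ ((oe hG x : ↥(E Q)) : P Q) ∈ stab hG W := by
  constructor
  · rintro ⟨y, hy, hyx⟩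
    have h1 : ((oe hG y : ↥(E Q)) : P Q) = ((oe hG x : ↥(E Q)) : P Q) := by
      rw [← pe_mk, ← pe_mk]
      exact congrArg (pe hG) hyx
    rw [← h1, mem_stab, pact_mk, mapHom_apply]
    have h2 : W.map (lin ((y : isometryGroup F ⇑Q) : GL I8 F)) = W := hy
    rwa [lin_oe hG] at h2
  · intro h
    rw [mem_stab, pact_mk, mapHom_apply] at h
    refine ⟨x, ?_, rfl⟩
    change W.map (lin ((x : isometryGroup F ⇑Q) : GL I8 F)) = W
    rwa [lin_oe hG]

theorem map_tq (hG : Good Q) {W W' : Submodule F (I8 → F)} {α : MulAut (P Q)}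
    (h : (stab hG W).map α.toMonoidHom = stab hG W') :
    (tq Q (SW W)).map (toPO hG α).toMonoidHom = tq Q (SW W') := by
  have key : ∀ x y : Omega F ⇑Q, toPO hG α (QuotientGroup.mk x) = QuotientGroup.mk y →
      α ((oe hG x : ↥(E Q)) : P Q) = ((oe hG y : ↥(E Q)) : P Q) := by
    intro x y hxy
    have e2 : (pe hG).symm (α ((pe hG) (QuotientGroup.mk x))) = QuotientGroup.mk y := hxy
    (rewrite [MulEquiv.symm_apply_eq] at e2; (conv at e2 => enter [@2, @6]; rw [pe_mk]); (conv at e2 => enter [@3]; rw [pe_mk]))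
    exact e2
  ext z
  obtain ⟨y, rfl⟩ := QuotientGroup.mk_surjective z
  obtain ⟨x', hx'⟩ := (toPO hG α).surjective (QuotientGroup.mk y)
  obtain ⟨x, rfl⟩ := QuotientGroup.mk_surjective x'
  have h1 := key x y hx'
  rw [mk_mem_tq hG, ← h, ← h1, ← hx']
  constructor
  · rintro ⟨w, hw, hwx⟩
    have h2 : w = QuotientGroup.mk x := (toPO hG α).injective hwx
    rw [h2] at hw
    exact ⟨_, (mk_mem_tq hG x).1 hw, rfl⟩
  · rintro ⟨w, hw, hwx⟩
    have h2 : w = ((oe hG x : ↥(E Q)) : P Q) := α.injective hwx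
    rw [h2] at hw
    exact ⟨_, (mk_mem_tq hG x).2 hw, rfl⟩

theorem psi_stab (hG : Good Q) (M : O Q) (W : Submodule F (I8 → F)) :
    (stab hG W).map (Psi Q (gamO Q M)).toMonoidHom =
      stab hG (W.map ((M : (I8 → F) ≃ₗ[F] (I8 → F)) : (I8 → F) →ₗ[F] (I8 → F))) := by
  have key : ∀ g : ↥(E Q), (g : P Q) ∈ stab hG W ↔ ((conjE Q (gamO Q M) g : ↥(E Q)) : P Q) ∈
      stab hG (W.map ((M : (I8 → F) ≃ₗ[F] (I8 → F)) : (I8 → F) →ₗ[F] (I8 → F))) := by
    intro g
    have h1 : ∀ v, ((conjE Q (gamO Q M) g : ↥(E Q)) : (I8 → F) ≃ₗ[F] (I8 → F)) ((M : (I8 → F) ≃ₗ[F] (I8 → F)) v) =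
        (M : (I8 → F) ≃ₗ[F] (I8 → F)) ((g : (I8 → F) ≃ₗ[F] (I8 → F)) v) := by
      intro v
      have h2 := conjLin_apply' (gamO Q M) (g : (I8 → F) ≃ₗ[F] (I8 → F)) v
      exact h2
    constructor
    · intro h
      refine mem_stab_of_map_le hG ?_
      rintro _ ⟨w, hw, rfl⟩
      exact ⟨_, apply_mem_of_mem_stab h hw, (h1 w).symm⟩
    · intro h
      refine mem_stab_of_map_le hG fun w hw => ?_
      obtain ⟨w', hw', he⟩ := apply_mem_of_mem_stab h (w := (M : (I8 → F) ≃ₗ[F] (I8 → F)) w) ⟨w, hw, rfl⟩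
      rw [h1] at he
      have h3 : w' = (g : (I8 → F) ≃ₗ[F] (I8 → F)) w := (M : (I8 → F) ≃ₗ[F] (I8 → F)).injective he
      rwa [← h3]
  ext z
  obtain ⟨z', rfl⟩ := (Psi Q (gamO Q M)).surjective z
  obtain ⟨g, rfl⟩ := QuotientGroup.mk_surjective z'
  ((conv => enter [@1, @5]; rw [Psi_mk]); (conv => enter [@2, @5]; rw [Psi_mk]); (conv => enter [@2]; rw [← key]); (conv => enter [@1, @5]; rw [← Psi_mk]))
  constructor
  · rintro ⟨w, hw, hwx⟩
    have h2 : w = (g : P Q) := (Psi Q (gamO Q M)).injective hwx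
    rwa [h2] at hw
  · intro h
    exact ⟨_, h, rfl⟩

theorem tw_gen (hQ : Q = plusForm 4 F) (hG : Good Q) {W : Submodule F (I8 → F)} (h4 : finrank F W = 4)
    (hW : ∀ w ∈ W, Q w = 0) : ∃ (α : MulAut (POmega F ⇑Q)) (u : I8 → F), u ≠ 0 ∧ Q u = 0 ∧
      (tq Q (SW W)).map α.toMonoidHom = tq Q (SW (Submodule.span F {u})) := by
  subst hQ
  have hdim : finrank F W = finrank F (xO (e8 F)) :=
    h4.trans (ClassicalGeometry.TrialitySpaces.finrank_leftSp norm_e8 (e8_ne (F := F))).symm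
  let φ : W ≃ₗ[F] xO (e8 F) := LinearEquiv.ofFinrankEq _ _ hdim
  obtain ⟨g, hg, hgx⟩ := Cfsg.Agent.ClassicalGeometry.WittQuad.extend (plusForm 4 F)
    ClassicalGeometry.TrialitySpaces.polarBilin_nondegenerate W (xO (e8 F)) φ (fun x => by
      rw [hW _ x.2, ClassicalGeometry.TrialitySpaces.leftSp_sing norm_e8 _ (φ x).2])
  have h1 : W.map (g : (I8 → F) →ₗ[F] (I8 → F)) = xO (e8 F) := by
    refine Submodule.eq_of_le_of_finrank_eq ?_ ((LinearEquiv.finrank_map_eq g W).trans hdim)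
    rintro _ ⟨x, hx, rfl⟩
    change g x ∈ _
    have := hgx ⟨x, hx⟩
    rw [this]
    exact (φ ⟨x, hx⟩).2
  have h2 := psi_stab hG ⟨g, hg⟩ W
  have h3 : (stab hG W).map (tau hG * Psi _ (gamO _ ⟨g, hg⟩)).toMonoidHom = stab hG (Submodule.span F {e8 F}) := by
    ((conv => enter [@3]; rw [← tau_stab_xO hG norm_e8 e8_ne]); (conv => enter [@3, @6, @8]; rw [← h1]))
    change _ = (stab hG (W.map (((⟨g, hg⟩ : O (plusForm 4 F)) : (I8 → F) ≃ₗ[F] (I8 → F)) :
      (I8 → F) →ₗ[F] (I8 → F)))).map _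
    ((conv => enter [@3, @6]; rw [← h2]); (conv => enter [@3]; rw [Subgroup.map_map]))
    rfl
  exact ⟨_, e8 F, e8_ne, norm_e8, map_tq hG h3⟩

end gen

end TW

variable {F : Type} [Field F] [Fintype F] {r : ℕ} {R : Subgroup (T8 F)}

seal _root_.Finset.sum in
/-- two elements of `Ω` with the same image differ by a scalar -/
theorem pj_scal {x y : OO F} (h : pj F x = pj F y) : ∃ e : F, e ≠ 0 ∧ ∀ v, lin (vl F y) v = e • lin (vl F x) v :=
  TW.scal (Q := plusQ 4 F) (good_plusQ (m := 4) (by norm_num)) h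

theorem exists_vl_pre {g : GL I8 F} (hg : g ∈ pre (quadFormPlus 4 F) R) : ∃ x : OO F, vl F x = g ∧ pj F x ∈ R := by
  obtain ⟨_, ⟨x, hx, rfl⟩, rfl⟩ := hg
  exact ⟨x, rfl, hx⟩

/-- the preimage of the stabiliser stabilises -/
theorem pre_St (W : Submodule F (I8 → F)) : pre (quadFormPlus 4 F) (St W) ≤ SW W := by
  intro g hg
  obtain ⟨x, rfl, y, hy, hyx⟩ := exists_vl_pre hg
  obtain ⟨e, he, h⟩ := pj_scal (x := y) (y := x) hyx
  have h1 : W.map (lin (vl F y)) = W := hy
  have h2 : lin (vl F x) = e • lin (vl F y) := LinearMap.ext h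
  rw [mem_SW, h2, Submodule.map_smul _ _ _ he, h1]

theorem pj_mem_St {W : Submodule F (I8 → F)} {x : OO F} : pj F x ∈ St W ↔ vl F x ∈ SW W :=
  ⟨fun h => pre_St W (mem_pre8.2 h), fun h => ⟨x, h, rfl⟩⟩

theorem le_St {W : Submodule F (I8 → F)} : R ≤ St W ↔ pre (quadFormPlus 4 F) R ≤ SW W := by
  refine ⟨fun h g hg => ?_, H823.O8S.le_tp⟩
  obtain ⟨x, rfl, hx⟩ := exists_vl_pre hg
  exact pj_mem_St.1 (h hx)

theorem pre_tp_NJ (J : Module.End F (I8 → F)) (c : F) : pre (quadFormPlus 4 F) (tp (NJ J c)) ≤ NJ J c := by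
  intro g hg
  obtain ⟨x, rfl, y, hy, hyx⟩ := exists_vl_pre hg
  obtain ⟨e, -, h⟩ := pj_scal (x := y) (y := x) hyx
  have h1 : vl F y ∈ NJ J c := hy
  rcases h1 with h1 | h1
  · exact Or.inl fun v => by simp only [h, h, h1, map_smul]
  · exact Or.inr fun v => by simp only [h (J v), h v, h1 v, map_smul J e ((lin ((vl F) y)) v), smul_sub e (c • (lin ((vl F) y)) v) (J ((lin ((vl F) y)) v)), smul_comm e c ((lin ((vl F) y)) v)]

private theorem tw_fun {F : Type} [Field F] [Fintype F] {q : (I8 → F) → F} (hq : ⇑(plusQ 4 F) = q) {W : Submodule F (I8 → F)}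
    (h4 : finrank F W = 4) (hW : ∀ w ∈ W, q w = 0) : ∃ (α : MulAut (POmega F q)) (u : I8 → F), u ≠ 0 ∧ q u = 0 ∧
      (((SW W).comap ((isometryGroup F q).subtype.comp (Omega F q).subtype)).map
        (QuotientGroup.mk' (Subgroup.center (Omega F q)))).map α.toMonoidHom =
      ((SW (Submodule.span F {u})).comap ((isometryGroup F q).subtype.comp (Omega F q).subtype)).map
        (QuotientGroup.mk' (Subgroup.center (Omega F q))) := by
  subst hq
  exact TW.tw_gen (Q := plusQ 4 F) (plusQ_eq 4 F) (good_plusQ (m := 4) (by norm_num)) h4 hW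

/-- **box TW** -/
theorem boxTW : BoxTW := fun F _ _ _ h4 hW => by
  obtain ⟨α, u, h1, h2, h3⟩ := tw_fun (q := quadFormPlus 4 F) rfl h4 hW
  exact ⟨α, u, h1, h2, h3⟩

seal _root_.Finset.sum _root_.dotProduct in
/-- the elements of order `r` in the three modules -/
theorem pre_im_tp (hr : Odd r) {H : Subgroup (GL I8 F)} (h : ∀ g ∈ pre (quadFormPlus 4 F) R, g ^ r = 1 → g ∈ H)
    (α : MulAut (T8 F)) {g : GL I8 F} (hg : g ∈ pre (quadFormPlus 4 F) (im α R)) (hgr : g ^ r = 1) :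
    g ∈ pre (quadFormPlus 4 F) (im α (tp H)) := by
  obtain ⟨x, rfl, z, hz, hzx⟩ := exists_vl_pre hg
  obtain ⟨y, rfl⟩ := pj_surjective z
  have hzx' : α (pj F y) = pj F x := hzx
  have h1 : x ^ r = 1 := H708.O8.vl_injective (by rw [map_pow, hgr, map_one])
  have h2 : pj F y ^ r = 1 := α.injective (by simp only [map_pow α ((pj F) y) r, hzx', ← map_pow (pj F) x r, h1, map_one (pj F), map_one α])
  obtain ⟨h3, h4⟩ := lift_pow hr h2
  have h5 : vl F (y ^ (r + 1)) ∈ H :=
    h _ (mem_pre8.2 (by rw [h4]; exact hz)) (by rw [← map_pow, h3, map_one])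
  exact mem_pre8.2 ⟨pj F (y ^ (r + 1)), ⟨_, h5, rfl⟩, by rw [h4]; exact hzx⟩

/-- small invariant subspaces are fixed by the elements of order `r` -/
theorem le_Fx (hr : PP (Nat.card F) 4 r) {W : Submodule F (I8 → F)} (h3 : finrank F W ≤ 3)
    (h : ∀ g ∈ pre (quadFormPlus 4 F) R, g ^ r = 1 → g ∈ SW W) : W ≤ Fx r R := by
  refine le_iInf fun g => ?_
  have hiso : Iso (plusForm 4 F) (lin g.1) r :=
    Iso.mk' hr (by norm_num) (by rw [← lin_pow, g.2.2, lin_one]) (iso_pre g.2.1)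
  have h1 : W.map (lin g.1) = W := h g.1 g.2.1 g.2.2
  have h2 : _root_.Cfsg.Agent.H951.Inv (lin g.1) W := fun w hw => by
    rw [← h1]
    exact ⟨w, hw, rfl⟩
  exact hiso.le_fx hr h2 (Nat.lt_succ_of_le h3)

/-- an invariant subspace of dimension at most three in one of the modules -/
theorem SR_of_small (hr : PP (Nat.card F) 4 r) {α : MulAut (T8 F)} {W : Submodule F (I8 → F)} (h0 : W ≠ ⊥)
    (h3 : finrank F W ≤ 3) (h : ∀ g ∈ pre (quadFormPlus 4 F) (im α R), g ^ r = 1 → g ∈ SW W) : SR r R :=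
  ⟨α, fun hb => h0 (le_bot_iff.1 (hb ▸ le_Fx hr h3 h))⟩

theorem im_one (R : Subgroup (T8 F)) : im 1 R = R := Subgroup.map_id R

theorem im_mul (α β : MulAut (T8 F)) (R : Subgroup (T8 F)) : im (α * β) R = im α (im β R) :=
  (Subgroup.map_map R α.toMonoidHom β.toMonoidHom).symm

theorem SR.of_im {α : MulAut (T8 F)} (h : SR r (im α R)) : SR r R := by
  obtain ⟨β, hβ⟩ := h
  exact ⟨β * α, by rwa [im_mul]⟩

theorem SR.im (h : SR r R) (α : MulAut (T8 F)) : SR r (im α R) := by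
  obtain ⟨β, hβ⟩ := h
  exact ⟨β * α⁻¹, by rwa [← im_mul, inv_mul_cancel_right]⟩

/-- an invariant subspace of dimension at most three in the natural module -/
theorem SR_of_small' (hr : PP (Nat.card F) 4 r) {W : Submodule F (I8 → F)} (h0 : W ≠ ⊥)
    (h3 : finrank F W ≤ 3) (h : ∀ g ∈ pre (quadFormPlus 4 F) R, g ^ r = 1 → g ∈ SW W) : SR r R :=
  SR_of_small hr (α := 1) h0 h3 (by rwa [im_one])

/-- an invariant totally singular 4-space -/
theorem SR_of_ts (hr : PP (Nat.card F) 4 r) {W : Submodule F (I8 → F)} (h4 : finrank F W = 4)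
    (hW : ∀ w ∈ W, quadFormPlus 4 F w = 0) (h : ∀ g ∈ pre (quadFormPlus 4 F) R, g ^ r = 1 → g ∈ SW W) : SR r R := by
  obtain ⟨α, u, hu0, -, hα⟩ := boxTW F W h4 hW
  refine SR_of_small hr (α := α) (W := Submodule.span F {u}) (by rwa [Ne, Submodule.span_singleton_eq_bot])
    (by rw [finrank_span_singleton hu0]; norm_num) fun g hg hgr => pre_St _ ?_
  have h1 : g ∈ pre (quadFormPlus 4 F) (im α (St W)) := pre_im_tp (hr.odd (by norm_num)) h α hg hgr
  rwa [hα] at h1

/-- the elements of order `r` normalise a field `F[J]` of similitudes -/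
theorem SR_of_NJ (hr : PP (Nat.card F) 4 r) {J : Module.End F (I8 → F)} {c d : F} (hJ : Fld J c d)
    (h : ∀ g ∈ pre (quadFormPlus 4 F) R, g ^ r = 1 → g ∈ NJ J c) : SR r R := by
  obtain ⟨α, W, h2, -, hW⟩ := tri_J (p := Nat.card F) (a := 1) (R := tp (NJ J c)) (pow_one _).symm
    ⟨J, c, d, hJ, pre_tp_NJ J c⟩
  refine SR_of_small hr (α := α) (W := W) ?_ (by omega) fun g hg hgr =>
    hW (pre_im_tp (hr.odd (by norm_num)) h α hg hgr)
  rintro rfl
  rw [finrank_bot] at h2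
  omega

theorem SR_of_fixV (hr : PP (Nat.card F) 4 r) {α : MulAut (T8 F)} (h : FixV (im α R)) : SR r R := by
  obtain ⟨w, hw, hle⟩ := h
  have hw0 : w ≠ 0 := by
    rintro rfl
    exact hw (by rw [← coe_plusForm 4]; exact QuadraticMap.map_zero _)
  exact SR_of_small hr (α := α) (W := Submodule.span F {w}) (by rwa [Ne, Submodule.span_singleton_eq_bot])
    (by rw [finrank_span_singleton hw0]; norm_num) fun g hg _ => hle hg

end Cfsg.Agent.SM.O8
end

-- part: SM/O8/G6A
section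
prune_inst 0x602004504002000000808201003c42de000090004b0400ed0108420d88ac6209002620b41002014080108450380008110000100250000004203000411b00a0800350061310ac0436000f800880000000000000000000000000000000000000000000000
set_option linter.all false
open scoped Cfsg.Agent.FastGrp

/-!
# SM (S3570), socle `PΩ⁺₈(q)`, `q ≥ 4`: `r₄` divides the order of both factors (helper18)
-/

set_option autoImplicit false
set_option linter.unusedSectionVars false

namespace Cfsg.Agent.SM.O8

open Module QuadraticMap Cfsg Cfsg.Geo Cfsg.Agent.LieClassical.OrthCore Cfsg.Agent.H955 Cfsg.Agent.H954.TSing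
open Cfsg.Agent.LieClassical.OmegaReindex Cfsg.Agent.OrdDiv
open Cfsg.Agent.H951 (fx cm Inv)
open Cfsg.Agent.H884.El
open Cfsg.Agent.H708.O8 (I8 T8 RB)
open Cfsg.Agent.H436 (Prim)
open Cfsg.Agent.H823.O8S Cfsg.Agent.H823.O8R
open Cfsg.Agent.SM.Ex78 (Pd)
open scoped MatrixGroups Matrix

namespace G6

variable {F : Type} [Field F] [Fintype F] {p a r b s k t : ℕ} {R : Subgroup (T8 F)}

/-! ### the numbers -/

theorem pp4 (h : Nb p a r b s k t) : PP (p ^ a) 4 r := by
  refine PP.of_pow ?_ h.rb.ha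
  rw [mul_comm]
  exact prim_pp h.rb.hp.one_le h.rb.prim

theorem r5 (h : Nb p a r b s k t) (h5 : p ^ a = 5) : r = 13 := by
  have h1 := pp4 h
  rw [h5] at h1
  have h2 : r ∣ 5 ^ 4 - 1 := (h1.dvd_iff (by norm_num) 4).2 dvd_rfl
  have h3 := h1.lt (by norm_num)
  have h4 : r ∣ 2 ^ 4 * 3 * 13 := h2
  have hr := h1.prime
  rcases hr.dvd_mul.1 h4 with h6 | h6
  · rcases hr.dvd_mul.1 h6 with h7 | h7
    · have := Nat.le_of_dvd (by norm_num) (hr.dvd_of_dvd_pow h7)
      omega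
    · have := Nat.le_of_dvd (by norm_num) h7
      omega
  · exact (Nat.prime_dvd_prime_iff_eq hr (by norm_num)).1 h6

theorem t5 (h : Nb p a r b s k t) (h5 : p ^ a = 5) : t = 31 := by
  have h1 := h.t
  rw [h5] at h1
  have h2 : t ∣ 5 ^ 3 - 1 := (h1.dvd_iff (by norm_num) 3).2 dvd_rfl
  have h3 := h1.lt (by norm_num)
  have h4 : t ∣ 2 ^ 2 * 31 := h2
  have hr := h1.prime
  rcases hr.dvd_mul.1 h4 with h6 | h6
  · have := Nat.le_of_dvd (by norm_num) (hr.dvd_of_dvd_pow h6)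
    omega
  · exact (Nat.prime_dvd_prime_iff_eq hr (by norm_num)).1 h6

theorem cop_sub (hp : p.Prime) {m : ℕ} (hm : 1 ≤ m) : Nat.Coprime p (p ^ m - 1) := by
  rw [hp.coprime_iff_not_dvd]
  intro hd
  have h3 := (Nat.dvd_sub_iff_right (Nat.one_le_pow _ _ hp.pos) (dvd_pow_self p (by omega : m ≠ 0))).1 hd
  exact hp.one_lt.ne' (Nat.dvd_one.1 h3)

theorem cop_add (hp : p.Prime) {m : ℕ} (hm : 1 ≤ m) : Nat.Coprime p (p ^ m + 1) := by
  rw [hp.coprime_iff_not_dvd]
  intro hd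
  have h2 := (Nat.dvd_add_right (dvd_pow_self p (by omega : m ≠ 0))).1 hd
  exact hp.one_lt.ne' (Nat.dvd_one.1 h2)

theorem cop_gcd {q e x : ℕ} (h : PP q e x) (he : 2 ≤ e) (n : ℕ) : Nat.Coprime x (Nat.gcd 2 n) :=
  Nat.Coprime.coprime_dvd_right (Nat.gcd_dvd_left 2 n) (Nat.coprime_two_right.2 (h.odd he))

/-- the parts of the order of `PΩ⁺₈(q)` -/
theorem parts (hF : Nat.card F = p ^ a) (h : Nb p a r b s k t) :
    p ^ (12 * a) ∣ Nat.card (T8 F) ∧ r ^ (2 * b) ∣ Nat.card (T8 F) ∧ s ^ k ∣ Nat.card (T8 F) ∧ t ∣ Nat.card (T8 F) := by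
  have hp := h.rb.hp
  have ha := h.rb.ha
  have hc := H832.O8R.card_t8 hF
  have hsix : (p ^ a) ^ 6 - 1 = (p ^ (3 * a) + 1) * (p ^ (3 * a) - 1) := by
    rw [← pow_mul, show a * 6 = 3 * a * 2 from by ring, pow_mul]
    exact Nat.sq_sub_sq (p ^ (3 * a)) 1
  have hfour : (p ^ a) ^ 4 - 1 = (p ^ (2 * a) + 1) * (p ^ (2 * a) - 1) := by
    rw [← pow_mul, show a * 4 = 2 * a * 2 from by ring, pow_mul]
    exact Nat.sq_sub_sq (p ^ (2 * a)) 1
  refine ⟨?_, ?_, ?_, ?_⟩
  · have h1 : p ^ (12 * a) ∣ Nat.card (T8 F) * (Nat.gcd 2 (p ^ a - 1)) ^ 2 := by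
      rw [hc, ← pow_mul, mul_comm a 12, mul_assoc, mul_assoc]
      exact dvd_mul_right _ _
    refine Nat.Coprime.dvd_of_dvd_mul_right (Nat.Coprime.pow _ _ ?_) h1
    exact Nat.Coprime.coprime_dvd_right (Nat.gcd_dvd_right 2 _) (cop_sub hp ha)
  · have h1 : r ^ (2 * b) ∣ Nat.card (T8 F) * (Nat.gcd 2 (p ^ a - 1)) ^ 2 := by
      rw [hc, hfour, mul_comm 2 b, pow_mul]
      exact ((pow_dvd_pow_of_dvd (h.rb.dvd.mul_right _) 2).mul_left _).mul_right _
    exact Nat.Coprime.dvd_of_dvd_mul_right (Nat.Coprime.pow _ _ (cop_gcd (pp4 h) (by norm_num) _)) h1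
  · have h1 : s ^ k ∣ Nat.card (T8 F) * (Nat.gcd 2 (p ^ a - 1)) ^ 2 := by
      rw [hc, hsix]
      exact (h.rw.dvd.mul_right _).mul_left _
    exact Nat.Coprime.dvd_of_dvd_mul_right (Nat.Coprime.pow _ _ (cop_gcd h.rw.pp (by norm_num) _)) h1
  · have h1 : t ∣ Nat.card (T8 F) * (Nat.gcd 2 (p ^ a - 1)) ^ 2 := by
      rw [hc]
      exact ((h.t.dvd_iff (Nat.one_le_pow _ _ hp.pos) 6).2 (by norm_num)).mul_left _
    exact Nat.Coprime.dvd_of_dvd_mul_right (Nat.Coprime.pow_right _ (cop_gcd h.t (by norm_num) _)) h1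

/-- groups with noncyclic Sylow `r`-subgroups -/
theorem four_dvd (hKn : Kn) (hF : Nat.card F = p ^ a) (h : Nb p a r b s k t) (hR : R ≠ ⊤)
    (hd : r ^ (b + 1) ∣ Nat.card R) : Nat.card R ∣ 8 * (p ^ a) ^ 4 * ((p ^ a) ^ 8 - 1) ^ 4 := by
  have h2 : (p ^ a) ^ 4 - 1 ∣ (p ^ a) ^ 8 - 1 := by
    have h4 := Nat.sub_dvd_pow_sub_pow ((p ^ a) ^ 4) 1 2
    rwa [one_pow, ← pow_mul (p ^ a) 4 2] at h4
  rcases H683.O8R.card_four hKn hF h.rb h.rw.four hR hd with h3 | h3
  · refine h3.trans ?_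
    obtain ⟨c, hc⟩ := h2
    rw [hc]
    exact ⟨c ^ 4, by ring⟩
  · refine h3.trans ?_
    rw [← pow_mul (p ^ a) 2 4]
    exact ⟨2 * ((p ^ a) ^ 8 - 1) ^ 2, by ring⟩

theorem not_dvd_four {q e x : ℕ} (hq : 1 ≤ q) (h : PP q e x) (he : 2 ≤ e) (h8 : ¬ e ∣ 8) :
    ¬ x ∣ 8 * q ^ 4 * (q ^ 8 - 1) ^ 4 := by
  intro hd
  have hx := h.prime
  rcases hx.dvd_mul.1 hd with h1 | h1
  · rcases hx.dvd_mul.1 h1 with h2 | h2
    · have h3 : x ∣ 2 ^ 3 := h2
      have h4 := Nat.le_of_dvd (by norm_num) (hx.dvd_of_dvd_pow h3)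
      have := h.lt (by omega)
      omega
    · exact h.not_dvd (by omega) (hx.dvd_of_dvd_pow h2)
  · exact h8 ((h.dvd_iff hq 8).1 (hx.dvd_of_dvd_pow h1))

/-! ### the geometric classes -/

/-- (G6) with a second large prime -/
theorem g6x (hF : Nat.card F = p ^ a) (h : RW p a s k) (hd : s ∣ Nat.card R) {d x : ℕ} (hx : PP (Nat.card F) d x)
    (hd2 : 2 ≤ d) (hx10 : 10 ≤ x) (hxR : x ∣ Nat.card R) :
    FixV R ∨ FixP R ∨ FixJ R ∨ InOrthogonalResidualClass (pre (quadFormPlus 4 F) R) := by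
  have hne : Nonempty I8 := ⟨Sum.inl 0⟩
  have hfin : Finite (GL I8 F) := inferInstance
  obtain ⟨H, hHR⟩ : ∃ H, H = pre (quadFormPlus 4 F) R := ⟨_, rfl⟩
  have hH : H ≤ isometryGroup F (quadFormPlus 4 F) := by
    rw [hHR]
    exact H884.El.pre_le (Q := quadFormPlus 4 F) (M := R)
  have hH' : H ≤ isometryGroup F (⇑(quadPlus 4 F)) := by rw [coe_quadPlus]; exact hH
  have hs : PP (Nat.card F) 6 s := by rw [hF]; exact h.pp
  have hsH : s ∣ Nat.card H := by
    rw [hHR]
    exact hd.trans card_dvd_pre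
  have hxH : x ∣ Nat.card H := by
    rw [hHR]
    exact hxR.trans card_dvd_pre
  obtain ⟨z, hzH, hziso, hzs, hz1⟩ := exists_elt hH' hs (by norm_num) hsH
  have hz : Six z s := ⟨hs, hzs, hz1, by rw [← coe_quadPlus]; exact hziso.iso⟩
  obtain ⟨hz2, hz0⟩ := hz.plane
  have h7 : 6 < s := hs.lt (by norm_num)
  have hND : IsNondegenerateQuadraticForm (⇑(quadPlus 4 F)) :=
    Cfsg.Agent.H884.OddForm.isNondegenerate_of_nondeg (quadPlus 4 F) (nondeg_iff.2 quadPlus_nondegenerate)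
  rw [← hHR]
  unfold FixV FixP FixJ
  rw [← hHR]
  by_cases hirr : ActsIrreducibly (matrixSet H)
  swap
  · rcases Cfsg.Agent.H925.reducible_cases hND hH' hirr with
      ⟨W, hW0, hWs, hHW⟩ | ⟨W, hW0, hWn, hdW, hHW⟩ | ⟨-, v, hv, hHW⟩
    · exfalso
      have h1 : W ≤ fx (lin z) := hz.isoQ.ts_le (nondeg_iff.2 quadPlus_nondegenerate) (lin_ne_one hz.ne) hz.pp
        hz.data.2.1 (inv_of_mem (hHW hzH)) hWs
      apply hW0
      rw [Submodule.eq_bot_iff]
      intro w hw
      refine hz0 w (h1 hw) ?_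
      have h2 := hWs w hw
      rwa [coe_quadPlus] at h2
    · obtain ⟨n, hn⟩ : ∃ n, n = finrank F ↥W := ⟨_, rfl⟩
      have hdW' : 2 * n ≤ 8 := by
        rw [hn]
        exact hdW.trans (le_of_eq card_I8)
      have h1 : W ≤ fx (lin z) := by
        rcases hz.data.2.2.1 W (inv_of_mem (hHW hzH)) with h1 | h1
        · exact h1
        · exfalso
          have h2 := Submodule.finrank_mono h1
          rw [hz.data.2.1, ← hn] at h2
          omega
      have h2 := Submodule.finrank_mono h1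
      rw [hz2, ← hn] at h2
      have h3 : n ≠ 0 := fun h => hW0 (Submodule.finrank_eq_zero.1 (hn.symm.trans h))
      by_cases hW1 : finrank F W = 1
      · left
        obtain ⟨v, hv0, hspan⟩ := finrank_eq_one_iff'.1 hW1
        have hWs : W = Submodule.span F {(v : I8 → F)} := by
          apply le_antisymm
          · intro w hw
            obtain ⟨c, hc⟩ := hspan ⟨w, hw⟩
            exact Submodule.mem_span_singleton.2 ⟨c, congrArg Subtype.val hc⟩
          · rw [Submodule.span_singleton_le_iff_mem]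
            exact v.2
        refine ⟨v, fun h0 => hv0 (Subtype.ext (hz0 _ (h1 v.2) h0)), ?_⟩
        rw [← hWs]
        exact le_SW_of_stab hHW
      · right; left
        refine ⟨W, ?_, fun w hw h0 => hz0 w (h1 hw) h0, le_SW_of_stab hHW⟩
        rw [← hn] at hW1 ⊢
        omega
    · left
      refine ⟨v, ?_, le_SW_of_stab hHW⟩
      rwa [coe_quadPlus] at hv
  rcases Cfsg.Agent.H925.orth_irreducible_fine (by rw [card_I8]; norm_num) hND hH' hirr with
    ⟨t', k', D, htk, hD, hHD, -⟩ | ⟨k', D, hk, hD, -, hHD⟩ | ⟨s', K, hs', hsn, hK, hKa, hHK⟩ |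
    ⟨n₁, n₂, e, P, -, -, -, h1, h2, h12, -, -, -, -, hHT⟩ | ⟨F₁, s', B, -, -, hs', hcard, -, -, hHF⟩ |
    ⟨s', m, R', hRH, -, hHR', habs, hR', -, hm, hsm, -, ht', -⟩ | ⟨k', t', e, P, E, hkt, hW⟩ | hS
  · -- (C2a)
    exfalso
    rw [card_I8] at htk
    have h2t := hD.decomp.decomp.two_le
    have hkd : k' < 6 := by
      by_contra hcon
      push Not at hcon
      have := Nat.mul_le_mul h2t hcon
      omega
    have hrt := decomp_le hD.decomp.decomp hHD hs hkd hsH
    have hk1 : k' = 1 := by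
      have h3 : k' < 2 := by
        by_contra hcon
        push Not at hcon
        have := Nat.mul_le_mul hrt hcon
        omega
      have := hD.decomp.decomp.pos
      omega
    subst hk1
    have := decomp_le hD.decomp.decomp hHD hx (by omega) hxH
    omega
  · exfalso
    rw [card_I8] at hk
    have := decomp_le hD hHD hs (by omega) hsH
    omega
  · -- (C3)
    right; right; left
    rw [card_I8] at hsn
    have hs2 : s' = 2 := by
      have h3 : s' ∣ 2 ^ 3 := by norm_num; exact hsn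
      exact (Nat.prime_dvd_prime_iff_eq hs' Nat.prime_two).1 (hs'.dvd_of_dvd_pow h3)
    subst hs2
    refine fixJ_of_field hH hirr hs hsH hK ?_ hHK
    rw [← coe_quadPlus]
    exact hKa
  · exact absurd (kill_tensor e P hHT h1 h2 h12 hs (by rw [card_I8]; norm_num) hsH) id
  · have hrp : PP p (a * 6) s := by
      rw [mul_comm]
      exact prim_pp h.hp.one_le h.prim
    exact absurd (kill_subfield hHF hs' hcard h.hp hF hrp (by rw [card_I8]; norm_num) (by norm_num) hsH) id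
  · -- (C6)
    exfalso
    have h3 := symp_le hHR' habs hR' hm hsm ht' hx hd2 hxH
    rw [card_I8] at h3
    omega
  · exact absurd (kill_wreath hW hkt hs (by rw [card_I8]; norm_num) hsH) id
  · exact Or.inr (Or.inr (Or.inr hS))

/-- **(G6)** for `q ≥ 4` -/
theorem g6w (hF : Nat.card F = p ^ a) (h : Nb p a r b s k t) (hd : s ^ k ∣ Nat.card R)
    (hx : r ∣ Nat.card R ∨ t ∣ Nat.card R) :
    FixV R ∨ FixP R ∨ FixJ R ∨ InOrthogonalResidualClass (pre (quadFormPlus 4 F) R) := by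
  by_cases h5 : p ^ a = 5
  · have hs : s ∣ Nat.card R := (dvd_pow_self s (by have := h.rw.hk; omega)).trans hd
    rcases hx with hx | hx
    · exact g6x hF h.rw hs (d := 4) (by rw [hF]; exact pp4 h) (by norm_num) (by rw [r5 h h5]; norm_num) hx
    · exact g6x hF h.rw hs (d := 3) (by rw [hF]; exact h.t) (by norm_num) (by rw [t5 h h5]; norm_num) hx
  · refine g6 hF ⟨h.rw.hp, h.rw.ha, h.rw.four, h5, h.rw.prim, h.rw.dvd, ?_⟩ hd
    rcases h.sc with h1 | h1 | ⟨rfl, rfl, -⟩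
    · exact Or.inl h1
    · exact Or.inr h1
    · exact absurd (pow_one 5) h5

/-- the stabiliser of an anisotropic plane has order prime to `t` -/
theorem not_fixP (hF : Nat.card F = p ^ a) (h : Nb p a r b s k t) (hP : FixP R) : ¬ t ∣ Nat.card R := by
  obtain ⟨W, hW, hW0, hle⟩ := hP
  intro ht
  have hq : 1 ≤ p ^ a := Nat.one_le_pow _ _ h.rb.hp.pos
  have h1 := (ht.trans card_dvd_pre).trans ((Dvd.intro_left _ rfl).trans ((H372.O8R.two_mul_dvd hW hW0 hle).trans
      (H372.O8R.card_StO_dvd H372.O8R.nd_Q8 (H372.O8R.nondeg_W hW hW0))))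
  rw [H372.O8R.card_O_W hF hW hW0, H372.O8R.card_O_perp hF hW hW0] at h1
  have hx := h.t.prime
  have h3 := h.t.lt (by norm_num)
  have h2 : ¬ t ∣ 2 := fun h4 => by
    have := Nat.le_of_dvd (by norm_num) h4
    omega
  have h4 : ∀ i, ¬ 3 ∣ i → ¬ t ∣ (p ^ a) ^ i - 1 := fun i hi h5 => hi ((h.t.dvd_iff hq i).1 h5)
  rcases hx.dvd_mul.1 h1 with h5 | h5
  · rcases hx.dvd_mul.1 h5 with h6 | h6
    · exact h2 h6
    · refine h4 2 (by norm_num) (h6.trans ?_)
      rw [show (p ^ a) ^ 2 - 1 = (p ^ a) ^ 2 - 1 ^ 2 by rw [one_pow], Nat.sq_sub_sq]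
      exact dvd_mul_right _ _
  rcases hx.dvd_mul.1 h5 with h5 | h5
  · exact h2 h5
  rcases hx.dvd_mul.1 h5 with h5 | h5
  swap
  · exact h4 4 (by norm_num) h5
  rcases hx.dvd_mul.1 h5 with h5 | h5
  · rcases hx.dvd_mul.1 h5 with h5 | h5
    · exact h.t.not_dvd (by norm_num) (hx.dvd_of_dvd_pow h5)
    · exact h4 2 (by norm_num) h5
  · have h6 : t ∣ (p ^ a) ^ 3 - 1 := (h.t.dvd_iff hq 3).2 dvd_rfl
    have h7 : (p ^ a) ^ 3 + 1 = ((p ^ a) ^ 3 - 1) + 2 := by
      have := Nat.one_le_pow 3 (p ^ a) hq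
      omega
    rw [h7] at h5
    exact h2 ((Nat.dvd_add_right h6).1 h5)

/-- a field of order `q²` is not normalised by a group of order divisible by `t` -/
theorem not_fixJ (hF : Nat.card F = p ^ a) (h : Nb p a r b s k t) (hJ : FixJ R) : ¬ t ∣ Nat.card R := by
  intro ht
  obtain ⟨J, c, d, f, hH⟩ := hJ
  have hfin : Finite (GL I8 F) := inferInstance
  have hQ : Nondeg (quadPlus 4 F) := nondeg_iff.2 quadPlus_nondegenerate
  have hH' : pre (quadFormPlus 4 F) R ≤ isometryGroup F (⇑(quadPlus 4 F)) := by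
    rw [coe_quadPlus]
    exact H884.El.pre_le (Q := quadFormPlus 4 F) (M := R)
  have hpp : PP (Nat.card F) 3 t := by rw [hF]; exact h.t
  obtain ⟨g, hgH, hiso, hgt, hg1⟩ := exists_elt hH' hpp (by norm_num) (ht.trans card_dvd_pre)
  have hodd : Odd t := hpp.odd (by norm_num)
  refine hiso.no_quadratic hQ (lin_ne_one hg1) hpp (by decide) le_rfl ?_ (J := J) ?_ ?_
  · rw [finrank8]; norm_num
  · intro v
    exact (comm_of_odd f (hH hgH) hodd hgt v).symm
  · intro W hW
    exact fld_even f hW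

/-- `r` divides the order of `PSp₆(q)` and of `Ω₇(q)` -/
theorem dvd_sp6 (hp : p.Prime) (hr : PP (p ^ a) 4 r) {S : Type} [Group S] (hS : Sp6 p a S) : r ∣ Nat.card S := by
  have hq : 1 ≤ p ^ a := Nat.one_le_pow _ _ hp.pos
  have h4 : r ∣ (p ^ a) ^ (3 ^ 2) * prB (p ^ a) 3 := by
    refine Dvd.dvd.mul_left (((hr.dvd_iff hq 4).2 dvd_rfl).trans ?_) _
    simp only [prB, List.range_succ, List.range_zero, List.nil_append, List.map_append, List.map_cons, List.map_nil,
      List.prod_append, List.prod_cons, List.prod_nil, mul_one]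
    exact (dvd_mul_left _ _).mul_right _
  rcases hS with ⟨K, i1, i2, hK, ⟨e⟩⟩ | ⟨hp2, K, i1, i2, hK, ⟨e⟩⟩
  · have h1 := H436.psp_eq (F := K) (m := 3) (by norm_num)
    change Nat.gcd 2 (Fintype.card K - 1) * Nat.card (PSp 3 K) = Fintype.card K ^ (3 ^ 2) * prB (Fintype.card K) 3 at h1
    rw [hK] at h1
    rw [← h1] at h4
    rw [Nat.card_congr e.toEquiv]
    exact (cop_gcd hr (by norm_num) _).dvd_of_dvd_mul_left h4
  · have ho : Odd (Fintype.card K) := by
      rw [hK]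
      exact (hp.odd_of_ne_two hp2).pow
    have h2 := H436.oodd_eq (F := K) (m := 3) le_rfl ho
    change 2 * Nat.card (POmega K (quadFormOdd 3 K)) = Fintype.card K ^ (3 ^ 2) * prB (Fintype.card K) 3 at h2
    rw [hK] at h2
    rw [← h2] at h4
    rw [Nat.card_congr e.toEquiv]
    exact (Nat.coprime_two_right.2 (hr.odd (by norm_num))).dvd_of_dvd_mul_left h4

/-- the residual class, when `r` does not divide the order -/
theorem not_res (hKn : Kn) (hC : BoxCross) (hF : Nat.card F = p ^ a) (h : Nb p a r b s k t) (hR : R ≠ ⊤)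
    (hs : s ^ k ∣ Nat.card R) (hr : ¬ r ∣ Nat.card R) (hpR : p ^ (6 * a + 1) ∣ Nat.card R) :
    ¬ InOrthogonalResidualClass (pre (quadFormPlus 4 F) R) := by
  rintro ⟨P, hP, -⟩
  have hp := h.rb.hp
  have ha := h.rb.ha
  obtain ⟨S, hSn, hS, hna, hCe, ⟨e⟩⟩ := H264.FKS.exists_res_plus (n := 4) le_rfl hP
  have hsR : s ∣ Nat.card R := (dvd_pow_self s (by have := h.rw.hk; omega)).trans hs
  have h3 : 3 * a + 1 < p ^ (3 * a + 1) := Nat.lt_pow_self hp.one_lt
  have e1 : 6 * a + 1 = 3 * a + (3 * a + 1) := by ring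
  by_cases hL : IsLieTypeChar p (H915.LD.Soc P)
  · rcases H911.O8S.own hF h.rw hR S hS hna hCe hP e hL hsR with h6 | hN | h6 | h6
    · have h1 := H886.O8R.dvd_psl2 S hp ha hCe h6
      rw [e1] at hpR
      have h2 := Nat.le_of_dvd (by omega) (H886.O8R.psl2_p hp ha h1 hpR)
      omega
    · have h1 := hpR.trans (H886.O8R.dvd_psu3 S hp ha (by have := h.rw.four; omega) hCe hN.real)
      rw [show 2 * a * (p ^ (3 * a) * (p ^ (2 * a) - 1) * (p ^ (3 * a) + 1)) =
        p ^ (3 * a) * (2 * a) * ((p ^ (2 * a) - 1) * (p ^ (3 * a) + 1)) by ring] at h1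
      have h2 := (Nat.Coprime.pow_left _ (Nat.Coprime.mul_right (cop_sub hp (m := 2 * a) (by omega))
        (cop_add hp (m := 3 * a) (by omega)))).dvd_of_dvd_mul_right h1
      rw [e1, pow_add] at h2
      have h4 := Nat.le_of_dvd (by omega) (Nat.dvd_of_mul_dvd_mul_left (pow_pos hp.pos _) h2)
      omega
    · exact hr ((dvd_sp6 hp (pp4 h) (Or.inl h6)).trans (Subgroup.card_subgroup_dvd_card S))
    · exact hr ((dvd_sp6 hp (pp4 h) (Or.inr h6)).trans (Subgroup.card_subgroup_dvd_card S))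
  · have := hP.simple
    exact (hC F p a r b s k t hF h R S P ⟨hR, hSn, hS, hna, hCe, hP, ⟨e⟩⟩ hL (hKn (H915.LD.Soc P))).1 hpR

end G6

open G6 in
/-- **box (8)** -/
theorem boxA (hKn : Kn) (hC : BoxCross) : BoxA := by
  intro F _ _ p a r b s k t hF h X Y hX hY hXY
  by_contra hr
  have hp := h.rb.hp
  have ha := h.rb.ha
  have hq : 1 ≤ p ^ a := Nat.one_le_pow _ _ hp.pos
  obtain ⟨h1, h2, h3, h4⟩ := parts hF h
  have hT := hXY.card_dvd
  have hrp := (pp4 h).prime
  have hb : 1 ≤ b := by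
    rcases h.rb.cases with h5 | h5 | h5 <;> omega
  have h5 : r ^ (b + 1) ∣ Nat.card Y := (pow_dvd_pow r (by omega)).trans
    ((Nat.Coprime.pow_left _ (hrp.coprime_iff_not_dvd.2 hr)).dvd_of_dvd_mul_left (h2.trans hT))
  have h6 := four_dvd hKn hF h hY h5
  have hs : s ^ k ∣ Nat.card X := by
    refine (Nat.Coprime.pow_left _ (h.rw.pp.prime.coprime_iff_not_dvd.2 fun h7 => ?_)).dvd_of_dvd_mul_right (h3.trans hT)
    exact not_dvd_four hq h.rw.pp (by norm_num) (by norm_num) (h7.trans h6)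
  have ht : t ∣ Nat.card X := by
    refine (h.t.prime.coprime_iff_not_dvd.2 fun h7 => ?_).dvd_of_dvd_mul_right (h4.trans hT)
    exact not_dvd_four hq h.t (by norm_num) (by norm_num) (h7.trans h6)
  have hpX : p ^ (6 * a + 1) ∣ Nat.card X := by
    have h7 : p ^ (12 * a) ∣ p ^ (4 * a) * (8 * Nat.card X) * (p ^ (8 * a) - 1) ^ 4 := by
      refine (h1.trans hT).trans ((Nat.mul_dvd_mul_left _ h6).trans (dvd_of_eq ?_))
      rw [← pow_mul, ← pow_mul, mul_comm a 4, mul_comm a 8]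
      ring
    have h8 := (Nat.Coprime.pow _ _ (cop_sub hp (m := 8 * a) (by omega))).dvd_of_dvd_mul_right h7
    rw [show 12 * a = 4 * a + 8 * a by ring, pow_add] at h8
    have h9 := Nat.dvd_of_mul_dvd_mul_left (pow_pos hp.pos _) h8
    by_cases hp2 : p = 2
    · subst hp2
      have ha2 : 2 ≤ a := by
        by_contra hcon
        obtain rfl : a = 1 := by omega
        have := h.rw.four
        omega
      have h10 : 2 ^ (3 + (6 * a + 1)) ∣ 2 ^ 3 * Nat.card X := (pow_dvd_pow 2 (by omega)).trans h9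
      rw [pow_add] at h10
      exact Nat.dvd_of_mul_dvd_mul_left (by norm_num) h10
    · have h10 : Nat.Coprime (p ^ (8 * a)) (2 ^ 3) :=
        Nat.Coprime.pow _ _ ((Nat.coprime_primes hp Nat.prime_two).2 hp2)
      exact (pow_dvd_pow p (by omega)).trans (h10.dvd_of_dvd_mul_left h9)
  refine H679.O8R.three' hF hp ha (fun α => ?_) hpX
  have hc : Nat.card (X.map α.toMonoidHom) = Nat.card X := card_map α
  rcases g6w hF h (R := X.map α.toMonoidHom) (by rw [hc]; exact hs) (Or.inr (by rw [hc]; exact ht)) with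
    h7 | h7 | h7 | h7
  · exact h7
  · exact absurd (by rw [hc]; exact ht) (not_fixP hF h h7)
  · exact absurd (by rw [hc]; exact ht) (not_fixJ hF h h7)
  · exact absurd h7 (not_res hKn hC hF h (map_ne_top hX α) (by rw [hc]; exact hs) (by rw [hc]; exact hr)
      (by rw [hc]; exact hpX))

end Cfsg.Agent.SM.O8

private theorem dce_338c1b2e5bf3 : _root_.True := by
  try have : _root_.True := by simp only [_root_.Cfsg.Agent.OrdDiv.prB.eq_1]
  exact _root_.True.intro
end

-- part: SM/O8/Own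
section
prune_inst 0x14004405040020000008092010020044c00009000200401ed2109420908a322090029000c801003404c328010000000000000d0004000000420300000030020800250041300010426000f801080000000000000000000000000000000010004000000000
set_option linter.all false
open scoped Cfsg.Agent.FastGrp

/-!
# SM (S3570), socle `PΩ⁺₈(q)`: the residual class in the own characteristic (helper8)
-/

set_option autoImplicit false
set_option linter.unusedSectionVars false

namespace Cfsg.Agent.SM.O8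

namespace Own

open Cfsg Cfsg.Geo Cfsg.Agent.OrdDiv Cfsg.Agent.H436 Cfsg.Agent.H915.GN Cfsg.Agent.H264.GN Cfsg.Agent.H264.FKS
open Cfsg.Agent.H902 Cfsg.Agent.H902.Names Cfsg.Agent.H708.O8 Cfsg.Agent.H915.LD Cfsg.Agent.H884.El
open Cfsg.Agent.H659.O8 Cfsg.Agent.H823.O8S
open Cfsg.Agent.H911.O8S (charP_of nd_plus mem_fix)
open Cfsg.Agent.H823.O8R (Sp6)
open scoped MatrixGroups Matrix

variable {p a t : ℕ} {g : Grp}

/-- a prime which does not divide the order of the outer automorphism group -/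
theorem soc_of (hp : p.Prime) (ht : t.Prime) (h5 : 5 ≤ t) {R : Type} [Group R] [Finite R] (S : Subgroup R) [S.Normal]
    [IsSimpleGroup S] (hna : ¬ IsMulCommutative S) (hC : Subgroup.centralizer (S : Set R) = ⊥) (hn : IsNamed g S)
    (hch : HasChar p g) {f : ℕ} (hf : 1 ≤ f) (hfl : fld g = p ^ f) (hft : f < t)
    (hd : ∀ X, IsLie g X p f → ¬ t ∣ Art.dd X (p ^ f)) (h : t ∣ Nat.card R) : t ∣ Nat.card S := by
  have h1 := h.trans (dvd_aut S hC)
  rw [← H934.OutB.card_out_mul S hna] at h1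
  obtain ⟨X, f₁, h6, h7, h8⟩ := exists_lie hp hn hch
  obtain rfl : f₁ = f := Nat.pow_right_injective hp.two_le (h8.symm.trans hfl)
  refine (ht.dvd_mul.1 h1).resolve_left fun h9 => ?_
  obtain ⟨k, h10, h11, -⟩ := H364.OutLie.card_out (not_comm hna) h6 hn.real h7
  rw [h10] at h9
  rcases ht.dvd_mul.1 h9 with h12 | h12
  · rcases ht.dvd_mul.1 (h12.trans h11) with h13 | h13
    · have h14 : t ∣ 2 ^ 3 * 3 := h13
      rcases ht.dvd_mul.1 h14 with h15 | h15
      · have := Nat.le_of_dvd (by norm_num) (ht.dvd_of_dvd_pow h15)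
        omega
      · have := Nat.le_of_dvd (by norm_num) h15
        omega
    · exact hd X h6 h13
  · have := Nat.le_of_dvd (by omega) h12
    omega

/-- an odd prime divisor of `q ^ 2 + 1` -/
theorem dvd_num {n e : ℕ} (h : Num (p ^ a) n) (ht : Prim p e t) (h3 : 3 ≤ e) (h1 : e ∣ 2 * (a * 2)) (h2 : ¬ e ∣ a * 2) : t ∣ n := by
  have h4 := (ht.dvd_add h1 h2).trans (pow_mul p a 2 ▸ h.2.1)
  exact (ht.prime.dvd_mul.1 h4).resolve_left (ht.not_dvd_two h3)

theorem two_mul_le (hp : p.Prime) (h4 : 4 ≤ p ^ a) : Nat.gcd 2 (p ^ a - 1) * (2 * a) ≤ p ^ a := by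
  rcases hp.eq_two_or_odd' with rfl | ho
  · have ha : a ≠ 0 := by
      rintro rfl
      omega
    have h1 : Nat.gcd 2 (2 ^ a - 1) = 1 := by
      rw [Nat.coprime_two_left.2 (Nat.Even.sub_odd Nat.one_le_two_pow (even_two.pow_of_ne_zero ha) odd_one)]
    obtain ⟨b, rfl⟩ := Nat.exists_eq_succ_of_ne_zero ha
    have := Nat.lt_two_pow_self (n := b)
    rw [h1, pow_succ]
    omega
  · have h1 : Nat.gcd 2 (p ^ a - 1) ≤ 2 := Nat.gcd_le_left _ two_pos
    have h3 : 3 ≤ p := by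
      have := hp.two_le
      obtain ⟨c, hc⟩ := ho
      omega
    have h2 : 4 * a ≤ p ^ a := by
      rcases (show a ≤ 1 ∨ 2 ≤ a by omega) with h | h
      · omega
      · have h5 : ∀ b, 4 * (b + 2) ≤ 3 ^ (b + 2) := fun b => by
          induction b with
          | zero => norm_num
          | succ b ih => rw [pow_succ 3 (b + 2)]; omega
        obtain ⟨b, rfl⟩ := Nat.exists_eq_add_of_le' h
        exact (h5 b).trans (Nat.pow_le_pow_left h3 _)
    calc _ ≤ 2 * (2 * a) := Nat.mul_le_mul_right _ h1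
      _ ≤ _ := by omega

theorem l2_num {q c n d : ℕ} (h4 : 4 ≤ q) (h2 : (q ^ 2 - 1) * c = ((q ^ 2) ^ 2 - (q ^ 2) ^ 0) * ((q ^ 2) ^ 2 - (q ^ 2) ^ 1))
    (h3 : n ≤ 2 * a * c) (h5 : q ^ 3 * (q ^ 4 - 1) < d * n) (h6 : d * (2 * a) ≤ q) : False := by
  have h7 : (q ^ 2 - 1) * c = (q ^ 2 - 1) * (q ^ 2 * (q ^ 4 - 1)) := by
    rw [h2, pow_zero, pow_one, ← pow_mul, show q ^ (2 * 2) - q ^ 2 = q ^ 2 * (q ^ 2 - 1) by rw [Nat.mul_sub, mul_one, ← pow_add]]
    ring
  have h9 : c = q ^ 2 * (q ^ 4 - 1) := Nat.eq_of_mul_eq_mul_left (Nat.sub_pos_of_lt (by nlinarith only [h4])) h7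
  have h11 := (h5.trans_le ((Nat.mul_le_mul_left _ h3).trans_eq (mul_assoc _ _ _).symm)).trans_le (Nat.mul_le_mul_right c h6)
  rw [h9, ← mul_assoc, ← pow_succ'] at h11
  exact lt_irrefl _ h11

section
variable {F : Type} [Field F] [Fintype F]

/-- **the order argument**: one exponent of the socle is `4 a` -/
theorem key (hp : p.Prime) (ha : 1 ≤ a) (hF : Nat.card F = p ^ a) {R : Subgroup (T8 F)} (S : Subgroup R) [S.Normal]
    [IsSimpleGroup S] (hna : ¬ IsMulCommutative S) (hC : Subgroup.centralizer (S : Set R) = ⊥)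
    (hN : Num (p ^ a) (Nat.card R)) (hn : IsNamed g S) (hch : HasChar p g) :
    ∃ f, 1 ≤ f ∧ fld g = p ^ f ∧ f * Mg g ≤ 6 * a ∧ (∃ i, Xg g i ∧ f * i = 4 * a) ∧ (Yg g 4 → f * 6 ≠ 4 * a) := by
  have hT8 : Nat.gcd 4 ((p ^ a) ^ 4 - 1) * Nat.card (T8 F) =
      (p ^ a) ^ (4 * (4 - 1)) * (((p ^ a) ^ 4 - 1) * prB (p ^ a) (4 - 1)) := by
    have h1 := oplus_eq (F := F) (m := 4) le_rfl
    rw [← Nat.card_eq_fintype_card, hF] at h1
    exact h1
  have hSR : Nat.card S ∣ Nat.card (T8 F) := (Subgroup.card_subgroup_dvd_card S).trans (Subgroup.card_subgroup_dvd_card R)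
  have hT : TD p a (Nat.card S) (fun i => 1 ≤ i ∧ i ≤ 6 ∧ (2 ∣ i ∨ i = 4)) 6 12 := by
    refine td_oplus hp ha (n := 4) (by norm_num) (hSR.trans ?_)
    rw [← hT8]
    exact Dvd.intro_left _ rfl
  obtain ⟨f, hf, hfl, hK, hY⟩ := kd_all hp hn.cond hch hn.eq
  have hM := top_le hp ha hK hY hT
  have h2M : f * 2 ≤ f * Mg g := Nat.mul_le_mul_left _ (H659.O8.two_le_Mg hn.cond hch)
  obtain ⟨r, hr⟩ := exists_prim (e := 4 * a) hp.two_le (by omega) (by omega)
  have h4 : 4 * a < r := lt_of_prim hr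
  have h0 : p ^ (4 * a) - 1 ≠ 0 := Nat.sub_ne_zero_of_lt (Nat.one_lt_pow (by omega) hp.one_lt)
  have E : EX p a r _ := ⟨ha, hr, Nat.pow_succ_factorization_not_dvd h0 hr.prime⟩
  have hrS := soc_of hp hr.prime (by omega) S hna hC hn hch hf hfl (by omega)
    (fun X hX => H659.O8.not_dvd_dd E (by omega) hn.cond hX hf hM)
    (dvd_num hN hr (by omega) ⟨1, by ring⟩ fun h => by have := Nat.le_of_dvd (by omega) h; omega)
  obtain ⟨i, hi, c, hc⟩ := hK.exp hr hrS
  obtain ⟨hi1, hi2⟩ := hK.le hi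
  have h9 : f * i ≤ f * Mg g := Nat.mul_le_mul_left _ hi2
  have h10 : 0 < f * i := Nat.mul_pos hf hi1
  refine ⟨f, hf, hfl, hM, ⟨i, hi, ?_⟩, fun hY4 h6 => ?_⟩
  · rcases (show c = 0 ∨ c = 1 ∨ 2 ≤ c by omega) with rfl | rfl | h3
    · omega
    · omega
    · have : 4 * a * 2 ≤ 4 * a * c := Nat.mul_le_mul_left _ h3
      omega
  · obtain ⟨t, ht⟩ := exists_prim (e := f * 4) hp.two_le (by omega) (by omega)
    obtain ⟨j, ⟨h1, h2, h3⟩, d, hd⟩ := hT.exp ht (hK.has hY4 (by omega) ht)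
    obtain ⟨b, rfl⟩ : ∃ b, f = 2 * b := ⟨f / 2, by omega⟩
    obtain rfl : a = 3 * b := by omega
    have h7 : 3 * j = 8 * d := Nat.eq_of_mul_eq_mul_left (show 0 < b by omega) (by linarith only [hd])
    omega

private theorem own_num {x c p a y : ℕ} (hc : c = p ^ (2 * a))
    (h : x = (if 2 = 2 then 1 else 2) * (2 * a) * (Nat.gcd 2 (c - 1) * y)) :
    x = 2 * a * (Nat.gcd 2 ((p ^ a) ^ 2 - 1) * y) := by
  rw [h, if_pos rfl, one_mul, hc, ← pow_mul, mul_comm a 2]

set_option maxHeartbeats 2000000 in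
theorem own (hp : p.Prime) (h4 : 4 ≤ p ^ a) (hF : Nat.card F = p ^ a) {R : Subgroup (T8 F)} (hR : R ≠ ⊤)
    (S : Subgroup R) [S.Normal] (hS : IsSimpleGroup S) (hna : ¬ IsMulCommutative S)
    (hC : Subgroup.centralizer (S : Set R) = ⊥) {P : Subgroup (GL I8 F)}
    (hP : IsResidualCore (pre (quadFormPlus 4 F) R) P) (e : S ≃* H915.LD.Soc P) (hL : IsLieTypeChar p (H915.LD.Soc P))
    (hN : Num (p ^ a) (Nat.card R)) : Sp6 p a S ∨ Om8 (p ^ a) S := by
  have ha : 1 ≤ a := Nat.pos_of_ne_zero (by rintro rfl; rw [pow_zero] at h4; omega)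
  have hpf : Fact p.Prime := ⟨hp⟩
  have hch : CharP F p := charP_of hp hF
  have hcore := core_of_residual hP
  have hs := hcore.simple
  have h8 : Fintype.card I8 = 8 := by rw [Fintype.card_sum, Fintype.card_fin]
  have nd := nd_plus 4 F
  have hle : P ≤ omegaGL (quadFormPlus 4 F) := hP.le.trans pre_le_omegaGL
  have hfix : FixesQuadForm (matrixSet P) (quadFormPlus 4 F) := by
    rintro _ ⟨x, hx, rfl⟩ v
    exact mem_fix (hle hx) v
  have hFQ : FixQ P := ⟨_, nd, hfix⟩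
  have hsd : SD P := H879.Nine.sd_of_fixQ hFQ
  -- the exponent from a name
  have K1 : ∀ {g : Grp}, IsNamed g S → HasChar p g → ∃ f, 1 ≤ f ∧ fld g = p ^ f ∧ f * Mg g ≤ 6 * a ∧
      (∃ i, Xg g i ∧ f * i = 4 * a) ∧ (Yg g 4 → f * 6 ≠ 4 * a) := fun hn hc => key hp ha hF S hna hC hN hn hc
  have inj : ∀ {f f' : ℕ}, p ^ f = p ^ f' → f = f' := fun h => Nat.pow_right_injective hp.two_le h
  have hFc : Fintype.card F = p ^ a := by rw [← Nat.card_eq_fintype_card]; exact hF
  let ε : I8 ≃ Fin 8 := Fintype.equivFinOfCardEq h8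
  rcases H905.Md.small_dc (p := p) hcore.absIrred.1 hcore.perfect hL (by rw [h8]; norm_num) with
    h' | h' | h' | h' | h' | h' | h' | h' | h' | h' | h'
  · obtain ⟨K, i1, i2, i3, l, hl, hK, ⟨e'⟩⟩ := h'
    have hn : IsNamed (.psl (l + 1) (Fintype.card K)) S := by
      refine .mk' ⟨K, inferInstance, inferInstance, rfl, ⟨e.trans e'⟩⟩
        ⟨by omega, fun h => by rw [← Nat.card_eq_fintype_card]; exact hK (by omega), Fintype.isPrimePow_card_of_field⟩ ?_
      rw [Nat.card_congr (e.trans e').toEquiv]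
      exact psl_eq (by omega)
    obtain ⟨f, hf, hfl, hM, ⟨i, hi, hfi⟩, -⟩ := K1 hn (exists_pow_card K)
    have hfl' : Fintype.card K = p ^ f := hfl
    have hM' : f * (l + 1) ≤ 6 * a := hM
    have hi' : 1 ≤ i ∧ i ≤ l + 1 := hi
    rcases (show l = 1 ∨ l = 2 ∨ 3 ≤ l by omega) with rfl | rfl | hl3
    · exfalso
      obtain rfl : f = 2 * a := by rcases (show i = 1 ∨ i = 2 by omega) with rfl | rfl <;> omega
      have hq : p ^ (2 * a) = (p ^ a) ^ 2 := by rw [← pow_mul, mul_comm]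
      have h1 := S0813.result p (2 * a) hf hfl' 2 le_rfl fun _ => h4.trans (Nat.pow_le_pow_right hp.pos (by omega))
      have h2 := S0243.result (F := K) (hfl'.trans hq) 2 le_rfl
      replace h1 := own_num hfl' (((H364.OutLie.mulaut_congr (e.trans e')).trans h1).trans
        (congrArg (HMul.hMul _) (H364.OutLie.card_pgl le_rfl)))
      rw [Fin.prod_univ_two, mul_left_comm] at h2
      exact l2_num h4 h2 (h1 ▸ Nat.le_of_dvd Nat.card_pos (dvd_aut S hC)) hN.2.2 (two_mul_le hp h4)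
    · exfalso
      obtain ⟨h1, -⟩ := H911.Ad.sd_psl3 (p := p) hcore hsd e' (by rw [h8]; norm_num)
      rw [Nat.card_eq_fintype_card, Nat.card_eq_fintype_card, hfl', hFc] at h1
      obtain rfl := inj h1
      have : a * i ≤ a * 3 := Nat.mul_le_mul_left _ hi'.2
      omega
    · exfalso
      rcases (show l + 1 < 8 ∨ l + 1 = 8 ∨ 9 ≤ l + 1 by omega) with h2 | h2 | h2
      · have := (H887.DS.sd_of_psl p hcore (m := l + 1) (by omega) (by rw [h8]; exact h2) (by rw [h8]; omega) e').2.1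
        omega
      · have hc' : Core (H879.Rx.rx ε P) := H879.Rx.core_rx ε hcore
        have := hc'.simple
        have h1 := H905.Md.psl_eq p hc'.absIrred hc'.perfect hl hK ((H879.Rx.socEqv ε P).symm.trans e') hc'.no_subfield h2.symm
        have h3 := h1.1
        rw [Nat.card_eq_fintype_card, Nat.card_eq_fintype_card, hfl', hFc] at h3
        have := inj h3
        subst this
        rw [h2] at hM'
        omega
      · have h1 := H905.Md.psl_rank p hcore.absIrred hcore.perfect hl hK e'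
        rw [h8] at h1
        omega
  · obtain ⟨K, i1, i2, i3, m, hm, hm8, hK, ⟨e'⟩⟩ := h'
    rw [h8] at hm8
    have hn : IsNamed (.psp m (Fintype.card K)) S := by
      refine .mk' ⟨K, inferInstance, inferInstance, rfl, ⟨e.trans e'⟩⟩
        ⟨by omega, hK, Fintype.isPrimePow_card_of_field⟩ ?_
      rw [Nat.card_congr (e.trans e').toEquiv]
      exact psp_eq hm
    obtain ⟨f, hf, hfl, hM, ⟨i, hi, hfi⟩, hY⟩ := K1 hn (exists_pow_card K)
    have hfl' : Fintype.card K = p ^ f := hfl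
    have hM' : f * (2 * m) ≤ 6 * a := hM
    have hi' : 1 ≤ i ∧ i ≤ 2 * m ∧ 2 ∣ i := hi
    rcases (show m = 2 ∨ m = 3 ∨ m = 4 by omega) with rfl | rfl | rfl
    · exfalso
      obtain ⟨-, -, h1⟩ := H905.Sp4.core_psp4 (p := p) hcore (by rw [Nat.card_eq_fintype_card]; exact hK rfl) e'
        (by rw [h8]; norm_num)
      rw [h8] at h1
      omega
    · have hY' := hY ⟨by norm_num, by norm_num, by norm_num⟩
      refine Or.inl (Or.inl ⟨K, i1, i2, ?_, ⟨e.trans e'⟩⟩)
      rw [hfl']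
      congr 1
      rcases (show i = 2 ∨ i = 4 ∨ i = 6 by omega) with rfl | rfl | rfl <;> omega
    · exfalso
      obtain ⟨-, h1⟩ := H925.Nat.psp (p := p) hcore (by rw [h8]; norm_num) le_rfl (by norm_num) e'
      exact h1.sp_not_fixQ (by norm_num) hFQ
  · obtain ⟨K, i1, i2, i3, N, q, hKq, hN3, hN8, hq, ⟨e'⟩⟩ := h'
    rcases (show N = 3 ∨ N = 4 ∨ 5 ≤ N by omega) with rfl | rfl | hN5
    · exfalso
      have hq2 : IsPrimePow (q ^ 2) := hKq ▸ Fintype.isPrimePow_card_of_field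
      have hqp : IsPrimePow q := (isPrimePow_pow_iff (by norm_num)).1 hq2
      obtain ⟨k', hk'⟩ := exists_pow_card (p := p) K
      have hn : IsNamed (.psu 3 q) S := by
        refine .mk' ⟨K, inferInstance, inferInstance, hKq, ⟨e.trans e'⟩⟩ ⟨le_rfl, hq, hqp⟩ ?_
        rw [Nat.card_congr (e.trans e').toEquiv]
        exact psu_eq hKq hN3
      obtain ⟨f, hf, hfl, -, ⟨i, hi, hfi⟩, -⟩ := K1 hn (exists_pow hp two_ne_zero (hKq.symm.trans hk'))
      have hfl' : q = p ^ f := hfl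
      have h3 : 3 ≤ q := by
        have := hqp.two_le
        omega
      have h1 := H929.U3.card_psu3_sd p hcore hsd h3 hKq e' (by rw [h8]; norm_num)
      obtain rfl := inj (hF.symm.trans (h1.trans hfl'))
      obtain rfl : i = 4 := Nat.eq_of_mul_eq_mul_left hf (by omega)
      rcases (hi : XU 3 4) with h | ⟨j, h⟩ <;> omega
    · exfalso
      have := H876.D3.core_psu_four p K (by rw [h8]; norm_num) hKq hcore e'
      rw [h8] at this
      omega
    · exfalso
      have hc' : Core (H879.Rx.rx ε P) := H879.Rx.core_rx ε hcore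
      exact H879.Nine.own_psu (p := p) (by norm_num) hc' (H879.Rx.sd_rx ε hsd) hN5 hKq
        ((H879.Rx.socEqv ε P).symm.trans e')
  · exfalso
    obtain ⟨rfl, K, i1, i2, m, hm, hK, ⟨e'⟩⟩ := h'
    exact H861.SzN.sz_false hcore hm hK e' (by rw [h8]; norm_num) (by rw [h8]; norm_num)
  · exfalso
    obtain ⟨rfl, K, i1, i2, m, hm, hK, ⟨e'⟩⟩ := h'
    have := H708.ReeSix.ree_eq_seven hcore hm hK e' (by rw [h8]; norm_num)
    rw [h8] at this
    omega
  · obtain ⟨K, i1, i2, i3, m, hm, hm8, hodd, ⟨e'⟩⟩ := h'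
    rw [h8] at hm8
    have h2 : (2 : K) ≠ 0 := by
      intro h0
      have h3 : CharP K 2 := CharTwo.of_one_ne_zero_of_two_eq_zero one_ne_zero h0
      obtain ⟨k, -, hk⟩ := FiniteField.card K 2
      rw [hk] at hodd
      exact absurd hodd (by
        rw [Nat.not_odd_iff_even]
        exact (even_two).pow_of_ne_zero k.ne_zero)
    rcases (show m = 3 ∨ m = 4 by omega) with rfl | rfl
    · have hn : IsNamed (.oodd 3 (Fintype.card K)) S := by
        refine .mk' ⟨K, inferInstance, inferInstance, rfl, ⟨e.trans e'⟩⟩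
          ⟨le_rfl, hodd, Fintype.isPrimePow_card_of_field⟩ ?_
        rw [Nat.card_congr (e.trans e').toEquiv]
        exact oodd_eq le_rfl hodd
      obtain ⟨f, hf, hfl, hM, ⟨i, hi, hfi⟩, hY⟩ := K1 hn (exists_pow_card K)
      have hfl' : Fintype.card K = p ^ f := hfl
      have hM' : f * (2 * 3) ≤ 6 * a := hM
      have hi' : 1 ≤ i ∧ i ≤ 2 * 3 ∧ 2 ∣ i := hi
      have hY' := hY ⟨by norm_num, by norm_num, by norm_num⟩
      refine Or.inl (Or.inr ⟨?_, K, i1, i2, ?_, ⟨e.trans e'⟩⟩)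
      · rintro rfl
        exact h2 (by exact_mod_cast CharP.cast_eq_zero K 2)
      · rw [hfl']
        congr 1
        rcases (show i = 2 ∨ i = 4 ∨ i = 6 by omega) with rfl | rfl | rfl <;> (clear * - hf hM' hfi ha hY'; omega)
    · exfalso
      have h1 := (H925.Nat.po_odd (p := p) hcore (by rw [h8]; norm_num) le_rfl (by norm_num) h2 e').2.card_eq
      simp at h1
  · exfalso
    obtain ⟨K, i1, i2, i3, m, hm, hm8, ⟨e'⟩⟩ := h'
    rw [h8] at hm8
    obtain rfl : m = 4 := by omega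
    have hn : IsNamed (.oplus 4 (Fintype.card K)) S := by
      refine .mk' ⟨K, inferInstance, inferInstance, rfl, ⟨e.trans e'⟩⟩
        ⟨le_rfl, Fintype.isPrimePow_card_of_field⟩ ?_
      rw [Nat.card_congr (e.trans e').toEquiv]
      exact oplus_eq le_rfl
    obtain ⟨f, hf, hfl, hM, ⟨i, hi, hfi⟩, hY⟩ := K1 hn (exists_pow_card K)
    have hfl' : Fintype.card K = p ^ f := hfl
    have hM' : f * (2 * (4 - 1)) ≤ 6 * a := hM
    have hi' : 1 ≤ i ∧ i ≤ 2 * (4 - 1) ∧ (2 ∣ i ∨ i = 4) := hi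
    have hY' := hY ⟨by norm_num, by norm_num, by norm_num⟩
    obtain rfl : f = a := by rcases (show i = 2 ∨ i = 4 ∨ i = 6 by (clear * - hi'; omega)) with rfl | rfl | rfl <;> (clear * - hf hM' hfi ha hY' hi'; omega)
    have h1 : Nat.gcd 4 ((p ^ f) ^ 4 - 1) * Nat.card S =
        (p ^ f) ^ (4 * (4 - 1)) * (((p ^ f) ^ 4 - 1) * prB (p ^ f) (4 - 1)) := by
      have := hn.eq
      rw [hfl'] at this
      exact this
    have hT8 : Nat.gcd 4 ((p ^ f) ^ 4 - 1) * Nat.card (T8 F) =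
        (p ^ f) ^ (4 * (4 - 1)) * (((p ^ f) ^ 4 - 1) * prB (p ^ f) (4 - 1)) := by
      have h1 := oplus_eq (F := F) (m := 4) le_rfl
      rw [hFc] at h1
      exact h1
    rw [← hT8] at h1
    have h2 : Nat.card S = Nat.card (T8 F) :=
      Nat.eq_of_mul_eq_mul_left (Nat.gcd_pos_of_pos_left _ (by norm_num)) h1
    have h3 : Nat.card S ≤ Nat.card R := Nat.le_of_dvd Nat.card_pos (Subgroup.card_subgroup_dvd_card S)
    exact hR (Subgroup.eq_top_of_le_card R (h2 ▸ h3))
  · obtain ⟨K, i1, i2, i3, m, b, c, hm, hm8, hab, ⟨e'⟩⟩ := h'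
    rw [h8] at hm8
    rcases (show m = 4 ∨ m = 5 by omega) with rfl | rfl
    · have hn : IsNamed (.ominus 4 (Fintype.card K)) S := by
        refine .mk' ⟨K, inferInstance, inferInstance, b, c, rfl, hab, ⟨e.trans e'⟩⟩
          ⟨le_rfl, Fintype.isPrimePow_card_of_field⟩ ?_
        rw [Nat.card_congr (e.trans e').toEquiv]
        exact ominus_eq le_rfl hab
      obtain ⟨f, hf, hfl, hM, ⟨i, hi, hfi⟩, hY⟩ := K1 hn (exists_pow_card K)
      have hfl' : Fintype.card K = p ^ f := hfl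
      have hM' : f * (2 * 4) ≤ 6 * a := hM
      have hi' : 1 ≤ i ∧ i ≤ 2 * 4 ∧ 2 ∣ i := hi
      have hY' := hY ⟨by norm_num, by norm_num, by norm_num⟩
      refine Or.inr ⟨K, i1, i2, b, c, ?_, hab, ⟨e.trans e'⟩⟩
      rw [hfl', ← pow_mul]
      congr 1
      rcases (show i = 2 ∨ i = 4 ∨ i = 6 ∨ i = 8 by omega) with rfl | rfl | rfl | rfl <;> omega
    · exfalso
      obtain ⟨τ, h1⟩ := H925.Nat.po_minus (p := p) hcore (by rw [h8]; norm_num) (m := 4) le_rfl (by norm_num) hab e'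
      have := h1.card_eq
      simp at this
  · exfalso
    obtain ⟨-, K, i1, i2, i3, hK, ⟨e'⟩⟩ := h'
    have := (H927.G2.core_g2 p hcore (by rw [Nat.card_eq_fintype_card]; exact hK) e' (by rw [h8]; norm_num)).2.2.2.2
    rw [h8] at this
    omega
  · exfalso
    obtain ⟨-, K, i1, i2, i3, q, hq, hK, ⟨e'⟩⟩ := h'
    obtain ⟨-, h1, -⟩ := H392.TD.d4_small p hcore hq hK e' (by rw [h8]; norm_num)
    obtain ⟨k', hk'⟩ := exists_pow_card (p := p) K
    have T : OrderTable.{0} := table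
    have hn : IsNamed (.td4 q) S := by
      refine .mk' ⟨K, inferInstance, inferInstance, hK, ⟨e.trans e'⟩⟩ hq ?_
      rw [Nat.card_congr (e.trans e').toEquiv]
      change 1 * _ = _ ^ 12 * _
      rw [T.td4 K q hq hK]; ring
    have hc := exists_pow hp three_ne_zero (hK.symm.trans hk')
    obtain ⟨f, hf, hfl, -⟩ := K1 hn hc
    have hfl' : q = p ^ f := hfl
    rw [hF, hfl', ← pow_mul] at h1
    obtain rfl := inj h1
    obtain ⟨t, ht⟩ := exists_prim (e := f * 4) hp.two_le (by omega) (by omega)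
    have h2 := lt_of_prim ht
    have h3 := soc_of hp ht.prime (by omega) S hna hC hn hc hf hfl (by omega)
      (fun X hX => by
        rw [hfl'] at hX
        generalize hg : Grp.td4 (p ^ f) = g at hX
        cases hX <;> first | exact Grp.noConfusion hg | exact fun h => ht.prime.ne_one (Nat.dvd_one.1 h))
      (dvd_num hN ht (by omega) ⟨3, by ring⟩ fun ⟨c, hc⟩ => by
        have : 3 = 2 * c := Nat.eq_of_mul_eq_mul_left (show 0 < f * 2 by omega) (by linarith only [hc])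
        omega)
    rw [Nat.card_congr (e.trans e').toEquiv, T.td4 K q hq hK, hfl'] at h3
    simp only [← pow_mul] at h3
    have h5 : ∀ j, ¬ 4 ∣ j → ¬ t ∣ p ^ (f * j) - 1 := fun j hj h => hj (Nat.dvd_of_mul_dvd_mul_left hf ((ht.dvd_iff _).1 h))
    rcases ht.prime.dvd_mul.1 h3 with h6 | h6
    · rcases ht.prime.dvd_mul.1 h6 with h7 | h7
      · exact (ht.prime.dvd_mul.1 h7).elim (ht.not_dvd_pow _) (h5 2 (by norm_num))
      · exact h5 6 (by norm_num) h7
    · have h7 := ht.dvd (m := f * 4) dvd_rfl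
      have h9 := ht.dvd (m := f * 8) ⟨2, by ring⟩
      have h10 : 1 ≤ p ^ (f * 4) := Nat.one_le_pow _ _ hp.pos
      have h11 : 1 ≤ p ^ (f * 8) := Nat.one_le_pow _ _ hp.pos
      rw [show p ^ (f * 8) + p ^ (f * 4) + 1 = (p ^ (f * 8) - 1) + (p ^ (f * 4) - 1) + 3 by omega] at h6
      have := Nat.le_of_dvd (by norm_num) ((Nat.dvd_add_right (dvd_add h9 h7)).1 h6)
      omega
  · exfalso
    obtain ⟨-, hp2, h'⟩ := h'
    have := H927.LDTwF4.card_le_iso hp2 hcore.perfect h'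
    rw [h8] at this
    omega

end

end Own

/-- **residual class, own characteristic** -/
theorem boxOwn : BoxOwn := fun _ _ _ _ _ hp h4 hF _ S _ h hL hN =>
  have := h.nrm
  h.iso.elim fun e => Own.own hp h4 hF h.ne S h.simple h.nab h.cen h.core e hL hN

end Cfsg.Agent.SM.O8
end

-- part: SM/O8/NT
section
prune_inst 0x10024045840000000180000200000001800000200400000200001020148004020400800002000120000080008000048111000800200000000000000000200000000000080080000000000000000000000000000000000000000000000010000000000000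
set_option linter.all false
open scoped Cfsg.Agent.FastGrp

/-!
# SM (S3570), socle `PΩ⁺₈(q)`: quadratic fields and subfields are not transitive (helper53)

* `NT.pair_surj` : `J` self-adjoint: all pairs `(Q u, Q (J u))` occur;
* `NT.field` : the field part;  `NT.Sg` : the conjugation of a subfield structure;  `NT.sub` : the subfield part;
* `boxNT : BoxNT`.
-/

set_option autoImplicit false
set_option linter.unusedSectionVars false

namespace Cfsg.Agent.SM.O8

open Module QuadraticMap Cfsg Cfsg.Geo Cfsg.Agent.LieClassical.OrthCore Cfsg.Agent.LieClassical.OrthTrans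
open Cfsg.Agent.LieClassical.OrthFinite Cfsg.Agent.LieClassical.QuadForms Cfsg.Agent.H955 Cfsg.Agent.H954.TSing
open Cfsg.Agent.LieClassical.OmegaReindex
open Cfsg.Agent.H884.El (lin)
open Cfsg.Agent.H708.O8 (I8)
open Cfsg.Agent.H823.O8S (Fld NJ exists_root matl iso_of_mem)
open Cfsg.Agent.H683.O8R (Sub2)
open Cfsg.Agent.H60.O8R
open scoped MatrixGroups Matrix

namespace NT

variable {F : Type} [Field F] [Fintype F]

/-! ### fields -/

theorem exists_irr (F : Type) [Field F] [Fintype F] : ∃ c d : F, c ≠ 0 ∧ ∀ z : F, z * z - c * z + d ≠ 0 := by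
  obtain ⟨c, d, h⟩ := H823.O8R.exists_irr F
  by_cases hc : c = 0
  · refine ⟨2, 1 + d, fun h2 => ?_, fun z hz => h (z - 1) (by rw [hc]; linear_combination hz)⟩
    obtain ⟨z, hz⟩ := FiniteField.isSquare_of_char_two
      (CharP.ringChar_of_prime_eq_zero Nat.prime_two (by exact_mod_cast h2)) d
    exact h z (by rw [hc, hz]; linear_combination (z * z) * h2)
  · exact ⟨c, d, hc, h⟩

theorem pair_surj {V : Type*} [AddCommGroup V] [Module F V] {Q : QuadraticForm F V} (hQ : Nondeg Q) {J : Module.End F V}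
    {c d : F} (hJ : ∀ v, J (J v) = c • J v - d • v) (hc : c ≠ 0) (hirr : ∀ z : F, z * z - c * z + d ≠ 0)
    (hsa : ∀ u v, polar Q (J u) v = polar Q u (J v)) {x : V} (hx0 : x ≠ 0) (hx : Q x = 0) (hJx : Q (J x) = 0) (A A' : F) :
    ∃ u, Q u = A ∧ Q (J u) = A' := by
  obtain ⟨w, hw⟩ := exists_hyp hQ hx hx0
  have h1 : polar Q x (J x) = 0 := by
    have h2 := hsa x (J x)
    rw [hJ, polar_self, hJx, polar_sub_right, polar_smul_right, polar_smul_right, polar_self, hx] at h2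
    exact (mul_eq_zero.1 (by simpa using h2.symm)).resolve_left hc
  have h0 : ∀ s t : F, Q (s • x + t • J x) = 0 := fun s t => by
    rw [QuadraticMap.map_add Q, QuadraticMap.map_smul, QuadraticMap.map_smul, hx, hJx, polar_smul_left, polar_smul_right, h1]
    simp
  have hD : c * (polar Q w (J x) * polar Q w (J x) - c * polar Q w (J x) + d) ≠ 0 := mul_ne_zero hc (hirr _)
  obtain ⟨t, ht⟩ : ∃ t : F, t * (c * (polar Q w (J x) * polar Q w (J x) - c * polar Q w (J x) + d)) =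
      (A - Q w) * (c * polar Q w (J x) - d) - (A' - Q (J w)) := ⟨_, div_mul_cancel₀ _ hD⟩
  refine ⟨w + ((A - Q w - t * polar Q w (J x)) • x + t • J x), ?_, ?_⟩
  · rw [QuadraticMap.map_add Q, h0, polar_add_right, polar_smul_right, polar_smul_right, hw.pair']
    simp only [smul_eq_mul]
    ring
  · have e : J ((A - Q w - t * polar Q w (J x)) • x + t • J x) =
        (-(t * d)) • x + (A - Q w - t * polar Q w (J x) + t * c) • J x := by
      rw [map_add, map_smul, map_smul, hJ]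
      module
    rw [map_add, e, QuadraticMap.map_add Q, h0, hsa, map_add, map_smul, map_smul, hJ, polar_add_right, polar_smul_right,
      polar_smul_right, polar_sub_right, polar_smul_right, polar_smul_right, hw.pair']
    simp only [smul_eq_mul]
    linear_combination -ht

theorem root_cases {K : Subalgebra F (Matrix I8 I8 F)} (hK : IsFieldSubalgebra 2 K) {c d : F} {j m : Matrix I8 I8 F}
    (hj : j ∈ K) (hm : m ∈ K) (hj2 : j * j = c • j - d • (1 : Matrix I8 I8 F)) (hm2 : m * m = c • m - d • (1 : Matrix I8 I8 F)) :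
    m = j ∨ m = c • (1 : Matrix I8 I8 F) - j := by
  have h4 : (m - j) * (m + j - c • (1 : Matrix I8 I8 F)) = 0 := by
    have h5 := hK.comm m hm j hj
    calc (m - j) * (m + j - c • (1 : Matrix I8 I8 F)) = (m * m - c • m) - (j * j - c • j) + (m * j - j * m) := by
          simp only [Matrix.sub_mul, Matrix.mul_sub, Matrix.mul_add, Matrix.mul_smul, Matrix.mul_one, smul_sub]
          abel
      _ = 0 := by rw [hm2, hj2, h5]; abel
  by_cases h5 : m - j = 0
  · exact Or.inl (sub_eq_zero.1 h5)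
  · obtain ⟨n, hn, hmn⟩ := hK.inv _ (K.sub_mem hm hj) h5
    rw [hK.comm _ (K.sub_mem hm hj) n hn] at hmn
    have h7 := congrArg (fun y => n * y) h4
    beta_reduce at h7
    rw [← Matrix.mul_assoc, hmn, Matrix.one_mul, Matrix.mul_zero] at h7
    exact Or.inr (eq_sub_iff_add_eq.2 (sub_eq_zero.1 h7))

theorem le_NJ {H : Subgroup (GL I8 F)} {K : Subalgebra F (Matrix I8 I8 F)} (hK : IsFieldSubalgebra 2 K)
    (hHK : H ≤ subalgebraNormalizer K) {c d : F} {j : Matrix I8 I8 F} (hj : j ∈ K)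
    (hj2 : j * j = c • j - d • (1 : Matrix I8 I8 F)) : H ≤ NJ (Matrix.toLin' j) c := by
  intro g hg
  have h2 : (g : Matrix I8 I8 F) * j * ((g⁻¹ : GL I8 F) : Matrix I8 I8 F) ∈ K := ((hHK hg) j).1 hj
  obtain ⟨m, hm⟩ : ∃ m, m = (g : Matrix I8 I8 F) * j * ((g⁻¹ : GL I8 F) : Matrix I8 I8 F) := ⟨_, rfl⟩
  rw [← hm] at h2
  have hmg : m * (g : Matrix I8 I8 F) = (g : Matrix I8 I8 F) * j := by rw [hm, Units.inv_mul_cancel_right]
  have hm2 : m * m = c • m - d • (1 : Matrix I8 I8 F) := by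
    refine (Units.mul_left_inj g).1 ?_
    rw [Matrix.mul_assoc, hmg, ← Matrix.mul_assoc, hmg, Matrix.mul_assoc, hj2, Matrix.mul_sub, Matrix.sub_mul,
      Matrix.mul_smul, Matrix.mul_smul, Matrix.smul_mul, Matrix.smul_mul, hmg, Matrix.mul_one, Matrix.one_mul]
  have hgv : ∀ v, lin g (Matrix.toLin' j v) = Matrix.toLin' m (lin g v) := fun v => by rw [lin, ← matl, ← matl, hmg]
  rcases root_cases hK hj h2 hj2 hm2 with h5 | h5
  · exact Or.inl fun v => by rw [hgv, h5]
  · refine Or.inr fun v => ?_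
    rw [hgv, h5, map_sub, map_smul, Matrix.toLin'_one, LinearMap.sub_apply]
    rfl

/-- two additive, semilinear functions with an invariant common kernel vanish -/
theorem eq_zero_of_inv {H : Subgroup (GL I8 F)} (hirr : ActsIrreducibly (matrixSet H)) (φ ψ : (I8 → F) →+ F)
    (hφ : ∀ (a : F) v, φ (a • v) = a * a * φ v) (hψ : ∀ (a : F) v, ψ (a • v) = a * a * ψ v)
    (h : ∀ g ∈ H, ∀ v, φ v = 0 → ψ v = 0 → φ (lin g v) = 0 ∧ ψ (lin g v) = 0) (v : I8 → F) : φ v = 0 := by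
  let N : Submodule F (I8 → F) :=
    { (φ.prod ψ).ker with
      smul_mem' := fun a v hv => by
        have h1 : (φ v, ψ v) = 0 := hv
        obtain ⟨h2, h3⟩ := Prod.mk_eq_zero.1 h1
        show (φ (a • v), ψ (a • v)) = 0
        rw [hφ, hψ, h2, h3, mul_zero]
        rfl }
  have hN : ∀ v, v ∈ N ↔ φ v = 0 ∧ ψ v = 0 := fun v => Prod.mk_eq_zero
  rcases hirr N (by
    rintro _ ⟨g, hg, rfl⟩ _ ⟨v, hv, rfl⟩
    exact (hN _).2 (h g hg v ((hN v).1 hv).1 ((hN v).1 hv).2)) with h1 | h1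
  · have h2 := Fintype.card_le_of_injective (φ.prod ψ) ((injective_iff_map_eq_zero _).2 fun v hv => by
      have h3 : v ∈ N := hv
      rwa [h1] at h3)
    rw [Fintype.card_fun, Fintype.card_prod, ← pow_two] at h2
    have h3 := (Nat.pow_le_pow_iff_right Fintype.one_lt_card).1 h2
    simp at h3
  · exact ((hN v).1 (h1 ▸ Submodule.mem_top)).1

theorem field {H : Subgroup (GL I8 F)} (hH : H ≤ isometryGroup F (quadFormPlus 4 F)) (hirr : ActsIrreducibly (matrixSet H))
    {K : Subalgebra F (Matrix I8 I8 F)} (hK : IsFieldSubalgebra 2 K) (hadj : IsAdjointClosedFor (polar (quadFormPlus 4 F)) K)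
    (hHK : H ≤ subalgebraNormalizer K) : (∃ (J : Module.End F (I8 → F)) (c d : F), Fld J c d ∧ H ≤ NJ J c) ∨
      (3 ≤ Nat.card F → ∀ v, quadFormPlus 4 F v ≠ 0 → ¬ Tr H v) := by
  classical
  have hQ : Nondeg (quadPlus 4 F) := nondeg_iff.2 quadPlus_nondegenerate
  have hiso : ∀ g ∈ H, ∀ v, quadPlus 4 F (lin g v) = quadPlus 4 F v := fun g hg v => by
    rw [coe_quadPlus]; exact iso_of_mem (hH hg) v
  obtain ⟨c, d, hc, hcd⟩ := exists_irr F
  obtain ⟨j, hj, hj2⟩ := exists_root hK hcd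
  have hN := le_NJ hK hHK hj hj2
  obtain ⟨j', hj', h1⟩ := hadj j hj
  rw [← coe_quadPlus] at h1
  have hsq : ∀ {m : Matrix I8 I8 F}, m * m = c • m - d • (1 : Matrix I8 I8 F) →
      ∀ v, Matrix.toLin' m (Matrix.toLin' m v) = c • Matrix.toLin' m v - d • v := fun hm v => by
    rw [← matl, hm, map_sub, map_smul, map_smul, Matrix.toLin'_one]
    rfl
  have hJ := hsq hj2
  simp only [← Matrix.toLin'_apply] at h1
  have hj2' : j' * j' = c • j' - d • (1 : Matrix I8 I8 F) := by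
    refine Matrix.toLin'.injective (LinearMap.ext fun v => sub_eq_zero.1 (hQ _ fun u => ?_))
    rw [polar_comm, polar_sub_right, matl, ← h1, ← h1, hJ, map_sub, map_smul, map_smul, Matrix.toLin'_one,
      LinearMap.sub_apply, LinearMap.smul_apply, LinearMap.smul_apply, polar_sub_right, polar_smul_right, polar_smul_right,
      ← h1, polar_sub_left, polar_smul_left, polar_smul_left]
    exact sub_self _
  set J : Module.End F (I8 → F) := Matrix.toLin' j
  rcases root_cases hK hj hj' hj2 hj2' with rfl | rfl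
  · refine Or.inr fun h3 v _ hv => ?_
    let L : (Fin 4 → F) →ₗ[F] (I8 → F) := ⟨⟨fun y => Sum.elim y 0, fun y z => by ext (i | i) <;> simp⟩,
      fun a y => by ext (i | i) <;> simp⟩
    obtain ⟨y, -, hy0, hy⟩ := exists_sing_mem (Q := (quadPlus 4 F).comp (J ∘ₗ L)) ⊤ (by simp)
    obtain ⟨A, hA⟩ : ∃ A, A ∉ ({quadPlus 4 F (J v), quadPlus 4 F (c • v - J v)} : Finset F) := by
      by_contra h4
      push Not at h4
      have h5 := (Finset.card_le_card (fun x (_ : x ∈ Finset.univ) => h4 x)).trans Finset.card_le_two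
      rw [Finset.card_univ, ← Nat.card_eq_fintype_card] at h5
      omega
    obtain ⟨u, h4, h5⟩ := pair_surj hQ hJ hc hcd h1 (x := L y) (fun e => hy0 (funext fun i => congrFun e (Sum.inl i)))
      (by rw [coe_quadPlus]; simp [quadFormPlus, L]) hy (quadPlus 4 F v) A
    obtain ⟨g, hg, h6⟩ := hv u (by rw [← coe_quadPlus]; exact h4)
    have h7 : quadPlus 4 F (J (lin g v)) = A := by
      rcases h6 with h6 | h6
      · rw [h6, h5]
      · rw [h6, map_neg, QuadraticMap.map_neg, h5]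
    rw [← h7, Finset.mem_insert, Finset.mem_singleton, not_or] at hA
    rcases hN hg with h8 | h8
    · exact hA.1 (by rw [← h8, hiso g hg])
    · refine hA.2 ?_
      rw [← hiso g hg (c • v - J v), map_sub, map_smul, h8, sub_sub_cancel]
  · have h2 : ∀ u v, polar (quadPlus 4 F) (J u) v = polar (quadPlus 4 F) u (c • v - J v) := fun u v => by
      rw [h1, map_sub, map_smul, Matrix.toLin'_one]
      rfl
    have h3 : ∀ u v, polar (quadPlus 4 F) (J u) (J v) = d * polar (quadPlus 4 F) u v := fun u v => by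
      rw [h2, hJ, sub_sub_cancel, polar_smul_right, smul_eq_mul]
    have h4 : ∀ u v, polar (quadPlus 4 F) (c • u - J u) (c • v - J v) = d * polar (quadPlus 4 F) u v := fun u v => by
      rw [← h2, map_sub, map_smul, hJ, sub_sub_cancel, polar_smul_left, smul_eq_mul]
    let φ : ∀ L : Module.End F (I8 → F), (∀ u v, polar (quadPlus 4 F) (L u) (L v) = d * polar (quadPlus 4 F) u v) →
        (I8 → F) →+ F := fun L hL => AddMonoidHom.mk' (fun v => quadPlus 4 F (L v) - d * quadPlus 4 F v) fun u v => by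
      rw [map_add, QuadraticMap.map_add (quadPlus 4 F), QuadraticMap.map_add (quadPlus 4 F), hL]
      ring
    have hφ : ∀ L hL (a : F) v, φ L hL (a • v) = a * a * φ L hL v := fun L hL a v => by
      show quadPlus 4 F (L (a • v)) - d * quadPlus 4 F (a • v) = a * a * (quadPlus 4 F (L v) - d * quadPlus 4 F v)
      rw [map_smul, QuadraticMap.map_smul, QuadraticMap.map_smul, smul_eq_mul, smul_eq_mul]
      ring
    refine Or.inl ⟨J, c, d, ⟨LinearMap.ext hJ, hcd, fun v => ?_⟩, hN⟩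
    rw [← coe_quadPlus, ← sub_eq_zero]
    refine eq_zero_of_inv hirr (φ J h3) (φ (c • 1 - J) h4) (hφ J h3) (hφ (c • 1 - J) h4) (fun g hg v e1 e2 => ?_) v
    change quadPlus 4 F (J v) - d * quadPlus 4 F v = 0 at e1
    change quadPlus 4 F (c • v - J v) - d * quadPlus 4 F v = 0 at e2
    show quadPlus 4 F (J (lin g v)) - d * quadPlus 4 F (lin g v) = 0 ∧
      quadPlus 4 F (c • lin g v - J (lin g v)) - d * quadPlus 4 F (lin g v) = 0
    have e3 := hiso g hg (J v)
    have e4 := hiso g hg (c • v - J v)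
    rw [map_sub, map_smul] at e4
    rw [hiso g hg v]
    rcases hN hg with h8 | h8
    · rw [← h8, e3, e4]
      exact ⟨e1, e2⟩
    · rw [h8, sub_sub_cancel] at e4
      rw [← h8, e3, e4]
      exact ⟨e2, e1⟩

/-! ### subfields -/

theorem exists_tau {F₁ : Subfield F} (hF : Nat.card F = Nat.card F₁ ^ 2) :
    ∃ τ : F →+* F, (∀ x : F₁, τ x = x) ∧ (∀ x, τ (τ x) = x) ∧ ∃ θ, τ θ ≠ θ := by
  have := Fintype.ofFinite F₁
  rw [Nat.card_eq_fintype_card, Nat.card_eq_fintype_card] at hF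
  refine ⟨(FiniteField.frobeniusAlgHom F₁ F).toRingHom, fun x => ?_, fun x => ?_, ?_⟩
  · exact congrArg Subtype.val (FiniteField.pow_card x)
  · show (x ^ Fintype.card F₁) ^ Fintype.card F₁ = x
    rw [← pow_mul, ← pow_two, ← hF, FiniteField.pow_card]
  · by_contra h
    push Not at h
    have h1 := Fintype.card_le_of_surjective F₁.subtype fun x => H372.O8S.mem_range_of_pow _ (h x)
    have h2 := Fintype.one_lt_card (α := F₁)
    nlinarith

theorem exists_sq {τ : F →+* F} {θ : F} (hθ : τ θ ≠ θ) : ∃ l : F, τ (l * l) ≠ l * l := by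
  by_contra h
  push Not at h
  have h1 := h θ
  have h2 := h (θ + 1)
  simp only [map_mul, map_add, map_one] at h1 h2
  have h3 : (τ θ - θ) * (τ θ + θ) = 0 := by linear_combination h1
  have h4 : (τ θ - θ) * 2 = 0 := by linear_combination h2 - h1
  have h5 := (mul_eq_zero.1 h3).resolve_left (sub_ne_zero.2 hθ)
  have h6 := (mul_eq_zero.1 h4).resolve_left (sub_ne_zero.2 hθ)
  exact hθ (by linear_combination h5 - θ * h6)

/-- the conjugation of a subfield structure -/
def sg (τ : F →+* F) (B : GL I8 F) (x : I8 → F) : I8 → F :=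
  (B : Matrix I8 I8 F) *ᵥ (τ ∘ (((B⁻¹ : GL I8 F) : Matrix I8 I8 F) *ᵥ x))

section

variable {τ : F →+* F} {B : GL I8 F} {F₁ : Subfield F}

theorem sg_add (x y : I8 → F) : sg τ B (x + y) = sg τ B x + sg τ B y := by
  rw [sg, sg, sg, Matrix.mulVec_add, ← Matrix.mulVec_add (B : Matrix I8 I8 F)]
  congr 1
  funext i
  exact map_add τ _ _

theorem sg_smul (c : F) (x : I8 → F) : sg τ B (c • x) = τ c • sg τ B x := by
  rw [sg, sg, Matrix.mulVec_smul, ← Matrix.mulVec_smul (B : Matrix I8 I8 F)]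
  congr 1
  funext i
  exact map_mul τ _ _

theorem sg_bb (hτ : ∀ x : F₁, τ x = x) (u : I8 → F₁) : sg τ B (bb B u) = bb B u := by
  rw [sg, inv_bb, bb]
  congr 1
  funext i
  exact hτ _

theorem sg_lin {Q : QuadraticForm F (I8 → F)} {ζ : F} (hQ : Nondeg Q) (hζ : ζ ≠ 0)
    (hB : IsFormRationalStructure (polar Q) F₁ ζ B) (hτ : ∀ x : F₁, τ x = x) {g : GL I8 F}
    (hiso : ∀ v, Q (lin g v) = Q v) (hg : g ∈ subfieldSubgroup F₁ B) :
    ∃ ε : F, ε * ε = 1 ∧ ∀ x, sg τ B (lin g x) = ε • lin g (sg τ B x) := by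
  obtain ⟨c, hc, N, h1, h2⟩ := exists_N hg
  have h3 := hτ ⟨_, sq_mem hQ hζ hB hiso h2⟩
  have h4 : τ c ≠ 0 := (map_ne_zero τ).2 hc
  simp only [map_pow] at h3
  refine ⟨c / τ c, by field_simp; exact h3.symm, fun x => ?_⟩
  have h5 : ((B⁻¹ * g * B : GL I8 F) : Matrix I8 I8 F).map τ = (c / τ c) • ((B⁻¹ * g * B : GL I8 F) : Matrix I8 I8 F) := by
    ext i j
    have h6 := hτ (N i j)
    rw [h1, map_mul] at h6
    rw [Matrix.map_apply, Matrix.smul_apply, smul_eq_mul, div_mul_eq_mul_div, eq_div_iff h4, ← h6, mul_comm]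
  have h6 : ((B⁻¹ : GL I8 F) : Matrix I8 I8 F) *ᵥ lin g x =
      ((B⁻¹ * g * B : GL I8 F) : Matrix I8 I8 F) *ᵥ (((B⁻¹ : GL I8 F) : Matrix I8 I8 F) *ᵥ x) := by
    rw [Matrix.toLin'_apply, Matrix.mulVec_mulVec, Matrix.mulVec_mulVec, ← Units.val_mul, ← Units.val_mul,
      mul_inv_cancel_right]
  have h7 : ∀ (M : Matrix I8 I8 F) (y : I8 → F), τ ∘ (M *ᵥ y) = M.map τ *ᵥ (τ ∘ y) := fun M y =>
    funext fun i => RingHom.map_mulVec τ M y i
  rw [sg, sg, h6, h7, h5, Matrix.smul_mulVec, Matrix.mulVec_smul, Matrix.toLin'_apply, Matrix.mulVec_mulVec,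
    Matrix.mulVec_mulVec, ← Units.val_mul, ← Units.val_mul, mul_assoc, mul_inv_cancel_left]

end

/-- a rational hyperbolic 4-space -/
theorem exists_frame {Q : QuadraticForm F (I8 → F)} {ζ : F} {τ : F →+* F} {B : GL I8 F} {F₁ : Subfield F} (hQ : Nondeg Q)
    (hζ : ζ ≠ 0) (hB : IsFormRationalStructure (polar Q) F₁ ζ B) (hr : ∀ u : I8 → F₁, ζ * Q (bb B u) ∈ F₁)
    (hτ : ∀ x : F₁, τ x = x) : ∃ L : (Fin 4 → F) →ₗ[F] (I8 → F), Function.Injective L ∧
      (∀ x, ζ * Q (L x) = x 0 * x 1 + x 2 * x 3) ∧ ∀ x, sg τ B (L x) = L (τ ∘ x) := by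
  have hG : Good (Q1 hB hr) := good_of_finite (Q1_nondeg hB hr hQ hζ) (by simp)
  obtain ⟨a, b, h1⟩ := hG.exists_hyp
  obtain ⟨c, d, h2, h3, h4, h5, h6⟩ := hG.exists_hyp2 h1
  have q : ∀ {u}, Q1 hB hr u = 0 → ζ * Q (bb B u) = 0 := fun h => by rw [← Q1_apply hB hr, h]; rfl
  have p0 : ∀ {u v}, polar (Q1 hB hr) u v = 0 → ζ * polar Q (bb B u) (bb B v) = 0 := fun h => by
    rw [← Q1_polar hB hr, h]; rfl
  have p1 : ∀ {u v}, polar (Q1 hB hr) u v = 1 → ζ * polar Q (bb B u) (bb B v) = 1 := fun h => by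
    rw [← Q1_polar hB hr, h]; rfl
  let L := Fintype.linearCombination F ![bb B a, bb B b, bb B c, bb B d]
  have hL : ∀ x, L x = x 0 • bb B a + x 1 • bb B b + x 2 • bb B c + x 3 • bb B d := fun x => by
    simp [L, Fintype.linearCombination_apply, Fin.sum_univ_four]
  have hq : ∀ x, ζ * Q (L x) = x 0 * x 1 + x 2 * x 3 := fun x => by
    simp only [hL, QuadraticMap.map_add Q, QuadraticMap.map_smul, polar_add_left, polar_smul_left, polar_smul_right,
      smul_eq_mul]
    linear_combination x 0 * x 0 * q h1.left + x 1 * x 1 * q h1.right + x 2 * x 2 * q h2.left + x 3 * x 3 * q h2.right +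
      x 0 * x 1 * p1 h1.pair + x 2 * x 3 * p1 h2.pair + x 0 * x 2 * p0 h3 + x 0 * x 3 * p0 h4 + x 1 * x 2 * p0 h5 +
      x 1 * x 3 * p0 h6
  refine ⟨L, (injective_iff_map_eq_zero _).2 fun x hx => ?_, hq, fun x => ?_⟩
  · have h7 : ∀ y : Fin 4 → F, (x + y) 0 * (x + y) 1 + (x + y) 2 * (x + y) 3 = y 0 * y 1 + y 2 * y 3 := fun y => by
      rw [← hq, ← hq, map_add, hx, zero_add]
    have e0 := h7 0
    have e1 := h7 ![1, 0, 0, 0]
    have e2 := h7 ![0, 1, 0, 0]
    have e3 := h7 ![0, 0, 1, 0]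
    have e4 := h7 ![0, 0, 0, 1]
    simp only [Pi.add_apply, Pi.zero_apply, Matrix.cons_val] at e0 e1 e2 e3 e4
    funext i
    fin_cases i
    · show x 0 = 0
      linear_combination e2 - e0
    · show x 1 = 0
      linear_combination e1 - e0
    · show x 2 = 0
      linear_combination e4 - e0
    · show x 3 = 0
      linear_combination e3 - e0
  · simp only [hL, sg_add, sg_smul, sg_bb hτ, Function.comp_apply]

theorem sub {H : Subgroup (GL I8 F)} (hH : H ≤ isometryGroup F (quadFormPlus 4 F)) (h : Sub2 H) :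
    (∀ v, quadFormPlus 4 F v ≠ 0 → ¬ Tr H v) ∧ ¬ TrP H := by
  obtain ⟨hirr, F₁, B, ζ, hζ, hF, hB, hHB⟩ := h
  have hQ : Nondeg (quadPlus 4 F) := nondeg_iff.2 quadPlus_nondegenerate
  have hiso : ∀ g ∈ H, ∀ v, quadPlus 4 F (lin g v) = quadPlus 4 F v := fun g hg v => by
    rw [coe_quadPlus]; exact iso_of_mem (hH hg) v
  rw [← coe_quadPlus] at hB
  obtain ⟨τ, hτ, hττ, θ, hθ⟩ := exists_tau hF
  obtain ⟨L, hL, hq, hs⟩ := exists_frame hQ hζ hB (rat_Q hQ hζ hB (by simp) hF hiso hirr hHB) hτ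
  have hp : ∀ x y, ζ * polar (quadPlus 4 F) (L x) (L y) = x 0 * y 1 + x 1 * y 0 + x 2 * y 3 + x 3 * y 2 := fun x y => by
    rw [polar, ← map_add, mul_sub, mul_sub, hq, hq, hq]
    simp only [Pi.add_apply]
    ring
  constructor
  · intro v _ hv
    have key : ∀ y : F, τ y = y → (ζ * polar (quadPlus 4 F) v (sg τ B v)) ^ 2 = y ^ 2 := by
      intro y hy
      obtain ⟨A, hA⟩ : ∃ A, A = ζ * quadPlus 4 F v := ⟨_, rfl⟩
      have hδ : τ θ - θ ≠ 0 := sub_ne_zero.2 hθ
      obtain ⟨t, ht⟩ : ∃ t, (τ θ - θ) * (τ θ - θ) * t = (A + τ A - y) * θ := ⟨_, mul_div_cancel₀ _ (mul_ne_zero hδ hδ)⟩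
      have ht' := congrArg τ ht
      simp only [map_mul, map_sub, map_add, hττ, hy] at ht'
      obtain ⟨g, hg, h1⟩ := hv (L ![1, A - θ * t, θ, t]) (mul_left_cancel₀ hζ (by
        rw [← coe_quadPlus, hq, ← hA]
        simp))
      obtain ⟨ε, h2, h3⟩ := sg_lin hQ hζ hB hτ (hiso g hg) (hHB hg)
      have h4 : ζ * polar (quadPlus 4 F) (lin g v) (sg τ B (lin g v)) = y := by
        have h5 : ζ * polar (quadPlus 4 F) (L ![1, A - θ * t, θ, t]) (sg τ B (L ![1, A - θ * t, θ, t])) = y := by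
          rw [hs, hp]
          simp only [Function.comp_apply, Matrix.cons_val, map_sub, map_mul, map_one]
          refine mul_left_cancel₀ hδ ?_
          linear_combination ht - ht'
        rcases h1 with h1 | h1
        · rw [h1, h5]
        · rw [h1, ← neg_one_smul F, sg_smul, map_neg, map_one, polar_smul_left, polar_smul_right, ← h5]
          simp
      rw [h3, polar_smul_right, polar, ← map_add, hiso g hg, hiso g hg, hiso g hg, ← polar, smul_eq_mul] at h4
      rw [← h4]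
      linear_combination (-(ζ * polar (quadPlus 4 F) v (sg τ B v)) ^ 2) * h2
    have h1 := (key 0 (map_zero τ)).symm.trans (key 1 (map_one τ))
    simp at h1
  · intro hT
    obtain ⟨c, d, -, hcd⟩ := exists_irr F
    obtain ⟨l, hl⟩ := exists_sq hθ
    have hl0 : l ≠ 0 := by
      rintro rfl
      simp at hl
    obtain ⟨m, hm0, hm⟩ : ∃ m : F, m ≠ 0 ∧ τ (m * m) * d ≠ m * m * τ d := by
      by_cases h1 : τ d = d
      · exact ⟨l, hl0, fun e => hl (mul_right_cancel₀ (fun e' => hcd 0 (by simp [e'])) (e.trans (by rw [h1])))⟩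
      · exact ⟨1, one_ne_zero, by simpa using Ne.symm h1⟩
    let P : F → F → (F × F) →ₗ[F] (Fin 4 → F) := fun l m =>
      ⟨⟨fun x => ![l * x.1, l⁻¹ * (x.1 - c * x.2), m * x.2, m⁻¹ * (d * x.2)], fun x y => by
        ext i; fin_cases i <;> simp <;> ring⟩, fun a x => by ext i; fin_cases i <;> simp <;> ring⟩
    have hP : ∀ l m x, P l m x = ![l * x.1, l⁻¹ * (x.1 - c * x.2), m * x.2, m⁻¹ * (d * x.2)] := fun _ _ _ => rfl
    have hU : ∀ l m : F, l ≠ 0 → m ≠ 0 →
        finrank F (LinearMap.range (L ∘ₗ P l m)) = 2 ∧ An (LinearMap.range (L ∘ₗ P l m)) := by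
      intro l m hl hm
      have h0 : ∀ x, quadPlus 4 F (L (P l m x)) = 0 → x = 0 := by
        rintro ⟨a, b⟩ h1
        have h2 := hq (P l m (a, b))
        rw [h1, hP] at h2
        simp only [Matrix.cons_val] at h2
        have h3 : a * a - c * a * b + d * b * b = 0 := by
          field_simp at h2
          linear_combination -h2
        by_cases hb : b = 0
        · rw [hb] at h3 ⊢
          rw [mul_self_eq_zero.1 (by linear_combination h3 : a * a = 0)]
          rfl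
        · refine absurd ?_ (hcd (a / b))
          field_simp
          linear_combination h3
      constructor
      · rw [LinearMap.finrank_range_of_inj ((injective_iff_map_eq_zero _).2 fun x hx => h0 x (by
          rw [show L (P l m x) = 0 from hx, QuadraticMap.map_zero]))]
        simp
      · rintro _ ⟨x, rfl⟩ hx
        rw [h0 x (by rw [coe_quadPlus]; exact hx), map_zero]
    obtain ⟨g, hg, h1⟩ := hT _ _ (hU 1 1 one_ne_zero one_ne_zero).1 (hU 1 1 one_ne_zero one_ne_zero).2 (hU l m hl0 hm0).1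
      (hU l m hl0 hm0).2
    obtain ⟨ε, -, h3⟩ := sg_lin hQ hζ hB hτ (hiso g hg) (hHB hg)
    obtain ⟨⟨a, b⟩, h4⟩ : lin g (L (P 1 1 (1, 0))) ∈ LinearMap.range (L ∘ₗ P l m) := h1 ▸ ⟨_, ⟨_, rfl⟩, rfl⟩
    have h5 := h3 (L (P 1 1 (1, 0)))
    rw [hs (P 1 1 (1, 0)), show τ ∘ P 1 1 (1, 0) = P 1 1 (1, 0) by rw [hP]; ext i; fin_cases i <;> simp, ← h4,
      LinearMap.comp_apply, hs, ← map_smul] at h5
    have h6 := congrFun (hL h5)
    have e0 := h6 0
    have e1 := h6 1
    have e2 := h6 2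
    have e3 := h6 3
    simp only [hP, Function.comp_apply, Matrix.cons_val, Pi.smul_apply, smul_eq_mul, map_mul, map_inv₀] at e0 e1 e2 e3
    have hl1 : τ l ≠ 0 := (map_ne_zero τ).2 hl0
    have hm1 : τ m ≠ 0 := (map_ne_zero τ).2 hm0
    by_cases hb : b = 0
    · have ha : a ≠ 0 := by
        rintro rfl
        have h7 := hiso g hg (L (P 1 1 (1, 0)))
        rw [← h4, hb, show ((0 : F), (0 : F)) = 0 from rfl, map_zero, QuadraticMap.map_zero] at h7
        have h8 := hq (P 1 1 (1, 0))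
        rw [← h7, hP] at h8
        simp at h8
      rw [hb, mul_zero, sub_zero] at e1
      field_simp at e1
      refine hl (mul_right_cancel₀ ((map_ne_zero τ).2 ha) ?_)
      rw [map_mul]
      linear_combination τ l * e0 - l * e1
    · field_simp at e3
      refine hm (mul_right_cancel₀ ((map_ne_zero τ).2 hb) ?_)
      rw [map_mul]
      linear_combination τ m * d * e2 - m * e3

end NT

/-- **[O8-3]** -/
theorem boxNT : BoxNT := fun _ _ _ _ hH => ⟨fun hirr _ hK hadj hHK => NT.field hH hirr hK hadj hHK, NT.sub hH⟩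

end Cfsg.Agent.SM.O8

private theorem dce_5da1777c97b8 : _root_.True := by
  try have : _root_.True := by simp only [_root_.Cfsg.Agent.SM.O8.NT.sg.eq_1]
  exact _root_.True.intro
end
end

-- part: SM/O8/MinB
section
set_option linter.all false
open scoped Cfsg.Agent.FastGrp

/-!
# SM (S3570), socle `PΩ⁺₈(q)`, box Min: flags fixed by a `p`-group (helper37)

`flag_false` : `U` a `p`-subgroup of `PΩ⁺₈(q)`; if `L` fixes, in every module, the points fixed by `U`, then the order of `L` is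
prime to the primitive prime divisors of `q³ - 1`.
-/

set_option autoImplicit false
set_option linter.unusedSectionVars false
set_option maxHeartbeats 400000

namespace Cfsg.Agent.SM.O8.Mi

open Module QuadraticMap Cfsg Cfsg.Geo Cfsg.Agent.LieClassical.OrthCore Cfsg.Agent.LieClassical.OrthTrans
  Cfsg.Agent.LieClassical.OrthFinite
open Cfsg.Agent.H951 (fx cm Inv)
open Cfsg.Agent.H955 (perp mem_perp finrank_add_perp)
open Cfsg.Agent.H884.El (pre lin PP Iso exists_elt card_dvd_pre pre_le)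
open Cfsg.Agent.H708.O8 (I8 T8 OO pj vl pj_surjective mem_pre8 vl_iso exists_vl)
open Cfsg.Agent.H823.O8S (SW mem_SW lin_mul_apply lin_inv_apply lin_apply_inv)
open Cfsg.Agent.H198.Carriers (plusQ good_plusQ)
open scoped MatrixGroups Matrix

theorem exists_fix_mod {K V : Type} [Field K] [AddCommGroup V] [Module K V] {p : ℕ} [Fact p.Prime] [CharP K p]
    {P : Type} [Group P] [Finite P] (hP : IsPGroup p P) (ρ : P →* Module.End K V)
    (S T : Submodule K V) (hS : ∀ g, ∀ s ∈ S, ρ g s ∈ S) (hT : ∀ g, ∀ s ∈ T, ρ g s ∈ T) (h : ¬ T ≤ S) :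
    ∃ x ∈ T, x ∉ S ∧ ∀ g, ρ g x - x ∈ S := by
  let ρ' : Representation K P (V ⧸ S) :=
    { toFun := fun g => S.mapQ S (ρ g) (fun s hs => hS g s hs)
      map_one' := by
        refine LinearMap.ext fun x => ?_
        obtain ⟨v, rfl⟩ := S.mkQ_surjective x
        change S.mkQ (ρ 1 v) = S.mkQ v
        rw [map_one, Module.End.one_apply]
      map_mul' := by
        intro g h
        refine LinearMap.ext fun x => ?_
        obtain ⟨v, rfl⟩ := S.mkQ_surjective x
        change S.mkQ (ρ (g * h) v) = S.mkQ (ρ g (ρ h v))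
        rw [map_mul, Module.End.mul_apply] }
  have hρ' : ∀ g v, ρ' g (S.mkQ v) = S.mkQ (ρ g v) := fun _ _ => rfl
  obtain ⟨y, hy, hy0, hyf⟩ := Cfsg.Agent.H666.exists_fixed_ne_zero hP ρ' (T.map S.mkQ) (by
    rintro g _ ⟨t, ht, rfl⟩
    exact ⟨ρ g t, hT g t ht, rfl⟩) (by
    intro h1
    refine h fun t ht => (Submodule.Quotient.mk_eq_zero S).1 ?_
    have h2 : S.mkQ t ∈ T.map S.mkQ := ⟨t, ht, rfl⟩
    rw [h1, Submodule.mem_bot] at h2
    exact h2)
  obtain ⟨x, hx, rfl⟩ := hy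
  refine ⟨x, hx, fun h1 => hy0 ((Submodule.Quotient.mk_eq_zero S).2 h1), fun g => ?_⟩
  have h1 := hyf g
  rw [hρ', ← sub_eq_zero, ← map_sub] at h1
  exact (Submodule.Quotient.mk_eq_zero S).1 h1

theorem exists_lift {G G' : Type} [Group G] [Finite G] [Group G'] {f : G →* G'} (hf : Function.Surjective f) {p : ℕ}
    [Fact p.Prime] {U : Subgroup G'} (hU : IsPGroup p U) : ∃ H : Subgroup G, IsPGroup p H ∧ H.map f = U := by
  have hfin : Finite G' := Finite.of_surjective f hf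
  obtain ⟨Q, hQ⟩ := hU.exists_le_sylow
  obtain ⟨P, rfl⟩ := Sylow.mapSurjective_surjective hf p Q
  refine ⟨(P : Subgroup G) ⊓ U.comap f, P.2.to_le inf_le_left, le_antisymm ?_ fun x hx => ?_⟩
  · rintro _ ⟨y, hy, rfl⟩
    exact hy.2
  · obtain ⟨y, hy, rfl⟩ := hQ hx
    exact ⟨y, ⟨hy, hx⟩, rfl⟩

variable {F : Type} [Field F] [Fintype F]

theorem mem_SW' {W : Submodule F (I8 → F)} {g : GL I8 F} : g ∈ SW W ↔ ∀ w ∈ W, lin g w ∈ W := by
  refine ⟨fun h w hw => ?_, fun h => ?_⟩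
  · rw [← mem_SW.1 h]
    exact ⟨w, hw, rfl⟩
  · refine Submodule.eq_of_le_of_finrank_eq (by rintro _ ⟨w, hw, rfl⟩; exact h w hw) ?_
    exact LinearEquiv.finrank_map_eq (glEquiv I8 F g) W

theorem mem_St {W : Submodule F (I8 → F)} {x : OO F} : pj F x ∈ St W ↔ ∀ w ∈ W, lin (vl F x) w ∈ W :=
  pj_mem_St.trans mem_SW'

theorem mem_pt {v : I8 → F} {x : OO F} : pj F x ∈ pt v ↔ ∃ c : F, lin (vl F x) v = c • v := by
  rw [mem_St]
  constructor
  · intro h
    obtain ⟨c, hc⟩ := Submodule.mem_span_singleton.1 (h v (Submodule.mem_span_singleton_self v))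
    exact ⟨c, hc.symm⟩
  · rintro ⟨c, hc⟩ w hw
    obtain ⟨d, rfl⟩ := Submodule.mem_span_singleton.1 hw
    rw [map_smul, hc, smul_smul]
    exact Submodule.smul_mem _ _ (Submodule.mem_span_singleton_self v)

theorem conj_St {W : Submodule F (I8 → F)} {y : T8 F} (hy : y ∈ St W) (h : OO F) :
    pj F h * y * (pj F h)⁻¹ ∈ St (W.map (lin (vl F h))) := by
  (have h_ob := pj_surjective y
   revert h_ob; rintro (⟨y, rfl⟩))
  simp only [← map_inv, ← map_mul, ← map_mul, mem_St]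
  rintro _ ⟨w, hw, rfl⟩
  simp only [_root_.MonoidHom.map_mul, _root_.MonoidHom.map_mul, _root_.MonoidHom.map_inv, lin_mul_apply, lin_inv_apply, lin_mul_apply]
  exact ⟨_, mem_St.1 hy w hw, rfl⟩

theorem Q_lin (x : OO F) (v : I8 → F) : plusQ 4 F (lin (vl F x) v) = plusQ 4 F v :=
  H884.El.lin_iso (Q := plusQ 4 F) le_rfl (vl_iso x) v

theorem polar_lin (x : OO F) (v w : I8 → F) :
    polar (plusQ 4 F) (lin (vl F x) v) (lin (vl F x) w) = polar (plusQ 4 F) v w := by
  simp only [polar, polar, ← map_add, Q_lin, Q_lin, Q_lin]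

theorem exists_ts4 : ∃ D : Submodule F (I8 → F), finrank F D = 4 ∧ ∀ x ∈ D, quadFormPlus 4 F x = 0 := by
  refine ⟨LinearMap.ker (LinearMap.funLeft F F (Sum.inr : Fin 4 → Fin 4 ⊕ Fin 4)), ?_, ?_⟩
  · have h1 := (LinearMap.funLeft F F (Sum.inr : Fin 4 → Fin 4 ⊕ Fin 4)).finrank_range_add_finrank_ker
    rw [LinearMap.range_eq_top.2 (LinearMap.funLeft_surjective_of_injective F F _ Sum.inr_injective), finrank_top] at h1
    simp only [Module.finrank_fintype_fun_eq_card, Fintype.card_fin, Fintype.card_sum] at h1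
    exact Nat.add_left_cancel h1
  · intro x hx
    have h2 : ∀ i, x (Sum.inr i) = 0 := fun i => congrFun (LinearMap.mem_ker.1 hx) i
    simp [quadFormPlus, h2]

variable {p a : ℕ} [hp : Fact p.Prime] {U L : Subgroup (T8 F)}

theorem fix_sing (ha : 1 ≤ a) (hF : Nat.card F = p ^ a) (hU : IsPGroup p U) :
    ∃ u, u ≠ 0 ∧ quadFormPlus 4 F u = 0 ∧ U ≤ pt u := by
  obtain ⟨H, hH, rfl⟩ := exists_lift (pj_surjective (F := F)) hU
  (have h_ob := H60.O8R.exists_fix (good_plusQ (F := F) (m := 4) (by norm_num)) ha hF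
    (R := H.map ((glEquiv I8 F).toMonoidHom.comp (vl F))) (by
      rintro _ ⟨x, -, rfl⟩
      exact Q_lin x) (hH.map _)
   revert h_ob; rintro (⟨u, h0, hu, h⟩))
  refine ⟨u, h0, hu, ?_⟩
  rintro _ ⟨x, hx, rfl⟩
  exact mem_pt.2 ⟨1, (h _ ⟨x, hx, rfl⟩).trans (one_smul F u).symm⟩

theorem fix_four (ha : 1 ≤ a) (hF : Nat.card F = p ^ a) (hU : IsPGroup p U) :
    ∃ W : Submodule F (I8 → F), finrank F W = 4 ∧ (∀ w ∈ W, quadFormPlus 4 F w = 0) ∧ U ≤ St W := by
  obtain ⟨W, h4, hW⟩ := exists_ts4 (F := F)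
  obtain ⟨α, u, h0, hu, e⟩ := boxTW F W h4 hW
  obtain ⟨u', h0', hu', h⟩ := fix_sing ha hF (hU.map α.toMonoidHom)
  obtain ⟨g, hg, hgu⟩ := H925.exists_trans (H925.isND_of_nondeg (good_plusQ (F := F) (m := 4) (by norm_num)).nondeg)
    (by simp) h0' h0 (hu'.trans hu.symm)
  obtain ⟨g, rfl⟩ := exists_vl hg
  (have h_ob := pj_surjective (α.symm (pj F g)⁻¹)
   revert h_ob; rintro (⟨k, hk⟩))
  refine ⟨W.map (lin (vl F k)), (LinearEquiv.finrank_map_eq (glEquiv I8 F (vl F k)) W).trans h4, ?_, fun x hx => ?_⟩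
  · rintro _ ⟨w, hw, rfl⟩
    exact (Q_lin k w).trans (hW w hw)
  · have h1 := conj_St (h ⟨x, hx, rfl⟩) g
    simp only [Submodule.map_span, Set.image_singleton, show lin (vl F g) u' = u from hgu] at h1
    obtain ⟨y, hy, hyx⟩ := e.ge h1
    have h2 : x = pj F k * y * (pj F k)⁻¹ := by
      apply α.injective
      simp only [map_mul, map_mul, map_inv, hk, α.apply_symm_apply]
      have h3 : α y = pj F g * α x * (pj F g)⁻¹ := hyx
      simp only [h3]
      group
    rw [h2]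
    exact conj_St hy k

theorem flag_false (ha : 1 ≤ a) (hF : Nat.card F = p ^ a) (hU : IsPGroup p U) {t : ℕ} (ht : PP (Nat.card F) 3 t)
    (hL : t ∣ Nat.card L) (h : ∀ (α : MulAut (T8 F)) (v : I8 → F), im α U ≤ pt v → im α L ≤ pt v) : False := by
  have hch : CharP F p := charP_of_card_eq_prime_pow (p := p) (f := a) (by rw [← hF, Nat.card_eq_fintype_card])
  have hG := good_plusQ (F := F) (m := 4) (by norm_num)
  have h8 : finrank F (I8 → F) = 8 := by simp
  have keepW : ∀ W : Submodule F (I8 → F), finrank F W = 4 → (∀ w ∈ W, quadFormPlus 4 F w = 0) → U ≤ St W → L ≤ St W := by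
    intro W h4 hW hUW x hx
    obtain ⟨α, u, -, -, e⟩ := boxTW F W h4 hW
    (have h_ob := e.ge (h α u (e ▸ Subgroup.map_mono hUW) ⟨x, hx, rfl⟩)
     revert h_ob; rintro (⟨y, hy, hyx⟩))
    rwa [← α.injective hyx]
  obtain ⟨W, h4, hW, hUW⟩ := fix_four ha hF hU
  have hW' : ∀ w ∈ W, plusQ 4 F w = 0 := hW
  have hWW : ∀ v ∈ W, ∀ w ∈ W, polar (plusQ 4 F) v w = 0 := fun v hv w hw => by
    rw [polar, hW' _ (W.add_mem hv hw), hW' _ hv, hW' _ hw, sub_zero, sub_zero]
  obtain ⟨H, hH, rfl⟩ := exists_lift (pj_surjective (F := F)) hU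
  let ρ : H →* Module.End F (I8 → F) :=
    { toFun := fun g => lin (vl F g)
      map_one' := by rw [OneMemClass.coe_one, map_one, H884.El.lin_one]
      map_mul' := fun g k => LinearMap.ext fun v => by
        simp only [Subgroup.coe_mul, _root_.MonoidHom.map_mul, lin_mul_apply]
        rfl }
  have hρW : ∀ g, ∀ w ∈ W, ρ g w ∈ W := fun g => mem_St.1 (hUW ⟨g, g.2, rfl⟩)
  obtain ⟨x, -, hxW, hx⟩ := exists_fix_mod hH ρ W ⊤ hρW (fun _ _ _ => trivial) (fun h1 => by
    rw [top_le_iff.1 h1, finrank_top] at h4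
    omega)
  obtain ⟨w₀, hw₀, hxw⟩ : ∃ w ∈ W, polar (plusQ 4 F) x w = 1 := by
    have h1 : W = perp (plusQ 4 F) W := by
      refine Submodule.eq_of_le_of_finrank_eq (fun w hw v hv => hWW v hv w hw) ?_
      have h2 : finrank F W + finrank F (perp (plusQ 4 F) W) = 8 := (finrank_add_perp hG.nondeg W).trans h8
      have h3 : finrank F (perp (plusQ 4 F) W) = 4 := by omega
      exact h4.trans h3.symm
    by_contra hc
    push Not at hc
    refine hxW (h1 ▸ fun w hw => ?_)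
    by_contra h2
    refine hc ((polar (plusQ 4 F) w x)⁻¹ • w) (W.smul_mem _ hw) ?_
    rw [polar_smul_right, polar_comm _ x, smul_eq_mul, inv_mul_cancel₀ h2]
  let E : Submodule F (I8 → F) := W ⊓ LinearMap.ker (polarBilin (plusQ 4 F) x)
  have mE : ∀ {v}, v ∈ E ↔ v ∈ W ∧ polar (plusQ 4 F) x v = 0 := Iff.rfl
  have hE3 : finrank F E = 3 := by
    have h1 : E ⊔ Submodule.span F {w₀} = W := by
      refine le_antisymm (sup_le inf_le_left ((Submodule.span_singleton_le_iff_mem _ _).2 hw₀)) fun w hw => ?_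
      refine Submodule.mem_sup.2 ⟨w - polar (plusQ 4 F) x w • w₀, mE.2 ⟨W.sub_mem hw (W.smul_mem _ hw₀), ?_⟩, _,
        Submodule.smul_mem _ (polar (plusQ 4 F) x w) (Submodule.mem_span_singleton_self w₀), sub_add_cancel _ _⟩
      rw [polar_sub_right, polar_smul_right, hxw, smul_eq_mul, mul_one, sub_self]
    have h2 := Submodule.finrank_sup_span_singleton (p := E) (v := w₀) (fun h3 => by
      have h5 := (mE.1 h3).2
      rw [hxw] at h5
      exact one_ne_zero h5)
    rw [h1] at h2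
    omega
  have hρE : ∀ g, ∀ w ∈ E, ρ g w ∈ E := by
    intro g w hw
    refine mE.2 ⟨hρW g w hw.1, ?_⟩
    have h1 : polar (plusQ 4 F) (ρ g x) (ρ g w) = 0 := (polar_lin g.1 x w).trans (mE.1 hw).2
    have h2 := hWW _ (hx g) _ (hρW g w hw.1)
    (simp only [polar_sub_left, h1, zero_sub, neg_eq_zero] at h2; assumption)
  obtain ⟨u, huE, hu0, hu⟩ := exists_fix_mod hH ρ ⊥ E (fun g s hs => by
    rw [(Submodule.mem_bot F).1 hs, map_zero]
    exact zero_mem _) hρE (fun h1 => by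
    rw [le_bot_iff.1 h1, finrank_bot] at hE3
    omega)
  set! x' := x - plusQ 4 F x • w₀ with hx'
  have hQx : plusQ 4 F x' = 0 := by
    rw [hx', sub_eq_add_neg, ← neg_smul, Q_add, QuadraticMap.map_smul, hW' _ hw₀, polar_smul_right, hxw]
    simp
  have hpx : ∀ w ∈ W, polar (plusQ 4 F) x' w = polar (plusQ 4 F) x w := fun w hw => by
    rw [hx', polar_sub_left, hWW _ (W.smul_mem _ hw₀) _ hw, sub_zero]
  have hx'W : x' ∉ W := fun h1 => hxW (by
    have h2 := W.add_mem h1 (W.smul_mem (plusQ 4 F x) hw₀)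
    rwa [hx', sub_add_cancel] at h2)
  let W' : Submodule F (I8 → F) := E ⊔ Submodule.span F {x'}
  have mW' : ∀ {v}, v ∈ W' ↔ ∃ e ∈ E, ∃ c : F, e + c • x' = v := by
    intro v
    rw [Submodule.mem_sup]
    constructor
    · rintro ⟨e, he, z, hz, rfl⟩
      obtain ⟨c, rfl⟩ := Submodule.mem_span_singleton.1 hz
      exact ⟨e, he, c, rfl⟩
    · rintro ⟨e, he, c, rfl⟩
      exact ⟨e, he, _, Submodule.smul_mem _ c (Submodule.mem_span_singleton_self x'), rfl⟩
  have h4' : finrank F W' = 4 := by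
    rw [Submodule.finrank_sup_span_singleton (p := E) (v := x') (fun h1 => hx'W (mE.1 h1).1), hE3]
  have hW2 : ∀ w ∈ W', quadFormPlus 4 F w = 0 := by
    intro w hw
    obtain ⟨e, he, c, rfl⟩ := mW'.1 hw
    change plusQ 4 F _ = 0
    rw [Q_add, QuadraticMap.map_smul, hQx, hW' _ he.1, polar_smul_right, polar_comm _ e, hpx _ he.1, (mE.1 he).2]
    simp
  have hUW' : H.map (pj F) ≤ St W' := by
    rintro _ ⟨g, hg, rfl⟩
    have h1 : ρ ⟨g, hg⟩ x' - x' ∈ W := by
      have h2 := W.sub_mem (hx ⟨g, hg⟩) (W.smul_mem (plusQ 4 F x) (W.sub_mem (hρW ⟨g, hg⟩ _ hw₀) hw₀))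
      convert h2 using 1
      simp only [hx', map_sub, map_smul, smul_sub]
      abel
    have h2 : ρ ⟨g, hg⟩ x' - x' ∈ E := by
      refine mE.2 ⟨h1, ?_⟩
      have h3 : plusQ 4 F (x' + (ρ ⟨g, hg⟩ x' - x')) = 0 := by
        rw [add_sub_cancel]
        exact (Q_lin g x').trans hQx
      (simp only [Q_add, hQx, hW' _ h1, zero_add, zero_add, hpx _ h1] at h3; assumption)
    refine mem_St.2 fun w hw => ?_
    obtain ⟨e, he, c, rfl⟩ := mW'.1 hw
    refine mW'.2 ⟨ρ ⟨g, hg⟩ e + c • (ρ ⟨g, hg⟩ x' - x'), E.add_mem (hρE _ e he) (E.smul_mem c h2), c, ?_⟩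
    change _ = ρ ⟨g, hg⟩ (e + c • x')
    simp only [map_add, map_smul, smul_sub]
    abel
  have hLu : L ≤ pt u := by
    have h1 := h 1 u (by
      rw [im_one]
      rintro _ ⟨g, hg, rfl⟩
      exact mem_pt.2 ⟨1, (sub_eq_zero.1 ((Submodule.mem_bot F).1 (hu ⟨g, hg⟩))).trans (one_smul F u).symm⟩)
    rwa [im_one] at h1
  obtain ⟨z, hz, hI, -, hz1⟩ := exists_elt (Q := plusQ 4 F) (H := pre (quadFormPlus 4 F) L) pre_le ht (by norm_num)
    (hL.trans card_dvd_pre)
  have z1 := mem_SW'.1 (le_St.1 (keepW W h4 hW hUW) hz)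
  have z2 := mem_SW'.1 (le_St.1 (keepW W' h4' hW2 hUW') hz)
  have z3 := mem_SW'.1 (le_St.1 hLu hz)
  have zE : Inv (lin z) E := by
    intro w hw
    obtain ⟨e, he, c, h1⟩ := mW'.1 (z2 w (Submodule.mem_sup_left hw))
    have h2 : c = 0 := by
      by_contra hc
      have h3 : c • x' ∈ W := by
        rw [eq_sub_of_add_eq' h1]
        exact W.sub_mem (z1 w hw.1) he.1
      exact hx'W ((W.smul_mem_iff hc).1 h3)
    rw [h2, zero_smul, add_zero] at h1
    exact h1 ▸ he
  have hu0' : u ≠ 0 := fun h1 => hu0 (h1 ▸ zero_mem _)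
  have hufx : u ∈ fx (lin z) := hI.le_fx ht z3 (by rw [finrank_span_singleton hu0']; norm_num)
    (Submodule.mem_span_singleton_self u)
  have h6 : finrank F (cm (lin z)) = 2 * 3 :=
    (hI.odd_case hG.nondeg (H884.El.lin_ne_one hz1) ht (by decide) (h8.trans_lt (by norm_num))).1
  have h7 : 3 ∣ finrank F ↥(E ⊓ cm (lin z)) := hI.dvd ht zE
  have h9 : finrank F ↥(E ⊔ cm (lin z)) + finrank F ↥(E ⊓ cm (lin z)) = finrank F E + finrank F (cm (lin z)) :=
    Submodule.finrank_sup_add_finrank_inf_eq E (cm (lin z))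
  have h10 : finrank F ↥(E ⊔ cm (lin z)) ≤ 8 := h8 ▸ Submodule.finrank_le _
  have h11 : finrank F ↥(E ⊓ cm (lin z)) ≤ finrank F E := Submodule.finrank_mono inf_le_left
  have h12 : E ⊓ cm (lin z) = E := Submodule.eq_of_le_of_finrank_eq inf_le_left (by omega)
  have h13 : u ∈ fx (lin z) ⊓ cm (lin z) := ⟨hufx, (h12.ge huE).2⟩
  rw [(H951.isCompl_fx_cm hI.ne0 hI.pow).inf_eq_bot] at h13
  exact hu0 h13

end Cfsg.Agent.SM.O8.Mi
end

section
prune_inst 0xffedf8bbb87ddedfff7e7ff6d9cffc39921fffefdff943ffec79ef8bdf030e0be56bad8de010fe1ee3621410b87853f97eeeffe26bdc7ffffd5ff45ffbee5ff5f7bd0851968c341fbc2fff03f0778e7f000000000000000000000000000010000200000000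

-- part: SM/O8/Cross
section
prune_inst 0x1005440702212000000009243003c26de000100002b8001382103420e8f1f0089002720fe901a01c8cab28450384068110001d0420000000a00b000411a00a0842b52061310ac0434000fc09880000000000000000000000000000000041004000000000
set_option linter.all false
open scoped Cfsg.Agent.FastGrp

/-!
# SM (S3570), socle `PΩ⁺₈(q)`: the residual class in cross characteristic (helper15, after helper372)
-/

set_option autoImplicit false
set_option linter.unusedSectionVars false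

namespace Cfsg.Agent.SM.O8

namespace Cross

open Cfsg Cfsg.Geo Cfsg.Agent.OrdDiv Cfsg.Agent.H436 Cfsg.Agent.H264.FKS Cfsg.Agent.H902
open Cfsg.Agent.H902.Names Cfsg.Agent.H708.O8 Cfsg.Agent.H915.LD Cfsg.Agent.H884.El Cfsg.Agent.H936.List12
open Cfsg.Agent.H912.Bd Cfsg.Agent.H912.Five Cfsg.Agent.H823.O8S
open Cfsg.Agent.H532.O8S (aut_A_eq card_aut_sz8)
open Cfsg.Agent.H105.O8 (lie_dvd charP_of)
open scoped MatrixGroups Matrix

variable {p a r b s k t : ℕ}

/-- the three clauses -/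
def Res (p a r s k N : ℕ) : Prop := ¬ p ^ (6 * a + 1) ∣ N ∧ (s ^ k ∣ N → r ∣ N → p ^ a = 5 ∧ N ∣ 87360) ∧
  ¬ ((p ^ a) ^ 3 ∣ N ∧ (p ^ a) ^ 2 + 1 ∣ 2 * N)

theorem primes {l : ℕ} (hl : l.Prime) (hd : l ∣ 2 ^ 40 * 3 ^ 12 * 5 ^ 2 * 7 * 11 * 13 * 17 * 23) :
    l = 2 ∨ l = 3 ∨ l = 5 ∨ l = 7 ∨ l = 11 ∨ l = 13 ∨ l = 17 ∨ l = 23 := by
  have k : ∀ {m : ℕ}, m.Prime → l ∣ m → l = m := fun hm h => (Nat.prime_dvd_prime_iff_eq hl hm).1 h
  simp only [hl.dvd_mul] at hd
  rcases hd with ((((((h | h) | h) | h) | h) | h) | h) | h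
  · have := k Nat.prime_two (hl.dvd_of_dvd_pow h); omega
  · have := k Nat.prime_three (hl.dvd_of_dvd_pow h); omega
  · have := k Nat.prime_five (hl.dvd_of_dvd_pow h); omega
  all_goals have := k (by norm_num) h; omega

theorem num (h : Nb p a r b s k t) {N : ℕ} (hM : N ∣ 2 ^ 40 * 3 ^ 12 * 5 ^ 2 * 7 * 11 * 13 * 17 * 23)
    (h2 : p = 2 → ¬ 2 ^ 13 ∣ N) (h13 : 13 ∣ N → (p = 5 ∨ p = 7 ∨ p = 13) ∧ (p = 5 → a = 1 → N ∣ 87360))
    (h17 : 17 ∣ N → N ∣ 4896) : Res p a r s k N := by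
  have hp := h.rb.hp
  have ha := h.rb.ha
  have h4 := h.rw.four
  have a2 : p ≤ 3 → 2 ≤ a := fun h3 => by
    by_contra h5
    obtain rfl : a = 1 := by omega
    rw [pow_one] at h4
    omega
  have hr := H196.E7.dvd_sub_one h.rb.prim
  have hs := H196.E7.dvd_sub_one h.rw.prim
  have hr' := (h.rb.prim.dvd_iff _).2 dvd_rfl
  have hs' := (h.rw.prim.dvd_iff _).2 dvd_rfl
  have pw : ∀ {i j : ℕ}, i ≤ j → p ^ j ∣ N → p ^ i ∣ N := fun h1 h3 => (pow_dvd_pow p h1).trans h3
  refine ⟨fun h1 => ?_, fun h1 h3 => ?_, fun ⟨h1, h3⟩ => ?_⟩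
  · have h3 := (pw (by omega : 7 ≤ _) h1).trans hM
    rcases primes hp ((dvd_pow_self p (by norm_num)).trans h3) with rfl | rfl | rfl | rfl | rfl | rfl | rfl | rfl
    · exact h2 rfl (pw (by have := a2 (by norm_num); omega) h1)
    · exact absurd ((pw (by have := a2 le_rfl; omega : 13 ≤ _) h1).trans hM) (by norm_num)
    all_goals norm_num at h3
  · have h5 := primes h.rb.prim.prime (h3.trans hM)
    have h6 := h.rb.cases
    rcases h.sc with ⟨h7, rfl⟩ | ⟨rfl, rfl⟩ | ⟨rfl, rfl, rfl, rfl⟩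
    · exfalso
      rw [pow_one] at h1
      have h8 := primes h.rw.prim.prime (h1.trans hM)
      have h9 := (Dvd.intro a rfl).trans hs
      obtain rfl : s = 13 := by (clear * - h7 h8 h9; omega)
      rcases (h13 h1).1 with rfl | rfl | rfl
      · have := Nat.le_of_dvd (by norm_num) ((h.rw.prim.dvd_iff 4).1 (by norm_num))
        omega
      · have h10 := Nat.le_of_dvd (by norm_num) hs
        rcases (show a = 1 ∨ a = 2 by omega) with rfl | rfl
        · norm_num at hs'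
        · obtain rfl : r = 17 := by (clear * - h5 hr h6; omega)
          norm_num at hr'
      · exact h.rw.prim.not_dvd dvd_rfl
    · exact absurd (h1.trans hM) (by norm_num)
    · rcases (show r = 13 ∨ r = 17 ∨ r = 23 by (clear * - h5 h6; solve | lia | omega)) with rfl | rfl | rfl
      · exact ⟨rfl, (h13 h3).2 rfl rfl⟩
      all_goals norm_num at hr'
  · rw [← pow_mul] at h1 h3
    have h5 := (pw (by omega : 3 ≤ _) h1).trans hM
    have h6 : p = 2 ∨ p = 3 := by
      rcases primes hp ((dvd_pow_self p (by norm_num)).trans h5) with rfl | rfl | rfl | rfl | rfl | rfl | rfl | rfl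
      · exact Or.inl rfl
      · exact Or.inr rfl
      all_goals norm_num at h5
    have h7 := a2 (by omega)
    have h8 : 13 ≤ r ∧ 1 ≤ b := by
      have := h.rb.cases
      omega
    have h9 : r ∣ N := (h.rb.prim.prime.dvd_mul.1 (((dvd_pow_self r (by omega)).trans h.rb.dvd).trans
      (mul_comm a 2 ▸ h3))).resolve_left fun h9 => by
        have := Nat.le_of_dvd two_pos h9
        omega
    have h10 := primes h.rb.prim.prime (h9.trans hM)
    have h11 := (Dvd.intro a rfl).trans hr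
    rcases (show r = 13 ∨ r = 17 by (clear * - h8 h10 h11; omega)) with rfl | rfl
    · have := (h13 h9).1
      omega
    · have h12 := (pw (by omega : 6 ≤ _) h1).trans (h17 h9)
      rcases h6 with rfl | rfl <;> norm_num at h12

theorem gen (h : Nb p a r b s k t) {N : ℕ} (hM : N ∣ 2 ^ 40 * 3 ^ 12 * 5 ^ 2 * 7 * 11 * 23)
    (h2 : p = 2 → ¬ 2 ^ 13 ∣ N) : Res p a r s k N :=
  num h (hM.trans (by norm_num)) h2 (fun h1 => absurd (h1.trans hM) (by norm_num))
    fun h1 => absurd (h1.trans hM) (by norm_num)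

theorem gen' (h : Nb p a r b s k t) {N : ℕ} (hM : N ∣ 2 ^ 12 * 3 ^ 12 * 5 ^ 2 * 7 * 11 * 23) : Res p a r s k N :=
  gen h (hM.trans (by norm_num)) fun _ h1 => absurd (h1.trans hM) (by norm_num)

theorem fac12 : Nat.factorial 12 ∣ 2 ^ 12 * 3 ^ 12 * 5 ^ 2 * 7 * 11 * 23 := by norm_num [Nat.factorial]

theorem fac13 : Nat.factorial 13 ∣ 2 ^ 12 * 3 ^ 12 * 5 ^ 2 * 7 * 11 * 13 := by norm_num [Nat.factorial]

theorem eleven {c n : ℕ} (h1 : 2 * c = Nat.factorial 13) (h2 : c ∣ n) (h3 : n * Nat.gcd 2 (5 ^ 1 - 1) ^ 2 =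
    (5 ^ 1) ^ 12 * ((5 ^ 1) ^ 2 - 1) * ((5 ^ 1) ^ 4 - 1) ^ 2 * ((5 ^ 1) ^ 6 - 1)) : False := by
  have h4 : 11 ∣ c := by
    norm_num [Nat.factorial] at h1
    omega
  have h5 := (h4.trans h2).mul_right (Nat.gcd 2 (5 ^ 1 - 1) ^ 2)
  rw [h3] at h5
  norm_num at h5

section
variable {S : Type} [Group S] [Finite S] [IsSimpleGroup S] {B : ℕ}

theorem aut_L (hna : ¬ IsMulCommutative S) {n p f q : ℕ} (hp : p.Prime) (hf : 1 ≤ f) (hq : p ^ f = q) (hn : 2 ≤ n)
    (hn2 : n = 2 → 4 ≤ p ^ f) (h : IsL n q S)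
    (hB : 24 * f * ((p ^ f) ^ (n * (n - 1) / 2) * ∏ i ∈ Finset.range (n - 1), ((p ^ f) ^ (i + 2) - 1)) ∣ B) :
    Nat.card (MulAut S) ∣ B := by
  subst hq
  obtain ⟨K, iK, iKf, hK, ⟨e⟩⟩ := h
  refine (lie_dvd hna (.psl n p f) ⟨K, iK, iKf, hK, ⟨e⟩⟩ ?_).trans hB
  rw [Nat.card_congr e.toEquiv]
  exact psl_real hp hf hK hn hn2

theorem aut_U (hna : ¬ IsMulCommutative S) {n p f q : ℕ} (hp : p.Prime) (hf : 1 ≤ f) (hq : p ^ f = q) (hn : 3 ≤ n)
    (hn2 : ¬ (n = 3 ∧ p ^ f = 2)) (h : IsU n q S)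
    (hB : 24 * f * ((p ^ f) ^ (n * (n - 1) / 2) *
      ∏ i ∈ Finset.range (n - 1), (if Even i then (p ^ f) ^ (i + 2) - 1 else (p ^ f) ^ (i + 2) + 1)) ∣ B) :
    Nat.card (MulAut S) ∣ B := by
  subst hq
  obtain ⟨K, iK, iKf, hK, ⟨e⟩⟩ := h
  refine (lie_dvd hna (.psu n p f) ⟨K, iK, iKf, hK, ⟨e⟩⟩ ?_).trans hB
  rw [Nat.card_congr e.toEquiv]
  exact psu_real hp hf hK hn hn2

theorem aut_S (hna : ¬ IsMulCommutative S) {n p f q : ℕ} (hp : p.Prime) (hf : 1 ≤ f) (hq : p ^ f = q) (hn : 2 ≤ n)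
    (hn2 : n = 2 → 3 ≤ p ^ f) (h : IsS n q S)
    (hB : 24 * f * ((p ^ f) ^ (n ^ 2) * ∏ i ∈ Finset.range n, ((p ^ f) ^ (2 * (i + 1)) - 1)) ∣ B) :
    Nat.card (MulAut S) ∣ B := by
  subst hq
  obtain ⟨K, iK, iKf, hK, ⟨e⟩⟩ := h
  refine (lie_dvd hna (.psp n p f) ⟨K, iK, iKf, hK, ⟨e⟩⟩ ?_).trans hB
  rw [Nat.card_congr e.toEquiv]
  exact psp_real hp hf hK hn hn2

theorem aut_OP (hna : ¬ IsMulCommutative S) {n p f q : ℕ} (hp : p.Prime) (hf : 1 ≤ f) (hq : p ^ f = q) (hn : 4 ≤ n)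
    (h : IsOP n q S)
    (hB : 24 * f * ((p ^ f) ^ (n * (n - 1)) *
      (((p ^ f) ^ n - 1) * ∏ i ∈ Finset.range (n - 1), ((p ^ f) ^ (2 * (i + 1)) - 1))) ∣ B) :
    Nat.card (MulAut S) ∣ B := by
  subst hq
  obtain ⟨K, iK, iKf, hK, ⟨e⟩⟩ := h
  refine (lie_dvd hna (.oplus n p f) ⟨K, iK, iKf, hK, ⟨e⟩⟩ ?_).trans hB
  rw [Nat.card_congr e.toEquiv]
  exact oplus_real hp hf hK hn

theorem aut_spor (hna : ¬ IsMulCommutative S) (hs : IsSporadicGroup S) {x : Grp × ℕ} (hx : x ∈ OrdDiv.spor)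
    (hr : OrdDiv.Real x.1 S) (hB : 2 * x.2 ∣ B) : Nat.card (MulAut S) ∣ B := by
  have h1 := OrdDiv.table.spor S x hx hr
  have h2 : Nat.card (Cfsg.Out S) ≤ 2 := H498.SporOut.index_le_two hs
  have h3 : 0 < Nat.card (Cfsg.Out S) := Nat.card_pos
  rw [← H934.OutB.card_out_mul S hna, h1]
  refine (Nat.mul_dvd_mul ?_ (dvd_refl _)).trans hB
  interval_cases Nat.card (Cfsg.Out S) <;> norm_num

theorem aut_A {m : ℕ} (h5 : 5 ≤ m) (h12 : m ≤ 12) (e : S ≃* alternatingGroup (Fin m)) :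
    Nat.card (MulAut S) ∣ 2 ^ 12 * 3 ^ 12 * 5 ^ 2 * 7 * 11 * 23 := by
  by_cases h6 : m = 6
  · subst h6
    rw [Nat.card_congr (MulAut.congr e).toEquiv, H824.ProdLem.card_aut_a6]
    norm_num
  · rw [aut_A_eq h5 h6 e]
    exact (Nat.factorial_dvd_factorial h12).trans fac12

theorem aut_17 (h : IsL 2 17 S) : Nat.card (MulAut S) = 4896 := by
  obtain ⟨K, iK, iKf, hK, ⟨e⟩⟩ := h
  exact (Nat.card_congr (MulAut.congr e).toEquiv).trans
    (H781.Cov9.card_mulAut_psl (p := 17) (f := 1) (by norm_num) le_rfl hK (by norm_num))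

end

variable {F : Type} [Field F] [Fintype F]

theorem cross (hF : Nat.card F = p ^ a) (h : Nb p a r b s k t) {R : Subgroup (T8 F)}
    (S : Subgroup R) [S.Normal] (hC : Subgroup.centralizer (S : Set R) = ⊥) {P : Subgroup (GL H708.O8.I8 F)}
    (hP : IsResidualCore (pre (quadFormPlus 4 F) R) P) (e : S ≃* H915.LD.Soc P) (hL : ¬ IsLieTypeChar p (H915.LD.Soc P))
    (hk : IsKnownSimple' (H915.LD.Soc P)) : Res p a r s k (Nat.card R) := by
  have := charP_of h.rb.hp h.rb.ha hF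
  have hpf := Fact.mk h.rb.hp
  let ix : H708.O8.I8 ≃ Fin 8 := finSumFinEquiv
  obtain ⟨P', hP'⟩ : ∃ P' : Subgroup (GL (Fin 8) F), P' = H936.Reix.rx ix P := ⟨_, rfl⟩
  have hC' : Core P' := by rw [hP']; exact H936.Reix.core_rx ix (core_of_residual hP)
  have e' : H915.LD.Soc P ≃* H915.LD.Soc P' := by rw [hP']; exact H936.Reix.socEquiv ix P
  have hk' := OddHalf.Known.isKnownSimple'_congr e' (core_of_residual hP).nonabelian hk
  have hL' : ¬ IsLieTypeChar p (H915.LD.Soc P') := fun h => hL (OddHalf.Known.isLieTypeChar_congr e'.symm h)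
  have ee : S ≃* H915.LD.Soc P' := e.trans e'
  have hsim : IsSimpleGroup (H915.LD.Soc P') := hC'.simple
  have hna' : ¬ IsMulCommutative (H915.LD.Soc P') := hC'.nonabelian
  have hRd : Nat.card R ∣ Nat.card (MulAut (H915.LD.Soc P')) := by
    rw [← Nat.card_congr (MulAut.congr ee).toEquiv]
    exact dvd_aut S hC
  have key : Nat.card (MulAut (H915.LD.Soc P')) ∣ 2 ^ 12 * 3 ^ 12 * 5 ^ 2 * 7 * 11 * 23 → Res p a r s k (Nat.card R) :=
    fun h1 => gen' h (hRd.trans h1)
  have key2 : p ≠ 2 → Nat.card (MulAut (H915.LD.Soc P')) ∣ 2 ^ 40 * 3 ^ 12 * 5 ^ 2 * 7 * 11 * 23 →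
      Res p a r s k (Nat.card R) := fun h0 h1 => gen h (hRd.trans h1) fun h2 => absurd h2 h0
  have h8 : Fintype.card (Fin 8) = 8 := Fintype.card_fin 8
  rcases list₂ (p := p) (n := 8) (by norm_num) hC' hk' hL' with hc | hc | hc | ⟨hp2, -, hc⟩ | hc
  · obtain ⟨m, h5, h14, h15, -, h12, ⟨f⟩⟩ := hc
    by_cases h13 : m ≤ 12
    · exact key (aut_A h5 h13 f)
    · obtain rfl : m = 13 := by omega
      obtain rfl : p = 5 := by omega
      rw [aut_A_eq (by norm_num) (by norm_num) f] at hRd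
      have h1 := hRd.trans fac13
      refine num h (h1.trans (by norm_num)) (by omega) (fun _ => ⟨Or.inl rfl, fun _ h2 => ?_⟩)
        fun h2 => absurd (h2.trans h1) (by norm_num)
      subst h2
      refine (eleven (c := Nat.card S) ?_ ((Subgroup.card_subgroup_dvd_card S).trans (Subgroup.card_subgroup_dvd_card R))
        (H832.O8R.card_t8 hF)).elim
      rw [Nat.card_congr (ee.trans f).toEquiv, two_mul_nat_card_alternatingGroup, Nat.card_perm, Nat.card_fin]
  · rcases hc with ⟨q, hq, h1, h2, h3⟩ | ⟨h3, -, h4⟩ | ⟨-, -, h4⟩ | ⟨-, h4, -⟩ | ⟨-, -, -, h4⟩ | ⟨h3, -, h4⟩ |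
      ⟨-, h4, -⟩ | ⟨h3, -, h4⟩ | ⟨h3, -, h4⟩
    · simp only [Finset.mem_insert, Finset.mem_singleton] at hq
      rcases hq with rfl | rfl | rfl | rfl | rfl | rfl | rfl | rfl
      · exact key (aut_L hna' (p := 7) (f := 1) (by norm_num) le_rfl (by norm_num) le_rfl (fun _ => by norm_num) h3
          (by simp only [Finset.prod_range_succ, Finset.prod_range_zero]; norm_num))
      · exact key (aut_L hna' (p := 2) (f := 3) (by norm_num) (by norm_num) (by norm_num) le_rfl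
          (fun _ => by norm_num) h3 (by simp only [Finset.prod_range_succ, Finset.prod_range_zero]; norm_num))
      · exact key (aut_L hna' (p := 11) (f := 1) (by norm_num) le_rfl (by norm_num) le_rfl (fun _ => by norm_num) h3
          (by simp only [Finset.prod_range_succ, Finset.prod_range_zero]; norm_num))
      · obtain ⟨K, iK, iKf, hK, ⟨f⟩⟩ := h3
        have h4 := H464.Sl2.l2_degrees p hC' (K := K) (by omega) (by omega) (by rw [hK]; exact h1) f
          (by rw [h8]; norm_num)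
        rw [h8] at h4
        simp only [hK, _root_.Nat.reduceEqDiff, _root_.Finset.mem_insert, _root_.Finset.mem_singleton, _root_.or_self, _root_.and_self, _root_.Nat.succ_ne_self, _root_.or_true, _root_.and_true, _root_.or_false, _root_.and_false] at h4
      · rw [aut_17 h3] at hRd
        exact num h (hRd.trans (by norm_num)) (fun _ h4 => absurd (h4.trans hRd) (by norm_num))
          (fun h4 => absurd (h4.trans hRd) (by norm_num)) fun _ => hRd
      all_goals norm_num at h2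
    · obtain ⟨K, iK, iKf, hK, ⟨f⟩⟩ := h4
      have h5 := (H175.L33.l33 hC' p h3 hK f (by rw [h8]; norm_num)).2.2.2
      rw [h8] at h5
      omega
    · exact key (aut_U hna' (p := 3) (f := 1) (by norm_num) le_rfl (by norm_num) le_rfl (by norm_num) h4
        (by simp only [Finset.prod_range_succ, _root_.mul_one, _root_.pow_one, _root_.Nat.add_one_sub_one, _root_.Nat.reduceMul, _root_.Nat.reduceDiv, _root_.Nat.reducePow, _root_.Finset.range_one, _root_.Finset.prod_singleton, _root_.Even.zero, ↓ _root_.reduceIte, _root_.zero_add, _root_.Nat.not_even_one, _root_.Nat.reduceAdd, _root_.Nat.reduceDvd]))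
    · omega
    · exact key (aut_U hna' (p := 2) (f := 1) (by norm_num) le_rfl (by norm_num) (by norm_num) (by norm_num) h4
        (by simp only [show 4 - 1 = 3 from rfl, Finset.prod_range_succ, Finset.prod_range_zero]
            norm_num [Nat.even_iff]))
    · exact key2 h3 (aut_U hna' (p := 2) (f := 1) (by norm_num) le_rfl (by norm_num) (by norm_num) (by norm_num) h4
        (by simp only [show 5 - 1 = 4 from rfl, Finset.prod_range_succ, Finset.prod_range_zero]
            norm_num [Nat.even_iff]))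
    · omega
    · exact key2 h3 (aut_S hna' (p := 2) (f := 1) (by norm_num) le_rfl (by norm_num) (by norm_num) (by norm_num) h4
        (by simp only [Finset.prod_range_succ, Finset.prod_range_zero]; norm_num))
    · exact key2 h3 (aut_OP hna' (p := 2) (f := 1) (by norm_num) le_rfl (by norm_num) (by norm_num) h4
        (by simp only [Finset.prod_range_succ, Finset.prod_range_zero]; norm_num))
  · rcases hc with ⟨hp2, -, hc⟩ | ⟨-, h3, -⟩
    · rcases hc with h4 | h4 | ⟨-, h4⟩ | h4 | h4 | h4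
      · exact key (aut_L hna' (p := 7) (f := 1) (by norm_num) le_rfl (by norm_num) le_rfl (fun _ => by norm_num) h4
          (by simp only [Finset.prod_range_succ, Finset.prod_range_zero]; norm_num))
      · exact key (aut_L hna' (p := 2) (f := 2) (by norm_num) (by norm_num) (by norm_num) (by norm_num)
          (by norm_num) h4 (by simp only [Finset.prod_range_succ, Finset.prod_range_zero]; norm_num))
      · exact key (aut_U hna' (p := 2) (f := 1) (by norm_num) le_rfl (by norm_num) (by norm_num) (by norm_num) h4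
          (by simp only [show 4 - 1 = 3 from rfl, Finset.prod_range_succ, Finset.prod_range_zero]
              norm_num [Nat.even_iff]))
      · exact key2 hp2 (aut_S hna' (p := 2) (f := 1) (by norm_num) le_rfl (by norm_num) (by norm_num) (by norm_num) h4
          (by simp only [Finset.prod_range_succ, Finset.prod_range_zero]; norm_num))
      · exact key2 hp2 (aut_OP hna' (p := 2) (f := 1) (by norm_num) le_rfl (by norm_num) (by norm_num) h4
          (by simp only [Finset.prod_range_succ, Finset.prod_range_zero]; norm_num))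
      · have h5 := (H937.G24.row hC' h4 p hp2 (by rw [h8]; norm_num)).1
        rw [h8] at h5
        omega
    · omega
  · -- `Sz(8)`
    have h1 := card_aut_sz8 hna' hc
    have hpd : p ∣ Nat.card (H915.LD.Soc P') := by
      by_contra hnd
      exact H30.HTS.core_not_sz8 hC' hnd hc
    rw [h1.2, h1.1] at hRd
    rw [h1.1] at hpd
    refine num h (hRd.trans (by norm_num)) (fun h2 => absurd h2 hp2) (fun _ => ⟨?_, fun _ _ => hRd⟩)
      fun h2 => absurd (h2.trans hRd) (by norm_num)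
    have h2 := H372.O8R.prime_cases h.rb.hp (hpd.mul_left 3)
    have h3 : p ≠ 3 := by
      rintro rfl
      norm_num at hpd
    (clear * - hp2 h2 h3; omega)
  · have hsp : IsSporadicGroup (H915.LD.Soc P') := by
      rcases hc with h | h | h | h | h | h | h | h | h
      · exact .inl h
      · exact .inr (.inl h)
      · exact .inr (.inr (.inl h))
      · exact .inr (.inr (.inr (.inl h)))
      · exact .inr (.inr (.inr (.inr (.inl h))))
      · exact .inr (.inr (.inr (.inr (.inr (.inl h)))))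
      · exact .inr (.inr (.inr (.inr (.inr (.inr (.inl h))))))
      · exact .inr (.inr (.inr (.inr (.inr (.inr (.inr (.inl h)))))))
      · exact .inr (.inr (.inr (.inr (.inr (.inr (.inr (.inr (.inr (.inr (.inr (.inr (.inr (.inr (.inl h))))))))))))))
    have spor : ∀ {x : Grp × ℕ}, x ∈ OrdDiv.spor → OrdDiv.Real x.1 (H915.LD.Soc P') →
        2 * x.2 ∣ 2 ^ 12 * 3 ^ 12 * 5 ^ 2 * 7 * 11 * 23 → Res p a r s k (Nat.card R) :=
      fun h2 h3 h4 => key (aut_spor hna' hsp h2 h3 h4)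
    rcases hc with hc | hc | hc | hc | hc | hc | hc | hc | hc
    · exact spor (x := (.m11, 7920)) (by simp only [OrdDiv.spor, _root_.List.mem_cons, _root_.Prod.mk.injEq, _root_.reduceCtorEq, _root_.Nat.reduceEqDiff, _root_.and_self, _root_.List.not_mem_nil, _root_.or_self, _root_.or_false, _root_.or_true]) hc (by norm_num)
    · exact spor (x := (.m12, 95040)) (by simp only [OrdDiv.spor, _root_.List.mem_cons, _root_.Prod.mk.injEq, _root_.reduceCtorEq, _root_.Nat.reduceEqDiff, _root_.and_self, _root_.List.not_mem_nil, _root_.or_self, _root_.or_false, _root_.or_true]) hc (by norm_num)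
    · exact spor (x := (.m22, 443520)) (by simp only [OrdDiv.spor, _root_.List.mem_cons, _root_.Prod.mk.injEq, _root_.reduceCtorEq, _root_.Nat.reduceEqDiff, _root_.and_self, _root_.List.not_mem_nil, _root_.or_self, _root_.or_false, _root_.or_true]) hc (by norm_num)
    · exact spor (x := (.m23, 10200960)) (by simp only [OrdDiv.spor, _root_.List.mem_cons, _root_.Prod.mk.injEq, _root_.reduceCtorEq, _root_.Nat.reduceEqDiff, _root_.and_self, _root_.List.not_mem_nil, _root_.or_self, _root_.or_false, _root_.or_true]) hc (by norm_num)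
    · exact spor (x := (.m24, 244823040)) (by simp only [OrdDiv.spor, _root_.List.mem_cons, _root_.Prod.mk.injEq, _root_.reduceCtorEq, _root_.Nat.reduceEqDiff, _root_.and_self, _root_.List.not_mem_nil, _root_.or_self, _root_.or_false, _root_.or_true]) hc (by norm_num)
    · by_cases h11 : p = 11
      · subst h11
        have h1 := H179.JOne.j1_le12_iso hC' hc (by exact_mod_cast CharP.cast_eq_zero F 11) (by rw [h8]; norm_num)
        rw [h8] at h1
        omega
      · exact (H659.J1.not_core hC' hc p h11 (by rw [h8]; norm_num)).elim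
    · exact spor (x := (.j2, 604800)) (by simp only [OrdDiv.spor, _root_.List.mem_cons, _root_.Prod.mk.injEq, _root_.reduceCtorEq, _root_.Nat.reduceEqDiff, _root_.and_self, _root_.List.not_mem_nil, _root_.or_self, _root_.or_false, _root_.or_true]) hc (by norm_num)
    · have h1 := (H95.JT.j3 p hC' hc (by rw [h8]; norm_num)).2.1
      rw [h8] at h1
      omega
    · obtain ⟨f⟩ := hc
      by_cases h3 : p = 3
      · subst h3
        have h1 := (H878.Sz.core_Suz_three hC' f (by rw [h8]; norm_num)).1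
        rw [h8] at h1
        omega
      · have h1 := (H878.Sz.core_Suz hC' f (by rw [h8]; norm_num) p h3).1
        rw [h8] at h1
        omega

end Cross

/-- **residual class, cross characteristic** -/
theorem boxCross : BoxCross := fun _ _ _ _ _ _ _ _ _ _ hF hN _ S _ h hL hk =>
  have := h.nrm
  h.iso.elim fun e => Cross.cross hF hN S h.cen h.core e hL hk

end Cfsg.Agent.SM.O8
end

-- part: SM/O8/G6
section
prune_inst 0x1203004500012000000008241003c06ce000000002b8000284102400e880d4189002720b410120148c2a28440384048100000100000000020008000411800a0840152069318ac0434000f800804000000000000000000000000000000000000000000000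
set_option linter.all false
open scoped Cfsg.Agent.FastGrp

/-!
# SM (S3570), socle `PΩ⁺₈(q)`, `q ≥ 4`: the factor which contains the Sylow `r₆`-subgroup (helper18)
-/

set_option autoImplicit false
set_option linter.unusedSectionVars false

namespace Cfsg.Agent.SM.O8

open Module QuadraticMap Cfsg Cfsg.Geo Cfsg.Agent.LieClassical.OrthCore Cfsg.Agent.H955 Cfsg.Agent.H954.TSing
open Cfsg.Agent.LieClassical.OmegaReindex Cfsg.Agent.OrdDiv
open Cfsg.Agent.H951 (fx cm Inv)
open Cfsg.Agent.H884.El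
open Cfsg.Agent.H708.O8 (I8 T8 RB)
open Cfsg.Agent.H436 (Prim)
open Cfsg.Agent.H823.O8S Cfsg.Agent.H823.O8R
open Cfsg.Agent.H886.O8R (om Xw mkT)
open Cfsg.Agent.SM.Ex78 (Pd)
open scoped MatrixGroups Matrix

namespace G6

variable {F : Type} [Field F] [Fintype F] {p a r b s k t : ℕ} {R : Subgroup (T8 F)}

theorem pre_le' : pre (quadFormPlus 4 F) R ≤ isometryGroup F (⇑(quadPlus 4 F)) := by
  rw [coe_quadPlus]
  exact H884.El.pre_le (Q := quadFormPlus 4 F) (M := R)

theorem inv_SW {W : Submodule F (I8 → F)} {g : GL I8 F} (h : g ∈ SW W) : _root_.Cfsg.Agent.H951.Inv (lin g) W := fun w hw => by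
  rw [← mem_SW.1 h]
  exact ⟨w, hw, rfl⟩

/-- small invariant subspaces are fixed by the elements of order `r` -/
theorem le_Fx (hr : PP (Nat.card F) 4 r) {W : Submodule F (I8 → F)} (h4 : finrank F W < 4)
    (hle : pre (quadFormPlus 4 F) R ≤ SW W) : W ≤ Fx r R := by
  refine le_iInf fun g => ?_
  have hiso : Iso (quadPlus 4 F) (lin g.1) r :=
    Iso.mk' hr (by norm_num) (by rw [← lin_pow, g.2.2, lin_one]) (lin_iso pre_le' g.2.1)
  exact hiso.le_fx hr (inv_SW (hle g.2.1)) h4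

theorem fx_ne (hr : PP (Nat.card F) 4 r) (h : FixV R ∨ FixP R) : Fx r R ≠ ⊥ := by
  rcases h with ⟨w, hw, hle⟩ | ⟨W, hW, -, hle⟩
  · have hw0 : w ≠ 0 := by
      rintro rfl
      apply hw
      rw [← coe_quadPlus, QuadraticMap.map_zero]
    intro h0
    have h1 := le_Fx hr (by rw [finrank_span_singleton hw0]; norm_num) hle (Submodule.mem_span_singleton_self w)
    rw [h0, Submodule.mem_bot] at h1
    exact hw0 h1
  · intro h0
    have h1 := le_Fx hr (by rw [hW]; norm_num) hle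
    rw [h0, le_bot_iff] at h1
    rw [h1, finrank_bot] at hW
    omega

/-- the orbit of a vector of an invariant subspace -/
theorem orb {W : Submodule F (I8 → F)} (hle : pre (quadFormPlus 4 F) R ≤ SW W) {w : I8 → F} (hw : w ∈ W) (hw0 : w ≠ 0) :
    ∃ n, 0 < n ∧ n < Nat.card F ^ finrank F W ∧ Nat.card R ∣ n * Nat.card (Xw w) := by
  have hfin : Finite (Omega F (quadFormPlus 4 F)) := inferInstance
  have h1 := H886.O8R.card_orbit (R.comap (mkT F)) w
  have h2 : Nat.card R ∣ Nat.card (R.comap (mkT F)) := by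
    conv_lhs => rw [← Subgroup.map_comap_eq_self_of_surjective (QuotientGroup.mk'_surjective _) R]
    exact Subgroup.card_map_dvd _ _
  refine ⟨Nat.card {v : I8 → F // ∃ x ∈ R.comap (mkT F), om F x w = v}, ?_, ?_, ?_⟩
  · refine Nat.pos_of_ne_zero fun h0 => ?_
    rw [h0, zero_mul] at h1
    exact Nat.card_pos.ne h1
  · rw [← Module.natCard_eq_pow_finrank]
    have hm : ∀ v : {v : I8 → F // ∃ x ∈ R.comap (mkT F), om F x w = v}, v.1 ∈ W := by
      rintro ⟨v, x, hx, rfl⟩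
      exact inv_SW (hle (mem_pre.2 hx)) w hw
    have hfW : Finite W := inferInstance
    have key : ∀ v : {v : I8 → F // ∃ x ∈ R.comap (mkT F), om F x w = v}, v.1 ≠ 0 := by
      rintro ⟨v, x, hx, rfl⟩ h12
      exact hw0 ((om F x).map_eq_zero_iff.1 h12)
    have h3 : Nat.card (Option {v : I8 → F // ∃ x ∈ R.comap (mkT F), om F x w = v}) ≤ Nat.card W := by
      refine Nat.card_le_card_of_injective (fun o => o.elim (0 : W) fun v => ⟨v.1, hm v⟩) ?_
      rintro (_ | u) (_ | v) huv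
      · rfl
      · exact absurd (congrArg (fun z : W => z.1) huv).symm (key v)
      · exact absurd (congrArg (fun z : W => z.1) huv) (key u)
      · have h12 : u.1 = v.1 := congrArg (fun z : W => z.1) huv
        rw [Subtype.ext h12]
    rw [Finite.card_option] at h3
    exact h3
  · rw [← h1] at h2
    exact h2.trans (Nat.mul_dvd_mul_left _ (Subgroup.card_dvd_of_le inf_le_right))

theorem card_omega5 (hF : Nat.card F = 5) :
    Nat.card (Omega F (quadFormPlus 4 F)) ∣ 2 * 5 ^ 12 * (624 * 24 * 624 * 15624) := by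
  have h1 := S0287.result (F := F) (q := 5) (by rw [← Nat.card_eq_fintype_card, hF]) 4 (by norm_num)
  refine (Subgroup.card_subgroup_dvd_card _).trans (dvd_of_eq ?_)
  rw [h1]
  simp only [Finset.prod_range_succ, Finset.prod_range_zero]
  norm_num

/-- `q = 5`: a nonsingular vector in an invariant subspace of dimension at most two -/
theorem kill_ns (hF : Nat.card F = 5) {W : Submodule F (I8 → F)} (hle : pre (quadFormPlus 4 F) R ≤ SW W)
    (h2 : finrank F W ≤ 2) {w : I8 → F} (hw : w ∈ W) (hw0 : quadFormPlus 4 F w ≠ 0) : ¬ 5 ^ 11 ∣ Nat.card R := by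
  intro hd
  obtain ⟨n, hn0, hn, h1⟩ := orb hle hw (by
    rintro rfl
    apply hw0
    rw [← coe_quadPlus, QuadraticMap.map_zero])
  have hn' : n < 25 := by
    rw [hF] at hn
    exact hn.trans_le (Nat.pow_le_pow_right (by norm_num) h2)
  have h3 := H886.O8R.card_stab hw0
  rw [← Nat.card_eq_fintype_card, hF] at h3
  have h4 := card_omega5 hF
  rw [← h3] at h4
  have h5 : 5 ^ 10 ∣ Nat.card (Xw w) := by
    have h6 := hd.trans h1
    by_cases h7 : 5 ∣ n
    · obtain ⟨m, rfl⟩ := h7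
      rw [pow_succ', mul_assoc] at h6
      have h8 : Nat.Coprime (5 ^ 10) m := by
        refine Nat.Coprime.pow_left _ ((Nat.Prime.coprime_iff_not_dvd (by norm_num)).2 ?_)
        omega
      exact h8.dvd_of_dvd_mul_left (Nat.dvd_of_mul_dvd_mul_left (by norm_num) h6)
    · have h8 : Nat.Coprime (5 ^ 11) n := Nat.Coprime.pow_left _ ((Nat.Prime.coprime_iff_not_dvd (by norm_num)).2 h7)
      exact (pow_dvd_pow 5 (by norm_num)).trans (h8.dvd_of_dvd_mul_left h6)
  have h6 := (Nat.mul_dvd_mul_left (5 ^ 7 - 5 ^ 3) h5).trans h4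
  norm_num at h6

/-- `q = 5`: an invariant singular point -/
theorem kill_sing (hF : Nat.card F = 5) {W : Submodule F (I8 → F)} (hle : pre (quadFormPlus 4 F) R ≤ SW W)
    (h2 : finrank F W ≤ 1) {w : I8 → F} (hw : w ∈ W) (hw0 : w ≠ 0) (hs : quadFormPlus 4 F w = 0) : ¬ 81 ∣ Nat.card R := by
  classical
  intro hd
  obtain ⟨n, hn0, hn, h1⟩ := orb hle hw hw0
  have hn' : n < 5 := by
    rw [hF] at hn
    exact hn.trans_le (Nat.pow_le_pow_right (by norm_num) h2)
  have h3 := H886.O8R.card_orbit (⊤ : Subgroup (Omega F (quadFormPlus 4 F))) w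
  simp only [top_inf_eq, Subgroup.card_top] at h3
  have h7 : Nat.card {v : I8 → F // ∃ x ∈ (⊤ : Subgroup (Omega F (quadFormPlus 4 F))), om F x w = v} = 78624 := by
    have h8 := LieClassical.QuadCount.card_plus (F := F) 4 0
    rw [if_pos rfl, ← Nat.card_eq_fintype_card, hF] at h8
    have h9 : Nat.card {v : Fin 4 ⊕ Fin 4 → F // quadFormPlus 4 F v = 0} = 78625 := by omega
    have h0 : quadFormPlus 4 F (0 : I8 → F) = 0 := by rw [← coe_quadPlus, QuadraticMap.map_zero]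
    have h10 := Finite.card_option (α := {v : I8 → F // ∃ x ∈ (⊤ : Subgroup (Omega F (quadFormPlus 4 F))), om F x w = v})
    have h11 : Nat.card (Option {v : I8 → F // ∃ x ∈ (⊤ : Subgroup (Omega F (quadFormPlus 4 F))), om F x w = v}) =
        Nat.card {v : Fin 4 ⊕ Fin 4 → F // quadFormPlus 4 F v = 0} := by
      refine Nat.card_eq_of_bijective (fun o => o.elim ⟨0, h0⟩ fun v => ⟨v.1, ?_⟩) ⟨?_, ?_⟩
      · obtain ⟨v, x, -, rfl⟩ := v
        rw [H886.O8R.Q_om, hs]
      · have key : ∀ v : {v : I8 → F // ∃ x ∈ (⊤ : Subgroup (Omega F (quadFormPlus 4 F))), om F x w = v}, v.1 ≠ 0 := by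
          rintro ⟨v, x, hx, rfl⟩ h12
          exact hw0 ((om F x).map_eq_zero_iff.1 h12)
        rintro (_ | u) (_ | v) huv
        · rfl
        · exact absurd (congrArg (fun z : {v : Fin 4 ⊕ Fin 4 → F // quadFormPlus 4 F v = 0} => z.1) huv).symm (key v)
        · exact absurd (congrArg (fun z : {v : Fin 4 ⊕ Fin 4 → F // quadFormPlus 4 F v = 0} => z.1) huv) (key u)
        · have h12 : u.1 = v.1 := congrArg (fun z : {v : Fin 4 ⊕ Fin 4 → F // quadFormPlus 4 F v = 0} => z.1) huv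
          rw [Subtype.ext h12]
      · rintro ⟨v, hv⟩
        by_cases hv0 : v = 0
        · exact ⟨none, Subtype.ext hv0.symm⟩
        · obtain ⟨g, hg, h12⟩ := (H886.O8R.good_QF (F := F)).trans_norm hw0 hv0 (by rw [H886.O8R.coe_QF, hs, hv])
          obtain ⟨x, hx⟩ := H886.O8R.exists_omega hg
          exact ⟨some ⟨v, x, Subgroup.mem_top x, by rw [hx, h12]⟩, rfl⟩
    omega
  have h4 := card_omega5 hF
  rw [← h3, h7] at h4
  have h5 : 27 ∣ Nat.card (Xw w) := by
    have h6 := hd.trans h1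
    interval_cases n <;> (clear * - h6; omega)
  have h6 := (Nat.mul_dvd_mul_left 78624 h5).trans h4
  norm_num at h6

/-- the space of the fixed vectors is invariant -/
theorem not_irr {g : GL I8 F} (hg : g ∈ pre (quadFormPlus 4 F) R) (hgr : g ^ r = 1) (hg1 : g ≠ 1) (h0 : Fx r R ≠ ⊥) :
    ¬ ActsIrreducibly (matrixSet (pre (quadFormPlus 4 F) R)) := by
  intro hirr
  rcases hirr (Fx r R) (by
    rintro _ ⟨x, hx, rfl⟩ _ ⟨v, hv, rfl⟩
    refine (Submodule.mem_iInf _).2 fun y => ?_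
    have h1 := (Submodule.mem_iInf _).1 hv ⟨x⁻¹ * y.1 * x, mul_mem (mul_mem (inv_mem hx) y.2.1) hx, by
      have h2 := conj_pow (i := r) (a := x⁻¹) (b := y.1)
      rw [inv_inv] at h2
      rw [h2, y.2.2, mul_one, inv_mul_cancel]⟩
    rw [H951.mem_fx] at h1 ⊢
    change lin y.1 (lin x v) = lin x v
    have h2 : lin x (lin (x⁻¹ * y.1 * x) v) = lin x v := congrArg (lin x) h1
    rw [← lin_mul_apply, ← mul_assoc, ← mul_assoc, mul_inv_cancel, one_mul, lin_mul_apply] at h2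
    exact h2) with h1 | h1
  · exact h0 h1
  · apply lin_ne_one hg1
    refine LinearMap.ext fun v => ?_
    have h2 : v ∈ Fx r R := by rw [h1]; exact Submodule.mem_top
    exact H951.mem_fx.1 ((Submodule.mem_iInf _).1 h2 ⟨g, hg, hgr⟩)

theorem ar1 {m n : ℕ} (h1 : m + n = 8) (h2 : 4 ∣ n) (h3 : m ≠ 0) (h4 : n ≠ 0) : n = 4 := by omega

theorem ar2 {m : ℕ} (h1 : 2 * m ≤ 4) : m < 3 := by omega

theorem ar3 {m : ℕ} (h1 : 2 * m ≤ 2) : m ≤ 1 := by omega

theorem ar4 {m n : ℕ} (h1 : Even m) (h2 : 3 ∣ m) (h3 : m ≤ n) (h4 : 2 * n ≤ 8) : m = 0 := by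
  obtain ⟨c, hc⟩ := h1
  omega

/-- `q = 5`: the reducible groups -/
theorem kill_red (hF : Nat.card F = 5) (h13 : PP (Nat.card F) 4 13) (h31 : PP (Nat.card F) 3 31) (h0 : Fx 13 R ≠ ⊥)
    (d5 : 5 ^ 11 ∣ Nat.card R) (d3 : 81 ∣ Nat.card R) (d13 : 13 ∣ Nat.card R) (d31 : 31 ∣ Nat.card R) : False := by
  have hfin : Finite (GL I8 F) := inferInstance
  have hQ : Nondeg (quadPlus 4 F) := nondeg_iff.2 quadPlus_nondegenerate
  have hND : IsNondegenerateQuadraticForm (⇑(quadPlus 4 F)) :=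
    Cfsg.Agent.H884.OddForm.isNondegenerate_of_nondeg (quadPlus 4 F) hQ
  have h8 : finrank F (I8 → F) = 8 := finrank8
  obtain ⟨g, hg, ig, hgr, hg1⟩ := exists_elt (pre_le' (R := R)) h13 (by norm_num) (d13.trans card_dvd_pre)
  obtain ⟨z, hz, iz, hzr, hz1⟩ := exists_elt (pre_le' (R := R)) h31 (by norm_num) (d31.trans card_dvd_pre)
  have hgf : finrank F (fx (lin g)) ≠ 0 := fun h1 => h0 (by
    rw [eq_bot_iff, ← Submodule.finrank_eq_zero.1 h1]
    exact iInf_le (fun g : {g : GL I8 F // g ∈ pre (quadFormPlus 4 F) R ∧ g ^ 13 = 1} => fx (lin g.1)) ⟨g, hg, hgr⟩)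
  have hga := ig.finrank_add
  have hgd := ig.dvd_cm h13
  have hgc : finrank F (cm (lin g)) ≠ 0 := fun h1 => cm_ne_bot ((lin_ne_one hg1 :)) (Submodule.finrank_eq_zero.1 h1)
  rw [h8] at hga
  have hg4 : finrank F (cm (lin g)) = 4 := ar1 hga hgd hgf hgc
  have hza := iz.finrank_add
  have hz6 := (iz.odd_case hQ (lin_ne_one hz1) h31 (by decide) (by rw [h8]; norm_num)).1
  rw [h8, hz6] at hza
  have hz2 : finrank F (fx (lin z)) = 2 := Nat.add_right_cancel hza
  rw [hg4] at hga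
  have hg4' : finrank F (fx (lin g)) = 4 := Nat.add_right_cancel hga
  have half : ∀ {W U : Submodule F (I8 → F)}, TS (quadPlus 4 F) W → W ≤ U → Nondeg (res (quadPlus 4 F) U) →
      2 * finrank F W ≤ finrank F U := by
    intro W U hW hWU hU
    have h1 := H955.two_mul_finrank_le hU (U := W.comap U.subtype) (fun u hu => hW _ hu)
    rwa [(Submodule.comapSubtypeEquivOfLe hWU).finrank_eq] at h1
  rcases Cfsg.Agent.H925.reducible_cases hND pre_le' (not_irr hg hgr hg1 h0) with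
    ⟨W, hW0, hWs, hHW⟩ | ⟨W, hW0, hWn, hdW, hHW⟩ | ⟨-, v, hv, hHW⟩
  · have h1 : W ≤ fx (lin g) := ig.ts_le hQ (lin_ne_one hg1) h13 hg4 (inv_of_mem (hHW hg)) hWs
    have h2 := half hWs h1 (nondeg_fx hQ ig.iso ig.ne0 ig.pow)
    rw [hg4'] at h2
    have h3 : W ≤ fx (lin z) := iz.le_fx h31 (inv_of_mem (hHW hz)) (ar2 h2)
    have h4 := half hWs h3 (nondeg_fx hQ iz.iso iz.ne0 iz.pow)
    rw [hz2] at h4
    obtain ⟨w, hw, hw0⟩ := Submodule.exists_mem_ne_zero_of_ne_bot hW0
    exact kill_sing hF (le_SW_of_stab hHW) (ar3 h4) hw hw0 (by rw [← coe_quadPlus]; exact hWs w hw) d3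
  · have hWn' : Nondeg (res (quadPlus 4 F) W) := H958.nondegOn_iff.1 hWn
    have hWi : _root_.Cfsg.Agent.H951.Inv (lin z) W := inv_of_mem (hHW hz)
    have h1 := iz.even_inf hWi hWn'
    have h2 := iz.dvd h31 hWi
    have h3 : finrank F ↥(W ⊓ cm (lin z)) ≤ finrank F W := Submodule.finrank_mono inf_le_left
    rw [card_I8] at hdW
    have h4 : finrank F ↥(W ⊓ cm (lin z)) = 0 := ar4 h1 h2 h3 hdW
    have h5 := H951.inf_fx_sup_inf_cm iz.ne0 iz.pow hWi
    rw [Submodule.finrank_eq_zero.1 h4, sup_bot_eq] at h5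
    have h6 : W ≤ fx (lin z) := by
      rw [← h5]
      exact inf_le_right
    have h7 := Submodule.finrank_mono h6
    rw [hz2] at h7
    have h9 : ∃ w ∈ W, quadPlus 4 F w ≠ 0 := by
      by_contra hcon
      push Not at hcon
      exact ts_not_nondeg hcon le_rfl hW0 hWn'
    obtain ⟨w, hw, hw0⟩ := h9
    exact kill_ns hF (le_SW_of_stab hHW) h7 hw (by rw [← coe_quadPlus]; exact hw0) d5
  · refine kill_ns hF (le_SW_of_stab hHW) ?_ (Submodule.mem_span_singleton_self v) (by rw [← coe_quadPlus]; exact hv) d5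
    exact (finrank_span_singleton (K := F) (v := v) (by
      rintro rfl
      exact hv (QuadraticMap.map_zero _))).le.trans (by norm_num)

/-- `q = 5`: no proper subgroup has index dividing `87360` -/
theorem kill5 (hKn : Kn) (hS : BoxSpin) (hC : BoxCross) (hO : BoxOwn) (h34 : BoxG34) (hF : Nat.card F = p ^ a)
    (h : Nb p a r b s k t) (h5 : p ^ a = 5) (hR : R ≠ ⊤) (hd : Nat.card (T8 F) ∣ 87360 * Nat.card R) : False := by
  have hp := h.rb.hp
  have ha := h.rb.ha
  have hr := r5 h h5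
  have ht := t5 h h5
  have hF5 : Nat.card F = 5 := hF.trans h5
  obtain ⟨hp5, ha1⟩ := (Nat.Prime.pow_eq_iff (by norm_num : Nat.Prime 5)).1 h5
  subst hr ht hp5 ha1
  have hb : b = 1 := by
    have h1 := h.rb.dvd
    have h2 : 1 ≤ b := by rcases h.rb.cases with h3 | h3 | h3 <;> omega
    by_contra h3
    have h4 := (pow_dvd_pow 13 (show 2 ≤ b by omega)).trans h1
    norm_num at h4
  subst hb
  have hc := H832.O8R.card_t8 hF
  norm_num only [] at hc
  have hT : Nat.card (T8 F) = 87360 * (5 ^ 11 * 81 * 13 * 31 * 64) := by omega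
  rw [hT] at hd
  have h1 := Nat.dvd_of_mul_dvd_mul_left (by norm_num) hd
  have d5 : 5 ^ 11 ∣ Nat.card R := Dvd.dvd.trans (by norm_num) h1
  have d3 : 81 ∣ Nat.card R := Dvd.dvd.trans (by norm_num) h1
  have d13 : 13 ∣ Nat.card R := Dvd.dvd.trans (by norm_num) h1
  have d31 : 31 ∣ Nat.card R := Dvd.dvd.trans (by norm_num) h1
  have nsq : ∀ n : ℕ, n ^ 2 ≠ 5 := by
    intro n hn
    have h2 : n < 3 := by
      by_contra h3
      have := Nat.pow_le_pow_left (show 3 ≤ n by omega) 2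
      omega
    interval_cases n <;> omega
  rcases h34 F 5 1 13 1 s k 31 hF h R (by rw [pow_one]; exact d13) d31 with ⟨α, h2⟩ | ⟨-, F₁, B, ζ, -, h2, -⟩ | ⟨P, hP, -⟩
  · have hc' : Nat.card (im α R) = Nat.card R := card_map α
    exact kill_red hF5 (by rw [hF]; exact pp4 h) (by rw [hF]; exact h.t) h2 (by rw [hc']; exact d5) (by rw [hc']; exact d3)
      (by rw [hc']; exact d13) (by rw [hc']; exact d31)
  · exact nsq _ (h2.symm.trans hF5)
  · obtain ⟨S, hSn, hSs, hna, hCe, ⟨e⟩⟩ := H264.FKS.exists_res_plus (n := 4) le_rfl hP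
    have rs : Rs R S P := ⟨hR, hSn, hSs, hna, hCe, hP, ⟨e⟩⟩
    by_cases hL : IsLieTypeChar 5 (H915.LD.Soc P)
    · have hN : Num (5 ^ 1) (Nat.card R) := by
        refine ⟨Dvd.dvd.trans (by norm_num) d5, Dvd.dvd.trans (by norm_num) (Nat.mul_dvd_mul_left 2 d13), ?_⟩
        have h2 := Nat.le_of_dvd Nat.card_pos d5
        norm_num only [_root_.gt_iff_lt] at h2 ⊢
        (clear * - h2; omega)
      rcases hO F 5 1 hp (by norm_num) hF R S P rs hL hN with h6 | ⟨K, _, _, _, _, h6, -⟩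
      · obtain ⟨α, w, hw, hle⟩ := hS F 5 1 hp (by norm_num) hF R S hSn h6
        refine kill_ns hF5 hle ?_ (Submodule.mem_span_singleton_self w) hw (by rw [card_map α]; exact d5)
        exact (finrank_span_singleton (K := F) (v := w) (by
          rintro rfl
          apply hw
          rw [← coe_quadPlus, QuadraticMap.map_zero])).le.trans (by norm_num)
      · exact nsq _ h6
    · have := hP.simple
      exact (hC F 5 1 13 1 s k 31 hF h R S P rs hL (hKn (H915.LD.Soc P))).1 (Dvd.dvd.trans (by norm_num) d5)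

end G6

open G6 in
/-- **box (9)** -/
theorem boxG6 (hKn : Kn) (hS : BoxSpin) (hC : BoxCross) (hO : BoxOwn) (h34 : BoxG34) : BoxG6 := by
  intro F _ _ p a r b s k t hF h X Y hX hY hXY hr hs
  have hp := h.rb.hp
  have ha := h.rb.ha
  have h4 : PP (Nat.card F) 4 r := by rw [hF]; exact pp4 h
  have hid : im (1 : MulAut (T8 F)) X = X := Subgroup.map_id X
  rcases g6w hF h hs (Or.inl hr) with h1 | h1 | h1 | ⟨P, hP, -⟩
  · exact ⟨1, by rw [hid]; exact fx_ne h4 (Or.inl h1)⟩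
  · exact ⟨1, by rw [hid]; exact fx_ne h4 (Or.inr h1)⟩
  · obtain ⟨α, h2⟩ := H708.Rg.tri_J hF h1
    exact ⟨α, fx_ne h4 (Or.inr h2)⟩
  · obtain ⟨S, hSn, hSs, hna, hCe, ⟨e⟩⟩ := H264.FKS.exists_res_plus (n := 4) le_rfl hP
    have hsR : s ∣ Nat.card X := (dvd_pow_self s (by have := h.rw.hk; omega)).trans hs
    have key : Sp6 p a S → SR r X := fun h6 => by
      obtain ⟨α, h2⟩ := hS F p a hp h.rw.four hF X S hSn h6
      exact ⟨α, fx_ne h4 (Or.inl h2)⟩
    by_cases hL : IsLieTypeChar p (H915.LD.Soc P)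
    · rcases H911.O8S.own hF h.rw hX S hSs hna hCe hP e hL hsR with h6 | hN | h6 | h6
      · exact absurd hr (H886.O8R.psl2_r4 hp ha h.rb.prim (H886.O8R.dvd_psl2 S hp ha hCe h6))
      · exact absurd hr (H886.O8R.psu3_r4 hp ha h.rb.prim
          (H886.O8R.dvd_psu3 S hp ha (by have := h.rw.four; omega) hCe hN.real))
      · exact key (Or.inl h6)
      · exact key (Or.inr h6)
    · have := hP.simple
      obtain ⟨h5, h6⟩ := (hC F p a r b s k t hF h X S P ⟨hX, hSn, hSs, hna, hCe, hP, ⟨e⟩⟩ hL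
        (hKn (H915.LD.Soc P))).2.1 hs hr
      exact (kill5 hKn hS hC hO h34 hF h h5 hY (hXY.card_dvd.trans (Nat.mul_dvd_mul_right h6 _))).elim

end Cfsg.Agent.SM.O8
end

-- part: SM/O8/KU
section
prune_inst 0x1203404082212000000009261003c42da000002004b80000841020006c00c4109000621b480021141008c242038006811000009423800002a008800411800a0840232809008000024000f008800000000000000000000000000000000000000000000000
set_option linter.all false
open scoped Cfsg.Agent.FastGrp

/-!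
# SM-O8-7: `boxKU` (helper76)

`Ω₇(q)` is not primitive on the planes and 3-spaces of the spin module: the subspace `DD U v` of `KUOct` is transported along
`α = Ψ(A) τ Ψ(B)`.
-/

set_option autoImplicit false
set_option linter.unusedSectionVars false

namespace Cfsg.Agent.SM.O8.KU

open Module QuadraticMap Cfsg Cfsg.Agent.LieClassical.OrthCore Cfsg.Agent.LieClassical.OrthTrans
  Cfsg.Agent.ClassicalGeometry.OrthSemi Cfsg.Agent.H198.Classes Cfsg.Agent.LieClassical.QuadForms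
  Cfsg.Agent.ClassicalGeometry.Triality Cfsg.Agent.H198.TriBase Cfsg.Agent.H198.TriAut
open Cfsg.Agent.H884.El (lin)
open Cfsg.Agent.H708.O8 (I8 T8)
open Cfsg.Agent.H823.O8S (SW tp)
open Cfsg.Agent.H198.Carriers (plusQ good_plusQ plusQ_eq)
open Cfsg.Agent.H198.OrthFrame (Phi Phi_mk Phi_eq_one_iff)
open Cfsg.Agent.AutOrth.Main (oe pe oe_apply)
open scoped MatrixGroups Matrix

section res

variable {F V : Type*} [Field F] [AddCommGroup V] [Module F V] {Q : QuadraticForm F V} {A : Type*} [Group A]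

/-- the three properties of `D` -/
structure Res (φ : Gam Q →* A) (α : A) (v : V) (U D : Submodule F V) : Prop where
  h2 : ∃ g ∈ E Q, g v = v ∧ ∃ d ∈ D, g d ∉ D
  h3 : ∃ g : O Q, g.1 ∈ E Q ∧ g.1 v = v ∧ (∀ d ∈ D, g.1 d ∈ D) ∧
    ∃ M' : Gam Q, φ M' = α * φ (gamO Q g) * α⁻¹ ∧ ∃ u ∈ U, M'.1 u ∉ U
  h4 : ∀ M M' : Gam Q, φ M' = α * φ M * α⁻¹ → M.1 v ∈ Submodule.span F {v} → (∀ u ∈ U, M'.1 u ∈ U) →
    ∀ d ∈ D, M.1 d ∈ D

theorem Res.trans {φ : Gam Q →* A} {α : A} {v : V} {U D : Submodule F V} (X Y : Gam Q)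
    (h : Res φ α (Y.1 v) (img X⁻¹ U) D) : Res φ (φ X * α * φ Y) v U (img Y⁻¹ D) := by
  have eY : ∀ w, (Y⁻¹).1 (Y.1 w) = w := fun w => _root_.Cfsg.Agent.ClassicalGeometry.OrthSemi.inv_apply Y.1 w
  have eY' : ∀ w, Y.1 ((Y⁻¹).1 w) = w := fun w => apply_inv Y.1 w
  have eX : ∀ w, (X⁻¹).1 (X.1 w) = w := fun w => _root_.Cfsg.Agent.ClassicalGeometry.OrthSemi.inv_apply X.1 w
  have eX' : ∀ w, X.1 ((X⁻¹).1 w) = w := fun w => apply_inv X.1 w
  have hfix : ∀ g : V ≃ₗ[F] V, g (Y.1 v) = Y.1 v → conjLin Y⁻¹ g v = v := fun g hg => by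
    have h1 := conjLin_apply' Y⁻¹ g (Y.1 v)
    rwa [hg, eY] at h1
  refine ⟨?_, ?_, ?_⟩
  · obtain ⟨g, hg, hv, d, hd, hgd⟩ := h.h2
    refine ⟨conjLin Y⁻¹ g, conjLin_mem_E _ hg, hfix g hv, (Y⁻¹).1 d, apply_mem_img.2 hd, ?_⟩
    rw [conjLin_apply', apply_mem_img]
    exact hgd
  · obtain ⟨g, hg, hv, hD, M', hM', u, hu, hMu⟩ := h.h3
    refine ⟨⟨conjLin Y⁻¹ g.1, E_le_O (conjLin_mem_E _ hg)⟩, conjLin_mem_E _ hg, hfix g.1 hv, ?_, X * M' * X⁻¹, ?_, ?_⟩
    · rintro _ ⟨d, hd, rfl⟩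
      change conjLin Y⁻¹ g.1 _ ∈ _
      rw [conjLin_apply', apply_mem_img]
      exact hD d hd
    · have e : gamO Q ⟨conjLin Y⁻¹ g.1, E_le_O (conjLin_mem_E _ hg)⟩ = Y⁻¹ * gamO Q g * Y := by
        apply Subtype.ext
        ext1 w
        change (Y⁻¹).1 (g.1 ((Y.1⁻¹)⁻¹ w)) = (Y⁻¹).1 (g.1 (Y.1 w))
        rw [inv_inv]
      rw [e, map_mul, map_mul, map_mul, map_mul, hM', map_inv, map_inv]
      group
    · obtain ⟨u, hu, rfl⟩ := hu
      refine ⟨u, hu, fun h1 => hMu ?_⟩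
      have h2 : X.1 (M'.1 ((X⁻¹).1 u)) ∈ U := h1
      exact ⟨_, h2, eX _⟩
  · intro M M' hM hv hU
    rintro _ ⟨d, hd, rfl⟩
    have h1 := h.h4 (Y * M * Y⁻¹) (X⁻¹ * M' * X) (by
      rw [map_mul, map_mul, map_mul, map_mul, hM, map_inv, map_inv]
      group) (by
      change Y.1 (M.1 ((Y⁻¹).1 (Y.1 v))) ∈ _
      obtain ⟨c, hc⟩ := Submodule.mem_span_singleton.1 hv
      obtain ⟨σ, e, hY⟩ := Y.2
      rw [eY, ← hc, hY.smul]
      exact Submodule.smul_mem _ _ (Submodule.mem_span_singleton_self _)) (by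
      rintro _ ⟨u, hu, rfl⟩
      change (X⁻¹).1 (M'.1 (X.1 ((X⁻¹).1 u))) ∈ _
      rw [eX', apply_mem_img]
      exact hU u hu) d hd
    exact ⟨_, h1, eY _⟩

theorem Res.congr {A' : Type*} [Group A'] {φ : Gam Q →* A} {α : A} {v : V} {U D : Submodule F V} (j : A ≃* A')
    (h : Res φ α v U D) : Res (j.toMonoidHom.comp φ) (j α) v U D := by
  have key : ∀ M M' : Gam Q, j (φ M') = j α * j (φ M) * (j α)⁻¹ ↔ φ M' = α * φ M * α⁻¹ := fun M M' => by
    rw [← map_inv, ← map_mul, ← map_mul, j.injective.eq_iff]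
  refine ⟨h.h2, ?_, fun M M' hM => h.h4 M M' ((key M M').1 hM)⟩
  obtain ⟨g, hg, hv, hD, M', hM', hu⟩ := h.h3
  exact ⟨g, hg, hv, hD, M', (key _ _).2 hM', hu⟩

end res

section tau

variable {F : Type*} [Field F]

theorem exists_tri (hG : Good (plusForm 4 F)) {M M' : G8 F} (h : Psi _ M' = tau hG * Psi _ M * (tau hG)⁻¹) :
    ∃ M₂, TriS M M' M₂ := by
  rcases mem_S1 hG M with ⟨-, M₁, M₂, h1⟩ | ⟨-, N₁, N₂, h1⟩
  · have h2 : M' * M₁⁻¹ ∈ (Psi (plusForm 4 F)).ker := by
      simp only [MonoidHom.mem_ker, map_mul, map_inv, h, tau_conj hG h1, mul_inv_cancel]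
    rw [ker_Psi hG] at h2
    obtain ⟨a, ha⟩ := h2
    have h3 : M' = scal _ a * M₁ := by rw [ha, inv_mul_cancel_right]
    refine ⟨scal _ a⁻¹ * M₂, fun x y => ?_⟩
    rw [h1, h3]
    change _ = ClassicalGeometry.TrialityOct.omul ((a : F) • M₁.1 x) (((a⁻¹ : Fˣ) : F) • M₂.1 y)
    rw [ClassicalGeometry.TrialityOct.smul_omul, ClassicalGeometry.TrialityOct.omul_smul, smul_smul, Units.mul_inv,
      one_smul]
  · exfalso
    apply rho_inv_not_mem hG
    have h2 := tau_conj hG h1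
    simp only [map_mul] at h2
    have h3 : (rho hG)⁻¹ = Psi _ (kapG F) * ((Psi _ M')⁻¹ * Psi _ N₁) := by
      have e : rho hG ^ 2 = Psi _ (kapG F) * (tau hG * Psi _ (kapG F) * (tau hG)⁻¹) := by
        simp only [tau_inv, rho, pow_two, mul_assoc]
      refine (rho_sq hG).symm.trans (e.trans ?_)
      simp only [h, ← h2]
      group
    simp only [h3]
    exact mul_mem ⟨_, rfl⟩ (mul_mem (inv_mem ⟨_, rfl⟩) ⟨_, rfl⟩)

theorem res_tau [Finite F] (hq : 4 ≤ Nat.card F) (hG : Good (plusForm 4 F)) {v : V8 F} {U : Submodule F (V8 F)}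
    (hv : plusForm 4 F v ≠ 0) (h2 : 2 ≤ finrank F U) (h3 : finrank F U ≤ 3) (hy : ∃ y ∈ U, plusForm 4 F y ≠ 0) :
    Res (Psi (plusForm 4 F)) (tau hG) v U (DD U v) := by
  obtain ⟨y, hy, hQ⟩ := hy
  have hob_ := exists_DD hv hy hQ h2
  obtain ⟨d, hd, hdv⟩ := hob_
  refine ⟨exists_move hv hd hdv (finrank_DD v h3), ?_, fun M M' hM hMv hU => ?_⟩
  · have hob_ := exists_fix hq hG hv (self_mem_DD v hy hQ) (finrank_DD v h3) hy hQ h3
    obtain ⟨g, hg, hD, M₁, M₂, ht, hu⟩ := hob_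
    exact ⟨g, hg, hD v (self_mem_DD v hy hQ), fun d hd => by rw [hD d hd]; exact hd, M₁, (tau_conj hG ht).symm, hu⟩
  · obtain ⟨M₂, ht⟩ := exists_tri hG hM
    exact inv_DD ht hMv hU

theorem double_coset [Finite F] (hG : Good (plusForm 4 F)) {α : MulAut (P8 F)} (h : α ∉ (Psi (plusForm 4 F)).range) :
    ∃ X Y : G8 F, α = Psi _ X * tau hG * Psi _ Y := by
  have hob_ := aut_cases hG α
  obtain ⟨i, M, hi, rfl⟩ := hob_
  interval_cases i
  · exact absurd ⟨M, by simp only [pow_zero, one_mul]⟩ h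
  · exact ⟨kapG F, M, by simp only [pow_one, rho]⟩
  · refine ⟨1, kapG F * M, ?_⟩
    simp only [rho_sq]
    simp only [rho, mul_inv_rev, tau_inv, ← map_inv, kapG_inv, map_one, one_mul, map_mul, mul_assoc]

theorem res_psi [Finite F] (hq : 4 ≤ Nat.card F) (hG : Good (plusForm 4 F)) {α : MulAut (P8 F)}
    (h : α ∉ (Psi (plusForm 4 F)).range) {v : V8 F} {U : Submodule F (V8 F)}
    (hv : plusForm 4 F v ≠ 0) (h2 : 2 ≤ finrank F U) (h3 : finrank F U ≤ 3) (hy : ∃ y ∈ U, plusForm 4 F y ≠ 0) :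
    ∃ D, Res (Psi (plusForm 4 F)) α v U D := by
  have hob_ := double_coset hG h
  obtain ⟨X, Y, rfl⟩ := hob_
  have hne : ∀ (Z : G8 F) (w : V8 F), plusForm 4 F w ≠ 0 → plusForm 4 F (Z.1 w) ≠ 0 := fun Z w hw => by
    obtain ⟨σ, c, hZ⟩ := Z.2
    rw [hZ.form]
    exact mul_ne_zero hZ.ne ((map_ne_zero σ).2 hw)
  obtain ⟨y, hy, hQ⟩ := hy
  exact ⟨_, Res.trans X Y ((res_tau hq hG (hne Y v hv) (by rwa [finrank_img]) (by rwa [finrank_img])
    ⟨_, apply_mem_img.2 hy, hne X⁻¹ y hQ⟩ : _))⟩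

theorem res_phi [Fintype F] (hq : 4 ≤ Nat.card F) {Q : QuadraticForm F (V8 F)} (hQ : Q = plusForm 4 F) (hG : Good Q)
    {α : MulAut (POmega F ⇑Q)} (h : α ∉ (Phi hG).range) {v : V8 F} {U : Submodule F (V8 F)}
    (hv : Q v ≠ 0) (h2 : 2 ≤ finrank F U) (h3 : finrank F U ≤ 3) (hy : ∃ y ∈ U, Q y ≠ 0) :
    ∃ D, Res (Phi hG) α v U D := by
  subst hQ
  have hob_ := (MulAut.congr (pe hG).symm).surjective α
  obtain ⟨β, rfl⟩ := hob_
  have hob_ := res_psi hq hG (α := β) (by
    rintro ⟨M, rfl⟩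
    exact h ⟨M, rfl⟩) hv h2 h3 hy
  obtain ⟨D, hD⟩ := hob_
  exact ⟨D, hD.congr (MulAut.congr (pe hG).symm)⟩

end tau

section final

variable {F : Type} [Field F] [Fintype F]

theorem hG8 (F : Type) [Field F] [Fintype F] : Good (plusQ 4 F) := good_plusQ (F := F) (m := 4) (by norm_num)

/-- an element of `Ω` as a semisimilarity -/
noncomputable def gs (s : Omega F (quadFormPlus 4 F)) : Gam (plusQ 4 F) :=
  gamO _ ⟨(oe (hG8 F) s : ↥(E (plusQ 4 F))), E_le_O (oe (hG8 F) s).2⟩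

theorem gs_apply (s : Omega F (quadFormPlus 4 F)) (w : I8 → F) :
    (gs s).1 w = (((s : isometryGroup F (quadFormPlus 4 F)) : GL I8 F) : Matrix I8 I8 F) *ᵥ w := rfl

theorem gs_lin (s : Omega F (quadFormPlus 4 F)) (w : I8 → F) :
    (gs s).1 w = lin ((s : isometryGroup F (quadFormPlus 4 F)) : GL I8 F) w := by
  rw [gs_apply, H884.El.lin, Matrix.toLin'_apply]

seal _root_.Finset.sum in
theorem ph_gs (s : Omega F (quadFormPlus 4 F)) :
    ph F (gs s) = MulAut.conj (QuotientGroup.mk s : T8 F) := by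
  ext x
  have hob_ := QuotientGroup.mk_surjective x
  obtain ⟨t, rfl⟩ := hob_
  have h1 : MulAut.conj (QuotientGroup.mk s : T8 F) (QuotientGroup.mk t) = QuotientGroup.mk (s * t * s⁻¹) := rfl
  simp only [h1]
  refine (Phi_mk (hG8 F) (gs s) (s := t) (s' := s * t * s⁻¹) fun v => ?_ :)
  simp only [gs_apply, gs_apply, Matrix.mulVec_mulVec, Matrix.mulVec_mulVec]
  congr 1
  rw [← Units.val_mul, ← Units.val_mul]
  congr 1
  change _ * _ * _⁻¹ * _ = _
  rw [inv_mul_cancel_right]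

seal _root_.Finset.sum in
theorem scal_of_eq {M M' : Gam (plusQ 4 F)} (h : ph F M = ph F M') : ∃ a : F, ∀ w, M.1 w = a • M'.1 w := by
  have h1 : Phi (hG8 F) (M * M'⁻¹) = 1 := by
    change ph F (M * M'⁻¹) = 1
    simp only [map_mul, map_inv, h, mul_inv_cancel]
  obtain ⟨a, -, ha⟩ := (Phi_eq_one_iff _ _).1 h1
  refine ⟨a, fun w => ?_⟩
  rw [← ha]
  exact congrArg M.1 (inv_apply M'.1 w).symm

theorem mk_mem_St {s : Omega F (quadFormPlus 4 F)} {W : Submodule F (I8 → F)} :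
    (QuotientGroup.mk s : T8 F) ∈ St W ↔ ∀ w ∈ W, (gs s).1 w ∈ W := by
  constructor
  · rintro ⟨t, ht, hts⟩ w hw
    have h1 : (QuotientGroup.mk t : T8 F) = QuotientGroup.mk s := hts
    obtain ⟨a, ha⟩ := scal_of_eq (M := gs s) (M' := gs t) ((ph_gs s).trans ((congrArg MulAut.conj h1.symm).trans (ph_gs t).symm))
    have h2 : W.map (lin ((t : isometryGroup F (quadFormPlus 4 F)) : GL I8 F)) = W := ht
    rw [ha, gs_lin]
    refine W.smul_mem _ ?_
    rw [← h2]
    exact Submodule.mem_map_of_mem hw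
  · intro h
    refine H823.O8S.mk_mem_tp (H823.O8S.mem_SW.2 ?_)
    have h1 : W.map (lin ((s : isometryGroup F (quadFormPlus 4 F)) : GL I8 F)) = img (gs s) W := by
      ext w
      rw [Submodule.mem_map, mem_img]
      simp only [gs_lin]
    rw [h1]
    refine Submodule.eq_of_le_of_finrank_eq ?_ (finrank_img _ _)
    rintro _ ⟨w, hw, rfl⟩
    exact h w hw

theorem exists_gs (g : O (plusQ 4 F)) (hg : g.1 ∈ E (plusQ 4 F)) :
    ∃ s : Omega F (quadFormPlus 4 F), gs s = gamO _ g := by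
  have hob_ := (oe (hG8 F)).surjective ⟨g.1, hg⟩
  obtain ⟨s, hs⟩ := hob_
  refine ⟨s, congrArg (gamO _) (Subtype.ext ?_)⟩
  exact congrArg (fun x : ↥(E (plusQ 4 F)) => (x : (I8 → F) ≃ₗ[F] (I8 → F))) hs

theorem mk_mem_pt {s : Omega F (quadFormPlus 4 F)} {v : I8 → F} (h : (gs s).1 v = v) :
    (QuotientGroup.mk s : T8 F) ∈ pt v := by
  refine mk_mem_St.2 fun w hw => ?_
  obtain ⟨c, rfl⟩ := Submodule.mem_span_singleton.1 hw
  rw [gs_lin, map_smul, ← gs_lin, h]
  exact hw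

theorem conj_aut {G : Type*} [Group G] (α : MulAut G) (x : G) : MulAut.conj (α x) = α * MulAut.conj x * α⁻¹ := by
  ext y
  simp only [_root_.MulAut.conj_apply, _root_.MulAut.mul_apply, _root_.MulAut.inv_apply, _root_.map_mul, _root_.MulEquiv.apply_symm_apply, _root_.map_inv]

seal _root_.Finset.sum in
/-- **SM-O8-7** -/
theorem boxKU : BoxKU := by
  intro F _ _ hq v α U hv hα h2 h3 hy
  have hob_ := res_phi hq (plusQ_eq 4 F) (hG8 F) (α := α) hα (v := v) hv h2 h3 hy
  obtain ⟨D, hD⟩ := hob_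
  have h4 : ∀ M M' : Gam (plusQ 4 F), ph F M' = α * ph F M * α⁻¹ → M.1 v ∈ Submodule.span F {v} →
      (∀ u ∈ U, M'.1 u ∈ U) → ∀ d ∈ D, M.1 d ∈ D := hD.h4
  have key : ∀ s t : Omega F (quadFormPlus 4 F), (QuotientGroup.mk t : T8 F) = α (QuotientGroup.mk s) →
      ph F (gs t) = α * ph F (gs s) * α⁻¹ := fun s t ht =>
    (ph_gs t).trans ((congrArg MulAut.conj ht).trans ((conj_aut α _).trans (congrArg (fun z => α * z * α⁻¹) (ph_gs s).symm)))
  refine ⟨D, ?_, ?_, ?_, h4⟩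
  · rintro x ⟨hx1, hx2⟩
    have hob_ := QuotientGroup.mk_surjective x
    obtain ⟨s, rfl⟩ := hob_
    have hob_ := QuotientGroup.mk_surjective (α (QuotientGroup.mk s))
    obtain ⟨t, ht⟩ := hob_
    have h5 : (QuotientGroup.mk t : T8 F) ∈ St U := by rw [ht]; exact hx2
    refine mk_mem_St.2 (h4 (gs s) (gs t) ?_ (mk_mem_St.1 hx1 v (Submodule.mem_span_singleton_self v)) (mk_mem_St.1 h5))
    exact key s t ht
  · intro hle
    obtain ⟨g, hg, hgv, d, hd, hgd⟩ := hD.h2
    obtain ⟨s, hs⟩ := exists_gs ⟨g, E_le_O hg⟩ hg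
    have h5 := mk_mem_St.1 (hle (mk_mem_pt (s := s) (by rw [hs]; exact hgv))) d hd
    rw [hs] at h5
    exact hgd h5
  · intro hle
    obtain ⟨g, hg, hgv, hgD, M', hM', u, hu, hMu⟩ := hD.h3
    obtain ⟨s, hs⟩ := exists_gs g hg
    have h5 : α (QuotientGroup.mk s) ∈ St U :=
      hle ⟨mk_mem_pt (s := s) (by rw [hs]; exact hgv), mk_mem_St.2 (by rw [hs]; exact hgD)⟩
    obtain ⟨t, ht⟩ := QuotientGroup.mk_surjective (α (QuotientGroup.mk s))
    rw [← ht] at h5
    have h6 : ph F M' = α * ph F (gamO _ g) * α⁻¹ := (hM' :)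
    obtain ⟨a, ha⟩ := scal_of_eq (M := M') (M' := gs t) (h6.trans (hs ▸ (key s t ht).symm))
    apply hMu
    rw [ha]
    exact U.smul_mem _ (mk_mem_St.1 h5 u hu)

end final

end Cfsg.Agent.SM.O8.KU
end

-- part: SM/O8/M1
section
prune_inst 0x20440008221200000000122000002008000002004000000860014200400040090020000c0000100800800000000020000000104000000000000000000000000002520493080004040008800000000000000000000000000000000000000000000000000
set_option linter.all false
open scoped Cfsg.Agent.FastGrp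

/-!
# SM (S3570), socle `PΩ⁺₈(q)`: box M1 (helper43)

Tools in `SM.O8.M1`: `og`, `ph_og`, `exists_lift`, `mem_St` (membership in `St D` through any semisimilarity which induces
the inner automorphism), `gim`, `index_point`, `index_plane`.
-/

set_option autoImplicit false
set_option linter.unusedSectionVars false
set_option maxHeartbeats 400000

namespace Cfsg.Agent.SM.O8

open Module QuadraticMap Cfsg Cfsg.Geo
open Cfsg.Agent.H884.El (pre lin mem_pre)
open Cfsg.Agent.H708.O8 (I8 T8)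
open Cfsg.Agent.H823.O8S (SW tp mem_SW)
open Cfsg.Agent.H198.Carriers (plusQ good_plusQ plusQ_eq)
open Cfsg.Agent.H198.OrthFrame (simGam omSim S_omSim Phi_eq_one_iff)
open Cfsg.Agent.ClassicalGeometry.OrthSemi (Gam IsSS apply_inv inv_apply)
open Cfsg.Agent.SM.Ex78 (Pd)
open scoped MatrixGroups Matrix

namespace M1

section grp

variable {G : Type} [Group G]

theorem relIndex_le (S X : Subgroup G) {Z : Type} [Finite Z] (f : X → Z) (h : ∀ x x', f x = f x' → (x : G)⁻¹ * x' ∈ S) :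
    S.relIndex X ≤ Nat.card Z :=
  Nat.card_le_card_of_injective (fun c : X ⧸ S.subgroupOf X => f c.out) fun c c' e => by
    rw [← c.out_eq', ← c'.out_eq']
    exact QuotientGroup.eq.2 (h _ _ e)

theorem le_index [Finite G] (S : Subgroup G) {Z : Type} (g : Z → G) (h : ∀ z z', (g z)⁻¹ * g z' ∈ S → z = z') :
    Nat.card Z ≤ S.index :=
  Nat.card_le_card_of_injective (fun z => (g z : G ⧸ S)) fun z z' e => h z z' (QuotientGroup.eq.1 e)

theorem conj_map (α : MulAut G) (g : G) : MulAut.conj (α g) = α * MulAut.conj g * α⁻¹ := by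
  ext x
  obtain ⟨x, rfl⟩ := α.surjective x
  rw [MulAut.mul_apply, MulAut.mul_apply, MulAut.inv_apply_self, MulAut.conj_apply, MulAut.conj_apply, map_mul, map_mul,
    map_inv]

theorem conj_comm {σ : MulAut G} {g : G} (h : σ g = g) : MulAut.conj g * σ = σ * MulAut.conj g := by
  have h1 := conj_map σ g
  rw [h] at h1
  exact eq_mul_inv_iff_mul_eq.1 h1

theorem comm_conj {a b c s m : G} (h1 : a * s * a⁻¹ = m) (h2 : c * s = s * c) (h3 : b = a * c * a⁻¹) :
    (m * b)⁻¹ * (b * m) = 1 := by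
  rw [h3, ← h1]
  calc _ = a * ((s * c)⁻¹ * (c * s)) * a⁻¹ := by group
    _ = 1 := by rw [h2]; group

theorem apply_conj {α β γ : MulAut G} (h : γ = α * β * α⁻¹) (x : G) : α (β x) = γ (α x) := by
  rw [h, MulAut.mul_apply, MulAut.mul_apply, MulAut.inv_apply_self]

end grp

theorem finrank_span_le {F V : Type} [Field F] [AddCommGroup V] [Module F V] [FiniteDimensional F V] {f : V → V → V}
    (h1 : ∀ x x' y, f (x + x') y = f x y + f x' y) (h2 : ∀ x y y', f x (y + y') = f x y + f x y')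
    (h3 : ∀ (a : F) x y, ∃ c : F, f (a • x) y = c • f x y) (h4 : ∀ (a : F) x y, ∃ c : F, f x (a • y) = c • f x y)
    (U : Submodule F V) : finrank F (Submodule.span F {z | ∃ x ∈ U, ∃ y ∈ U, f x y = z}) ≤ finrank F U ^ 2 := by
  let b := Module.finBasis F U
  let W := Submodule.span F (Set.range fun p : Fin (finrank F U) × Fin (finrank F U) => f (b p.1) (b p.2))
  have key : ∀ (g : V → V), (∀ x x', g (x + x') = g x + g x') → (∀ (a : F) x, ∃ c : F, g (a • x) = c • g x) →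
      (∀ i, g (b i) ∈ W) → ∀ x : U, g x ∈ W := fun g k1 k2 k3 x => by
    have h5 : x ∈ Submodule.span F (Set.range b) := by rw [b.span_eq]; trivial
    induction h5 using Submodule.span_induction with
    | mem x hx => obtain ⟨i, rfl⟩ := hx; exact k3 i
    | zero =>
      have h6 := k1 0 0
      rw [add_zero] at h6
      rw [Submodule.coe_zero, left_eq_add.1 h6]
      exact W.zero_mem
    | add x y _ _ hx hy => rw [Submodule.coe_add, k1]; exact W.add_mem hx hy
    | smul a x _ hx =>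
      obtain ⟨c, hc⟩ := k2 a x
      rw [Submodule.coe_smul, hc]
      exact W.smul_mem c hx
  have h7 : Submodule.span F {z | ∃ x ∈ U, ∃ y ∈ U, f x y = z} ≤ W := Submodule.span_le.2 (by
    rintro _ ⟨x, hx, y, hy, rfl⟩
    exact key (fun x => f x y) (fun a c => h1 a c y) (fun a c => h3 a c y) (fun i => key (f (b i)) (h2 _) (fun a c => h4 a _ c)
      (fun j => Submodule.subset_span ⟨(i, j), rfl⟩) ⟨y, hy⟩) ⟨x, hx⟩)
  refine (Submodule.finrank_mono h7).trans ((finrank_range_le_card _).trans ?_)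
  rw [Fintype.card_prod, Fintype.card_fin, pow_two]

variable {F : Type} [Field F] [Fintype F]

seal MulAut.conj isometryGroup _root_.commutator Subgroup.center H198.OrthFrame.Phi QuotientGroup.leftRel

/-- `N` maps `D` into itself -/
def Stb (N : Gam (plusQ 4 F)) (D : Submodule F (I8 → F)) : Prop := ∀ d ∈ D, N.1 d ∈ D

theorem Stb.mul {N N' : Gam (plusQ 4 F)} {D : Submodule F (I8 → F)} (h : Stb N D) (k : Stb N' D) : Stb (N * N') D :=
  fun d hd => h _ (k d hd)

theorem Stb.inv {N : Gam (plusQ 4 F)} {D : Submodule F (I8 → F)} (h : Stb N D) : Stb N⁻¹ D := fun d hd => by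
  obtain ⟨x, hx⟩ := Finite.surjective_of_injective (f := fun x : D => (⟨N.1 x, h x x.2⟩ : D))
    (fun a b e => Subtype.ext (N.1.injective (congrArg Subtype.val e))) ⟨d, hd⟩
  rw [← show N.1 x = d from congrArg Subtype.val hx, show N⁻¹.1 (N.1 x) = x from inv_apply _ _]
  exact x.2

theorem smul_of_one {N N' : Gam (plusQ 4 F)} (h : ph F (N⁻¹ * N') = 1) : ∃ a : F, ∀ v, N'.1 v = N.1 (a • v) := by
  obtain ⟨a, -, ha⟩ := (Phi_eq_one_iff _ _).1 h
  exact ⟨a, fun v => by rw [← ha]; exact (apply_inv _ _).symm⟩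

theorem Stb.congr {N N' : Gam (plusQ 4 F)} {D : Submodule F (I8 → F)} (h : Stb N D) (e : ph F N = ph F N') : Stb N' D := by
  obtain ⟨a, ha⟩ := smul_of_one (N := N) (N' := N') (by simp only [map_mul, map_inv, e, inv_mul_cancel])
  exact fun d hd => ha d ▸ h _ (D.smul_mem a hd)

theorem stb_span {N : Gam (plusQ 4 F)} {S : Set (I8 → F)} (h : ∀ s ∈ S, N.1 s ∈ Submodule.span F S) :
    Stb N (Submodule.span F S) := by
  obtain ⟨σ, c, hN⟩ := N.2
  intro d hd
  induction hd using Submodule.span_induction with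
  | mem x hx => exact h x hx
  | zero => rw [hN.map_zero]; exact Submodule.zero_mem _
  | add x y _ _ hx hy => rw [hN.add]; exact Submodule.add_mem _ hx hy
  | smul a x _ hx => rw [hN.smul]; exact Submodule.smul_mem _ _ hx

/-- elements of `Ω` as semisimilarities -/
noncomputable def og : Omega F (quadFormPlus 4 F) →* Gam (plusQ 4 F) := (simGam (plusQ 4 F)).comp (omSim (plusQ 4 F))

theorem og_apply (s : Omega F (quadFormPlus 4 F)) (v : I8 → F) :
    (og s).1 v = lin ((s : isometryGroup F (quadFormPlus 4 F)) : GL I8 F) v := by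
  rw [lin, Matrix.toLin'_apply]
  rfl

theorem ph_og (s : Omega F (quadFormPlus 4 F)) : ph F (og s) = MulAut.conj (QuotientGroup.mk s : T8 F) :=
  S_omSim (good_plusQ (F := F) (m := 4) (by norm_num)) s

theorem exists_lift (y : T8 F) : ∃ N : Gam (plusQ 4 F), ph F N = MulAut.conj y := by
  (have h_ob := QuotientGroup.mk_surjective y
   revert h_ob; rintro (⟨s, rfl⟩))
  exact ⟨og s, ph_og s⟩

theorem sw_of {s : Omega F (quadFormPlus 4 F)} {D : Submodule F (I8 → F)} (h : Stb (og s) D) :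
    ((s : isometryGroup F (quadFormPlus 4 F)) : GL I8 F) ∈ SW D := by
  refine mem_SW.2 (le_antisymm ?_ fun d hd => ⟨_, h.inv d hd, ?_⟩)
  · rintro _ ⟨d, hd, rfl⟩
    exact og_apply s d ▸ h d hd
  · rw [← og_apply]
    exact apply_inv _ _

theorem mem_St {y : T8 F} {N : Gam (plusQ 4 F)} (h : ph F N = MulAut.conj y) {D : Submodule F (I8 → F)} :
    y ∈ St D ↔ Stb N D := by
  constructor
  · rintro ⟨s, hs, rfl⟩
    refine Stb.congr (N := og s) (fun d hd => ?_) ((ph_og s).trans h.symm)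
    rw [og_apply, ← mem_SW.1 hs]
    exact ⟨d, hd, rfl⟩
  · intro k
    obtain ⟨s, rfl⟩ := QuotientGroup.mk_surjective y
    exact ⟨s, sw_of (k.congr (h.trans (ph_og s).symm)), rfl⟩

theorem pre_St (D : Submodule F (I8 → F)) : pre (quadFormPlus 4 F) (St D) ≤ SW D := by
  rintro _ ⟨_, ⟨s, hs, rfl⟩, rfl⟩
  exact sw_of ((mem_St (ph_og s)).1 hs)

theorem card_le_pre (R : Subgroup (T8 F)) : Nat.card R ≤ Nat.card (pre (quadFormPlus 4 F) R) := by
  rw [pre, Subgroup.card_map_of_injective (Subgroup.subtype_injective _),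
    Subgroup.card_map_of_injective (Subgroup.subtype_injective _)]
  refine Nat.card_le_card_of_surjective (fun s => ⟨_, s.2⟩) fun y => ?_
  (have h_ob := QuotientGroup.mk'_surjective _ y.1
   revert h_ob; rintro (⟨s, hs⟩))
  exact ⟨⟨s, show QuotientGroup.mk' _ s ∈ R from hs ▸ y.2⟩, Subtype.ext hs⟩

/-- the image of a subspace -/
def gim (N : Gam (plusQ 4 F)) (D : Submodule F (I8 → F)) : Submodule F (I8 → F) where
  carrier := N.1 '' D
  add_mem' := by
    obtain ⟨σ, c, hN⟩ := N.2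
    rintro _ _ ⟨a, ha, rfl⟩ ⟨b, hb, rfl⟩
    exact ⟨a + b, D.add_mem ha hb, hN.add a b⟩
  zero_mem' := by
    obtain ⟨σ, c, hN⟩ := N.2
    exact ⟨0, D.zero_mem, hN.map_zero⟩
  smul_mem' := by
    obtain ⟨σ, c, hN⟩ := N.2
    rintro c _ ⟨b, hb, rfl⟩
    exact ⟨σ.symm c • b, D.smul_mem _ hb, by rw [hN.smul, RingEquiv.apply_symm_apply]⟩

theorem finrank_gim (N : Gam (plusQ 4 F)) (D : Submodule F (I8 → F)) : finrank F (gim N D) = finrank F D := by
  have h1 : Nat.card (gim N D) = Nat.card D := Nat.card_image_of_injective N.1.injective (D : Set (I8 → F))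
  rw [Module.natCard_eq_pow_finrank (K := F), Module.natCard_eq_pow_finrank (K := F) (V := D)] at h1
  exact Nat.pow_right_injective Finite.one_lt_card h1

theorem index_point {U : Submodule F (I8 → F)} (h1 : finrank F U = 1) (hU : An U) : Nat.card F ^ 6 ≤ (St U).index := by
  obtain ⟨v, hv, hv0⟩ := (Submodule.ne_bot_iff U).1 fun e => by rw [e, finrank_bot] at h1; omega
  have hq : quadFormPlus 4 F v ≠ 0 := fun e => hv0 (hU v hv e)
  have h2 : Submodule.span F {v} = U :=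
    Submodule.eq_of_le_of_finrank_eq ((Submodule.span_singleton_le_iff_mem _ _).2 hv) (by rw [finrank_span_singleton hv0, h1])
  let w : (Fin 3 → F) × (Fin 3 → F) → I8 → F := fun z =>
    Sum.elim (Fin.cons 1 z.1) (Fin.cons (quadFormPlus 4 F v - ∑ i, z.1 i * z.2 i) z.2)
  have hw : ∀ z, quadFormPlus 4 F (w z) = quadFormPlus 4 F v := fun z => by
    rw [LieClassical.OrthForms.quadFormPlus_apply, Fin.sum_univ_succ]
    simp [w]
  choose g hg using fun z => H886.O8R.exists_map hq (hw z)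
  have h3 := le_index (St U) (fun z => (QuotientGroup.mk (g z) : T8 F)) fun z z' e => by
    have h4 := (mem_St (ph_og ((g z)⁻¹ * g z'))).1 e v hv
    rw [← h2] at h4
    obtain ⟨c, hc⟩ := Submodule.mem_span_singleton.1 h4
    have h5 := congrArg (H886.O8R.om F (g z)) (hc.trans (show _ = H886.O8R.om F ((g z)⁻¹ * g z') v from rfl))
    simp only [map_smul, hg, ← LinearEquiv.mul_apply, ← map_mul, mul_inv_cancel_left, hg] at h5
    have h6 : c = 1 := by simpa [w] using congrFun h5 (.inl 0)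
    rw [h6, one_smul] at h5
    exact Prod.ext (funext fun i => by simpa [w] using congrFun h5 (.inl i.succ))
      (funext fun i => by simpa [w] using congrFun h5 (.inr i.succ))
  rwa [Nat.card_prod, Nat.card_fun, Nat.card_eq_fintype_card (α := Fin 3), Fintype.card_fin, ← pow_add] at h3

theorem num_plane {q i n : ℕ} (hq : 4 ≤ q) (h1 : q ^ 12 * (q ^ 2 - 1) * (q ^ 4 - 1) ^ 2 * (q ^ 6 - 1) ≤ n * i * 4)
    (h2 : 2 * n ≤ 2 * (q + 1) * (2 * (q ^ 6 * (q ^ 2 - 1) * (q ^ 3 + 1) * (q ^ 4 - 1)))) : q ^ 10 < i := by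
  by_contra hc
  have e2 : 1 < q ^ 2 := Nat.one_lt_pow (by omega) (by omega)
  have e4 : 1 < q ^ 4 := Nat.one_lt_pow (by omega) (by omega)
  have e6 : 1 < q ^ 6 := Nat.one_lt_pow (by omega) (by omega)
  zify [e2.le, e4.le, e6.le] at h1 h2 hq hc e2 e4
  generalize (q : ℤ) = x at *
  have h3 : (n : ℤ) * i * 4 ≤ 2 * (x + 1) * (x ^ 6 * (x ^ 2 - 1) * (x ^ 3 + 1) * (x ^ 4 - 1)) * x ^ 10 * 4 := by
    have k1 : (n : ℤ) ≤ 2 * (x + 1) * (x ^ 6 * (x ^ 2 - 1) * (x ^ 3 + 1) * (x ^ 4 - 1)) := by linarith only [h2]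
    have k2 : (0 : ℤ) ≤ n := Int.natCast_nonneg n
    exact mul_le_mul_of_nonneg_right (mul_le_mul k1 (not_lt.1 hc) (Int.natCast_nonneg i) (k2.trans k1)) (by norm_num)
  have h4 : 0 < x ^ 12 * (x ^ 2 - 1) * (x ^ 4 - 1) * (x + 1) * (x ^ 3 + 1) := by
    have : 0 < x ^ 2 - 1 := by linarith
    have : 0 < x ^ 4 - 1 := by linarith
    have : 0 < x := by linarith
    (clear * - hq e2 e4; positivity)
  have h5 : (x ^ 2 + 1) * (x - 1) * (x ^ 3 - 1) ≤ 8 * x ^ 4 :=
    le_of_mul_le_mul_left (by linear_combination h1 + h3) h4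
  obtain ⟨y, rfl⟩ : ∃ y, x = y + 4 := ⟨x - 4, by ring⟩
  have hy : 0 ≤ y := by linarith only [hq]
  have h6 : 0 < ((y + 4) ^ 2 + 1) * (y + 4 - 1) * ((y + 4) ^ 3 - 1) - 8 * (y + 4) ^ 4 := by
    ring_nf
    (clear * - hy; positivity)
  linarith only [h5, h6]

theorem index_plane (hq : 4 ≤ Nat.card F) {U : Submodule F (I8 → F)} (h1 : finrank F U = 2) (hU : An U) :
    Nat.card F ^ 10 < (St U).index := by
  have hF : Nat.card F = Nat.card F ^ 1 := (pow_one _).symm
  have h2 := H832.O8R.card_t8 hF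
  have : Finite ((I8 → F) ≃ₗ[F] (I8 → F)) := Finite.of_injective _ DFunLike.coe_injective
  have h3 := Nat.le_of_dvd Nat.card_pos (H372.O8R.two_mul_dvd h1 hU (pre_St U))
  have h4 := Nat.le_of_dvd (Nat.mul_pos Nat.card_pos Nat.card_pos)
    (H372.O8R.card_StO_dvd H372.O8R.nd_Q8 (H372.O8R.nondeg_W h1 hU))
  rw [H372.O8R.card_O_W hF h1 hU, H372.O8R.card_O_perp hF h1 hU, pow_one] at h4
  have h5 := card_le_pre (St U)
  rw [pow_one, ← (St U).card_mul_index] at h2
  refine num_plane hq (n := Nat.card (St U)) (h2 ▸ Nat.mul_le_mul_left _ ?_) (by omega)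
  exact Nat.pow_le_pow_left (Nat.gcd_le_left _ two_pos) 2

theorem si_conj {M : Gam (plusQ 4 F)} {τ : F ≃+* F} {c : F} (hτ : τ ≠ RingEquiv.refl F) (hM : IsSS (plusQ 4 F) τ c M.1)
    (hMM : M * M = 1) (A : Gam (plusQ 4 F)) : ∃ τ' : F ≃+* F, SI τ' (A⁻¹ * M * A).1 := by
  obtain ⟨σA, cA, hA⟩ := A.2
  have h1 : IsSS (plusQ 4 F) _ _ (A⁻¹ * M * A).1 := (hA.inv.mul hM).mul hA
  have h2 : ∀ v, (A⁻¹ * M * A).1 ((A⁻¹ * M * A).1 v) = v := fun v => by
    have h3 : A⁻¹ * M * A * (A⁻¹ * M * A) = 1 := by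
      rw [show A⁻¹ * M * A * (A⁻¹ * M * A) = A⁻¹ * (M * M) * A by group, hMM, mul_one, inv_mul_cancel]
    exact congrArg (fun k : Gam (plusQ 4 F) => k.1 v) h3
  refine ⟨_, h1.add, h1.smul, h2, fun a => ?_, ?_⟩
  · have h4 := h2 (a • Pi.single (.inl 0) 1)
    rw [h1.smul, h1.smul, h2] at h4
    simpa using congrFun h4 (.inl 0)
  · by_contra hc
    refine hτ (RingEquiv.ext fun a => ?_)
    have h6 : σA.symm (τ (σA (σA.symm a))) = σA.symm a := by_contra fun e => hc ⟨_, e⟩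
    rw [RingEquiv.apply_symm_apply] at h6
    exact σA.symm.injective h6

/-- the orbit of a stable subspace under a group centralised by the involution -/
theorem orbit_le {σ α : MulAut (T8 F)} {M : Gam (plusQ 4 F)} (h : α * σ * α⁻¹ = ph F M) {X : Subgroup (T8 F)}
    (hX : ∀ x ∈ X, σ x = x) {D : Submodule F (I8 → F)} (hM : Stb M D) : ((St D).comap α.toMonoidHom).relIndex X ≤
      Nat.card {D' : Submodule F (I8 → F) // (∀ d ∈ D', M.1 d ∈ D') ∧ finrank F D' = finrank F D} := by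
  choose L hL using fun x : X => exists_lift (α x)
  have : Finite (Submodule F (I8 → F)) := Finite.of_injective _ SetLike.coe_injective
  have h1 : ∀ x, Stb M (gim (L x) D) := fun x => by
    have h2 := comm_conj h (conj_comm (hX x x.2)) ((hL x).trans (conj_map α x))
    simp only [← map_mul, ← map_mul, inv_mul_eq_one] at h2
    obtain ⟨a, ha⟩ := smul_of_one (N := L x * M) (N' := M * L x) (by simp only [map_mul, map_inv, h2, inv_mul_cancel])
    rintro _ ⟨d, hd, rfl⟩
    exact ⟨_, hM _ (D.smul_mem a hd), (ha d).symm⟩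
  refine relIndex_le _ X (fun x => ⟨gim (L x) D, h1 x, finrank_gim _ _⟩) fun x x' e => ?_
  have h2 : gim (L x) D = gim (L x') D := congrArg Subtype.val e
  change α ((x : T8 F)⁻¹ * x') ∈ St D
  refine (mem_St (N := (L x)⁻¹ * L x') ?_).2 fun d hd => ?_
  · simp only [map_mul (ph F), map_inv (ph F), hL, hL, map_mul α, map_inv α, map_mul MulAut.conj, map_inv MulAut.conj]
  · have h3 : (L x').1 d ∈ gim (L x') D := ⟨d, hd, rfl⟩
    rw [← h2] at h3
    obtain ⟨d', hd', e'⟩ := h3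
    rw [show ((L x)⁻¹ * L x').1 d = (L x).1⁻¹ ((L x').1 d) from rfl, ← e', inv_apply]
    exact hd'

theorem not_le {M : Gam (plusQ 4 F)} {τ : F ≃+* F} (hτ : SI τ M.1) {U : Submodule F (I8 → F)}
    (hU : finrank F U = 1 ∨ finrank F U = 2) (hA : An U) {k : ℕ} (h0 : 0 < k) (hd : k ≤ finrank F U ^ 2) :
    ¬ (St U).index ≤ Nat.card {D' : Submodule F (I8 → F) // (∀ d ∈ D', M.1 d ∈ D') ∧ finrank F D' = k} := by
  intro h1
  have h3 := (Nat.mul_le_mul_right _ h1).trans (hτ.count k)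
  have hs : 1 < Nat.card (F1 τ) := Finite.one_lt_card
  have hq := hτ.card_field
  rw [H372.O8R.dim_Q8] at h3
  rcases hU with e | e
  · have h4 := (Nat.mul_le_mul_right _ (index_point e hA)).trans h3
    rw [hq, ← pow_mul, ← pow_add, show k = 1 by rw [e] at hd; omega] at h4
    exact absurd ((Nat.pow_le_pow_iff_right hs).1 h4) (by norm_num)
  · have h4 := (Nat.mul_lt_mul_of_pos_right (index_plane (by rw [hq]; nlinarith only [hs]) e hA) (Nat.pow_pos (by omega))).trans_le h3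
    rw [hq, ← pow_mul, ← pow_add] at h4
    have h5 := (Nat.pow_lt_pow_iff_right hs).1 h4
    rw [e] at hd
    have : k ≤ 4 := hd
    interval_cases k <;> omega

theorem index_le {G : Type} [Group G] [Finite G] {X Y S : Subgroup G} (hP : Pd X Y) (h : X ⊓ S ≤ Y) :
    Y.index ≤ S.relIndex X := by
  rw [← hP.relIndex, ← Subgroup.inf_relIndex_right S]
  exact Nat.le_of_dvd (Nat.pos_of_ne_zero Subgroup.FiniteIndex.index_ne_zero)
    (Subgroup.relIndex_dvd_of_le_left _ (by rwa [inf_comm]))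

end M1

open M1

seal MulAut.conj isometryGroup _root_.commutator Subgroup.center H198.OrthFrame.Phi QuotientGroup.leftRel

theorem boxM1 : BoxM1 := by
  rintro F _ _ σ U X ⟨γ, M₀, τ₀, c₀, hτ₀, hM₀, hMM, hγ⟩ hn hU hA hX hP
  (have h_ob : ∃ (A : Gam (plusQ 4 F)) (α : MulAut (T8 F)) (f : (I8 → F) → (I8 → F) → I8 → F),
      Tw (ph F) σ α (A⁻¹ * M₀ * A) f := tw_phi (plusQ_eq 4 F) (good_plusQ (F := F) (m := 4) (by norm_num)) hMM hγ hn
   revert h_ob; rintro (⟨A, α, f, T⟩))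
  (have h_ob := si_conj hτ₀ hM₀ hMM A
   revert h_ob; rintro (⟨τ, hτ⟩))
  generalize A⁻¹ * M₀ * A = M at T hτ
  have key : ∀ N : Gam (plusQ 4 F), ph F N * σ = σ * ph F N → Stb N U → ∃ N' : Gam (plusQ 4 F),
      ph F N' = α * ph F N * α⁻¹ ∧ Stb N' (Submodule.span F {z | ∃ x ∈ U, ∃ y ∈ U, f x y = z}) := fun N hN hS => by
    (have h_ob := T.eqv N hN
     revert h_ob; rintro (⟨N', h1, h2⟩))
    refine ⟨N', h1, stb_span ?_⟩
    rintro _ ⟨x, hx, y, hy, rfl⟩
    obtain ⟨c, hc⟩ := h2 x y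
    rw [hc]
    exact Submodule.smul_mem _ c (Submodule.subset_span ⟨_, hS x hx, _, hS y hy, rfl⟩)
  have hM : Stb M (Submodule.span F {z | ∃ x ∈ U, ∃ y ∈ U, f x y = z}) := stb_span (by
    rintro _ ⟨x, hx, y, hy, rfl⟩
    obtain ⟨c, hc⟩ := T.swap x y
    rw [hc]
    exact Submodule.smul_mem _ c (Submodule.subset_span ⟨_, hy, _, hx, rfl⟩))
  have hd := finrank_span_le T.addl T.addr T.smull T.smulr U
  have h0 : Submodule.span F {z | ∃ x ∈ U, ∃ y ∈ U, f x y = z} ≠ ⊥ := by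
    obtain ⟨v, hv, hv0⟩ := (Submodule.ne_bot_iff U).1 fun e => by rw [e, finrank_bot] at hU; omega
    exact (Submodule.ne_bot_iff _).2 ⟨f v v, Submodule.subset_span ⟨v, hv, v, hv, rfl⟩, fun e =>
      T.ne v (fun k => hv0 (hA v hv k)) (by rw [e, map_zero])⟩
  generalize Submodule.span F {z | ∃ x ∈ U, ∃ y ∈ U, f x y = z} = D at key hM hd h0
  refine ⟨α, D, h0, hd.trans (by rcases hU with e | e <;> rw [e] <;> norm_num), fun x hx => ?_, fun hle => ?_, fun N hN hS x hx => ?_⟩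
  · obtain ⟨N, hN⟩ := exists_lift x
    obtain ⟨N', h1, h2⟩ := key N (by simp only [hN]; exact conj_comm (hX x hx.1)) ((mem_St hN).1 hx.2)
    simp only [hN, ← conj_map] at h1
    exact (mem_St h1).2 h2
  · exact not_le hτ hU hA (Nat.pos_of_ne_zero fun e => h0 (Submodule.finrank_eq_zero.1 e)) hd
      ((index_le hP hle).trans (orbit_le T.conj hX hM))
  · (have h_ob := key N hN hS
     revert h_ob; rintro (⟨N', h1, h2⟩))
    (have h_ob := exists_lift (α x)
     revert h_ob; rintro (⟨Y, hY⟩))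
    change α (ph F N x) ∈ St D
    rw [apply_conj h1]
    refine (mem_St (N := N' * Y * N'⁻¹) ?_).2 ((h2.mul ((mem_St hY).1 hx)).mul h2.inv)
    simp only [_root_.MonoidHom.map_mul (ph F), _root_.MonoidHom.map_mul (ph F), _root_.MonoidHom.map_inv (ph F), hY]
    exact (conj_map _ _).symm

end Cfsg.Agent.SM.O8

private theorem dce_b078868ccb2c : _root_.True := by
  try have : _root_.True := by simp only [_root_.Cfsg.Agent.H884.El.pre.eq_1]
  exact _root_.True.intro
end

-- part: SM/O8/Min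
section
prune_inst 0x10074442822000000000010400000601000000000008000000102000a0100000000000002200001400000800000006811000000420000000a000000000000000000000000000000200006000080000000000000000000000000000000000000000000000
set_option linter.all false
open scoped Cfsg.Agent.FastGrp

/-!
# SM (S3570), socle `PΩ⁺₈(q)`, box Min: `Ω⁻₈(q₀)` is a subfield subgroup in one of the three modules (helper37)
-/

set_option autoImplicit false
set_option linter.unusedSectionVars false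
set_option maxHeartbeats 400000

namespace Cfsg.Agent.SM.O8

open Module QuadraticMap Cfsg Cfsg.Geo Cfsg.Agent.LieClassical.OrthCore Cfsg.Agent.LieClassical.OrthTrans
  Cfsg.Agent.LieClassical.OrthForms
open Cfsg.Agent.H884.El (pre lin PP pre_le pre_le_omegaGL)
open Cfsg.Agent.H708.O8 (I8 T8 OO pj vl pj_surjective mem_pre8 vl_iso exists_vl vl_injective)
open Cfsg.Agent.H823.O8S (lin_mul_apply lin_inv_apply lin_apply_inv)
open Cfsg.Agent.H683.O8R (Sub2)
open Cfsg.Agent.H60.O8R (bb ext_bb rat rat_Q)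
open Cfsg.Agent.H198.Carriers (plusQ good_plusQ)
open Cfsg.Agent.H198.OrthFrame (Phi_mk exists_conj Phi_eq_one_iff exists_perm perm_apply)
open Cfsg.Agent.ClassicalGeometry.OrthSemi (Gam IsSS)
open Cfsg.Agent.H915.LD (Core core_of_residual)
open Cfsg.Agent.H905.Md (prj scalars_comm)
open scoped MatrixGroups Matrix commutatorElement

namespace Mi

variable {F : Type} [Field F] [Fintype F] {R N : Subgroup (T8 F)} {P : Subgroup (GL I8 F)}

/-! ### the image of the core -/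

theorem pj_eq_one {x : OO F} : pj F x = 1 ↔ vl F x ∈ scalars I8 F := by
  constructor
  · intro h
    obtain ⟨e, he, h1⟩ := pj_scal (x := 1) (y := x) (by rw [map_one, h])
    refine (mem_scalars_iff _).2 ⟨Units.mk0 e he, Matrix.toLin'.injective (LinearMap.ext fun v => ?_)⟩
    rw [map_one, H884.El.lin_one] at h1
    rw [_root_.LinearEquiv.map_smul, Matrix.toLin'_one]
    exact h1 v
  · intro h
    refine (QuotientGroup.eq_one_iff x).2 (Subgroup.mem_center_iff.2 fun y => vl_injective ?_)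
    simp only [_root_.MonoidHom.map_mul, _root_.MonoidHom.map_mul]
    exact scalars_comm h _

theorem pj_eq_of_smul {x y : OO F} {e : F} (he : e ≠ 0) (h : ∀ v, lin (vl F y) v = e • lin (vl F x) v) : pj F y = pj F x := by
  rw [← mul_inv_eq_one, ← _root_.MonoidHom.map_inv, ← _root_.MonoidHom.map_mul, pj_eq_one]
  refine (mem_scalars_iff _).2 ⟨Units.mk0 e he, Matrix.toLin'.injective (LinearMap.ext fun v => ?_)⟩
  simp only [map_smul, Matrix.toLin'_one]
  change lin (vl F (y * x⁻¹)) v = e • v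
  rw [_root_.MonoidHom.map_mul, _root_.MonoidHom.map_inv, lin_mul_apply, h, lin_apply_inv]

/-- the elements of `P` as elements of `Ω` -/
noncomputable def lf (hP : P ≤ omegaGL (quadFormPlus 4 F)) : P →* OO F where
  toFun g := (exists_vl (hP g.2)).choose
  map_one' := vl_injective (by rw [(exists_vl (hP (1 : P).2)).choose_spec, map_one]; rfl)
  map_mul' g h := vl_injective (by
    rw [(exists_vl (hP (g * h).2)).choose_spec, map_mul, (exists_vl (hP g.2)).choose_spec, (exists_vl (hP h.2)).choose_spec]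
    rfl)

theorem vl_lf (hP : P ≤ omegaGL (quadFormPlus 4 F)) (g : P) : vl F (lf hP g) = g := (exists_vl (hP g.2)).choose_spec

/-- `N` is the socle of `R` -/
structure So (R N : Subgroup (T8 F)) : Prop where
  le : N ≤ R
  conj : ∀ g ∈ R, ∀ x ∈ N, g * x * g⁻¹ ∈ N
  simple : IsSimpleGroup N
  cen : ∀ g ∈ R, (∀ x ∈ N, g * x = x * g) → g = 1

theorem So.im (h : So R N) (α : MulAut (T8 F)) : So (im α R) (im α N) where
  le := Subgroup.map_mono h.le
  conj := by
    rintro _ ⟨g, hg, rfl⟩ _ ⟨x, hx, rfl⟩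
    exact ⟨_, h.conj g hg x hx, by simp only [map_mul, map_mul, map_inv]⟩
  simple := (α.subgroupMap N).isSimpleGroup_congr.1 h.simple
  cen := by
    rintro _ ⟨g, hg, rfl⟩ hc
    simp only [h.cen g hg fun x hx => α.injective (by rw [map_mul, map_mul]; exact hc _ ⟨x, hx, rfl⟩), _root_.MonoidHom.map_one]

theorem exists_iso (h : So R N) (hP : IsResidualCore (pre (quadFormPlus 4 F) R) P) :
    ∃ (l : P →* OO F) (e : H915.LD.Soc P ≃* N), (∀ g, vl F (l g) = g) ∧ ∀ g : P, ((prj e g : N) : T8 F) = pj F (l g) := by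
  have hle := hP.le.trans pre_le_omegaGL
  set π : P →* T8 F := (pj F).comp (lf hle) with hπ
  have hker : (scalars I8 F).subgroupOf P = π.ker := by
    ext g
    rw [MonoidHom.mem_ker, hπ, MonoidHom.comp_apply, pj_eq_one, vl_lf, Subgroup.mem_subgroupOf]
  let e : H915.LD.Soc P ≃* π.range := (QuotientGroup.quotientMulEquivOfEq hker).trans (QuotientGroup.quotientKerEquivRange π)
  have hs : IsSimpleGroup π.range := e.isSimpleGroup_congr.1 hP.simple
  have hR : π.range ≤ R := by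
    rintro _ ⟨g, rfl⟩
    refine mem_pre8.1 ?_
    rw [vl_lf]
    exact hP.le g.2
  have hc : ∀ g ∈ R, ∀ x ∈ π.range, g * x * g⁻¹ ∈ π.range := by
    rintro g hg _ ⟨x, rfl⟩
    (have h_ob := pj_surjective g
     revert h_ob; rintro (⟨g, rfl⟩))
    refine ⟨⟨_, hP.normal _ (mem_pre8.2 hg) x x.2⟩, ?_⟩
    simp only [hπ, MonoidHom.comp_apply, MonoidHom.comp_apply, ← _root_.MonoidHom.map_inv (pj F), ← _root_.MonoidHom.map_mul (pj F), ← _root_.MonoidHom.map_mul (pj F)]
    congr 1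
    apply vl_injective
    simp only [_root_.MonoidHom.map_mul, _root_.MonoidHom.map_mul, _root_.MonoidHom.map_inv, vl_lf, vl_lf]
  have hN := h.simple
  have h1 : N ≤ π.range := by
    have hn : (π.range.subgroupOf N).Normal := ⟨fun x hx g => hc g (h.le g.2) x hx⟩
    rcases hn.eq_bot_or_eq_top with h2 | h2
    · exfalso
      obtain ⟨y, hy⟩ := exists_ne (1 : π.range)
      refine hy (Subtype.ext (h.cen y (hR y.2) fun x hx => ?_))
      have h3 : (y : T8 F) * x * (y : T8 F)⁻¹ * x⁻¹ ∈ N := N.mul_mem (h.conj y (hR y.2) x hx) (N.inv_mem hx)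
      have h4 : (⟨_, h3⟩ : N) ∈ π.range.subgroupOf N := by
        have h5 := π.range.mul_mem y.2 (hc x (h.le hx) _ (π.range.inv_mem y.2))
        rw [← mul_assoc, ← mul_assoc] at h5
        exact h5
      simp only [h2, Subgroup.mem_bot] at h4
      have h5 : (y : T8 F) * x * (y : T8 F)⁻¹ * x⁻¹ = 1 := congrArg Subtype.val h4
      rwa [mul_inv_eq_one, mul_inv_eq_iff_eq_mul] at h5
    · exact Subgroup.subgroupOf_eq_top.1 h2
  have h2 : π.range ≤ N := by
    have hn : (N.subgroupOf π.range).Normal := ⟨fun x hx g => h.conj g (hR g.2) x hx⟩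
    rcases hn.eq_bot_or_eq_top with h2 | h2
    · exfalso
      obtain ⟨y, hy⟩ := exists_ne (1 : N)
      have h4 : (⟨y, h1 y.2⟩ : π.range) ∈ N.subgroupOf π.range := y.2
      simp only [h2, Subgroup.mem_bot] at h4
      have h5 : (y : T8 F) = 1 := congrArg Subtype.val h4
      exact hy (Subtype.ext h5)
    · exact Subgroup.subgroupOf_eq_top.1 h2
  exact ⟨lf hle, e.trans (MulEquiv.subgroupCongr (le_antisymm h2 h1)), vl_lf hle, fun g => rfl⟩

/-! ### not a core in all modules -/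

theorem not_all {p a : ℕ} [hp : Fact p.Prime] (ha : 1 ≤ a) (hF : Nat.card F = p ^ a) (h : So R N) {K : Type} [Field K] [Fintype K]
    [CharP K p] {c d : K} (hK : Fintype.card K ^ 2 = p ^ a)
    (hcd : ∀ z₁ z₂ : K, z₁ ^ 2 + c * z₁ * z₂ + d * z₂ ^ 2 = 0 → z₁ = 0 ∧ z₂ = 0) (ε : N ≃* POmega K ⇑(minusForm 3 K c d))
    (hall : ∀ α : MulAut (T8 F), InOrthogonalResidualClass (pre (quadFormPlus 4 F) (im α R))) : False := by
  have hch : CharP F p := charP_of_card_eq_prime_pow (p := p) (f := a) (by rw [← hF, Nat.card_eq_fintype_card])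
  have h2 : 2 ≤ Fintype.card K := Fintype.one_lt_card
  have hne : IsEmpty (K ≃+* F) := ⟨fun τ => by
    have h1 := Fintype.card_congr τ.toEquiv
    rw [← Nat.card_eq_fintype_card (α := F), hF, ← hK] at h1
    nlinarith⟩
  obtain ⟨t, ht1, ht2⟩ := Cfsg.Agent.Lib.Zsigmondy.exists_prime_orderOf (a := Fintype.card K) (n := 3) h2 (by omega)
    (fun h => by omega) (by omega)
  have ht : PP (Fintype.card K) 3 t := ⟨ht1, ht2⟩
  have ht' : PP (Nat.card F) 3 t := by
    refine ⟨ht1, ?_⟩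
    rw [hF, ← hK, Nat.cast_pow, orderOf_pow' _ (by norm_num), ht2]
    rfl
  let ψ : E (minusForm 3 K c d) →* T8 F := N.subtype.comp (ε.symm.toMonoidHom.comp (f0 hcd))
  obtain ⟨z, hz, hzo⟩ := exists_ord hcd p ht1 (by
    rw [Nat.card_eq_fintype_card]
    exact (ht.dvd_iff (by omega) 3).2 dvd_rfl) (by
    rw [Nat.card_eq_fintype_card]
    intro h3
    have h4 := (ht.dvd_iff (by omega) 1).1 (by rwa [pow_one])
    omega)
  refine flag_false ha hF ((U0_pgroup hcd p).map ψ) ht' (L := (L0 hcd).map ψ) ?_ fun α v hv => ?_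
  · have h3 : orderOf (⟨ψ z, z, hz, rfl⟩ : (L0 hcd).map ψ) = t := by
      rw [← Subgroup.orderOf_coe, ← hzo]
      exact (Subgroup.orderOf_coe (ε.symm (f0 hcd z))).trans (ε.symm.orderOf_eq _)
    rw [← h3]
    exact orderOf_dvd_natCard _
  · obtain ⟨P, hP, -⟩ := hall α
    obtain ⟨l, e, hl, he⟩ := exists_iso (h.im α) hP
    have key : ∀ (g : P) (x : E (minusForm 3 K c d)),
        prj (e.trans ((α.subgroupMap N).symm.trans ε)) g = f0 hcd x → pj F (l g) = α (ψ x) := by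
      intro g x hx
      have h3 : ε ((α.subgroupMap N).symm (prj e g)) = f0 hcd x := hx
      have h4 : prj e g = α.subgroupMap N (ε.symm (f0 hcd x)) :=
        (α.subgroupMap N).symm_apply_eq.1 (ε.eq_symm_apply.2 h3)
      (simp only [← he]; simp +singlePass only [h4])
      rfl
    rintro _ ⟨_, ⟨x, hx, rfl⟩, rfl⟩
    (have h_ob := keep hcd p (core_of_residual hP) (by simp) hne (e.trans ((α.subgroupMap N).symm.trans ε)) (v := v)
      (by
        rintro g ⟨u, hu, hgu⟩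
        have h3 : pj F (l g) ∈ pt v := by
          rw [key g u hgu]
          exact hv ⟨_, ⟨u, hu, rfl⟩, rfl⟩
        obtain ⟨c, hc⟩ := mem_pt.1 h3
        rw [hl, Matrix.toLin'_apply] at hc
        exact ⟨c, hc⟩) x hx
     revert h_ob; rintro (⟨g, hg, hgv⟩))
    change α (ψ x) ∈ pt v
    rw [← key g x hg]
    refine mem_pt.2 ⟨1, ?_⟩
    rw [hl, Matrix.toLin'_apply, hgv, one_smul]

/-! ### the semilinear involution -/

seal MulAut.conj isometryGroup _root_.commutator Subgroup.center H198.OrthFrame.Phi QuotientGroup.leftRel in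
theorem exists_inv (h : Sub2 (pre (quadFormPlus 4 F) R)) : ∃ (M : Gam (plusQ 4 F)) (τ : F ≃+* F) (c : F),
    τ ≠ RingEquiv.refl F ∧ IsSS (plusQ 4 F) τ c M.1 ∧ M * M = 1 ∧ ∀ x ∈ R, ph F M x = x := by
  obtain ⟨hirr, F₁, B, ζ, hζ, hF, hB, hH⟩ := h
  have hG := good_plusQ (F := F) (m := 4) (by norm_num)
  have hiso : ∀ g ∈ pre (quadFormPlus 4 F) R, ∀ v, plusQ 4 F (lin g v) = plusQ 4 F v := fun g hg v =>
    (by with_reducible_and_instances exact (H884.El.lin_iso (Q := plusQ 4 F) pre_le hg v))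
  have hr := rat_Q (Q := plusQ 4 F) hG.nondeg hζ hB (by simp) hF hiso hirr hH
  (have h_ob := NT.exists_tau hF
   revert h_ob; rintro (⟨τ, hτ, hττ, θ, hθ⟩))
  have hsp : ∀ x, x ∈ Submodule.span F (Set.range (bb (F₁ := F₁) B)) := by
    intro x
    have h1 := ext_bb (F₁ := F₁) B (f := (Submodule.span F (Set.range (bb (F₁ := F₁) B))).mkQ) (g := 0) fun u =>
      (Submodule.Quotient.mk_eq_zero _).2 (Submodule.subset_span ⟨u, rfl⟩)
    exact (Submodule.Quotient.mk_eq_zero _).1 (LinearMap.congr_fun h1 x)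
  have h0 : NT.sg τ B 0 = 0 := by
    have h1 := NT.sg_smul (τ := τ) (B := B) 0 0
    rwa [zero_smul, map_zero, zero_smul] at h1
  have hpol : ∀ x y, ζ * polar (plusQ 4 F) (NT.sg τ B x) (NT.sg τ B y) = τ (ζ * polar (plusQ 4 F) x y) := by
    intro x y
    induction hsp x using Submodule.span_induction with
    | mem x hx =>
      obtain ⟨u, rfl⟩ := hx
      induction hsp y using Submodule.span_induction with
      | mem y hy =>
        obtain ⟨v, rfl⟩ := hy
        rw [NT.sg_bb hτ, NT.sg_bb hτ]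
        exact (hτ ⟨_, rat (Q := plusQ 4 F) hB u v⟩).symm
      | zero => rw [h0, polar_zero_right, polar_zero_right, mul_zero, map_zero]
      | add y z _ _ hy hz => rw [NT.sg_add, polar_add_right, polar_add_right, mul_add, mul_add, map_add, hy, hz]
      | smul a y _ hy =>
        rw [NT.sg_smul, polar_smul_right, polar_smul_right, smul_eq_mul, smul_eq_mul, mul_left_comm, hy, mul_left_comm ζ, map_mul τ a]
    | zero => rw [h0, polar_zero_left, polar_zero_left, mul_zero, map_zero]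
    | add x z _ _ hx hz => rw [NT.sg_add, polar_add_left, polar_add_left, mul_add, mul_add, map_add, hx, hz]
    | smul a x _ hx =>
      rw [NT.sg_smul, polar_smul_left, polar_smul_left, smul_eq_mul, smul_eq_mul, mul_left_comm, hx, mul_left_comm ζ, map_mul τ a]
  have hQ : ∀ x, ζ * plusQ 4 F (NT.sg τ B x) = τ (ζ * plusQ 4 F x) := by
    intro x
    induction hsp x using Submodule.span_induction with
    | mem x hx =>
      obtain ⟨u, rfl⟩ := hx
      rw [NT.sg_bb hτ]
      exact (hτ ⟨_, hr u⟩).symm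
    | zero => rw [h0, map_zero, mul_zero, map_zero]
    | add x z _ _ hx hz => rw [NT.sg_add, Q_add, Q_add, mul_add, mul_add, mul_add, mul_add, _root_.RingHom.map_add, _root_.RingHom.map_add, hx, hz, hpol]
    | smul a x _ hx =>
      rw [NT.sg_smul, QuadraticMap.map_smul, QuadraticMap.map_smul, smul_eq_mul, smul_eq_mul, mul_left_comm, hx, mul_left_comm ζ,
        map_mul τ (a * a), map_mul τ a]
  have hinv : Function.Involutive (NT.sg τ B) := by
    intro x
    induction hsp x using Submodule.span_induction with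
    | mem x hx =>
      obtain ⟨u, rfl⟩ := hx
      rw [NT.sg_bb hτ, NT.sg_bb hτ]
    | zero => rw [h0, h0]
    | add x z _ _ hx hz => rw [NT.sg_add, NT.sg_add, hx, hz]
    | smul a x _ hx => rw [NT.sg_smul, NT.sg_smul, hττ, hx]
  let τ' : F ≃+* F := RingEquiv.ofBijective τ (Function.Involutive.bijective hττ)
  have hSS : IsSS (plusQ 4 F) τ' (ζ⁻¹ * τ ζ) hinv.toPerm :=
    { ne := mul_ne_zero (inv_ne_zero hζ) ((map_ne_zero τ).2 hζ)
      add := NT.sg_add
      smul := NT.sg_smul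
      form := fun v => by
        change plusQ 4 F (NT.sg τ B v) = ζ⁻¹ * τ ζ * τ (plusQ 4 F v)
        rw [mul_assoc, ← map_mul, ← hQ, inv_mul_cancel_left₀ hζ] }
  refine ⟨⟨hinv.toPerm, τ', _, hSS⟩, τ', _, fun h => hθ (DFunLike.congr_fun h θ), hSS,
    Subtype.ext (Equiv.ext hinv), fun x hx => ?_⟩
  (have h_ob := pj_surjective x
   revert h_ob; rintro (⟨s, rfl⟩))
  (have h_ob := exists_conj hG ⟨hinv.toPerm, τ', _, hSS⟩ s
   revert h_ob; rintro (⟨s', hs'⟩))
  (have h_ob := NT.sg_lin (Q := plusQ 4 F) hG.nondeg hζ hB hτ (hiso _ (mem_pre8.2 hx)) (hH (mem_pre8.2 hx))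
   revert h_ob; rintro (⟨ε, hε, h1⟩))
  refine (Phi_mk hG _ hs').trans (pj_eq_of_smul (x := s) (y := s') (e := ε) (fun h => ?_) fun v => ?_)
  · rw [h, mul_zero] at hε
    exact zero_ne_one hε
  · (have h_ob := hinv.surjective v
     revert h_ob; rintro (⟨v, rfl⟩))
    exact (hs' v).trans (h1 v)

seal MulAut.conj isometryGroup _root_.commutator Subgroup.center H198.OrthFrame.Phi QuotientGroup.leftRel in
theorem ph_ne_one {M : Gam (plusQ 4 F)} {τ : F ≃+* F} {c : F} (hτ : τ ≠ RingEquiv.refl F) (h : IsSS (plusQ 4 F) τ c M.1) :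
    ph F M ≠ 1 := by
  intro h1
  obtain ⟨a, ha, h2⟩ := (Phi_eq_one_iff _ M).1 h1
  obtain ⟨v, hv⟩ := exists_ne (0 : I8 → F)
  refine hτ (RingEquiv.ext fun x => ?_)
  have h3 := h.smul x v
  rw [h2, h2, smul_smul, smul_smul] at h3
  exact mul_right_cancel₀ ha ((smul_left_injective F hv h3).symm.trans (mul_comm a x))

/-! ### the centraliser of the core -/

seal MulAut.conj isometryGroup _root_.commutator Subgroup.center H198.OrthFrame.Phi QuotientGroup.leftRel in
theorem cor (h : So R N) (hP : IsResidualCore (pre (quadFormPlus 4 F) R) P) (β : MulAut (T8 F)) (hβ : Nt β)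
    (hx : ∀ x ∈ N, β x = x) : β = 1 := by
  obtain ⟨M, rfl⟩ := hβ
  have hG := good_plusQ (F := F) (m := 4) (by norm_num)
  (have h_ob := exists_iso h hP
   revert h_ob; rintro (⟨l, e, hl, he⟩))
  (have h_ob := M.2
   revert h_ob; rintro (⟨σ, c, hM⟩))
  have h1 : ∀ g ∈ P, ∃ a : F, a ≠ 0 ∧ ∀ v, M.1 (lin g v) = a • lin g (M.1 v) := by
    intro g hg
    (have h_ob := exists_conj hG M (l ⟨g, hg⟩)
     revert h_ob; rintro (⟨s', hs'⟩))
    have h2 : pj F (l ⟨g, hg⟩) = pj F s' := (hx _ (he ⟨g, hg⟩ ▸ (prj e ⟨g, hg⟩).2)).symm.trans (Phi_mk hG M hs')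
    (have h_ob := pj_scal h2
     revert h_ob; rintro (⟨a, ha, h3⟩))
    refine ⟨a, ha, fun v => ?_⟩
    have h4 : lin (vl F s') (M.1 v) = M.1 (lin (vl F (l ⟨g, hg⟩)) v) := hs' v
    rw [h3, hl] at h4
    exact h4.symm
  let Z : Subgroup (GL I8 F) :=
    { carrier := {g | ∀ v, M.1 (lin g v) = lin g (M.1 v)}
      one_mem' := fun v => by rw [H884.El.lin_one]; rfl
      mul_mem' := fun {g k} hg hk v => by rw [lin_mul_apply, lin_mul_apply, hg, hk]
      inv_mem' := fun {g} hg v => by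
        have h2 := hg (lin g⁻¹ v)
        rw [lin_apply_inv] at h2
        rw [h2, lin_inv_apply] }
  have hZ : P ≤ Z := by
    rw [← hP.perfect, Subgroup.commutator_le]
    intro g hg k hk v
    obtain ⟨a, ha, h2⟩ := h1 g hg
    obtain ⟨b, hb, h3⟩ := h1 k hk
    have h4 : ∀ {g : GL I8 F} {a : F}, a ≠ 0 → (∀ v, M.1 (lin g v) = a • lin g (M.1 v)) →
        ∀ v, M.1 (lin g⁻¹ v) = a⁻¹ • lin g⁻¹ (M.1 v) := by
      intro g a ha h v
      have h5 := h (lin g⁻¹ v)
      rw [lin_apply_inv] at h5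
      rw [h5, map_smul, lin_inv_apply, smul_smul, inv_mul_cancel₀ ha, one_smul]
    rw [commutatorElement_def, lin_mul_apply, lin_mul_apply, lin_mul_apply, lin_mul_apply, lin_mul_apply, lin_mul_apply, h2, h3,
      h4 ha h2, h4 hb h3]
    simp only [map_smul, smul_smul]
    rw [show a * (b * (a⁻¹ * b⁻¹)) = 1 by field_simp, one_smul]
  (have h_ob := exists_perm hM
   revert h_ob; rintro (⟨A, hA, -, -⟩))
  have h2 : ∀ g ∈ P, (A : Matrix I8 I8 F) * (g : Matrix I8 I8 F).map σ = g * A := by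
    intro g hg
    refine Matrix.toLin'.injective (LinearMap.ext fun v => ?_)
    have h3 := hZ hg fun i => σ.symm (v i)
    rw [hA, perm_apply, perm_apply, Matrix.toLin'_apply, Matrix.toLin'_apply] at h3
    simp only [RingEquiv.apply_symm_apply] at h3
    rw [Matrix.toLin'_apply, Matrix.toLin'_apply, ← Matrix.mulVec_mulVec, ← Matrix.mulVec_mulVec, ← h3]
    congr 1
    funext i
    have h4 := RingHom.map_mulVec (σ : F →+* F) (g : Matrix I8 I8 F) (fun i => σ.symm (v i)) i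
    rw [show ((σ : F →+* F) ∘ fun i => σ.symm (v i)) = v from funext fun i => σ.apply_symm_apply (v i)] at h4
    exact h4.symm
  have h3 : ∀ x, σ x = x := by
    by_contra hc
    refine hP.no_subfield ((σ : F →+* F).eqLocusField (RingHom.id F)) (fun htop => hc fun x => ?_)
      (H906.realisable_of_trace hP.absIrred _ fun g hg => ?_)
    · have h4 : x ∈ (σ : F →+* F).eqLocusField (RingHom.id F) := htop ▸ Subfield.mem_top x
      exact h4
    · have h4 : (g : Matrix I8 I8 F).map σ = ((A⁻¹ : GL I8 F) : Matrix I8 I8 F) * (g * A) := by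
        rw [← h2 g hg, ← Matrix.mul_assoc, ← Units.val_mul, inv_mul_cancel, Units.val_one, Matrix.one_mul]
      have h5 : ((g : Matrix I8 I8 F).map σ).trace = (g : Matrix I8 I8 F).trace := by
        rw [h4, Matrix.trace_mul_comm, Matrix.mul_assoc, ← Units.val_mul, mul_inv_cancel, Units.val_one, Matrix.mul_one]
      change σ (g : Matrix I8 I8 F).trace = (g : Matrix I8 I8 F).trace
      refine Eq.trans ?_ h5
      rw [Matrix.trace, Matrix.trace, map_sum]
      rfl
  (have h_ob := hP.absIrred.2 A (by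
    rintro _ ⟨g, hg, rfl⟩
    rw [← h2 g hg]
    congr 1
    ext i j
    exact (h3 _).symm)
   revert h_ob; rintro (⟨a, ha⟩))
  have h4 : ∀ v, M.1 v = a • v := fun v => by
    rw [hA, perm_apply, ha, Matrix.smul_mulVec, Matrix.one_mulVec]
    congr 1
    exact funext fun i => h3 _
  refine (Phi_eq_one_iff _ M).2 ⟨a, fun h0 => ?_, h4⟩
  obtain ⟨v, hv⟩ := exists_ne (0 : I8 → F)
  exact hv (M.1.injective (by rw [h4, h4, h0, zero_smul, zero_smul]))

/-! ### orders -/

theorem num_le {p f : ℕ} (hp : 2 ≤ p) (hf : 1 ≤ f) : 24 * f * ((p ^ f) ^ H902.Art.NN (.DD 4) * H902.Art.num (.DD 4) (p ^ f)) ≤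
    ((p ^ f) ^ 2) ^ 18 := by
  have h1 : f ≤ p ^ f := (Nat.lt_pow_self (by omega)).le
  have h2 : 2 ≤ p ^ f := hp.trans (Nat.le_self_pow (by omega) p)
  generalize p ^ f = q at h1 h2
  change 24 * f * (q ^ (4 * (4 - 1)) * ((q ^ 4 + 1) * ∏ i ∈ Finset.range (4 - 1), (q ^ (2 * (i + 1)) - 1))) ≤ _
  simp only [Finset.prod_range_succ, Finset.range_zero, Finset.prod_empty, one_mul]
  have h3 : (q ^ 4 + 1) * (q ^ 4 - 1) ≤ q ^ 8 := by
    rw [← Nat.sq_sub_sq _ 1, ← pow_mul]
    exact Nat.sub_le _ _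
  have h4 : 24 ≤ q ^ 7 := le_trans (by norm_num) (Nat.pow_le_pow_left h2 7)
  calc _ = 24 * f * (q ^ 12 * ((q ^ 4 + 1) * (q ^ 4 - 1)) * (q ^ 2 - 1) * (q ^ 6 - 1)) := by ring
    _ ≤ q ^ 7 * q * (q ^ 12 * q ^ 8 * q ^ 2 * q ^ 6) := by
      gcongr
      · exact Nat.sub_le _ _
      · exact Nat.sub_le _ _
    _ = _ := by ring

end Mi

seal MulAut.conj isometryGroup _root_.commutator Subgroup.center H198.OrthFrame.Phi QuotientGroup.leftRel in
open Mi in
/-- **[O8-6]** -/
theorem boxMin (hG : BoxG34) : BoxMin := by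
  intro F _ _ p a r b s k t hF hN R S P hR hO
  obtain ⟨K, _, _, c, d, hK, hcd, ⟨ε⟩⟩ := hO
  have hp := hN.rb.hp
  have := Fact.mk hp
  have hnrm := hR.nrm
  have hS := hR.simple
  obtain ⟨f, -, hf⟩ := (Nat.dvd_prime_pow hp).1 (hK ▸ dvd_pow_self (Fintype.card K) (by norm_num) : Fintype.card K ∣ p ^ a)
  have hch : CharP K p := charP_of_card_eq_prime_pow (p := p) (f := f) hf
  have hf1 : 1 ≤ f := by
    have h1 : 1 < Fintype.card K := Fintype.one_lt_card
    rcases Nat.eq_zero_or_pos f with rfl | h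
    · rw [pow_zero] at hf
      omega
    · exact h
  let i : S ≃* S.map R.subtype := S.equivMapOfInjective R.subtype R.subtype_injective
  have so : So R (S.map R.subtype) :=
    { le := Subgroup.map_subtype_le S
      conj := by
        rintro g hg _ ⟨x, hx, rfl⟩
        exact ⟨_, hnrm.conj_mem x hx ⟨g, hg⟩, rfl⟩
      simple := i.isSimpleGroup_congr.1 hS
      cen := fun g hg h => by
        have h1 : (⟨g, hg⟩ : R) ∈ Subgroup.centralizer (S : Set R) := fun x hx => Subtype.ext (h _ ⟨x, hx, rfl⟩).symm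
        simp only [hR.cen, Subgroup.mem_bot] at h1
        exact congrArg Subtype.val h1 }
  have hreal : H902.Art.Real (.DD 4) p f (Nat.card S) := by
    rw [Nat.card_congr ε.toEquiv]
    exact H902.Names.ominus_real (m := 4) hp hf1 hf le_rfl hcd
  have hord : ∀ {u j : ℕ}, u.Prime → u ≠ 2 → u ^ j ∣ ((p ^ f) ^ 4 + 1) * ((p ^ f) ^ 6 - 1) → u ^ j ∣ Nat.card R := by
    intro u j hu hu2 h
    have h1 : Nat.gcd 4 ((p ^ f) ^ 4 + 1) * Nat.card S = (p ^ f) ^ (4 * (4 - 1)) * (((p ^ f) ^ 4 + 1) *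
        ∏ i ∈ Finset.range (4 - 1), ((p ^ f) ^ (2 * (i + 1)) - 1)) := hreal.eq
    simp only [Finset.prod_range_succ, Finset.range_zero, Finset.prod_empty, one_mul] at h1
    have h2 : u ^ j ∣ Nat.gcd 4 ((p ^ f) ^ 4 + 1) * Nat.card S := by
      rw [h1]
      exact h.trans ⟨(p ^ f) ^ 12 * (((p ^ f) ^ 2 - 1) * ((p ^ f) ^ 4 - 1)), by ring⟩
    have h3 : Nat.Coprime (u ^ j) (Nat.gcd 4 ((p ^ f) ^ 4 + 1)) :=
      Nat.Coprime.coprime_dvd_right (Nat.gcd_dvd_left _ _)
        (Nat.Coprime.pow j 2 ((Nat.coprime_primes hu Nat.prime_two).2 hu2))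
    exact (h3.dvd_of_dvd_mul_left h2).trans (Subgroup.card_subgroup_dvd_card S)
  have hq : p ^ a = (p ^ f) ^ 2 := by rw [← hK, hf]
  have hr : r ^ b ∣ Nat.card R := by
    refine hord hN.rb.prim.prime (by have := hN.rb.five; omega) (Dvd.dvd.mul_right ?_ _)
    have h1 := hN.rb.dvd
    rwa [mul_comm, pow_mul, hq, ← pow_mul] at h1
  have ht : t ∣ Nat.card R := by
    have h1 := hord (j := 1) hN.t.prime (by have := hN.t.lt (by norm_num); omega) (Dvd.dvd.mul_left (by
      have h2 := (hN.t.dvd_iff (Nat.one_le_pow _ _ hp.pos) 3).2 dvd_rfl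
      rwa [hq, ← pow_mul, ← pow_one t] at h2) _)
    rwa [pow_one] at h1
  have hcard : Nat.card R ≤ Nat.card F ^ 18 := by
    have h1 := H561.F34.lie_dvd hR.nab (.ominus 4 p f) ⟨K, inferInstance, inferInstance, c, d, hf, hcd, ⟨ε⟩⟩ hreal
    have h2 : Nat.card R ∣ Nat.card (MulAut S) := by
      refine Subgroup.card_dvd_of_injective (MulAut.conjNormal : R →* MulAut S) ((injective_iff_map_eq_one _).2 fun g hg => ?_)
      have h3 : g ∈ Subgroup.centralizer (S : Set R) := fun x hx => by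
        have h4 := congrArg Subtype.val (DFunLike.congr_fun hg ⟨x, hx⟩)
        (simp +singlePass only [MulAut.conjNormal_apply] at h4)
        exact (mul_inv_eq_iff_eq_mul.1 h4).symm
      (simp only [hR.cen, Subgroup.mem_bot] at h3; assumption)
    rw [hF, hq]
    refine (Nat.le_of_dvd ?_ (h2.trans h1)).trans (num_le hp.two_le hf1)
    rw [← hreal.eq]
    exact Nat.mul_pos (by omega) (Nat.mul_pos (Nat.gcd_pos_of_pos_left _ (by norm_num)) Nat.card_pos)
  obtain ⟨ε'⟩ : Nonempty (S ≃* POmega K ⇑(minusForm 3 K c d)) := by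
    have h1 : ∀ Q : ((Fin 3 ⊕ Fin 3) ⊕ Fin 2 → K) → K, Q = quadFormMinus 3 K c d → Nonempty (S ≃* POmega K Q) := by
      rintro _ rfl
      exact ⟨ε⟩
    exact h1 _ (coe_minusForm 3 K c d)
  by_contra hcon
  rw [not_or] at hcon
  refine not_all hN.rb.ha hF so hK hcd (i.symm.trans ε') fun α => ?_
  have hc : Nat.card (im α R) = Nat.card R := Subgroup.card_map_of_injective α.injective
  rcases hG F p a r b s k t hF hN (im α R) (hc ▸ hr) (hc ▸ ht) with h | h | h
  · exact absurd h.of_im hcon.1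
  · obtain ⟨M, τ, c', hτ, hM, hMM, hfix⟩ := exists_inv h
    refine absurd ⟨α⁻¹ * ph F M * α, so.le, so.conj, so.simple, fun hc => hR.nab ?_, cor so hR.core,
      ⟨α, M, τ, c', hτ, hM, hMM, by group⟩, fun h1 => ph_ne_one hτ hM ?_, ?_, fun x hx => ?_, hcard⟩ hcon.2
    · exact ⟨⟨fun x y => i.injective (by rw [map_mul, map_mul, hc.is_comm.comm])⟩⟩
    · calc ph F M = α * (α⁻¹ * ph F M * α) * α⁻¹ := by group
        _ = 1 := by rw [h1]; group
    · calc _ = α⁻¹ * (ph F M * ph F M) * α := by group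
        _ = 1 := by rw [← _root_.MonoidHom.map_mul (ph F) M M, hMM, _root_.MonoidHom.map_one (ph F)]; group
    · exact (congrArg α.symm (hfix (α x) ⟨x, so.le hx, rfl⟩)).trans (α.symm_apply_apply x)
  · exact h

end Cfsg.Agent.SM.O8
end
end
end
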